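import Cfsg.Agent.Helper28.He2.Data
set_option autoImplicit false
set_option maxRecDepth 1000000
namespace Cfsg.Agent.Helper28.He2
open Cfsg.Agent.Helper28
theorem fin_piece88 : allLtFrom (finRow tabs ptabs 1610022) 62832 714 = true := by decide +kernel
theorem fin_piece89 : allLtFrom (finRow tabs ptabs 1610022) 63546 714 = true := by decide +kernel
theorem fin_piece90 : allLtFrom (finRow tabs ptabs 1610022) 64260 714 = true := by decide +kernel
theorem fin_piece91 : allLtFrom (finRow tabs ptabs 1610022) 64974 714 = true := by decide +kernel
theorem fin_piece92 : allLtFrom (finRow tabs ptabs 1610022) 65688 714 = true := by decide +kernel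
theorem fin_piece93 : allLtFrom (finRow tabs ptabs 1610022) 66402 714 = true := by decide +kernel
theorem fin_piece94 : allLtFrom (finRow tabs ptabs 1610022) 67116 714 = true := by decide +kernel
theorem fin_piece95 : allLtFrom (finRow tabs ptabs 1610022) 67830 714 = true := by decide +kernel
end Cfsg.Agent.Helper28.He2
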