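import Cfsg.Agent.Helper28.He2.Data
set_option autoImplicit false
set_option maxRecDepth 1000000
namespace Cfsg.Agent.Helper28.He2
open Cfsg.Agent.Helper28
theorem fin_piece112 : allLtFrom (finRow tabs ptabs 1610022) 79968 714 = true := by decide +kernel
theorem fin_piece113 : allLtFrom (finRow tabs ptabs 1610022) 80682 714 = true := by decide +kernel
theorem fin_piece114 : allLtFrom (finRow tabs ptabs 1610022) 81396 714 = true := by decide +kernel
theorem fin_piece115 : allLtFrom (finRow tabs ptabs 1610022) 82110 714 = true := by decide +kernel
theorem fin_piece116 : allLtFrom (finRow tabs ptabs 1610022) 82824 714 = true := by decide +kernel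
theorem fin_piece117 : allLtFrom (finRow tabs ptabs 1610022) 83538 714 = true := by decide +kernel
theorem fin_piece118 : allLtFrom (finRow tabs ptabs 1610022) 84252 714 = true := by decide +kernel
theorem fin_piece119 : allLtFrom (finRow tabs ptabs 1610022) 84966 714 = true := by decide +kernel
end Cfsg.Agent.Helper28.He2
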