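import Cfsg.Agent.Helper28.He2.Data
set_option autoImplicit false
set_option maxRecDepth 1000000
namespace Cfsg.Agent.Helper28.He2
open Cfsg.Agent.Helper28
theorem fin_piece128 : allLtFrom (finRow tabs ptabs 1610022) 91392 714 = true := by decide +kernel
theorem fin_piece129 : allLtFrom (finRow tabs ptabs 1610022) 92106 714 = true := by decide +kernel
theorem fin_piece130 : allLtFrom (finRow tabs ptabs 1610022) 92820 714 = true := by decide +kernel
theorem fin_piece131 : allLtFrom (finRow tabs ptabs 1610022) 93534 714 = true := by decide +kernel
theorem fin_piece132 : allLtFrom (finRow tabs ptabs 1610022) 94248 714 = true := by decide +kernel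
theorem fin_piece133 : allLtFrom (finRow tabs ptabs 1610022) 94962 714 = true := by decide +kernel
theorem fin_piece134 : allLtFrom (finRow tabs ptabs 1610022) 95676 714 = true := by decide +kernel
theorem fin_piece135 : allLtFrom (finRow tabs ptabs 1610022) 96390 714 = true := by decide +kernel
end Cfsg.Agent.Helper28.He2
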