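import Cfsg.Agent.Helper28.He2.Data
set_option autoImplicit false
set_option maxRecDepth 1000000
namespace Cfsg.Agent.Helper28.He2
open Cfsg.Agent.Helper28
theorem fin_piece152 : allLtFrom (finRow tabs ptabs 1610022) 108528 714 = true := by decide +kernel
theorem fin_piece153 : allLtFrom (finRow tabs ptabs 1610022) 109242 714 = true := by decide +kernel
theorem fin_piece154 : allLtFrom (finRow tabs ptabs 1610022) 109956 714 = true := by decide +kernel
theorem fin_piece155 : allLtFrom (finRow tabs ptabs 1610022) 110670 714 = true := by decide +kernel
theorem fin_piece156 : allLtFrom (finRow tabs ptabs 1610022) 111384 714 = true := by decide +kernel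
theorem fin_piece157 : allLtFrom (finRow tabs ptabs 1610022) 112098 714 = true := by decide +kernel
theorem fin_piece158 : allLtFrom (finRow tabs ptabs 1610022) 112812 714 = true := by decide +kernel
theorem fin_piece159 : allLtFrom (finRow tabs ptabs 1610022) 113526 714 = true := by decide +kernel
end Cfsg.Agent.Helper28.He2
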