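import Cfsg.Agent.Helper28.He2.Data
set_option autoImplicit false
set_option maxRecDepth 1000000
namespace Cfsg.Agent.Helper28.He2
open Cfsg.Agent.Helper28
theorem fin_piece168 : allLtFrom (finRow tabs ptabs 1610022) 119952 714 = true := by decide +kernel
theorem fin_piece169 : allLtFrom (finRow tabs ptabs 1610022) 120666 714 = true := by decide +kernel
theorem fin_piece170 : allLtFrom (finRow tabs ptabs 1610022) 121380 714 = true := by decide +kernel
theorem fin_piece171 : allLtFrom (finRow tabs ptabs 1610022) 122094 714 = true := by decide +kernel
theorem fin_piece172 : allLtFrom (finRow tabs ptabs 1610022) 122808 714 = true := by decide +kernel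
theorem fin_piece173 : allLtFrom (finRow tabs ptabs 1610022) 123522 714 = true := by decide +kernel
theorem fin_piece174 : allLtFrom (finRow tabs ptabs 1610022) 124236 714 = true := by decide +kernel
theorem fin_piece175 : allLtFrom (finRow tabs ptabs 1610022) 124950 714 = true := by decide +kernel
end Cfsg.Agent.Helper28.He2
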