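import Cfsg.Agent.Helper28.He2.Data
set_option autoImplicit false
set_option maxRecDepth 1000000
namespace Cfsg.Agent.Helper28.He2
open Cfsg.Agent.Helper28
theorem fin_piece176 : allLtFrom (finRow tabs ptabs 1610022) 125664 714 = true := by decide +kernel
theorem fin_piece177 : allLtFrom (finRow tabs ptabs 1610022) 126378 714 = true := by decide +kernel
theorem fin_piece178 : allLtFrom (finRow tabs ptabs 1610022) 127092 714 = true := by decide +kernel
theorem fin_piece179 : allLtFrom (finRow tabs ptabs 1610022) 127806 714 = true := by decide +kernel
theorem fin_piece180 : allLtFrom (finRow tabs ptabs 1610022) 128520 714 = true := by decide +kernel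
theorem fin_piece181 : allLtFrom (finRow tabs ptabs 1610022) 129234 714 = true := by decide +kernel
theorem fin_piece182 : allLtFrom (finRow tabs ptabs 1610022) 129948 714 = true := by decide +kernel
theorem fin_piece183 : allLtFrom (finRow tabs ptabs 1610022) 130662 714 = true := by decide +kernel
end Cfsg.Agent.Helper28.He2
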