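import Cfsg.Agent.Helper28.He2.Data
set_option autoImplicit false
set_option maxRecDepth 1000000
namespace Cfsg.Agent.Helper28.He2
open Cfsg.Agent.Helper28
theorem fin_piece184 : allLtFrom (finRow tabs ptabs 1610022) 131376 714 = true := by decide +kernel
theorem fin_piece185 : allLtFrom (finRow tabs ptabs 1610022) 132090 714 = true := by decide +kernel
theorem fin_piece186 : allLtFrom (finRow tabs ptabs 1610022) 132804 714 = true := by decide +kernel
theorem fin_piece187 : allLtFrom (finRow tabs ptabs 1610022) 133518 714 = true := by decide +kernel
theorem fin_piece188 : allLtFrom (finRow tabs ptabs 1610022) 134232 714 = true := by decide +kernel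
theorem fin_piece189 : allLtFrom (finRow tabs ptabs 1610022) 134946 714 = true := by decide +kernel
theorem fin_piece190 : allLtFrom (finRow tabs ptabs 1610022) 135660 714 = true := by decide +kernel
theorem fin_piece191 : allLtFrom (finRow tabs ptabs 1610022) 136374 714 = true := by decide +kernel
end Cfsg.Agent.Helper28.He2
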