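import Cfsg.Agent.Helper28.He2.Data
set_option autoImplicit false
set_option maxRecDepth 1000000
namespace Cfsg.Agent.Helper28.He2
open Cfsg.Agent.Helper28
theorem fin_piece192 : allLtFrom (finRow tabs ptabs 1610022) 137088 714 = true := by decide +kernel
theorem fin_piece193 : allLtFrom (finRow tabs ptabs 1610022) 137802 714 = true := by decide +kernel
theorem fin_piece194 : allLtFrom (finRow tabs ptabs 1610022) 138516 714 = true := by decide +kernel
theorem fin_piece195 : allLtFrom (finRow tabs ptabs 1610022) 139230 714 = true := by decide +kernel
theorem fin_piece196 : allLtFrom (finRow tabs ptabs 1610022) 139944 714 = true := by decide +kernel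
theorem fin_piece197 : allLtFrom (finRow tabs ptabs 1610022) 140658 714 = true := by decide +kernel
theorem fin_piece198 : allLtFrom (finRow tabs ptabs 1610022) 141372 714 = true := by decide +kernel
theorem fin_piece199 : allLtFrom (finRow tabs ptabs 1610022) 142086 714 = true := by decide +kernel
end Cfsg.Agent.Helper28.He2
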