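import Cfsg.Agent.Helper28.He2.Data
set_option autoImplicit false
set_option maxRecDepth 1000000
namespace Cfsg.Agent.Helper28.He2
open Cfsg.Agent.Helper28
theorem fin_piece200 : allLtFrom (finRow tabs ptabs 1610022) 142800 714 = true := by decide +kernel
theorem fin_piece201 : allLtFrom (finRow tabs ptabs 1610022) 143514 714 = true := by decide +kernel
theorem fin_piece202 : allLtFrom (finRow tabs ptabs 1610022) 144228 714 = true := by decide +kernel
theorem fin_piece203 : allLtFrom (finRow tabs ptabs 1610022) 144942 714 = true := by decide +kernel
theorem fin_piece204 : allLtFrom (finRow tabs ptabs 1610022) 145656 714 = true := by decide +kernel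
theorem fin_piece205 : allLtFrom (finRow tabs ptabs 1610022) 146370 714 = true := by decide +kernel
theorem fin_piece206 : allLtFrom (finRow tabs ptabs 1610022) 147084 714 = true := by decide +kernel
theorem fin_piece207 : allLtFrom (finRow tabs ptabs 1610022) 147798 714 = true := by decide +kernel
end Cfsg.Agent.Helper28.He2
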