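import Cfsg.Agent.Helper28.He2.Data
set_option autoImplicit false
set_option maxRecDepth 1000000
namespace Cfsg.Agent.Helper28.He2
open Cfsg.Agent.Helper28
theorem fin_piece208 : allLtFrom (finRow tabs ptabs 1610022) 148512 714 = true := by decide +kernel
theorem fin_piece209 : allLtFrom (finRow tabs ptabs 1610022) 149226 714 = true := by decide +kernel
theorem fin_piece210 : allLtFrom (finRow tabs ptabs 1610022) 149940 714 = true := by decide +kernel
theorem fin_piece211 : allLtFrom (finRow tabs ptabs 1610022) 150654 714 = true := by decide +kernel
theorem fin_piece212 : allLtFrom (finRow tabs ptabs 1610022) 151368 714 = true := by decide +kernel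
theorem fin_piece213 : allLtFrom (finRow tabs ptabs 1610022) 152082 714 = true := by decide +kernel
theorem fin_piece214 : allLtFrom (finRow tabs ptabs 1610022) 152796 714 = true := by decide +kernel
theorem fin_piece215 : allLtFrom (finRow tabs ptabs 1610022) 153510 714 = true := by decide +kernel
end Cfsg.Agent.Helper28.He2
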