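import Cfsg.Agent.Helper28.He2.Data
set_option autoImplicit false
set_option maxRecDepth 1000000
namespace Cfsg.Agent.Helper28.He2
open Cfsg.Agent.Helper28
theorem fin_piece216 : allLtFrom (finRow tabs ptabs 1610022) 154224 714 = true := by decide +kernel
theorem fin_piece217 : allLtFrom (finRow tabs ptabs 1610022) 154938 714 = true := by decide +kernel
theorem fin_piece218 : allLtFrom (finRow tabs ptabs 1610022) 155652 714 = true := by decide +kernel
theorem fin_piece219 : allLtFrom (finRow tabs ptabs 1610022) 156366 714 = true := by decide +kernel
theorem fin_piece220 : allLtFrom (finRow tabs ptabs 1610022) 157080 714 = true := by decide +kernel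
theorem fin_piece221 : allLtFrom (finRow tabs ptabs 1610022) 157794 714 = true := by decide +kernel
theorem fin_piece222 : allLtFrom (finRow tabs ptabs 1610022) 158508 714 = true := by decide +kernel
theorem fin_piece223 : allLtFrom (finRow tabs ptabs 1610022) 159222 714 = true := by decide +kernel
end Cfsg.Agent.Helper28.He2
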