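import Cfsg.Agent.Helper28.He2.Data
set_option autoImplicit false
set_option maxRecDepth 1000000
namespace Cfsg.Agent.Helper28.He2
open Cfsg.Agent.Helper28
theorem fin_piece224 : allLtFrom (finRow tabs ptabs 1610022) 159936 714 = true := by decide +kernel
theorem fin_piece225 : allLtFrom (finRow tabs ptabs 1610022) 160650 714 = true := by decide +kernel
theorem fin_piece226 : allLtFrom (finRow tabs ptabs 1610022) 161364 714 = true := by decide +kernel
theorem fin_piece227 : allLtFrom (finRow tabs ptabs 1610022) 162078 714 = true := by decide +kernel
theorem fin_piece228 : allLtFrom (finRow tabs ptabs 1610022) 162792 714 = true := by decide +kernel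
theorem fin_piece229 : allLtFrom (finRow tabs ptabs 1610022) 163506 714 = true := by decide +kernel
theorem fin_piece230 : allLtFrom (finRow tabs ptabs 1610022) 164220 714 = true := by decide +kernel
theorem fin_piece231 : allLtFrom (finRow tabs ptabs 1610022) 164934 714 = true := by decide +kernel
end Cfsg.Agent.Helper28.He2
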