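import Cfsg.Agent.Helper28.He2.Data
set_option autoImplicit false
set_option maxRecDepth 1000000
namespace Cfsg.Agent.Helper28.He2
open Cfsg.Agent.Helper28
theorem fin_piece232 : allLtFrom (finRow tabs ptabs 1610022) 165648 714 = true := by decide +kernel
theorem fin_piece233 : allLtFrom (finRow tabs ptabs 1610022) 166362 714 = true := by decide +kernel
theorem fin_piece234 : allLtFrom (finRow tabs ptabs 1610022) 167076 714 = true := by decide +kernel
theorem fin_piece235 : allLtFrom (finRow tabs ptabs 1610022) 167790 714 = true := by decide +kernel
theorem fin_piece236 : allLtFrom (finRow tabs ptabs 1610022) 168504 714 = true := by decide +kernel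
theorem fin_piece237 : allLtFrom (finRow tabs ptabs 1610022) 169218 714 = true := by decide +kernel
theorem fin_piece238 : allLtFrom (finRow tabs ptabs 1610022) 169932 714 = true := by decide +kernel
theorem fin_piece239 : allLtFrom (finRow tabs ptabs 1610022) 170646 714 = true := by decide +kernel
end Cfsg.Agent.Helper28.He2
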