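import Cfsg.Agent.Helper28.He2.Data
set_option autoImplicit false
set_option maxRecDepth 1000000
namespace Cfsg.Agent.Helper28.He2
open Cfsg.Agent.Helper28
theorem fin_piece240 : allLtFrom (finRow tabs ptabs 1610022) 171360 714 = true := by decide +kernel
theorem fin_piece241 : allLtFrom (finRow tabs ptabs 1610022) 172074 714 = true := by decide +kernel
theorem fin_piece242 : allLtFrom (finRow tabs ptabs 1610022) 172788 714 = true := by decide +kernel
theorem fin_piece243 : allLtFrom (finRow tabs ptabs 1610022) 173502 714 = true := by decide +kernel
theorem fin_piece244 : allLtFrom (finRow tabs ptabs 1610022) 174216 714 = true := by decide +kernel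
theorem fin_piece245 : allLtFrom (finRow tabs ptabs 1610022) 174930 714 = true := by decide +kernel
theorem fin_piece246 : allLtFrom (finRow tabs ptabs 1610022) 175644 714 = true := by decide +kernel
theorem fin_piece247 : allLtFrom (finRow tabs ptabs 1610022) 176358 714 = true := by decide +kernel
end Cfsg.Agent.Helper28.He2
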