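import Cfsg.Agent.Helper28.He2.Data
set_option autoImplicit false
set_option maxRecDepth 1000000
namespace Cfsg.Agent.Helper28.He2
open Cfsg.Agent.Helper28
theorem fin_piece248 : allLtFrom (finRow tabs ptabs 1610022) 177072 714 = true := by decide +kernel
theorem fin_piece249 : allLtFrom (finRow tabs ptabs 1610022) 177786 714 = true := by decide +kernel
theorem fin_piece250 : allLtFrom (finRow tabs ptabs 1610022) 178500 714 = true := by decide +kernel
theorem fin_piece251 : allLtFrom (finRow tabs ptabs 1610022) 179214 714 = true := by decide +kernel
theorem fin_piece252 : allLtFrom (finRow tabs ptabs 1610022) 179928 714 = true := by decide +kernel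
theorem fin_piece253 : allLtFrom (finRow tabs ptabs 1610022) 180642 714 = true := by decide +kernel
theorem fin_piece254 : allLtFrom (finRow tabs ptabs 1610022) 181356 714 = true := by decide +kernel
theorem fin_piece255 : allLtFrom (finRow tabs ptabs 1610022) 182070 714 = true := by decide +kernel
end Cfsg.Agent.Helper28.He2
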