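import Cfsg.Agent.Helper28.He2.Data
set_option autoImplicit false
set_option maxRecDepth 1000000
namespace Cfsg.Agent.Helper28.He2
open Cfsg.Agent.Helper28
theorem fin_piece264 : allLtFrom (finRow tabs ptabs 1610022) 188496 714 = true := by decide +kernel
theorem fin_piece265 : allLtFrom (finRow tabs ptabs 1610022) 189210 714 = true := by decide +kernel
theorem fin_piece266 : allLtFrom (finRow tabs ptabs 1610022) 189924 714 = true := by decide +kernel
theorem fin_piece267 : allLtFrom (finRow tabs ptabs 1610022) 190638 714 = true := by decide +kernel
theorem fin_piece268 : allLtFrom (finRow tabs ptabs 1610022) 191352 714 = true := by decide +kernel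
theorem fin_piece269 : allLtFrom (finRow tabs ptabs 1610022) 192066 714 = true := by decide +kernel
theorem fin_piece270 : allLtFrom (finRow tabs ptabs 1610022) 192780 714 = true := by decide +kernel
theorem fin_piece271 : allLtFrom (finRow tabs ptabs 1610022) 193494 714 = true := by decide +kernel
end Cfsg.Agent.Helper28.He2
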