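import Cfsg.Agent.Helper28.He2.Data
set_option autoImplicit false
set_option maxRecDepth 1000000
namespace Cfsg.Agent.Helper28.He2
open Cfsg.Agent.Helper28
theorem fin_piece272 : allLtFrom (finRow tabs ptabs 1610022) 194208 714 = true := by decide +kernel
theorem fin_piece273 : allLtFrom (finRow tabs ptabs 1610022) 194922 714 = true := by decide +kernel
theorem fin_piece274 : allLtFrom (finRow tabs ptabs 1610022) 195636 714 = true := by decide +kernel
theorem fin_piece275 : allLtFrom (finRow tabs ptabs 1610022) 196350 714 = true := by decide +kernel
theorem fin_piece276 : allLtFrom (finRow tabs ptabs 1610022) 197064 714 = true := by decide +kernel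
theorem fin_piece277 : allLtFrom (finRow tabs ptabs 1610022) 197778 714 = true := by decide +kernel
theorem fin_piece278 : allLtFrom (finRow tabs ptabs 1610022) 198492 714 = true := by decide +kernel
theorem fin_piece279 : allLtFrom (finRow tabs ptabs 1610022) 199206 714 = true := by decide +kernel
end Cfsg.Agent.Helper28.He2
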