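import Cfsg.Agent.Helper28.He2.Data
set_option autoImplicit false
set_option maxRecDepth 1000000
namespace Cfsg.Agent.Helper28.He2
open Cfsg.Agent.Helper28
theorem fin_piece280 : allLtFrom (finRow tabs ptabs 1610022) 199920 714 = true := by decide +kernel
theorem fin_piece281 : allLtFrom (finRow tabs ptabs 1610022) 200634 714 = true := by decide +kernel
theorem fin_piece282 : allLtFrom (finRow tabs ptabs 1610022) 201348 714 = true := by decide +kernel
theorem fin_piece283 : allLtFrom (finRow tabs ptabs 1610022) 202062 714 = true := by decide +kernel
theorem fin_piece284 : allLtFrom (finRow tabs ptabs 1610022) 202776 714 = true := by decide +kernel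
theorem fin_piece285 : allLtFrom (finRow tabs ptabs 1610022) 203490 714 = true := by decide +kernel
theorem fin_piece286 : allLtFrom (finRow tabs ptabs 1610022) 204204 714 = true := by decide +kernel
theorem fin_piece287 : allLtFrom (finRow tabs ptabs 1610022) 204918 714 = true := by decide +kernel
end Cfsg.Agent.Helper28.He2
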