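import Cfsg.Agent.Helper28.He2.Data
set_option autoImplicit false
set_option maxRecDepth 1000000
namespace Cfsg.Agent.Helper28.He2
open Cfsg.Agent.Helper28
theorem fin_piece288 : allLtFrom (finRow tabs ptabs 1610022) 205632 714 = true := by decide +kernel
theorem fin_piece289 : allLtFrom (finRow tabs ptabs 1610022) 206346 714 = true := by decide +kernel
theorem fin_piece290 : allLtFrom (finRow tabs ptabs 1610022) 207060 714 = true := by decide +kernel
theorem fin_piece291 : allLtFrom (finRow tabs ptabs 1610022) 207774 714 = true := by decide +kernel
theorem fin_piece292 : allLtFrom (finRow tabs ptabs 1610022) 208488 714 = true := by decide +kernel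
theorem fin_piece293 : allLtFrom (finRow tabs ptabs 1610022) 209202 714 = true := by decide +kernel
theorem fin_piece294 : allLtFrom (finRow tabs ptabs 1610022) 209916 714 = true := by decide +kernel
theorem fin_piece295 : allLtFrom (finRow tabs ptabs 1610022) 210630 714 = true := by decide +kernel
end Cfsg.Agent.Helper28.He2
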