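import Cfsg.Agent.Helper28.He2.Data
set_option autoImplicit false
set_option maxRecDepth 1000000
namespace Cfsg.Agent.Helper28.He2
open Cfsg.Agent.Helper28
theorem fin_piece296 : allLtFrom (finRow tabs ptabs 1610022) 211344 714 = true := by decide +kernel
theorem fin_piece297 : allLtFrom (finRow tabs ptabs 1610022) 212058 714 = true := by decide +kernel
theorem fin_piece298 : allLtFrom (finRow tabs ptabs 1610022) 212772 714 = true := by decide +kernel
theorem fin_piece299 : allLtFrom (finRow tabs ptabs 1610022) 213486 714 = true := by decide +kernel
theorem fin_piece300 : allLtFrom (finRow tabs ptabs 1610022) 214200 714 = true := by decide +kernel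
theorem fin_piece301 : allLtFrom (finRow tabs ptabs 1610022) 214914 714 = true := by decide +kernel
theorem fin_piece302 : allLtFrom (finRow tabs ptabs 1610022) 215628 714 = true := by decide +kernel
theorem fin_piece303 : allLtFrom (finRow tabs ptabs 1610022) 216342 714 = true := by decide +kernel
end Cfsg.Agent.Helper28.He2
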