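import Cfsg.Agent.Helper28.He2.Data
set_option autoImplicit false
set_option maxRecDepth 1000000
namespace Cfsg.Agent.Helper28.He2
open Cfsg.Agent.Helper28
theorem fin_piece304 : allLtFrom (finRow tabs ptabs 1610022) 217056 714 = true := by decide +kernel
theorem fin_piece305 : allLtFrom (finRow tabs ptabs 1610022) 217770 714 = true := by decide +kernel
theorem fin_piece306 : allLtFrom (finRow tabs ptabs 1610022) 218484 714 = true := by decide +kernel
theorem fin_piece307 : allLtFrom (finRow tabs ptabs 1610022) 219198 714 = true := by decide +kernel
theorem fin_piece308 : allLtFrom (finRow tabs ptabs 1610022) 219912 714 = true := by decide +kernel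
theorem fin_piece309 : allLtFrom (finRow tabs ptabs 1610022) 220626 714 = true := by decide +kernel
theorem fin_piece310 : allLtFrom (finRow tabs ptabs 1610022) 221340 714 = true := by decide +kernel
theorem fin_piece311 : allLtFrom (finRow tabs ptabs 1610022) 222054 714 = true := by decide +kernel
end Cfsg.Agent.Helper28.He2
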