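import Cfsg.Agent.Helper28.He2.Data
set_option autoImplicit false
set_option maxRecDepth 1000000
namespace Cfsg.Agent.Helper28.He2
open Cfsg.Agent.Helper28
theorem fin_piece312 : allLtFrom (finRow tabs ptabs 1610022) 222768 714 = true := by decide +kernel
theorem fin_piece313 : allLtFrom (finRow tabs ptabs 1610022) 223482 714 = true := by decide +kernel
theorem fin_piece314 : allLtFrom (finRow tabs ptabs 1610022) 224196 714 = true := by decide +kernel
theorem fin_piece315 : allLtFrom (finRow tabs ptabs 1610022) 224910 714 = true := by decide +kernel
theorem fin_piece316 : allLtFrom (finRow tabs ptabs 1610022) 225624 714 = true := by decide +kernel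
theorem fin_piece317 : allLtFrom (finRow tabs ptabs 1610022) 226338 714 = true := by decide +kernel
theorem fin_piece318 : allLtFrom (finRow tabs ptabs 1610022) 227052 714 = true := by decide +kernel
theorem fin_piece319 : allLtFrom (finRow tabs ptabs 1610022) 227766 714 = true := by decide +kernel
end Cfsg.Agent.Helper28.He2
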