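import Cfsg.Agent.Helper28.He2.Data
set_option autoImplicit false
set_option maxRecDepth 1000000
namespace Cfsg.Agent.Helper28.He2
open Cfsg.Agent.Helper28
theorem fin_piece320 : allLtFrom (finRow tabs ptabs 1610022) 228480 714 = true := by decide +kernel
theorem fin_piece321 : allLtFrom (finRow tabs ptabs 1610022) 229194 714 = true := by decide +kernel
theorem fin_piece322 : allLtFrom (finRow tabs ptabs 1610022) 229908 714 = true := by decide +kernel
theorem fin_piece323 : allLtFrom (finRow tabs ptabs 1610022) 230622 714 = true := by decide +kernel
theorem fin_piece324 : allLtFrom (finRow tabs ptabs 1610022) 231336 714 = true := by decide +kernel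
theorem fin_piece325 : allLtFrom (finRow tabs ptabs 1610022) 232050 714 = true := by decide +kernel
theorem fin_piece326 : allLtFrom (finRow tabs ptabs 1610022) 232764 714 = true := by decide +kernel
theorem fin_piece327 : allLtFrom (finRow tabs ptabs 1610022) 233478 714 = true := by decide +kernel
end Cfsg.Agent.Helper28.He2
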