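import Cfsg.Agent.Helper28.He2.Data
set_option autoImplicit false
set_option maxRecDepth 1000000
namespace Cfsg.Agent.Helper28.He2
open Cfsg.Agent.Helper28
theorem fin_piece328 : allLtFrom (finRow tabs ptabs 1610022) 234192 714 = true := by decide +kernel
theorem fin_piece329 : allLtFrom (finRow tabs ptabs 1610022) 234906 714 = true := by decide +kernel
theorem fin_piece330 : allLtFrom (finRow tabs ptabs 1610022) 235620 714 = true := by decide +kernel
theorem fin_piece331 : allLtFrom (finRow tabs ptabs 1610022) 236334 714 = true := by decide +kernel
theorem fin_piece332 : allLtFrom (finRow tabs ptabs 1610022) 237048 714 = true := by decide +kernel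
theorem fin_piece333 : allLtFrom (finRow tabs ptabs 1610022) 237762 714 = true := by decide +kernel
theorem fin_piece334 : allLtFrom (finRow tabs ptabs 1610022) 238476 714 = true := by decide +kernel
theorem fin_piece335 : allLtFrom (finRow tabs ptabs 1610022) 239190 714 = true := by decide +kernel
end Cfsg.Agent.Helper28.He2
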