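import Cfsg.Agent.Helper28.He2.Data
set_option autoImplicit false
set_option maxRecDepth 1000000
namespace Cfsg.Agent.Helper28.He2
open Cfsg.Agent.Helper28
theorem fin_piece336 : allLtFrom (finRow tabs ptabs 1610022) 239904 714 = true := by decide +kernel
theorem fin_piece337 : allLtFrom (finRow tabs ptabs 1610022) 240618 714 = true := by decide +kernel
theorem fin_piece338 : allLtFrom (finRow tabs ptabs 1610022) 241332 714 = true := by decide +kernel
theorem fin_piece339 : allLtFrom (finRow tabs ptabs 1610022) 242046 714 = true := by decide +kernel
theorem fin_piece340 : allLtFrom (finRow tabs ptabs 1610022) 242760 714 = true := by decide +kernel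
theorem fin_piece341 : allLtFrom (finRow tabs ptabs 1610022) 243474 714 = true := by decide +kernel
theorem fin_piece342 : allLtFrom (finRow tabs ptabs 1610022) 244188 714 = true := by decide +kernel
theorem fin_piece343 : allLtFrom (finRow tabs ptabs 1610022) 244902 714 = true := by decide +kernel
end Cfsg.Agent.Helper28.He2
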