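import Cfsg.Agent.Helper28.He2.Data
set_option autoImplicit false
set_option maxRecDepth 1000000
namespace Cfsg.Agent.Helper28.He2
open Cfsg.Agent.Helper28
theorem fin_piece344 : allLtFrom (finRow tabs ptabs 1610022) 245616 714 = true := by decide +kernel
theorem fin_piece345 : allLtFrom (finRow tabs ptabs 1610022) 246330 714 = true := by decide +kernel
theorem fin_piece346 : allLtFrom (finRow tabs ptabs 1610022) 247044 714 = true := by decide +kernel
theorem fin_piece347 : allLtFrom (finRow tabs ptabs 1610022) 247758 714 = true := by decide +kernel
theorem fin_piece348 : allLtFrom (finRow tabs ptabs 1610022) 248472 714 = true := by decide +kernel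
theorem fin_piece349 : allLtFrom (finRow tabs ptabs 1610022) 249186 714 = true := by decide +kernel
theorem fin_piece350 : allLtFrom (finRow tabs ptabs 1610022) 249900 714 = true := by decide +kernel
theorem fin_piece351 : allLtFrom (finRow tabs ptabs 1610022) 250614 714 = true := by decide +kernel
end Cfsg.Agent.Helper28.He2
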