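import Cfsg.Agent.Helper28.He2.Data
set_option autoImplicit false
set_option maxRecDepth 1000000
namespace Cfsg.Agent.Helper28.He2
open Cfsg.Agent.Helper28
theorem fin_piece352 : allLtFrom (finRow tabs ptabs 1610022) 251328 714 = true := by decide +kernel
theorem fin_piece353 : allLtFrom (finRow tabs ptabs 1610022) 252042 714 = true := by decide +kernel
theorem fin_piece354 : allLtFrom (finRow tabs ptabs 1610022) 252756 714 = true := by decide +kernel
theorem fin_piece355 : allLtFrom (finRow tabs ptabs 1610022) 253470 714 = true := by decide +kernel
theorem fin_piece356 : allLtFrom (finRow tabs ptabs 1610022) 254184 714 = true := by decide +kernel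
theorem fin_piece357 : allLtFrom (finRow tabs ptabs 1610022) 254898 714 = true := by decide +kernel
theorem fin_piece358 : allLtFrom (finRow tabs ptabs 1610022) 255612 714 = true := by decide +kernel
theorem fin_piece359 : allLtFrom (finRow tabs ptabs 1610022) 256326 714 = true := by decide +kernel
end Cfsg.Agent.Helper28.He2
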