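import Cfsg.Agent.Helper28.He2.Data
set_option autoImplicit false
set_option maxRecDepth 1000000
namespace Cfsg.Agent.Helper28.He2
open Cfsg.Agent.Helper28
theorem fin_piece360 : allLtFrom (finRow tabs ptabs 1610022) 257040 714 = true := by decide +kernel
theorem fin_piece361 : allLtFrom (finRow tabs ptabs 1610022) 257754 714 = true := by decide +kernel
theorem fin_piece362 : allLtFrom (finRow tabs ptabs 1610022) 258468 714 = true := by decide +kernel
theorem fin_piece363 : allLtFrom (finRow tabs ptabs 1610022) 259182 714 = true := by decide +kernel
theorem fin_piece364 : allLtFrom (finRow tabs ptabs 1610022) 259896 714 = true := by decide +kernel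
theorem fin_piece365 : allLtFrom (finRow tabs ptabs 1610022) 260610 714 = true := by decide +kernel
theorem fin_piece366 : allLtFrom (finRow tabs ptabs 1610022) 261324 714 = true := by decide +kernel
theorem fin_piece367 : allLtFrom (finRow tabs ptabs 1610022) 262038 714 = true := by decide +kernel
end Cfsg.Agent.Helper28.He2
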