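import Cfsg.Agent.Helper28.He2.Data
set_option autoImplicit false
set_option maxRecDepth 1000000
namespace Cfsg.Agent.Helper28.He2
open Cfsg.Agent.Helper28
theorem fin_piece48 : allLtFrom (finRow tabs ptabs 1610022) 34272 714 = true := by decide +kernel
theorem fin_piece49 : allLtFrom (finRow tabs ptabs 1610022) 34986 714 = true := by decide +kernel
theorem fin_piece50 : allLtFrom (finRow tabs ptabs 1610022) 35700 714 = true := by decide +kernel
theorem fin_piece51 : allLtFrom (finRow tabs ptabs 1610022) 36414 714 = true := by decide +kernel
theorem fin_piece52 : allLtFrom (finRow tabs ptabs 1610022) 37128 714 = true := by decide +kernel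
theorem fin_piece53 : allLtFrom (finRow tabs ptabs 1610022) 37842 714 = true := by decide +kernel
theorem fin_piece54 : allLtFrom (finRow tabs ptabs 1610022) 38556 714 = true := by decide +kernel
theorem fin_piece55 : allLtFrom (finRow tabs ptabs 1610022) 39270 714 = true := by decide +kernel
end Cfsg.Agent.Helper28.He2
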