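import Cfsg.Agent.Helper28.He2.Data
set_option autoImplicit false
set_option maxRecDepth 1000000
namespace Cfsg.Agent.Helper28.He2
open Cfsg.Agent.Helper28
theorem fin_piece64 : allLtFrom (finRow tabs ptabs 1610022) 45696 714 = true := by decide +kernel
theorem fin_piece65 : allLtFrom (finRow tabs ptabs 1610022) 46410 714 = true := by decide +kernel
theorem fin_piece66 : allLtFrom (finRow tabs ptabs 1610022) 47124 714 = true := by decide +kernel
theorem fin_piece67 : allLtFrom (finRow tabs ptabs 1610022) 47838 714 = true := by decide +kernel
theorem fin_piece68 : allLtFrom (finRow tabs ptabs 1610022) 48552 714 = true := by decide +kernel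
theorem fin_piece69 : allLtFrom (finRow tabs ptabs 1610022) 49266 714 = true := by decide +kernel
theorem fin_piece70 : allLtFrom (finRow tabs ptabs 1610022) 49980 714 = true := by decide +kernel
theorem fin_piece71 : allLtFrom (finRow tabs ptabs 1610022) 50694 714 = true := by decide +kernel
end Cfsg.Agent.Helper28.He2
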