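import Cfsg.Agent.Helper28.He2.Data
set_option autoImplicit false
set_option maxRecDepth 1000000
namespace Cfsg.Agent.Helper28.He2
open Cfsg.Agent.Helper28
theorem fin_piece72 : allLtFrom (finRow tabs ptabs 1610022) 51408 714 = true := by decide +kernel
theorem fin_piece73 : allLtFrom (finRow tabs ptabs 1610022) 52122 714 = true := by decide +kernel
theorem fin_piece74 : allLtFrom (finRow tabs ptabs 1610022) 52836 714 = true := by decide +kernel
theorem fin_piece75 : allLtFrom (finRow tabs ptabs 1610022) 53550 714 = true := by decide +kernel
theorem fin_piece76 : allLtFrom (finRow tabs ptabs 1610022) 54264 714 = true := by decide +kernel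
theorem fin_piece77 : allLtFrom (finRow tabs ptabs 1610022) 54978 714 = true := by decide +kernel
theorem fin_piece78 : allLtFrom (finRow tabs ptabs 1610022) 55692 714 = true := by decide +kernel
theorem fin_piece79 : allLtFrom (finRow tabs ptabs 1610022) 56406 714 = true := by decide +kernel
end Cfsg.Agent.Helper28.He2
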