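import Cfsg.Agent.Helper28.He2.Data
set_option autoImplicit false
set_option maxRecDepth 1000000
namespace Cfsg.Agent.Helper28.He2
open Cfsg.Agent.Helper28
theorem inv_piece8 : allLtFrom (invRow ptabs) 22856 2857 = true := by decide +kernel
theorem inv_piece9 : allLtFrom (invRow ptabs) 25713 2857 = true := by decide +kernel
theorem inv_piece10 : allLtFrom (invRow ptabs) 28570 2857 = true := by decide +kernel
theorem inv_piece11 : allLtFrom (invRow ptabs) 31427 2857 = true := by decide +kernel
theorem inv_piece12 : allLtFrom (invRow ptabs) 34284 2857 = true := by decide +kernel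
theorem inv_piece13 : allLtFrom (invRow ptabs) 37141 2857 = true := by decide +kernel
theorem inv_piece14 : allLtFrom (invRow ptabs) 39998 2857 = true := by decide +kernel
theorem inv_piece15 : allLtFrom (invRow ptabs) 42855 2857 = true := by decide +kernel
end Cfsg.Agent.Helper28.He2
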