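import Cfsg.Agent.Helper28.He2.Data
set_option autoImplicit false
set_option maxRecDepth 1000000
namespace Cfsg.Agent.Helper28.He2
open Cfsg.Agent.Helper28
theorem inv_piece80 : allLtFrom (invRow ptabs) 228560 2857 = true := by decide +kernel
theorem inv_piece81 : allLtFrom (invRow ptabs) 231417 2857 = true := by decide +kernel
theorem inv_piece82 : allLtFrom (invRow ptabs) 234274 2857 = true := by decide +kernel
theorem inv_piece83 : allLtFrom (invRow ptabs) 237131 2857 = true := by decide +kernel
theorem inv_piece84 : allLtFrom (invRow ptabs) 239988 2857 = true := by decide +kernel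
theorem inv_piece85 : allLtFrom (invRow ptabs) 242845 2857 = true := by decide +kernel
theorem inv_piece86 : allLtFrom (invRow ptabs) 245702 2857 = true := by decide +kernel
theorem inv_piece87 : allLtFrom (invRow ptabs) 248559 2857 = true := by decide +kernel
end Cfsg.Agent.Helper28.He2
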