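import Cfsg.Agent.Helper28.He2.Data
set_option autoImplicit false
set_option maxRecDepth 1000000
namespace Cfsg.Agent.Helper28.He2
open Cfsg.Agent.Helper28
theorem inv_piece88 : allLtFrom (invRow ptabs) 251416 2857 = true := by decide +kernel
theorem inv_piece89 : allLtFrom (invRow ptabs) 254273 2857 = true := by decide +kernel
theorem inv_piece90 : allLtFrom (invRow ptabs) 257130 2857 = true := by decide +kernel
theorem inv_piece91 : allLtFrom (invRow ptabs) 259987 2857 = true := by decide +kernel
theorem inv_piece92 : allLtFrom (invRow ptabs) 262844 2857 = true := by decide +kernel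
theorem inv_piece93 : allLtFrom (invRow ptabs) 265701 859 = true := by decide +kernel
end Cfsg.Agent.Helper28.He2
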