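import Cfsg.Agent.Helper28.He2.Data
set_option autoImplicit false
set_option maxRecDepth 1000000
namespace Cfsg.Agent.Helper28.He2
open Cfsg.Agent.Helper28
theorem inv_piece24 : allLtFrom (invRow ptabs) 68568 2857 = true := by decide +kernel
theorem inv_piece25 : allLtFrom (invRow ptabs) 71425 2857 = true := by decide +kernel
theorem inv_piece26 : allLtFrom (invRow ptabs) 74282 2857 = true := by decide +kernel
theorem inv_piece27 : allLtFrom (invRow ptabs) 77139 2857 = true := by decide +kernel
theorem inv_piece28 : allLtFrom (invRow ptabs) 79996 2857 = true := by decide +kernel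
theorem inv_piece29 : allLtFrom (invRow ptabs) 82853 2857 = true := by decide +kernel
theorem inv_piece30 : allLtFrom (invRow ptabs) 85710 2857 = true := by decide +kernel
theorem inv_piece31 : allLtFrom (invRow ptabs) 88567 2857 = true := by decide +kernel
end Cfsg.Agent.Helper28.He2
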