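import Cfsg.Agent.Helper28.He2.Data
set_option autoImplicit false
set_option maxRecDepth 1000000
namespace Cfsg.Agent.Helper28.He2
open Cfsg.Agent.Helper28
theorem inv_piece40 : allLtFrom (invRow ptabs) 114280 2857 = true := by decide +kernel
theorem inv_piece41 : allLtFrom (invRow ptabs) 117137 2857 = true := by decide +kernel
theorem inv_piece42 : allLtFrom (invRow ptabs) 119994 2857 = true := by decide +kernel
theorem inv_piece43 : allLtFrom (invRow ptabs) 122851 2857 = true := by decide +kernel
theorem inv_piece44 : allLtFrom (invRow ptabs) 125708 2857 = true := by decide +kernel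
theorem inv_piece45 : allLtFrom (invRow ptabs) 128565 2857 = true := by decide +kernel
theorem inv_piece46 : allLtFrom (invRow ptabs) 131422 2857 = true := by decide +kernel
theorem inv_piece47 : allLtFrom (invRow ptabs) 134279 2857 = true := by decide +kernel
end Cfsg.Agent.Helper28.He2
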