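import Cfsg.Agent.Helper28.He2.Data
set_option autoImplicit false
set_option maxRecDepth 1000000
namespace Cfsg.Agent.Helper28.He2
open Cfsg.Agent.Helper28
theorem inv_piece48 : allLtFrom (invRow ptabs) 137136 2857 = true := by decide +kernel
theorem inv_piece49 : allLtFrom (invRow ptabs) 139993 2857 = true := by decide +kernel
theorem inv_piece50 : allLtFrom (invRow ptabs) 142850 2857 = true := by decide +kernel
theorem inv_piece51 : allLtFrom (invRow ptabs) 145707 2857 = true := by decide +kernel
theorem inv_piece52 : allLtFrom (invRow ptabs) 148564 2857 = true := by decide +kernel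
theorem inv_piece53 : allLtFrom (invRow ptabs) 151421 2857 = true := by decide +kernel
theorem inv_piece54 : allLtFrom (invRow ptabs) 154278 2857 = true := by decide +kernel
theorem inv_piece55 : allLtFrom (invRow ptabs) 157135 2857 = true := by decide +kernel
end Cfsg.Agent.Helper28.He2
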