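import Cfsg.Agent.Helper28.He2.Data
set_option autoImplicit false
set_option maxRecDepth 1000000
namespace Cfsg.Agent.Helper28.He2
open Cfsg.Agent.Helper28
theorem inv_piece56 : allLtFrom (invRow ptabs) 159992 2857 = true := by decide +kernel
theorem inv_piece57 : allLtFrom (invRow ptabs) 162849 2857 = true := by decide +kernel
theorem inv_piece58 : allLtFrom (invRow ptabs) 165706 2857 = true := by decide +kernel
theorem inv_piece59 : allLtFrom (invRow ptabs) 168563 2857 = true := by decide +kernel
theorem inv_piece60 : allLtFrom (invRow ptabs) 171420 2857 = true := by decide +kernel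
theorem inv_piece61 : allLtFrom (invRow ptabs) 174277 2857 = true := by decide +kernel
theorem inv_piece62 : allLtFrom (invRow ptabs) 177134 2857 = true := by decide +kernel
theorem inv_piece63 : allLtFrom (invRow ptabs) 179991 2857 = true := by decide +kernel
end Cfsg.Agent.Helper28.He2
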