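import Cfsg.Agent.Helper28.He2.Data
set_option autoImplicit false
set_option maxRecDepth 1000000
namespace Cfsg.Agent.Helper28.He2
open Cfsg.Agent.Helper28
theorem inv_piece64 : allLtFrom (invRow ptabs) 182848 2857 = true := by decide +kernel
theorem inv_piece65 : allLtFrom (invRow ptabs) 185705 2857 = true := by decide +kernel
theorem inv_piece66 : allLtFrom (invRow ptabs) 188562 2857 = true := by decide +kernel
theorem inv_piece67 : allLtFrom (invRow ptabs) 191419 2857 = true := by decide +kernel
theorem inv_piece68 : allLtFrom (invRow ptabs) 194276 2857 = true := by decide +kernel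
theorem inv_piece69 : allLtFrom (invRow ptabs) 197133 2857 = true := by decide +kernel
theorem inv_piece70 : allLtFrom (invRow ptabs) 199990 2857 = true := by decide +kernel
theorem inv_piece71 : allLtFrom (invRow ptabs) 202847 2857 = true := by decide +kernel
end Cfsg.Agent.Helper28.He2
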