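import Cfsg.Agent.Helper28.He2.Data
set_option autoImplicit false
set_option maxRecDepth 1000000
namespace Cfsg.Agent.Helper28.He2
open Cfsg.Agent.Helper28
theorem inv_piece72 : allLtFrom (invRow ptabs) 205704 2857 = true := by decide +kernel
theorem inv_piece73 : allLtFrom (invRow ptabs) 208561 2857 = true := by decide +kernel
theorem inv_piece74 : allLtFrom (invRow ptabs) 211418 2857 = true := by decide +kernel
theorem inv_piece75 : allLtFrom (invRow ptabs) 214275 2857 = true := by decide +kernel
theorem inv_piece76 : allLtFrom (invRow ptabs) 217132 2857 = true := by decide +kernel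
theorem inv_piece77 : allLtFrom (invRow ptabs) 219989 2857 = true := by decide +kernel
theorem inv_piece78 : allLtFrom (invRow ptabs) 222846 2857 = true := by decide +kernel
theorem inv_piece79 : allLtFrom (invRow ptabs) 225703 2857 = true := by decide +kernel
end Cfsg.Agent.Helper28.He2
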