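import Cfsg.Agent.Helper28.He2.Data
set_option autoImplicit false
set_option maxRecDepth 1000000
namespace Cfsg.Agent.Helper28.He2
open Cfsg.Agent.Helper28
theorem perm_piece_1_2 : permPieceF tabs.word letSel 6 1 22222 11111 = true := by decide +kernel
theorem perm_piece_1_3 : permPieceF tabs.word letSel 6 1 33333 11111 = true := by decide +kernel
theorem perm_piece_1_4 : permPieceF tabs.word letSel 6 1 44444 11111 = true := by decide +kernel
theorem perm_piece_1_5 : permPieceF tabs.word letSel 6 1 55555 11111 = true := by decide +kernel
theorem perm_piece_1_6 : permPieceF tabs.word letSel 6 1 66666 11111 = true := by decide +kernel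
theorem perm_piece_1_7 : permPieceF tabs.word letSel 6 1 77777 11111 = true := by decide +kernel
theorem perm_piece_1_8 : permPieceF tabs.word letSel 6 1 88888 11111 = true := by decide +kernel
theorem perm_piece_1_9 : permPieceF tabs.word letSel 6 1 99999 11111 = true := by decide +kernel
end Cfsg.Agent.Helper28.He2
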