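import Cfsg.Agent.Helper28.He2.Data
set_option autoImplicit false
set_option maxRecDepth 1000000
namespace Cfsg.Agent.Helper28.He2
open Cfsg.Agent.Helper28
theorem perm_piece_8_0 : permPieceF tabs.word letSel 14 1 0 14814 = true := by decide +kernel
theorem perm_piece_8_1 : permPieceF tabs.word letSel 14 1 14814 14814 = true := by decide +kernel
theorem perm_piece_8_2 : permPieceF tabs.word letSel 14 1 29628 14814 = true := by decide +kernel
theorem perm_piece_8_3 : permPieceF tabs.word letSel 14 1 44442 14814 = true := by decide +kernel
theorem perm_piece_8_4 : permPieceF tabs.word letSel 14 1 59256 14814 = true := by decide +kernel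
theorem perm_piece_8_5 : permPieceF tabs.word letSel 14 1 74070 14814 = true := by decide +kernel
theorem perm_piece_8_6 : permPieceF tabs.word letSel 14 1 88884 14814 = true := by decide +kernel
theorem perm_piece_8_7 : permPieceF tabs.word letSel 14 1 103698 14814 = true := by decide +kernel
end Cfsg.Agent.Helper28.He2
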