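import Cfsg.Agent.Helper28.He2.Data
set_option autoImplicit false
set_option maxRecDepth 1000000
namespace Cfsg.Agent.Helper28.He2
open Cfsg.Agent.Helper28
theorem perm_piece_8_8 : permPieceF tabs.word letSel 14 1 118512 14814 = true := by decide +kernel
theorem perm_piece_8_9 : permPieceF tabs.word letSel 14 1 133326 14814 = true := by decide +kernel
theorem perm_piece_8_10 : permPieceF tabs.word letSel 14 1 148140 14814 = true := by decide +kernel
theorem perm_piece_8_11 : permPieceF tabs.word letSel 14 1 162954 14814 = true := by decide +kernel
theorem perm_piece_8_12 : permPieceF tabs.word letSel 14 1 177768 14814 = true := by decide +kernel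
theorem perm_piece_8_13 : permPieceF tabs.word letSel 14 1 192582 14814 = true := by decide +kernel
theorem perm_piece_8_14 : permPieceF tabs.word letSel 14 1 207396 14814 = true := by decide +kernel
theorem perm_piece_8_15 : permPieceF tabs.word letSel 14 1 222210 14814 = true := by decide +kernel
end Cfsg.Agent.Helper28.He2
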