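import Cfsg.Agent.Helper28.He2.Data
set_option autoImplicit false
set_option maxRecDepth 1000000
namespace Cfsg.Agent.Helper28.He2
open Cfsg.Agent.Helper28
theorem perm_piece_8_16 : permPieceF tabs.word letSel 14 1 237024 14814 = true := by decide +kernel
theorem perm_piece_8_17 : permPieceF tabs.word letSel 14 1 251838 14722 = true := by decide +kernel
theorem perm_piece_9_0 : permPieceF tabs.word letSel 15 1 0 22222 = true := by decide +kernel
theorem perm_piece_9_1 : permPieceF tabs.word letSel 15 1 22222 22222 = true := by decide +kernel
theorem perm_piece_9_2 : permPieceF tabs.word letSel 15 1 44444 22222 = true := by decide +kernel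
theorem perm_piece_9_3 : permPieceF tabs.word letSel 15 1 66666 22222 = true := by decide +kernel
theorem perm_piece_9_4 : permPieceF tabs.word letSel 15 1 88888 22222 = true := by decide +kernel
theorem perm_piece_9_5 : permPieceF tabs.word letSel 15 1 111110 22222 = true := by decide +kernel
end Cfsg.Agent.Helper28.He2
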