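import Cfsg.Agent.Helper28.He2.Data
set_option autoImplicit false
set_option maxRecDepth 1000000
namespace Cfsg.Agent.Helper28.He2
open Cfsg.Agent.Helper28
theorem perm_piece_1_10 : permPieceF tabs.word letSel 6 1 111110 11111 = true := by decide +kernel
theorem perm_piece_1_11 : permPieceF tabs.word letSel 6 1 122221 11111 = true := by decide +kernel
theorem perm_piece_1_12 : permPieceF tabs.word letSel 6 1 133332 11111 = true := by decide +kernel
theorem perm_piece_1_13 : permPieceF tabs.word letSel 6 1 144443 11111 = true := by decide +kernel
theorem perm_piece_1_14 : permPieceF tabs.word letSel 6 1 155554 11111 = true := by decide +kernel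
theorem perm_piece_1_15 : permPieceF tabs.word letSel 6 1 166665 11111 = true := by decide +kernel
theorem perm_piece_1_16 : permPieceF tabs.word letSel 6 1 177776 11111 = true := by decide +kernel
theorem perm_piece_1_17 : permPieceF tabs.word letSel 6 1 188887 11111 = true := by decide +kernel
end Cfsg.Agent.Helper28.He2
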