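import Cfsg.Agent.Helper28.He2.Data
set_option autoImplicit false
set_option maxRecDepth 1000000
namespace Cfsg.Agent.Helper28.He2
open Cfsg.Agent.Helper28
theorem perm_piece_12_10 : permPieceF tabs.word letSel 18 1 222220 22222 = true := by decide +kernel
theorem perm_piece_12_11 : permPieceF tabs.word letSel 18 1 244442 22118 = true := by decide +kernel
theorem perm_piece_13_0 : permPieceF tabs.word letSel 21 1 0 44444 = true := by decide +kernel
theorem perm_piece_13_1 : permPieceF tabs.word letSel 21 1 44444 44444 = true := by decide +kernel
theorem perm_piece_13_2 : permPieceF tabs.word letSel 21 1 88888 44444 = true := by decide +kernel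
theorem perm_piece_13_3 : permPieceF tabs.word letSel 21 1 133332 44444 = true := by decide +kernel
theorem perm_piece_13_4 : permPieceF tabs.word letSel 21 1 177776 44444 = true := by decide +kernel
theorem perm_piece_13_5 : permPieceF tabs.word letSel 21 1 222220 44340 = true := by decide +kernel
end Cfsg.Agent.Helper28.He2
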