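import Cfsg.Agent.Helper28.He2.Data
set_option autoImplicit false
set_option maxRecDepth 1000000
namespace Cfsg.Agent.Helper28.He2
open Cfsg.Agent.Helper28
theorem perm_piece_14_0 : permPieceF tabs.word letSel 22 1 0 4444 = true := by decide +kernel
theorem perm_piece_14_1 : permPieceF tabs.word letSel 22 1 4444 4444 = true := by decide +kernel
theorem perm_piece_14_2 : permPieceF tabs.word letSel 22 1 8888 4444 = true := by decide +kernel
theorem perm_piece_14_3 : permPieceF tabs.word letSel 22 1 13332 4444 = true := by decide +kernel
theorem perm_piece_14_4 : permPieceF tabs.word letSel 22 1 17776 4444 = true := by decide +kernel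
theorem perm_piece_14_5 : permPieceF tabs.word letSel 22 1 22220 4444 = true := by decide +kernel
theorem perm_piece_14_6 : permPieceF tabs.word letSel 22 1 26664 4444 = true := by decide +kernel
theorem perm_piece_14_7 : permPieceF tabs.word letSel 22 1 31108 4444 = true := by decide +kernel
end Cfsg.Agent.Helper28.He2
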