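import Cfsg.Agent.Helper28.He2.Data
set_option autoImplicit false
set_option maxRecDepth 1000000
namespace Cfsg.Agent.Helper28.He2
open Cfsg.Agent.Helper28
theorem perm_piece_14_8 : permPieceF tabs.word letSel 22 1 35552 4444 = true := by decide +kernel
theorem perm_piece_14_9 : permPieceF tabs.word letSel 22 1 39996 4444 = true := by decide +kernel
theorem perm_piece_14_10 : permPieceF tabs.word letSel 22 1 44440 4444 = true := by decide +kernel
theorem perm_piece_14_11 : permPieceF tabs.word letSel 22 1 48884 4444 = true := by decide +kernel
theorem perm_piece_14_12 : permPieceF tabs.word letSel 22 1 53328 4444 = true := by decide +kernel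
theorem perm_piece_14_13 : permPieceF tabs.word letSel 22 1 57772 4444 = true := by decide +kernel
theorem perm_piece_14_14 : permPieceF tabs.word letSel 22 1 62216 4444 = true := by decide +kernel
theorem perm_piece_14_15 : permPieceF tabs.word letSel 22 1 66660 4444 = true := by decide +kernel
end Cfsg.Agent.Helper28.He2
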