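import Cfsg.Agent.Helper28.He2.Data
set_option autoImplicit false
set_option maxRecDepth 1000000
namespace Cfsg.Agent.Helper28.He2
open Cfsg.Agent.Helper28
theorem perm_piece_14_16 : permPieceF tabs.word letSel 22 1 71104 4444 = true := by decide +kernel
theorem perm_piece_14_17 : permPieceF tabs.word letSel 22 1 75548 4444 = true := by decide +kernel
theorem perm_piece_14_18 : permPieceF tabs.word letSel 22 1 79992 4444 = true := by decide +kernel
theorem perm_piece_14_19 : permPieceF tabs.word letSel 22 1 84436 4444 = true := by decide +kernel
theorem perm_piece_14_20 : permPieceF tabs.word letSel 22 1 88880 4444 = true := by decide +kernel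
theorem perm_piece_14_21 : permPieceF tabs.word letSel 22 1 93324 4444 = true := by decide +kernel
theorem perm_piece_14_22 : permPieceF tabs.word letSel 22 1 97768 4444 = true := by decide +kernel
theorem perm_piece_14_23 : permPieceF tabs.word letSel 22 1 102212 4444 = true := by decide +kernel
end Cfsg.Agent.Helper28.He2
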