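import Cfsg.Agent.Helper28.He2.Data
set_option autoImplicit false
set_option maxRecDepth 1000000
namespace Cfsg.Agent.Helper28.He2
open Cfsg.Agent.Helper28
theorem perm_piece_14_24 : permPieceF tabs.word letSel 22 1 106656 4444 = true := by decide +kernel
theorem perm_piece_14_25 : permPieceF tabs.word letSel 22 1 111100 4444 = true := by decide +kernel
theorem perm_piece_14_26 : permPieceF tabs.word letSel 22 1 115544 4444 = true := by decide +kernel
theorem perm_piece_14_27 : permPieceF tabs.word letSel 22 1 119988 4444 = true := by decide +kernel
theorem perm_piece_14_28 : permPieceF tabs.word letSel 22 1 124432 4444 = true := by decide +kernel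
theorem perm_piece_14_29 : permPieceF tabs.word letSel 22 1 128876 4444 = true := by decide +kernel
theorem perm_piece_14_30 : permPieceF tabs.word letSel 22 1 133320 4444 = true := by decide +kernel
theorem perm_piece_14_31 : permPieceF tabs.word letSel 22 1 137764 4444 = true := by decide +kernel
end Cfsg.Agent.Helper28.He2
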