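import Cfsg.Agent.Helper28.He2.Data
set_option autoImplicit false
set_option maxRecDepth 1000000
namespace Cfsg.Agent.Helper28.He2
open Cfsg.Agent.Helper28
theorem perm_piece_14_32 : permPieceF tabs.word letSel 22 1 142208 4444 = true := by decide +kernel
theorem perm_piece_14_33 : permPieceF tabs.word letSel 22 1 146652 4444 = true := by decide +kernel
theorem perm_piece_14_34 : permPieceF tabs.word letSel 22 1 151096 4444 = true := by decide +kernel
theorem perm_piece_14_35 : permPieceF tabs.word letSel 22 1 155540 4444 = true := by decide +kernel
theorem perm_piece_14_36 : permPieceF tabs.word letSel 22 1 159984 4444 = true := by decide +kernel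
theorem perm_piece_14_37 : permPieceF tabs.word letSel 22 1 164428 4444 = true := by decide +kernel
theorem perm_piece_14_38 : permPieceF tabs.word letSel 22 1 168872 4444 = true := by decide +kernel
theorem perm_piece_14_39 : permPieceF tabs.word letSel 22 1 173316 4444 = true := by decide +kernel
end Cfsg.Agent.Helper28.He2
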