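import Cfsg.Agent.Helper28.He2.Data
set_option autoImplicit false
set_option maxRecDepth 1000000
namespace Cfsg.Agent.Helper28.He2
open Cfsg.Agent.Helper28
theorem perm_piece_14_40 : permPieceF tabs.word letSel 22 1 177760 4444 = true := by decide +kernel
theorem perm_piece_14_41 : permPieceF tabs.word letSel 22 1 182204 4444 = true := by decide +kernel
theorem perm_piece_14_42 : permPieceF tabs.word letSel 22 1 186648 4444 = true := by decide +kernel
theorem perm_piece_14_43 : permPieceF tabs.word letSel 22 1 191092 4444 = true := by decide +kernel
theorem perm_piece_14_44 : permPieceF tabs.word letSel 22 1 195536 4444 = true := by decide +kernel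
theorem perm_piece_14_45 : permPieceF tabs.word letSel 22 1 199980 4444 = true := by decide +kernel
theorem perm_piece_14_46 : permPieceF tabs.word letSel 22 1 204424 4444 = true := by decide +kernel
theorem perm_piece_14_47 : permPieceF tabs.word letSel 22 1 208868 4444 = true := by decide +kernel
end Cfsg.Agent.Helper28.He2
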