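import Cfsg.Agent.Helper28.He2.Data
set_option autoImplicit false
set_option maxRecDepth 1000000
namespace Cfsg.Agent.Helper28.He2
open Cfsg.Agent.Helper28
theorem perm_piece_14_48 : permPieceF tabs.word letSel 22 1 213312 4444 = true := by decide +kernel
theorem perm_piece_14_49 : permPieceF tabs.word letSel 22 1 217756 4444 = true := by decide +kernel
theorem perm_piece_14_50 : permPieceF tabs.word letSel 22 1 222200 4444 = true := by decide +kernel
theorem perm_piece_14_51 : permPieceF tabs.word letSel 22 1 226644 4444 = true := by decide +kernel
theorem perm_piece_14_52 : permPieceF tabs.word letSel 22 1 231088 4444 = true := by decide +kernel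
theorem perm_piece_14_53 : permPieceF tabs.word letSel 22 1 235532 4444 = true := by decide +kernel
theorem perm_piece_14_54 : permPieceF tabs.word letSel 22 1 239976 4444 = true := by decide +kernel
theorem perm_piece_14_55 : permPieceF tabs.word letSel 22 1 244420 4444 = true := by decide +kernel
end Cfsg.Agent.Helper28.He2
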