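import Cfsg.Agent.Helper28.He2.Data
set_option autoImplicit false
set_option maxRecDepth 1000000
namespace Cfsg.Agent.Helper28.He2
open Cfsg.Agent.Helper28
theorem perm_piece_14_56 : permPieceF tabs.word letSel 22 1 248864 4444 = true := by decide +kernel
theorem perm_piece_14_57 : permPieceF tabs.word letSel 22 1 253308 4444 = true := by decide +kernel
theorem perm_piece_14_58 : permPieceF tabs.word letSel 22 1 257752 4444 = true := by decide +kernel
theorem perm_piece_14_59 : permPieceF tabs.word letSel 22 1 262196 4364 = true := by decide +kernel
theorem perm_piece_15_0 : permPieceF tabs.word letSel 23 1 0 22222 = true := by decide +kernel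
theorem perm_piece_15_1 : permPieceF tabs.word letSel 23 1 22222 22222 = true := by decide +kernel
theorem perm_piece_15_2 : permPieceF tabs.word letSel 23 1 44444 22222 = true := by decide +kernel
theorem perm_piece_15_3 : permPieceF tabs.word letSel 23 1 66666 22222 = true := by decide +kernel
end Cfsg.Agent.Helper28.He2
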