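import Cfsg.Agent.Helper28.He2.Data
set_option autoImplicit false
set_option maxRecDepth 1000000
namespace Cfsg.Agent.Helper28.He2
open Cfsg.Agent.Helper28
theorem perm_piece_1_18 : permPieceF tabs.word letSel 6 1 199998 11111 = true := by decide +kernel
theorem perm_piece_1_19 : permPieceF tabs.word letSel 6 1 211109 11111 = true := by decide +kernel
theorem perm_piece_1_20 : permPieceF tabs.word letSel 6 1 222220 11111 = true := by decide +kernel
theorem perm_piece_1_21 : permPieceF tabs.word letSel 6 1 233331 11111 = true := by decide +kernel
theorem perm_piece_1_22 : permPieceF tabs.word letSel 6 1 244442 11111 = true := by decide +kernel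
theorem perm_piece_1_23 : permPieceF tabs.word letSel 6 1 255553 11007 = true := by decide +kernel
theorem perm_piece_2_0 : permPieceF tabs.word letSel 7 1 0 22222 = true := by decide +kernel
theorem perm_piece_2_1 : permPieceF tabs.word letSel 7 1 22222 22222 = true := by decide +kernel
end Cfsg.Agent.Helper28.He2
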