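import Cfsg.Agent.Helper28.He2.Data
set_option autoImplicit false
set_option maxRecDepth 1000000
namespace Cfsg.Agent.Helper28.He2
open Cfsg.Agent.Helper28
theorem perm_piece_16_8 : permPieceF tabs.word letSel 24 1 177776 22222 = true := by decide +kernel
theorem perm_piece_16_9 : permPieceF tabs.word letSel 24 1 199998 22222 = true := by decide +kernel
theorem perm_piece_16_10 : permPieceF tabs.word letSel 24 1 222220 22222 = true := by decide +kernel
theorem perm_piece_16_11 : permPieceF tabs.word letSel 24 1 244442 22118 = true := by decide +kernel
theorem perm_piece_17_0 : permPieceF tabs.word letSel 25 1 0 22222 = true := by decide +kernel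
theorem perm_piece_17_1 : permPieceF tabs.word letSel 25 1 22222 22222 = true := by decide +kernel
theorem perm_piece_17_2 : permPieceF tabs.word letSel 25 1 44444 22222 = true := by decide +kernel
theorem perm_piece_17_3 : permPieceF tabs.word letSel 25 1 66666 22222 = true := by decide +kernel
end Cfsg.Agent.Helper28.He2
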