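import Cfsg.Agent.Helper28.He2.Data
set_option autoImplicit false
set_option maxRecDepth 1000000
namespace Cfsg.Agent.Helper28.He2
open Cfsg.Agent.Helper28
theorem perm_piece_18_0 : permPieceF tabs.word letSel 29 1 0 44444 = true := by decide +kernel
theorem perm_piece_18_1 : permPieceF tabs.word letSel 29 1 44444 44444 = true := by decide +kernel
theorem perm_piece_18_2 : permPieceF tabs.word letSel 29 1 88888 44444 = true := by decide +kernel
theorem perm_piece_18_3 : permPieceF tabs.word letSel 29 1 133332 44444 = true := by decide +kernel
theorem perm_piece_18_4 : permPieceF tabs.word letSel 29 1 177776 44444 = true := by decide +kernel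
theorem perm_piece_18_5 : permPieceF tabs.word letSel 29 1 222220 44340 = true := by decide +kernel
theorem perm_piece_19_0 : permPieceF tabs.word letSel 30 1 0 14814 = true := by decide +kernel
theorem perm_piece_19_1 : permPieceF tabs.word letSel 30 1 14814 14814 = true := by decide +kernel
end Cfsg.Agent.Helper28.He2
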