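import Cfsg.Agent.Helper28.He2.Data
set_option autoImplicit false
set_option maxRecDepth 1000000
namespace Cfsg.Agent.Helper28.He2
open Cfsg.Agent.Helper28
theorem perm_piece_19_2 : permPieceF tabs.word letSel 30 1 29628 14814 = true := by decide +kernel
theorem perm_piece_19_3 : permPieceF tabs.word letSel 30 1 44442 14814 = true := by decide +kernel
theorem perm_piece_19_4 : permPieceF tabs.word letSel 30 1 59256 14814 = true := by decide +kernel
theorem perm_piece_19_5 : permPieceF tabs.word letSel 30 1 74070 14814 = true := by decide +kernel
theorem perm_piece_19_6 : permPieceF tabs.word letSel 30 1 88884 14814 = true := by decide +kernel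
theorem perm_piece_19_7 : permPieceF tabs.word letSel 30 1 103698 14814 = true := by decide +kernel
theorem perm_piece_19_8 : permPieceF tabs.word letSel 30 1 118512 14814 = true := by decide +kernel
theorem perm_piece_19_9 : permPieceF tabs.word letSel 30 1 133326 14814 = true := by decide +kernel
end Cfsg.Agent.Helper28.He2
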