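import Cfsg.Agent.Helper28.He2.Data
set_option autoImplicit false
set_option maxRecDepth 1000000
namespace Cfsg.Agent.Helper28.He2
open Cfsg.Agent.Helper28
theorem perm_piece_21_6 : permPieceF tabs.word letSel 32 1 88884 14814 = true := by decide +kernel
theorem perm_piece_21_7 : permPieceF tabs.word letSel 32 1 103698 14814 = true := by decide +kernel
theorem perm_piece_21_8 : permPieceF tabs.word letSel 32 1 118512 14814 = true := by decide +kernel
theorem perm_piece_21_9 : permPieceF tabs.word letSel 32 1 133326 14814 = true := by decide +kernel
theorem perm_piece_21_10 : permPieceF tabs.word letSel 32 1 148140 14814 = true := by decide +kernel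
theorem perm_piece_21_11 : permPieceF tabs.word letSel 32 1 162954 14814 = true := by decide +kernel
theorem perm_piece_21_12 : permPieceF tabs.word letSel 32 1 177768 14814 = true := by decide +kernel
theorem perm_piece_21_13 : permPieceF tabs.word letSel 32 1 192582 14814 = true := by decide +kernel
end Cfsg.Agent.Helper28.He2
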