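import Cfsg.Agent.Helper28.He2.Data
set_option autoImplicit false
set_option maxRecDepth 1000000
namespace Cfsg.Agent.Helper28.He2
open Cfsg.Agent.Helper28
theorem perm_piece_21_14 : permPieceF tabs.word letSel 32 1 207396 14814 = true := by decide +kernel
theorem perm_piece_21_15 : permPieceF tabs.word letSel 32 1 222210 14814 = true := by decide +kernel
theorem perm_piece_21_16 : permPieceF tabs.word letSel 32 1 237024 14814 = true := by decide +kernel
theorem perm_piece_21_17 : permPieceF tabs.word letSel 32 1 251838 14722 = true := by decide +kernel
theorem perm_piece_22_0 : permPieceF tabs.word letSel 37 1 0 44444 = true := by decide +kernel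
theorem perm_piece_22_1 : permPieceF tabs.word letSel 37 1 44444 44444 = true := by decide +kernel
theorem perm_piece_22_2 : permPieceF tabs.word letSel 37 1 88888 44444 = true := by decide +kernel
theorem perm_piece_22_3 : permPieceF tabs.word letSel 37 1 133332 44444 = true := by decide +kernel
end Cfsg.Agent.Helper28.He2
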