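import Cfsg.Agent.Helper28.He2.Data
set_option autoImplicit false
set_option maxRecDepth 1000000
namespace Cfsg.Agent.Helper28.He2
open Cfsg.Agent.Helper28
theorem perm_piece_26_8 : permPieceF tabs.word letSel 46 1 88888 11111 = true := by decide +kernel
theorem perm_piece_26_9 : permPieceF tabs.word letSel 46 1 99999 11111 = true := by decide +kernel
theorem perm_piece_26_10 : permPieceF tabs.word letSel 46 1 111110 11111 = true := by decide +kernel
theorem perm_piece_26_11 : permPieceF tabs.word letSel 46 1 122221 11111 = true := by decide +kernel
theorem perm_piece_26_12 : permPieceF tabs.word letSel 46 1 133332 11111 = true := by decide +kernel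
theorem perm_piece_26_13 : permPieceF tabs.word letSel 46 1 144443 11111 = true := by decide +kernel
theorem perm_piece_26_14 : permPieceF tabs.word letSel 46 1 155554 11111 = true := by decide +kernel
theorem perm_piece_26_15 : permPieceF tabs.word letSel 46 1 166665 11111 = true := by decide +kernel
end Cfsg.Agent.Helper28.He2
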