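import Cfsg.Agent.Helper28.He2.Data
set_option autoImplicit false
set_option maxRecDepth 1000000
namespace Cfsg.Agent.Helper28.He2
open Cfsg.Agent.Helper28
theorem perm_piece_26_16 : permPieceF tabs.word letSel 46 1 177776 11111 = true := by decide +kernel
theorem perm_piece_26_17 : permPieceF tabs.word letSel 46 1 188887 11111 = true := by decide +kernel
theorem perm_piece_26_18 : permPieceF tabs.word letSel 46 1 199998 11111 = true := by decide +kernel
theorem perm_piece_26_19 : permPieceF tabs.word letSel 46 1 211109 11111 = true := by decide +kernel
theorem perm_piece_26_20 : permPieceF tabs.word letSel 46 1 222220 11111 = true := by decide +kernel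
theorem perm_piece_26_21 : permPieceF tabs.word letSel 46 1 233331 11111 = true := by decide +kernel
theorem perm_piece_26_22 : permPieceF tabs.word letSel 46 1 244442 11111 = true := by decide +kernel
theorem perm_piece_26_23 : permPieceF tabs.word letSel 46 1 255553 11007 = true := by decide +kernel
end Cfsg.Agent.Helper28.He2
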