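import Cfsg.Agent.Helper28.He2.Data
set_option autoImplicit false
set_option maxRecDepth 1000000
namespace Cfsg.Agent.Helper28.He2
open Cfsg.Agent.Helper28
theorem perm_piece_27_0 : permPieceF tabs.word letSel 53 1 0 44444 = true := by decide +kernel
theorem perm_piece_27_1 : permPieceF tabs.word letSel 53 1 44444 44444 = true := by decide +kernel
theorem perm_piece_27_2 : permPieceF tabs.word letSel 53 1 88888 44444 = true := by decide +kernel
theorem perm_piece_27_3 : permPieceF tabs.word letSel 53 1 133332 44444 = true := by decide +kernel
theorem perm_piece_27_4 : permPieceF tabs.word letSel 53 1 177776 44444 = true := by decide +kernel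
theorem perm_piece_27_5 : permPieceF tabs.word letSel 53 1 222220 44340 = true := by decide +kernel
theorem perm_piece_28_0 : permPieceF tabs.word letSel 54 1 0 17777 = true := by decide +kernel
theorem perm_piece_28_1 : permPieceF tabs.word letSel 54 1 17777 17777 = true := by decide +kernel
end Cfsg.Agent.Helper28.He2
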