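import Cfsg.Agent.Helper28.He2.Data
set_option autoImplicit false
set_option maxRecDepth 1000000
namespace Cfsg.Agent.Helper28.He2
open Cfsg.Agent.Helper28
theorem perm_piece_28_2 : permPieceF tabs.word letSel 54 1 35554 17777 = true := by decide +kernel
theorem perm_piece_28_3 : permPieceF tabs.word letSel 54 1 53331 17777 = true := by decide +kernel
theorem perm_piece_28_4 : permPieceF tabs.word letSel 54 1 71108 17777 = true := by decide +kernel
theorem perm_piece_28_5 : permPieceF tabs.word letSel 54 1 88885 17777 = true := by decide +kernel
theorem perm_piece_28_6 : permPieceF tabs.word letSel 54 1 106662 17777 = true := by decide +kernel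
theorem perm_piece_28_7 : permPieceF tabs.word letSel 54 1 124439 17777 = true := by decide +kernel
theorem perm_piece_28_8 : permPieceF tabs.word letSel 54 1 142216 17777 = true := by decide +kernel
theorem perm_piece_28_9 : permPieceF tabs.word letSel 54 1 159993 17777 = true := by decide +kernel
end Cfsg.Agent.Helper28.He2
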