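import Cfsg.Agent.Helper28.He2.Data
set_option autoImplicit false
set_option maxRecDepth 1000000
namespace Cfsg.Agent.Helper28.He2
open Cfsg.Agent.Helper28
theorem perm_piece_28_10 : permPieceF tabs.word letSel 54 1 177770 17777 = true := by decide +kernel
theorem perm_piece_28_11 : permPieceF tabs.word letSel 54 1 195547 17777 = true := by decide +kernel
theorem perm_piece_28_12 : permPieceF tabs.word letSel 54 1 213324 17777 = true := by decide +kernel
theorem perm_piece_28_13 : permPieceF tabs.word letSel 54 1 231101 17777 = true := by decide +kernel
theorem perm_piece_28_14 : permPieceF tabs.word letSel 54 1 248878 17682 = true := by decide +kernel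
theorem perm_piece_29_0 : permPieceF tabs.word letSel 74 1 0 22222 = true := by decide +kernel
theorem perm_piece_29_1 : permPieceF tabs.word letSel 74 1 22222 22222 = true := by decide +kernel
theorem perm_piece_29_2 : permPieceF tabs.word letSel 74 1 44444 22222 = true := by decide +kernel
end Cfsg.Agent.Helper28.He2
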