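import Cfsg.Agent.Helper28.He2.Data
set_option autoImplicit false
set_option maxRecDepth 1000000
namespace Cfsg.Agent.Helper28.He2
open Cfsg.Agent.Helper28
theorem perm_piece_29_11 : permPieceF tabs.word letSel 74 1 244442 22118 = true := by decide +kernel
theorem macro_piece_14_0 : macroPieceF tabs.word letSel 14 73 0 22222 = true := by decide +kernel
theorem macro_piece_14_1 : macroPieceF tabs.word letSel 14 73 22222 22222 = true := by decide +kernel
theorem macro_piece_14_2 : macroPieceF tabs.word letSel 14 73 44444 22222 = true := by decide +kernel
theorem macro_piece_14_3 : macroPieceF tabs.word letSel 14 73 66666 22222 = true := by decide +kernel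
theorem macro_piece_14_4 : macroPieceF tabs.word letSel 14 73 88888 22222 = true := by decide +kernel
theorem macro_piece_14_5 : macroPieceF tabs.word letSel 14 73 111110 22222 = true := by decide +kernel
theorem macro_piece_14_6 : macroPieceF tabs.word letSel 14 73 133332 22222 = true := by decide +kernel
end Cfsg.Agent.Helper28.He2
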