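import Cfsg.Agent.Helper28.He2.Data
set_option autoImplicit false
set_option maxRecDepth 1000000
namespace Cfsg.Agent.Helper28.He2
open Cfsg.Agent.Helper28
theorem macro_piece_14_7 : macroPieceF tabs.word letSel 14 73 155554 22222 = true := by decide +kernel
theorem macro_piece_14_8 : macroPieceF tabs.word letSel 14 73 177776 22222 = true := by decide +kernel
theorem macro_piece_14_9 : macroPieceF tabs.word letSel 14 73 199998 22222 = true := by decide +kernel
theorem macro_piece_14_10 : macroPieceF tabs.word letSel 14 73 222220 22222 = true := by decide +kernel
theorem macro_piece_14_11 : macroPieceF tabs.word letSel 14 73 244442 22118 = true := by decide +kernel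
theorem macro_lt_14 : ∀ l ∈ tabs.word 73, l < 14 := by decide +kernel
theorem macro_Wlt_14 : ∀ y ∈ tabs.word 74, y < 16 := by decide +kernel
theorem perm_piece_30_0 : permPieceF tabs.word letSel 56 1 0 8080 = true := by decide +kernel
theorem perm_piece_30_1 : permPieceF tabs.word letSel 56 1 8080 8080 = true := by decide +kernel
theorem perm_piece_30_2 : permPieceF tabs.word letSel 56 1 16160 8080 = true := by decide +kernel
end Cfsg.Agent.Helper28.He2
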