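import Cfsg.Agent.Helper28.He2.Data
set_option autoImplicit false
set_option maxRecDepth 1000000
namespace Cfsg.Agent.Helper28.He2
open Cfsg.Agent.Helper28
theorem perm_piece_30_3 : permPieceF tabs.word letSel 56 1 24240 8080 = true := by decide +kernel
theorem perm_piece_30_4 : permPieceF tabs.word letSel 56 1 32320 8080 = true := by decide +kernel
theorem perm_piece_30_5 : permPieceF tabs.word letSel 56 1 40400 8080 = true := by decide +kernel
theorem perm_piece_30_6 : permPieceF tabs.word letSel 56 1 48480 8080 = true := by decide +kernel
theorem perm_piece_30_7 : permPieceF tabs.word letSel 56 1 56560 8080 = true := by decide +kernel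
theorem perm_piece_30_8 : permPieceF tabs.word letSel 56 1 64640 8080 = true := by decide +kernel
theorem perm_piece_30_9 : permPieceF tabs.word letSel 56 1 72720 8080 = true := by decide +kernel
theorem perm_piece_30_10 : permPieceF tabs.word letSel 56 1 80800 8080 = true := by decide +kernel
end Cfsg.Agent.Helper28.He2
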