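import Cfsg.Agent.Helper28.He2.Data
set_option autoImplicit false
set_option maxRecDepth 1000000
namespace Cfsg.Agent.Helper28.He2
open Cfsg.Agent.Helper28
theorem perm_piece_30_11 : permPieceF tabs.word letSel 56 1 88880 8080 = true := by decide +kernel
theorem perm_piece_30_12 : permPieceF tabs.word letSel 56 1 96960 8080 = true := by decide +kernel
theorem perm_piece_30_13 : permPieceF tabs.word letSel 56 1 105040 8080 = true := by decide +kernel
theorem perm_piece_30_14 : permPieceF tabs.word letSel 56 1 113120 8080 = true := by decide +kernel
theorem perm_piece_30_15 : permPieceF tabs.word letSel 56 1 121200 8080 = true := by decide +kernel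
theorem perm_piece_30_16 : permPieceF tabs.word letSel 56 1 129280 8080 = true := by decide +kernel
theorem perm_piece_30_17 : permPieceF tabs.word letSel 56 1 137360 8080 = true := by decide +kernel
theorem perm_piece_30_18 : permPieceF tabs.word letSel 56 1 145440 8080 = true := by decide +kernel
end Cfsg.Agent.Helper28.He2
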