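import Cfsg.Agent.Helper28.He2.Data
set_option autoImplicit false
set_option maxRecDepth 1000000
namespace Cfsg.Agent.Helper28.He2
open Cfsg.Agent.Helper28
theorem perm_piece_30_19 : permPieceF tabs.word letSel 56 1 153520 8080 = true := by decide +kernel
theorem perm_piece_30_20 : permPieceF tabs.word letSel 56 1 161600 8080 = true := by decide +kernel
theorem perm_piece_30_21 : permPieceF tabs.word letSel 56 1 169680 8080 = true := by decide +kernel
theorem perm_piece_30_22 : permPieceF tabs.word letSel 56 1 177760 8080 = true := by decide +kernel
theorem perm_piece_30_23 : permPieceF tabs.word letSel 56 1 185840 8080 = true := by decide +kernel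
theorem perm_piece_30_24 : permPieceF tabs.word letSel 56 1 193920 8080 = true := by decide +kernel
theorem perm_piece_30_25 : permPieceF tabs.word letSel 56 1 202000 8080 = true := by decide +kernel
theorem perm_piece_30_26 : permPieceF tabs.word letSel 56 1 210080 8080 = true := by decide +kernel
end Cfsg.Agent.Helper28.He2
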