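import Cfsg.Agent.Helper28.He2.Data
set_option autoImplicit false
set_option maxRecDepth 1000000
namespace Cfsg.Agent.Helper28.He2
open Cfsg.Agent.Helper28
theorem perm_piece_30_27 : permPieceF tabs.word letSel 56 1 218160 8080 = true := by decide +kernel
theorem perm_piece_30_28 : permPieceF tabs.word letSel 56 1 226240 8080 = true := by decide +kernel
theorem perm_piece_30_29 : permPieceF tabs.word letSel 56 1 234320 8080 = true := by decide +kernel
theorem perm_piece_30_30 : permPieceF tabs.word letSel 56 1 242400 8080 = true := by decide +kernel
theorem perm_piece_30_31 : permPieceF tabs.word letSel 56 1 250480 8080 = true := by decide +kernel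
theorem perm_piece_30_32 : permPieceF tabs.word letSel 56 1 258560 8000 = true := by decide +kernel
theorem perm_piece_31_0 : permPieceF tabs.word letSel 76 1 0 22222 = true := by decide +kernel
theorem perm_piece_31_1 : permPieceF tabs.word letSel 76 1 22222 22222 = true := by decide +kernel
end Cfsg.Agent.Helper28.He2
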