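import Cfsg.Agent.Helper28.He2.Data
set_option autoImplicit false
set_option maxRecDepth 1000000
namespace Cfsg.Agent.Helper28.He2
open Cfsg.Agent.Helper28
theorem perm_piece_31_10 : permPieceF tabs.word letSel 76 1 222220 22222 = true := by decide +kernel
theorem perm_piece_31_11 : permPieceF tabs.word letSel 76 1 244442 22118 = true := by decide +kernel
theorem macro_piece_15_0 : macroPieceF tabs.word letSel 15 75 0 17777 = true := by decide +kernel
theorem macro_piece_15_1 : macroPieceF tabs.word letSel 15 75 17777 17777 = true := by decide +kernel
theorem macro_piece_15_2 : macroPieceF tabs.word letSel 15 75 35554 17777 = true := by decide +kernel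
theorem macro_piece_15_3 : macroPieceF tabs.word letSel 15 75 53331 17777 = true := by decide +kernel
theorem macro_piece_15_4 : macroPieceF tabs.word letSel 15 75 71108 17777 = true := by decide +kernel
theorem macro_piece_15_5 : macroPieceF tabs.word letSel 15 75 88885 17777 = true := by decide +kernel
end Cfsg.Agent.Helper28.He2
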