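import Cfsg.Agent.Helper28.He2.Data
set_option autoImplicit false
set_option maxRecDepth 1000000
namespace Cfsg.Agent.Helper28.He2
open Cfsg.Agent.Helper28
theorem macro_piece_15_14 : macroPieceF tabs.word letSel 15 75 248878 17682 = true := by decide +kernel
theorem macro_lt_15 : ∀ l ∈ tabs.word 75, l < 14 := by decide +kernel
theorem macro_Wlt_15 : ∀ y ∈ tabs.word 76, y < 16 := by decide +kernel
end Cfsg.Agent.Helper28.He2
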