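import Cfsg.Agent.Helper28.He2.F0
import Cfsg.Agent.Helper28.He2.F1
import Cfsg.Agent.Helper28.He2.F2
import Cfsg.Agent.Helper28.He2.F3
import Cfsg.Agent.Helper28.He2.F4
import Cfsg.Agent.Helper28.He2.F5
import Cfsg.Agent.Helper28.He2.F6
import Cfsg.Agent.Helper28.He2.F7
import Cfsg.Agent.Helper28.He2.F8
import Cfsg.Agent.Helper28.He2.F9
import Cfsg.Agent.Helper28.He2.F10
import Cfsg.Agent.Helper28.He2.F11
import Cfsg.Agent.Helper28.He2.F12
import Cfsg.Agent.Helper28.He2.F13
import Cfsg.Agent.Helper28.He2.F14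
import Cfsg.Agent.Helper28.He2.F15
import Cfsg.Agent.Helper28.He2.F16
import Cfsg.Agent.Helper28.He2.F17
import Cfsg.Agent.Helper28.He2.F18
import Cfsg.Agent.Helper28.He2.F19
import Cfsg.Agent.Helper28.He2.F20
import Cfsg.Agent.Helper28.He2.F21
import Cfsg.Agent.Helper28.He2.F22
import Cfsg.Agent.Helper28.He2.F23
import Cfsg.Agent.Helper28.He2.F24
import Cfsg.Agent.Helper28.He2.F25
import Cfsg.Agent.Helper28.He2.F26
import Cfsg.Agent.Helper28.He2.F27
import Cfsg.Agent.Helper28.He2.F28
import Cfsg.Agent.Helper28.He2.F29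
import Cfsg.Agent.Helper28.He2.F30
import Cfsg.Agent.Helper28.He2.F31
import Cfsg.Agent.Helper28.He2.F32
import Cfsg.Agent.Helper28.He2.F33
import Cfsg.Agent.Helper28.He2.F34
import Cfsg.Agent.Helper28.He2.F35
import Cfsg.Agent.Helper28.He2.F36
import Cfsg.Agent.Helper28.He2.F37
import Cfsg.Agent.Helper28.He2.F38
import Cfsg.Agent.Helper28.He2.F39
import Cfsg.Agent.Helper28.He2.F40
import Cfsg.Agent.Helper28.He2.Fin0
import Cfsg.Agent.Helper28.He2.Fin1
import Cfsg.Agent.Helper28.He2.Fin2
import Cfsg.Agent.Helper28.He2.Fin3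
import Cfsg.Agent.Helper28.He2.Fin4
import Cfsg.Agent.Helper28.He2.Fin5
import Cfsg.Agent.Helper28.He2.Fin6
import Cfsg.Agent.Helper28.He2.Fin7
import Cfsg.Agent.Helper28.He2.Fin8
import Cfsg.Agent.Helper28.He2.Fin9
import Cfsg.Agent.Helper28.He2.Fin10
import Cfsg.Agent.Helper28.He2.Fin11
import Cfsg.Agent.Helper28.He2.Fin12
import Cfsg.Agent.Helper28.He2.Fin13
import Cfsg.Agent.Helper28.He2.Fin14
import Cfsg.Agent.Helper28.He2.Fin15
import Cfsg.Agent.Helper28.He2.Fin16
import Cfsg.Agent.Helper28.He2.Fin17
import Cfsg.Agent.Helper28.He2.Fin18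
import Cfsg.Agent.Helper28.He2.Fin19
import Cfsg.Agent.Helper28.He2.Fin20
import Cfsg.Agent.Helper28.He2.Fin21
import Cfsg.Agent.Helper28.He2.Fin22
import Cfsg.Agent.Helper28.He2.Fin23
import Cfsg.Agent.Helper28.He2.Fin24
import Cfsg.Agent.Helper28.He2.Fin25
import Cfsg.Agent.Helper28.He2.Fin26
import Cfsg.Agent.Helper28.He2.Fin27
import Cfsg.Agent.Helper28.He2.Fin28
import Cfsg.Agent.Helper28.He2.Fin29
import Cfsg.Agent.Helper28.He2.Fin30
import Cfsg.Agent.Helper28.He2.Fin31
import Cfsg.Agent.Helper28.He2.Fin32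
import Cfsg.Agent.Helper28.He2.Fin33
import Cfsg.Agent.Helper28.He2.Fin34
import Cfsg.Agent.Helper28.He2.Fin35
import Cfsg.Agent.Helper28.He2.Fin36
import Cfsg.Agent.Helper28.He2.Fin37
import Cfsg.Agent.Helper28.He2.Fin38
import Cfsg.Agent.Helper28.He2.Fin39
import Cfsg.Agent.Helper28.He2.Fin40
import Cfsg.Agent.Helper28.He2.Fin41
import Cfsg.Agent.Helper28.He2.Fin42
import Cfsg.Agent.Helper28.He2.Fin43
import Cfsg.Agent.Helper28.He2.Fin44
import Cfsg.Agent.Helper28.He2.Fin45
import Cfsg.Agent.Helper28.He2.Fin46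
import Cfsg.Agent.Helper28.He2.Inv0
import Cfsg.Agent.Helper28.He2.Inv1
import Cfsg.Agent.Helper28.He2.Inv2
import Cfsg.Agent.Helper28.He2.Inv3
import Cfsg.Agent.Helper28.He2.Inv4
import Cfsg.Agent.Helper28.He2.Inv5
import Cfsg.Agent.Helper28.He2.Inv6
import Cfsg.Agent.Helper28.He2.Inv7
import Cfsg.Agent.Helper28.He2.Inv8
import Cfsg.Agent.Helper28.He2.Inv9
import Cfsg.Agent.Helper28.He2.Inv10
import Cfsg.Agent.Helper28.He2.Inv11
import Cfsg.Agent.Helper28.He2.Misc0
import Cfsg.Agent.Helper28.He2.Misc1
import Cfsg.Agent.Helper28.He2.P0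
import Cfsg.Agent.Helper28.He2.P1
import Cfsg.Agent.Helper28.He2.P2
import Cfsg.Agent.Helper28.He2.P3
import Cfsg.Agent.Helper28.He2.P4
import Cfsg.Agent.Helper28.He2.P5
import Cfsg.Agent.Helper28.He2.P6
import Cfsg.Agent.Helper28.He2.P7
import Cfsg.Agent.Helper28.He2.P8
import Cfsg.Agent.Helper28.He2.P9
import Cfsg.Agent.Helper28.He2.P10
import Cfsg.Agent.Helper28.He2.P11
import Cfsg.Agent.Helper28.He2.P12
import Cfsg.Agent.Helper28.He2.P13
import Cfsg.Agent.Helper28.He2.P14
import Cfsg.Agent.Helper28.He2.P15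
import Cfsg.Agent.Helper28.He2.P16
import Cfsg.Agent.Helper28.He2.P17
import Cfsg.Agent.Helper28.He2.P18
import Cfsg.Agent.Helper28.He2.P19
import Cfsg.Agent.Helper28.He2.P20
import Cfsg.Agent.Helper28.He2.P21
import Cfsg.Agent.Helper28.He2.P22
import Cfsg.Agent.Helper28.He2.P23
import Cfsg.Agent.Helper28.He2.P24
import Cfsg.Agent.Helper28.He2.P25
import Cfsg.Agent.Helper28.He2.P26
import Cfsg.Agent.Helper28.He2.P27
import Cfsg.Agent.Helper28.He2.P28
import Cfsg.Agent.Helper28.He2.P29
import Cfsg.Agent.Helper28.He2.P30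
import Cfsg.Agent.Helper28.He2.P31
import Cfsg.Agent.Helper28.He2.P32
import Cfsg.Agent.Helper28.He2.P33
import Cfsg.Agent.Helper28.He2.P34
import Cfsg.Agent.Helper28.He2.P35
import Cfsg.Agent.Helper28.He2.P36
import Cfsg.Agent.Helper28.He2.P37
import Cfsg.Agent.Helper28.He2.P38
import Cfsg.Agent.Helper28.He2.P39
import Cfsg.Agent.Helper28.He2.P40
import Cfsg.Agent.Helper28.He2.P41
import Cfsg.Agent.Helper28.He2.P42
import Cfsg.Agent.Helper28.He2.P43
import Cfsg.Agent.Helper28.He2.P44
import Cfsg.Agent.Helper28.He2.P45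
import Cfsg.Agent.Helper28.He2.P46
import Cfsg.Agent.Helper28.He2.P47
import Cfsg.Agent.Helper28.He2.P48
import Cfsg.Agent.Helper28.He2.P49
import Cfsg.Agent.Helper28.He2.P50
import Cfsg.Agent.Helper28.He2.P51
import Cfsg.Agent.Helper28.He2.P52
import Cfsg.Agent.Helper28.He2.P53
import Cfsg.Agent.Helper28.He2.P54
import Cfsg.Agent.Helper28.He2.P55
import Cfsg.Agent.Helper28.He2.P56
import Cfsg.Agent.Helper28.He2.P57
import Cfsg.Agent.Helper28.He2.P58
import Cfsg.Agent.Helper28.He2.P59
import Cfsg.Agent.Helper28.He2.P60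
import Cfsg.Agent.Helper28.He2.P61
set_option autoImplicit false
namespace Cfsg.Agent.Helper28.He2
open Cfsg.Agent.Helper28
theorem fin_upto0 : allLt (finRow tabs ptabs 1610022) 714 = true :=
  allLt_extend _ 0 714 714 rfl (allLt_zero _) fin_piece0
theorem fin_upto1 : allLt (finRow tabs ptabs 1610022) 1428 = true :=
  allLt_extend _ 714 714 1428 rfl fin_upto0 fin_piece1
theorem fin_upto2 : allLt (finRow tabs ptabs 1610022) 2142 = true :=
  allLt_extend _ 1428 714 2142 rfl fin_upto1 fin_piece2
theorem fin_upto3 : allLt (finRow tabs ptabs 1610022) 2856 = true :=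
  allLt_extend _ 2142 714 2856 rfl fin_upto2 fin_piece3
theorem fin_upto4 : allLt (finRow tabs ptabs 1610022) 3570 = true :=
  allLt_extend _ 2856 714 3570 rfl fin_upto3 fin_piece4
theorem fin_upto5 : allLt (finRow tabs ptabs 1610022) 4284 = true :=
  allLt_extend _ 3570 714 4284 rfl fin_upto4 fin_piece5
theorem fin_upto6 : allLt (finRow tabs ptabs 1610022) 4998 = true :=
  allLt_extend _ 4284 714 4998 rfl fin_upto5 fin_piece6
theorem fin_upto7 : allLt (finRow tabs ptabs 1610022) 5712 = true :=
  allLt_extend _ 4998 714 5712 rfl fin_upto6 fin_piece7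
theorem fin_upto8 : allLt (finRow tabs ptabs 1610022) 6426 = true :=
  allLt_extend _ 5712 714 6426 rfl fin_upto7 fin_piece8
theorem fin_upto9 : allLt (finRow tabs ptabs 1610022) 7140 = true :=
  allLt_extend _ 6426 714 7140 rfl fin_upto8 fin_piece9
theorem fin_upto10 : allLt (finRow tabs ptabs 1610022) 7854 = true :=
  allLt_extend _ 7140 714 7854 rfl fin_upto9 fin_piece10
theorem fin_upto11 : allLt (finRow tabs ptabs 1610022) 8568 = true :=
  allLt_extend _ 7854 714 8568 rfl fin_upto10 fin_piece11
theorem fin_upto12 : allLt (finRow tabs ptabs 1610022) 9282 = true :=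
  allLt_extend _ 8568 714 9282 rfl fin_upto11 fin_piece12
theorem fin_upto13 : allLt (finRow tabs ptabs 1610022) 9996 = true :=
  allLt_extend _ 9282 714 9996 rfl fin_upto12 fin_piece13
theorem fin_upto14 : allLt (finRow tabs ptabs 1610022) 10710 = true :=
  allLt_extend _ 9996 714 10710 rfl fin_upto13 fin_piece14
theorem fin_upto15 : allLt (finRow tabs ptabs 1610022) 11424 = true :=
  allLt_extend _ 10710 714 11424 rfl fin_upto14 fin_piece15
theorem fin_upto16 : allLt (finRow tabs ptabs 1610022) 12138 = true :=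
  allLt_extend _ 11424 714 12138 rfl fin_upto15 fin_piece16
theorem fin_upto17 : allLt (finRow tabs ptabs 1610022) 12852 = true :=
  allLt_extend _ 12138 714 12852 rfl fin_upto16 fin_piece17
theorem fin_upto18 : allLt (finRow tabs ptabs 1610022) 13566 = true :=
  allLt_extend _ 12852 714 13566 rfl fin_upto17 fin_piece18
theorem fin_upto19 : allLt (finRow tabs ptabs 1610022) 14280 = true :=
  allLt_extend _ 13566 714 14280 rfl fin_upto18 fin_piece19
theorem fin_upto20 : allLt (finRow tabs ptabs 1610022) 14994 = true :=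
  allLt_extend _ 14280 714 14994 rfl fin_upto19 fin_piece20
theorem fin_upto21 : allLt (finRow tabs ptabs 1610022) 15708 = true :=
  allLt_extend _ 14994 714 15708 rfl fin_upto20 fin_piece21
theorem fin_upto22 : allLt (finRow tabs ptabs 1610022) 16422 = true :=
  allLt_extend _ 15708 714 16422 rfl fin_upto21 fin_piece22
theorem fin_upto23 : allLt (finRow tabs ptabs 1610022) 17136 = true :=
  allLt_extend _ 16422 714 17136 rfl fin_upto22 fin_piece23
theorem fin_upto24 : allLt (finRow tabs ptabs 1610022) 17850 = true :=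
  allLt_extend _ 17136 714 17850 rfl fin_upto23 fin_piece24
theorem fin_upto25 : allLt (finRow tabs ptabs 1610022) 18564 = true :=
  allLt_extend _ 17850 714 18564 rfl fin_upto24 fin_piece25
theorem fin_upto26 : allLt (finRow tabs ptabs 1610022) 19278 = true :=
  allLt_extend _ 18564 714 19278 rfl fin_upto25 fin_piece26
theorem fin_upto27 : allLt (finRow tabs ptabs 1610022) 19992 = true :=
  allLt_extend _ 19278 714 19992 rfl fin_upto26 fin_piece27
theorem fin_upto28 : allLt (finRow tabs ptabs 1610022) 20706 = true :=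
  allLt_extend _ 19992 714 20706 rfl fin_upto27 fin_piece28
theorem fin_upto29 : allLt (finRow tabs ptabs 1610022) 21420 = true :=
  allLt_extend _ 20706 714 21420 rfl fin_upto28 fin_piece29
theorem fin_upto30 : allLt (finRow tabs ptabs 1610022) 22134 = true :=
  allLt_extend _ 21420 714 22134 rfl fin_upto29 fin_piece30
theorem fin_upto31 : allLt (finRow tabs ptabs 1610022) 22848 = true :=
  allLt_extend _ 22134 714 22848 rfl fin_upto30 fin_piece31
theorem fin_upto32 : allLt (finRow tabs ptabs 1610022) 23562 = true :=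
  allLt_extend _ 22848 714 23562 rfl fin_upto31 fin_piece32
theorem fin_upto33 : allLt (finRow tabs ptabs 1610022) 24276 = true :=
  allLt_extend _ 23562 714 24276 rfl fin_upto32 fin_piece33
theorem fin_upto34 : allLt (finRow tabs ptabs 1610022) 24990 = true :=
  allLt_extend _ 24276 714 24990 rfl fin_upto33 fin_piece34
theorem fin_upto35 : allLt (finRow tabs ptabs 1610022) 25704 = true :=
  allLt_extend _ 24990 714 25704 rfl fin_upto34 fin_piece35
theorem fin_upto36 : allLt (finRow tabs ptabs 1610022) 26418 = true :=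
  allLt_extend _ 25704 714 26418 rfl fin_upto35 fin_piece36
theorem fin_upto37 : allLt (finRow tabs ptabs 1610022) 27132 = true :=
  allLt_extend _ 26418 714 27132 rfl fin_upto36 fin_piece37
theorem fin_upto38 : allLt (finRow tabs ptabs 1610022) 27846 = true :=
  allLt_extend _ 27132 714 27846 rfl fin_upto37 fin_piece38
theorem fin_upto39 : allLt (finRow tabs ptabs 1610022) 28560 = true :=
  allLt_extend _ 27846 714 28560 rfl fin_upto38 fin_piece39
theorem fin_upto40 : allLt (finRow tabs ptabs 1610022) 29274 = true :=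
  allLt_extend _ 28560 714 29274 rfl fin_upto39 fin_piece40
theorem fin_upto41 : allLt (finRow tabs ptabs 1610022) 29988 = true :=
  allLt_extend _ 29274 714 29988 rfl fin_upto40 fin_piece41
theorem fin_upto42 : allLt (finRow tabs ptabs 1610022) 30702 = true :=
  allLt_extend _ 29988 714 30702 rfl fin_upto41 fin_piece42
theorem fin_upto43 : allLt (finRow tabs ptabs 1610022) 31416 = true :=
  allLt_extend _ 30702 714 31416 rfl fin_upto42 fin_piece43
theorem fin_upto44 : allLt (finRow tabs ptabs 1610022) 32130 = true :=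
  allLt_extend _ 31416 714 32130 rfl fin_upto43 fin_piece44
theorem fin_upto45 : allLt (finRow tabs ptabs 1610022) 32844 = true :=
  allLt_extend _ 32130 714 32844 rfl fin_upto44 fin_piece45
theorem fin_upto46 : allLt (finRow tabs ptabs 1610022) 33558 = true :=
  allLt_extend _ 32844 714 33558 rfl fin_upto45 fin_piece46
theorem fin_upto47 : allLt (finRow tabs ptabs 1610022) 34272 = true :=
  allLt_extend _ 33558 714 34272 rfl fin_upto46 fin_piece47
theorem fin_upto48 : allLt (finRow tabs ptabs 1610022) 34986 = true :=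
  allLt_extend _ 34272 714 34986 rfl fin_upto47 fin_piece48
theorem fin_upto49 : allLt (finRow tabs ptabs 1610022) 35700 = true :=
  allLt_extend _ 34986 714 35700 rfl fin_upto48 fin_piece49
theorem fin_upto50 : allLt (finRow tabs ptabs 1610022) 36414 = true :=
  allLt_extend _ 35700 714 36414 rfl fin_upto49 fin_piece50
theorem fin_upto51 : allLt (finRow tabs ptabs 1610022) 37128 = true :=
  allLt_extend _ 36414 714 37128 rfl fin_upto50 fin_piece51
theorem fin_upto52 : allLt (finRow tabs ptabs 1610022) 37842 = true :=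
  allLt_extend _ 37128 714 37842 rfl fin_upto51 fin_piece52
theorem fin_upto53 : allLt (finRow tabs ptabs 1610022) 38556 = true :=
  allLt_extend _ 37842 714 38556 rfl fin_upto52 fin_piece53
theorem fin_upto54 : allLt (finRow tabs ptabs 1610022) 39270 = true :=
  allLt_extend _ 38556 714 39270 rfl fin_upto53 fin_piece54
theorem fin_upto55 : allLt (finRow tabs ptabs 1610022) 39984 = true :=
  allLt_extend _ 39270 714 39984 rfl fin_upto54 fin_piece55
theorem fin_upto56 : allLt (finRow tabs ptabs 1610022) 40698 = true :=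
  allLt_extend _ 39984 714 40698 rfl fin_upto55 fin_piece56
theorem fin_upto57 : allLt (finRow tabs ptabs 1610022) 41412 = true :=
  allLt_extend _ 40698 714 41412 rfl fin_upto56 fin_piece57
theorem fin_upto58 : allLt (finRow tabs ptabs 1610022) 42126 = true :=
  allLt_extend _ 41412 714 42126 rfl fin_upto57 fin_piece58
theorem fin_upto59 : allLt (finRow tabs ptabs 1610022) 42840 = true :=
  allLt_extend _ 42126 714 42840 rfl fin_upto58 fin_piece59
theorem fin_upto60 : allLt (finRow tabs ptabs 1610022) 43554 = true :=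
  allLt_extend _ 42840 714 43554 rfl fin_upto59 fin_piece60
theorem fin_upto61 : allLt (finRow tabs ptabs 1610022) 44268 = true :=
  allLt_extend _ 43554 714 44268 rfl fin_upto60 fin_piece61
theorem fin_upto62 : allLt (finRow tabs ptabs 1610022) 44982 = true :=
  allLt_extend _ 44268 714 44982 rfl fin_upto61 fin_piece62
theorem fin_upto63 : allLt (finRow tabs ptabs 1610022) 45696 = true :=
  allLt_extend _ 44982 714 45696 rfl fin_upto62 fin_piece63
theorem fin_upto64 : allLt (finRow tabs ptabs 1610022) 46410 = true :=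
  allLt_extend _ 45696 714 46410 rfl fin_upto63 fin_piece64
theorem fin_upto65 : allLt (finRow tabs ptabs 1610022) 47124 = true :=
  allLt_extend _ 46410 714 47124 rfl fin_upto64 fin_piece65
theorem fin_upto66 : allLt (finRow tabs ptabs 1610022) 47838 = true :=
  allLt_extend _ 47124 714 47838 rfl fin_upto65 fin_piece66
theorem fin_upto67 : allLt (finRow tabs ptabs 1610022) 48552 = true :=
  allLt_extend _ 47838 714 48552 rfl fin_upto66 fin_piece67
theorem fin_upto68 : allLt (finRow tabs ptabs 1610022) 49266 = true :=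
  allLt_extend _ 48552 714 49266 rfl fin_upto67 fin_piece68
theorem fin_upto69 : allLt (finRow tabs ptabs 1610022) 49980 = true :=
  allLt_extend _ 49266 714 49980 rfl fin_upto68 fin_piece69
theorem fin_upto70 : allLt (finRow tabs ptabs 1610022) 50694 = true :=
  allLt_extend _ 49980 714 50694 rfl fin_upto69 fin_piece70
theorem fin_upto71 : allLt (finRow tabs ptabs 1610022) 51408 = true :=
  allLt_extend _ 50694 714 51408 rfl fin_upto70 fin_piece71
theorem fin_upto72 : allLt (finRow tabs ptabs 1610022) 52122 = true :=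
  allLt_extend _ 51408 714 52122 rfl fin_upto71 fin_piece72
theorem fin_upto73 : allLt (finRow tabs ptabs 1610022) 52836 = true :=
  allLt_extend _ 52122 714 52836 rfl fin_upto72 fin_piece73
theorem fin_upto74 : allLt (finRow tabs ptabs 1610022) 53550 = true :=
  allLt_extend _ 52836 714 53550 rfl fin_upto73 fin_piece74
theorem fin_upto75 : allLt (finRow tabs ptabs 1610022) 54264 = true :=
  allLt_extend _ 53550 714 54264 rfl fin_upto74 fin_piece75
theorem fin_upto76 : allLt (finRow tabs ptabs 1610022) 54978 = true :=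
  allLt_extend _ 54264 714 54978 rfl fin_upto75 fin_piece76
theorem fin_upto77 : allLt (finRow tabs ptabs 1610022) 55692 = true :=
  allLt_extend _ 54978 714 55692 rfl fin_upto76 fin_piece77
theorem fin_upto78 : allLt (finRow tabs ptabs 1610022) 56406 = true :=
  allLt_extend _ 55692 714 56406 rfl fin_upto77 fin_piece78
theorem fin_upto79 : allLt (finRow tabs ptabs 1610022) 57120 = true :=
  allLt_extend _ 56406 714 57120 rfl fin_upto78 fin_piece79
theorem fin_upto80 : allLt (finRow tabs ptabs 1610022) 57834 = true :=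
  allLt_extend _ 57120 714 57834 rfl fin_upto79 fin_piece80
theorem fin_upto81 : allLt (finRow tabs ptabs 1610022) 58548 = true :=
  allLt_extend _ 57834 714 58548 rfl fin_upto80 fin_piece81
theorem fin_upto82 : allLt (finRow tabs ptabs 1610022) 59262 = true :=
  allLt_extend _ 58548 714 59262 rfl fin_upto81 fin_piece82
theorem fin_upto83 : allLt (finRow tabs ptabs 1610022) 59976 = true :=
  allLt_extend _ 59262 714 59976 rfl fin_upto82 fin_piece83
theorem fin_upto84 : allLt (finRow tabs ptabs 1610022) 60690 = true :=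
  allLt_extend _ 59976 714 60690 rfl fin_upto83 fin_piece84
theorem fin_upto85 : allLt (finRow tabs ptabs 1610022) 61404 = true :=
  allLt_extend _ 60690 714 61404 rfl fin_upto84 fin_piece85
theorem fin_upto86 : allLt (finRow tabs ptabs 1610022) 62118 = true :=
  allLt_extend _ 61404 714 62118 rfl fin_upto85 fin_piece86
theorem fin_upto87 : allLt (finRow tabs ptabs 1610022) 62832 = true :=
  allLt_extend _ 62118 714 62832 rfl fin_upto86 fin_piece87
theorem fin_upto88 : allLt (finRow tabs ptabs 1610022) 63546 = true :=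
  allLt_extend _ 62832 714 63546 rfl fin_upto87 fin_piece88
theorem fin_upto89 : allLt (finRow tabs ptabs 1610022) 64260 = true :=
  allLt_extend _ 63546 714 64260 rfl fin_upto88 fin_piece89
theorem fin_upto90 : allLt (finRow tabs ptabs 1610022) 64974 = true :=
  allLt_extend _ 64260 714 64974 rfl fin_upto89 fin_piece90
theorem fin_upto91 : allLt (finRow tabs ptabs 1610022) 65688 = true :=
  allLt_extend _ 64974 714 65688 rfl fin_upto90 fin_piece91
theorem fin_upto92 : allLt (finRow tabs ptabs 1610022) 66402 = true :=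
  allLt_extend _ 65688 714 66402 rfl fin_upto91 fin_piece92
theorem fin_upto93 : allLt (finRow tabs ptabs 1610022) 67116 = true :=
  allLt_extend _ 66402 714 67116 rfl fin_upto92 fin_piece93
theorem fin_upto94 : allLt (finRow tabs ptabs 1610022) 67830 = true :=
  allLt_extend _ 67116 714 67830 rfl fin_upto93 fin_piece94
theorem fin_upto95 : allLt (finRow tabs ptabs 1610022) 68544 = true :=
  allLt_extend _ 67830 714 68544 rfl fin_upto94 fin_piece95
theorem fin_upto96 : allLt (finRow tabs ptabs 1610022) 69258 = true :=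
  allLt_extend _ 68544 714 69258 rfl fin_upto95 fin_piece96
theorem fin_upto97 : allLt (finRow tabs ptabs 1610022) 69972 = true :=
  allLt_extend _ 69258 714 69972 rfl fin_upto96 fin_piece97
theorem fin_upto98 : allLt (finRow tabs ptabs 1610022) 70686 = true :=
  allLt_extend _ 69972 714 70686 rfl fin_upto97 fin_piece98
theorem fin_upto99 : allLt (finRow tabs ptabs 1610022) 71400 = true :=
  allLt_extend _ 70686 714 71400 rfl fin_upto98 fin_piece99
theorem fin_upto100 : allLt (finRow tabs ptabs 1610022) 72114 = true :=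
  allLt_extend _ 71400 714 72114 rfl fin_upto99 fin_piece100
theorem fin_upto101 : allLt (finRow tabs ptabs 1610022) 72828 = true :=
  allLt_extend _ 72114 714 72828 rfl fin_upto100 fin_piece101
theorem fin_upto102 : allLt (finRow tabs ptabs 1610022) 73542 = true :=
  allLt_extend _ 72828 714 73542 rfl fin_upto101 fin_piece102
theorem fin_upto103 : allLt (finRow tabs ptabs 1610022) 74256 = true :=
  allLt_extend _ 73542 714 74256 rfl fin_upto102 fin_piece103
theorem fin_upto104 : allLt (finRow tabs ptabs 1610022) 74970 = true :=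
  allLt_extend _ 74256 714 74970 rfl fin_upto103 fin_piece104
theorem fin_upto105 : allLt (finRow tabs ptabs 1610022) 75684 = true :=
  allLt_extend _ 74970 714 75684 rfl fin_upto104 fin_piece105
theorem fin_upto106 : allLt (finRow tabs ptabs 1610022) 76398 = true :=
  allLt_extend _ 75684 714 76398 rfl fin_upto105 fin_piece106
theorem fin_upto107 : allLt (finRow tabs ptabs 1610022) 77112 = true :=
  allLt_extend _ 76398 714 77112 rfl fin_upto106 fin_piece107
theorem fin_upto108 : allLt (finRow tabs ptabs 1610022) 77826 = true :=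
  allLt_extend _ 77112 714 77826 rfl fin_upto107 fin_piece108
theorem fin_upto109 : allLt (finRow tabs ptabs 1610022) 78540 = true :=
  allLt_extend _ 77826 714 78540 rfl fin_upto108 fin_piece109
theorem fin_upto110 : allLt (finRow tabs ptabs 1610022) 79254 = true :=
  allLt_extend _ 78540 714 79254 rfl fin_upto109 fin_piece110
theorem fin_upto111 : allLt (finRow tabs ptabs 1610022) 79968 = true :=
  allLt_extend _ 79254 714 79968 rfl fin_upto110 fin_piece111
theorem fin_upto112 : allLt (finRow tabs ptabs 1610022) 80682 = true :=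
  allLt_extend _ 79968 714 80682 rfl fin_upto111 fin_piece112
theorem fin_upto113 : allLt (finRow tabs ptabs 1610022) 81396 = true :=
  allLt_extend _ 80682 714 81396 rfl fin_upto112 fin_piece113
theorem fin_upto114 : allLt (finRow tabs ptabs 1610022) 82110 = true :=
  allLt_extend _ 81396 714 82110 rfl fin_upto113 fin_piece114
theorem fin_upto115 : allLt (finRow tabs ptabs 1610022) 82824 = true :=
  allLt_extend _ 82110 714 82824 rfl fin_upto114 fin_piece115
theorem fin_upto116 : allLt (finRow tabs ptabs 1610022) 83538 = true :=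
  allLt_extend _ 82824 714 83538 rfl fin_upto115 fin_piece116
theorem fin_upto117 : allLt (finRow tabs ptabs 1610022) 84252 = true :=
  allLt_extend _ 83538 714 84252 rfl fin_upto116 fin_piece117
theorem fin_upto118 : allLt (finRow tabs ptabs 1610022) 84966 = true :=
  allLt_extend _ 84252 714 84966 rfl fin_upto117 fin_piece118
theorem fin_upto119 : allLt (finRow tabs ptabs 1610022) 85680 = true :=
  allLt_extend _ 84966 714 85680 rfl fin_upto118 fin_piece119
theorem fin_upto120 : allLt (finRow tabs ptabs 1610022) 86394 = true :=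
  allLt_extend _ 85680 714 86394 rfl fin_upto119 fin_piece120
theorem fin_upto121 : allLt (finRow tabs ptabs 1610022) 87108 = true :=
  allLt_extend _ 86394 714 87108 rfl fin_upto120 fin_piece121
theorem fin_upto122 : allLt (finRow tabs ptabs 1610022) 87822 = true :=
  allLt_extend _ 87108 714 87822 rfl fin_upto121 fin_piece122
theorem fin_upto123 : allLt (finRow tabs ptabs 1610022) 88536 = true :=
  allLt_extend _ 87822 714 88536 rfl fin_upto122 fin_piece123
theorem fin_upto124 : allLt (finRow tabs ptabs 1610022) 89250 = true :=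
  allLt_extend _ 88536 714 89250 rfl fin_upto123 fin_piece124
theorem fin_upto125 : allLt (finRow tabs ptabs 1610022) 89964 = true :=
  allLt_extend _ 89250 714 89964 rfl fin_upto124 fin_piece125
theorem fin_upto126 : allLt (finRow tabs ptabs 1610022) 90678 = true :=
  allLt_extend _ 89964 714 90678 rfl fin_upto125 fin_piece126
theorem fin_upto127 : allLt (finRow tabs ptabs 1610022) 91392 = true :=
  allLt_extend _ 90678 714 91392 rfl fin_upto126 fin_piece127
theorem fin_upto128 : allLt (finRow tabs ptabs 1610022) 92106 = true :=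
  allLt_extend _ 91392 714 92106 rfl fin_upto127 fin_piece128
theorem fin_upto129 : allLt (finRow tabs ptabs 1610022) 92820 = true :=
  allLt_extend _ 92106 714 92820 rfl fin_upto128 fin_piece129
theorem fin_upto130 : allLt (finRow tabs ptabs 1610022) 93534 = true :=
  allLt_extend _ 92820 714 93534 rfl fin_upto129 fin_piece130
theorem fin_upto131 : allLt (finRow tabs ptabs 1610022) 94248 = true :=
  allLt_extend _ 93534 714 94248 rfl fin_upto130 fin_piece131
theorem fin_upto132 : allLt (finRow tabs ptabs 1610022) 94962 = true :=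
  allLt_extend _ 94248 714 94962 rfl fin_upto131 fin_piece132
theorem fin_upto133 : allLt (finRow tabs ptabs 1610022) 95676 = true :=
  allLt_extend _ 94962 714 95676 rfl fin_upto132 fin_piece133
theorem fin_upto134 : allLt (finRow tabs ptabs 1610022) 96390 = true :=
  allLt_extend _ 95676 714 96390 rfl fin_upto133 fin_piece134
theorem fin_upto135 : allLt (finRow tabs ptabs 1610022) 97104 = true :=
  allLt_extend _ 96390 714 97104 rfl fin_upto134 fin_piece135
theorem fin_upto136 : allLt (finRow tabs ptabs 1610022) 97818 = true :=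
  allLt_extend _ 97104 714 97818 rfl fin_upto135 fin_piece136
theorem fin_upto137 : allLt (finRow tabs ptabs 1610022) 98532 = true :=
  allLt_extend _ 97818 714 98532 rfl fin_upto136 fin_piece137
theorem fin_upto138 : allLt (finRow tabs ptabs 1610022) 99246 = true :=
  allLt_extend _ 98532 714 99246 rfl fin_upto137 fin_piece138
theorem fin_upto139 : allLt (finRow tabs ptabs 1610022) 99960 = true :=
  allLt_extend _ 99246 714 99960 rfl fin_upto138 fin_piece139
theorem fin_upto140 : allLt (finRow tabs ptabs 1610022) 100674 = true :=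
  allLt_extend _ 99960 714 100674 rfl fin_upto139 fin_piece140
theorem fin_upto141 : allLt (finRow tabs ptabs 1610022) 101388 = true :=
  allLt_extend _ 100674 714 101388 rfl fin_upto140 fin_piece141
theorem fin_upto142 : allLt (finRow tabs ptabs 1610022) 102102 = true :=
  allLt_extend _ 101388 714 102102 rfl fin_upto141 fin_piece142
theorem fin_upto143 : allLt (finRow tabs ptabs 1610022) 102816 = true :=
  allLt_extend _ 102102 714 102816 rfl fin_upto142 fin_piece143
theorem fin_upto144 : allLt (finRow tabs ptabs 1610022) 103530 = true :=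
  allLt_extend _ 102816 714 103530 rfl fin_upto143 fin_piece144
theorem fin_upto145 : allLt (finRow tabs ptabs 1610022) 104244 = true :=
  allLt_extend _ 103530 714 104244 rfl fin_upto144 fin_piece145
theorem fin_upto146 : allLt (finRow tabs ptabs 1610022) 104958 = true :=
  allLt_extend _ 104244 714 104958 rfl fin_upto145 fin_piece146
theorem fin_upto147 : allLt (finRow tabs ptabs 1610022) 105672 = true :=
  allLt_extend _ 104958 714 105672 rfl fin_upto146 fin_piece147
theorem fin_upto148 : allLt (finRow tabs ptabs 1610022) 106386 = true :=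
  allLt_extend _ 105672 714 106386 rfl fin_upto147 fin_piece148
theorem fin_upto149 : allLt (finRow tabs ptabs 1610022) 107100 = true :=
  allLt_extend _ 106386 714 107100 rfl fin_upto148 fin_piece149
theorem fin_upto150 : allLt (finRow tabs ptabs 1610022) 107814 = true :=
  allLt_extend _ 107100 714 107814 rfl fin_upto149 fin_piece150
theorem fin_upto151 : allLt (finRow tabs ptabs 1610022) 108528 = true :=
  allLt_extend _ 107814 714 108528 rfl fin_upto150 fin_piece151
theorem fin_upto152 : allLt (finRow tabs ptabs 1610022) 109242 = true :=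
  allLt_extend _ 108528 714 109242 rfl fin_upto151 fin_piece152
theorem fin_upto153 : allLt (finRow tabs ptabs 1610022) 109956 = true :=
  allLt_extend _ 109242 714 109956 rfl fin_upto152 fin_piece153
theorem fin_upto154 : allLt (finRow tabs ptabs 1610022) 110670 = true :=
  allLt_extend _ 109956 714 110670 rfl fin_upto153 fin_piece154
theorem fin_upto155 : allLt (finRow tabs ptabs 1610022) 111384 = true :=
  allLt_extend _ 110670 714 111384 rfl fin_upto154 fin_piece155
theorem fin_upto156 : allLt (finRow tabs ptabs 1610022) 112098 = true :=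
  allLt_extend _ 111384 714 112098 rfl fin_upto155 fin_piece156
theorem fin_upto157 : allLt (finRow tabs ptabs 1610022) 112812 = true :=
  allLt_extend _ 112098 714 112812 rfl fin_upto156 fin_piece157
theorem fin_upto158 : allLt (finRow tabs ptabs 1610022) 113526 = true :=
  allLt_extend _ 112812 714 113526 rfl fin_upto157 fin_piece158
theorem fin_upto159 : allLt (finRow tabs ptabs 1610022) 114240 = true :=
  allLt_extend _ 113526 714 114240 rfl fin_upto158 fin_piece159
theorem fin_upto160 : allLt (finRow tabs ptabs 1610022) 114954 = true :=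
  allLt_extend _ 114240 714 114954 rfl fin_upto159 fin_piece160
theorem fin_upto161 : allLt (finRow tabs ptabs 1610022) 115668 = true :=
  allLt_extend _ 114954 714 115668 rfl fin_upto160 fin_piece161
theorem fin_upto162 : allLt (finRow tabs ptabs 1610022) 116382 = true :=
  allLt_extend _ 115668 714 116382 rfl fin_upto161 fin_piece162
theorem fin_upto163 : allLt (finRow tabs ptabs 1610022) 117096 = true :=
  allLt_extend _ 116382 714 117096 rfl fin_upto162 fin_piece163
theorem fin_upto164 : allLt (finRow tabs ptabs 1610022) 117810 = true :=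
  allLt_extend _ 117096 714 117810 rfl fin_upto163 fin_piece164
theorem fin_upto165 : allLt (finRow tabs ptabs 1610022) 118524 = true :=
  allLt_extend _ 117810 714 118524 rfl fin_upto164 fin_piece165
theorem fin_upto166 : allLt (finRow tabs ptabs 1610022) 119238 = true :=
  allLt_extend _ 118524 714 119238 rfl fin_upto165 fin_piece166
theorem fin_upto167 : allLt (finRow tabs ptabs 1610022) 119952 = true :=
  allLt_extend _ 119238 714 119952 rfl fin_upto166 fin_piece167
theorem fin_upto168 : allLt (finRow tabs ptabs 1610022) 120666 = true :=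
  allLt_extend _ 119952 714 120666 rfl fin_upto167 fin_piece168
theorem fin_upto169 : allLt (finRow tabs ptabs 1610022) 121380 = true :=
  allLt_extend _ 120666 714 121380 rfl fin_upto168 fin_piece169
theorem fin_upto170 : allLt (finRow tabs ptabs 1610022) 122094 = true :=
  allLt_extend _ 121380 714 122094 rfl fin_upto169 fin_piece170
theorem fin_upto171 : allLt (finRow tabs ptabs 1610022) 122808 = true :=
  allLt_extend _ 122094 714 122808 rfl fin_upto170 fin_piece171
theorem fin_upto172 : allLt (finRow tabs ptabs 1610022) 123522 = true :=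
  allLt_extend _ 122808 714 123522 rfl fin_upto171 fin_piece172
theorem fin_upto173 : allLt (finRow tabs ptabs 1610022) 124236 = true :=
  allLt_extend _ 123522 714 124236 rfl fin_upto172 fin_piece173
theorem fin_upto174 : allLt (finRow tabs ptabs 1610022) 124950 = true :=
  allLt_extend _ 124236 714 124950 rfl fin_upto173 fin_piece174
theorem fin_upto175 : allLt (finRow tabs ptabs 1610022) 125664 = true :=
  allLt_extend _ 124950 714 125664 rfl fin_upto174 fin_piece175
theorem fin_upto176 : allLt (finRow tabs ptabs 1610022) 126378 = true :=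
  allLt_extend _ 125664 714 126378 rfl fin_upto175 fin_piece176
theorem fin_upto177 : allLt (finRow tabs ptabs 1610022) 127092 = true :=
  allLt_extend _ 126378 714 127092 rfl fin_upto176 fin_piece177
theorem fin_upto178 : allLt (finRow tabs ptabs 1610022) 127806 = true :=
  allLt_extend _ 127092 714 127806 rfl fin_upto177 fin_piece178
theorem fin_upto179 : allLt (finRow tabs ptabs 1610022) 128520 = true :=
  allLt_extend _ 127806 714 128520 rfl fin_upto178 fin_piece179
theorem fin_upto180 : allLt (finRow tabs ptabs 1610022) 129234 = true :=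
  allLt_extend _ 128520 714 129234 rfl fin_upto179 fin_piece180
theorem fin_upto181 : allLt (finRow tabs ptabs 1610022) 129948 = true :=
  allLt_extend _ 129234 714 129948 rfl fin_upto180 fin_piece181
theorem fin_upto182 : allLt (finRow tabs ptabs 1610022) 130662 = true :=
  allLt_extend _ 129948 714 130662 rfl fin_upto181 fin_piece182
theorem fin_upto183 : allLt (finRow tabs ptabs 1610022) 131376 = true :=
  allLt_extend _ 130662 714 131376 rfl fin_upto182 fin_piece183
theorem fin_upto184 : allLt (finRow tabs ptabs 1610022) 132090 = true :=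
  allLt_extend _ 131376 714 132090 rfl fin_upto183 fin_piece184
theorem fin_upto185 : allLt (finRow tabs ptabs 1610022) 132804 = true :=
  allLt_extend _ 132090 714 132804 rfl fin_upto184 fin_piece185
theorem fin_upto186 : allLt (finRow tabs ptabs 1610022) 133518 = true :=
  allLt_extend _ 132804 714 133518 rfl fin_upto185 fin_piece186
theorem fin_upto187 : allLt (finRow tabs ptabs 1610022) 134232 = true :=
  allLt_extend _ 133518 714 134232 rfl fin_upto186 fin_piece187
theorem fin_upto188 : allLt (finRow tabs ptabs 1610022) 134946 = true :=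
  allLt_extend _ 134232 714 134946 rfl fin_upto187 fin_piece188
theorem fin_upto189 : allLt (finRow tabs ptabs 1610022) 135660 = true :=
  allLt_extend _ 134946 714 135660 rfl fin_upto188 fin_piece189
theorem fin_upto190 : allLt (finRow tabs ptabs 1610022) 136374 = true :=
  allLt_extend _ 135660 714 136374 rfl fin_upto189 fin_piece190
theorem fin_upto191 : allLt (finRow tabs ptabs 1610022) 137088 = true :=
  allLt_extend _ 136374 714 137088 rfl fin_upto190 fin_piece191
theorem fin_upto192 : allLt (finRow tabs ptabs 1610022) 137802 = true :=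
  allLt_extend _ 137088 714 137802 rfl fin_upto191 fin_piece192
theorem fin_upto193 : allLt (finRow tabs ptabs 1610022) 138516 = true :=
  allLt_extend _ 137802 714 138516 rfl fin_upto192 fin_piece193
theorem fin_upto194 : allLt (finRow tabs ptabs 1610022) 139230 = true :=
  allLt_extend _ 138516 714 139230 rfl fin_upto193 fin_piece194
theorem fin_upto195 : allLt (finRow tabs ptabs 1610022) 139944 = true :=
  allLt_extend _ 139230 714 139944 rfl fin_upto194 fin_piece195
theorem fin_upto196 : allLt (finRow tabs ptabs 1610022) 140658 = true :=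
  allLt_extend _ 139944 714 140658 rfl fin_upto195 fin_piece196
theorem fin_upto197 : allLt (finRow tabs ptabs 1610022) 141372 = true :=
  allLt_extend _ 140658 714 141372 rfl fin_upto196 fin_piece197
theorem fin_upto198 : allLt (finRow tabs ptabs 1610022) 142086 = true :=
  allLt_extend _ 141372 714 142086 rfl fin_upto197 fin_piece198
theorem fin_upto199 : allLt (finRow tabs ptabs 1610022) 142800 = true :=
  allLt_extend _ 142086 714 142800 rfl fin_upto198 fin_piece199
theorem fin_upto200 : allLt (finRow tabs ptabs 1610022) 143514 = true :=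
  allLt_extend _ 142800 714 143514 rfl fin_upto199 fin_piece200
theorem fin_upto201 : allLt (finRow tabs ptabs 1610022) 144228 = true :=
  allLt_extend _ 143514 714 144228 rfl fin_upto200 fin_piece201
theorem fin_upto202 : allLt (finRow tabs ptabs 1610022) 144942 = true :=
  allLt_extend _ 144228 714 144942 rfl fin_upto201 fin_piece202
theorem fin_upto203 : allLt (finRow tabs ptabs 1610022) 145656 = true :=
  allLt_extend _ 144942 714 145656 rfl fin_upto202 fin_piece203
theorem fin_upto204 : allLt (finRow tabs ptabs 1610022) 146370 = true :=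
  allLt_extend _ 145656 714 146370 rfl fin_upto203 fin_piece204
theorem fin_upto205 : allLt (finRow tabs ptabs 1610022) 147084 = true :=
  allLt_extend _ 146370 714 147084 rfl fin_upto204 fin_piece205
theorem fin_upto206 : allLt (finRow tabs ptabs 1610022) 147798 = true :=
  allLt_extend _ 147084 714 147798 rfl fin_upto205 fin_piece206
theorem fin_upto207 : allLt (finRow tabs ptabs 1610022) 148512 = true :=
  allLt_extend _ 147798 714 148512 rfl fin_upto206 fin_piece207
theorem fin_upto208 : allLt (finRow tabs ptabs 1610022) 149226 = true :=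
  allLt_extend _ 148512 714 149226 rfl fin_upto207 fin_piece208
theorem fin_upto209 : allLt (finRow tabs ptabs 1610022) 149940 = true :=
  allLt_extend _ 149226 714 149940 rfl fin_upto208 fin_piece209
theorem fin_upto210 : allLt (finRow tabs ptabs 1610022) 150654 = true :=
  allLt_extend _ 149940 714 150654 rfl fin_upto209 fin_piece210
theorem fin_upto211 : allLt (finRow tabs ptabs 1610022) 151368 = true :=
  allLt_extend _ 150654 714 151368 rfl fin_upto210 fin_piece211
theorem fin_upto212 : allLt (finRow tabs ptabs 1610022) 152082 = true :=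
  allLt_extend _ 151368 714 152082 rfl fin_upto211 fin_piece212
theorem fin_upto213 : allLt (finRow tabs ptabs 1610022) 152796 = true :=
  allLt_extend _ 152082 714 152796 rfl fin_upto212 fin_piece213
theorem fin_upto214 : allLt (finRow tabs ptabs 1610022) 153510 = true :=
  allLt_extend _ 152796 714 153510 rfl fin_upto213 fin_piece214
theorem fin_upto215 : allLt (finRow tabs ptabs 1610022) 154224 = true :=
  allLt_extend _ 153510 714 154224 rfl fin_upto214 fin_piece215
theorem fin_upto216 : allLt (finRow tabs ptabs 1610022) 154938 = true :=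
  allLt_extend _ 154224 714 154938 rfl fin_upto215 fin_piece216
theorem fin_upto217 : allLt (finRow tabs ptabs 1610022) 155652 = true :=
  allLt_extend _ 154938 714 155652 rfl fin_upto216 fin_piece217
theorem fin_upto218 : allLt (finRow tabs ptabs 1610022) 156366 = true :=
  allLt_extend _ 155652 714 156366 rfl fin_upto217 fin_piece218
theorem fin_upto219 : allLt (finRow tabs ptabs 1610022) 157080 = true :=
  allLt_extend _ 156366 714 157080 rfl fin_upto218 fin_piece219
theorem fin_upto220 : allLt (finRow tabs ptabs 1610022) 157794 = true :=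
  allLt_extend _ 157080 714 157794 rfl fin_upto219 fin_piece220
theorem fin_upto221 : allLt (finRow tabs ptabs 1610022) 158508 = true :=
  allLt_extend _ 157794 714 158508 rfl fin_upto220 fin_piece221
theorem fin_upto222 : allLt (finRow tabs ptabs 1610022) 159222 = true :=
  allLt_extend _ 158508 714 159222 rfl fin_upto221 fin_piece222
theorem fin_upto223 : allLt (finRow tabs ptabs 1610022) 159936 = true :=
  allLt_extend _ 159222 714 159936 rfl fin_upto222 fin_piece223
theorem fin_upto224 : allLt (finRow tabs ptabs 1610022) 160650 = true :=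
  allLt_extend _ 159936 714 160650 rfl fin_upto223 fin_piece224
theorem fin_upto225 : allLt (finRow tabs ptabs 1610022) 161364 = true :=
  allLt_extend _ 160650 714 161364 rfl fin_upto224 fin_piece225
theorem fin_upto226 : allLt (finRow tabs ptabs 1610022) 162078 = true :=
  allLt_extend _ 161364 714 162078 rfl fin_upto225 fin_piece226
theorem fin_upto227 : allLt (finRow tabs ptabs 1610022) 162792 = true :=
  allLt_extend _ 162078 714 162792 rfl fin_upto226 fin_piece227
theorem fin_upto228 : allLt (finRow tabs ptabs 1610022) 163506 = true :=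
  allLt_extend _ 162792 714 163506 rfl fin_upto227 fin_piece228
theorem fin_upto229 : allLt (finRow tabs ptabs 1610022) 164220 = true :=
  allLt_extend _ 163506 714 164220 rfl fin_upto228 fin_piece229
theorem fin_upto230 : allLt (finRow tabs ptabs 1610022) 164934 = true :=
  allLt_extend _ 164220 714 164934 rfl fin_upto229 fin_piece230
theorem fin_upto231 : allLt (finRow tabs ptabs 1610022) 165648 = true :=
  allLt_extend _ 164934 714 165648 rfl fin_upto230 fin_piece231
theorem fin_upto232 : allLt (finRow tabs ptabs 1610022) 166362 = true :=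
  allLt_extend _ 165648 714 166362 rfl fin_upto231 fin_piece232
theorem fin_upto233 : allLt (finRow tabs ptabs 1610022) 167076 = true :=
  allLt_extend _ 166362 714 167076 rfl fin_upto232 fin_piece233
theorem fin_upto234 : allLt (finRow tabs ptabs 1610022) 167790 = true :=
  allLt_extend _ 167076 714 167790 rfl fin_upto233 fin_piece234
theorem fin_upto235 : allLt (finRow tabs ptabs 1610022) 168504 = true :=
  allLt_extend _ 167790 714 168504 rfl fin_upto234 fin_piece235
theorem fin_upto236 : allLt (finRow tabs ptabs 1610022) 169218 = true :=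
  allLt_extend _ 168504 714 169218 rfl fin_upto235 fin_piece236
theorem fin_upto237 : allLt (finRow tabs ptabs 1610022) 169932 = true :=
  allLt_extend _ 169218 714 169932 rfl fin_upto236 fin_piece237
theorem fin_upto238 : allLt (finRow tabs ptabs 1610022) 170646 = true :=
  allLt_extend _ 169932 714 170646 rfl fin_upto237 fin_piece238
theorem fin_upto239 : allLt (finRow tabs ptabs 1610022) 171360 = true :=
  allLt_extend _ 170646 714 171360 rfl fin_upto238 fin_piece239
theorem fin_upto240 : allLt (finRow tabs ptabs 1610022) 172074 = true :=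
  allLt_extend _ 171360 714 172074 rfl fin_upto239 fin_piece240
theorem fin_upto241 : allLt (finRow tabs ptabs 1610022) 172788 = true :=
  allLt_extend _ 172074 714 172788 rfl fin_upto240 fin_piece241
theorem fin_upto242 : allLt (finRow tabs ptabs 1610022) 173502 = true :=
  allLt_extend _ 172788 714 173502 rfl fin_upto241 fin_piece242
theorem fin_upto243 : allLt (finRow tabs ptabs 1610022) 174216 = true :=
  allLt_extend _ 173502 714 174216 rfl fin_upto242 fin_piece243
theorem fin_upto244 : allLt (finRow tabs ptabs 1610022) 174930 = true :=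
  allLt_extend _ 174216 714 174930 rfl fin_upto243 fin_piece244
theorem fin_upto245 : allLt (finRow tabs ptabs 1610022) 175644 = true :=
  allLt_extend _ 174930 714 175644 rfl fin_upto244 fin_piece245
theorem fin_upto246 : allLt (finRow tabs ptabs 1610022) 176358 = true :=
  allLt_extend _ 175644 714 176358 rfl fin_upto245 fin_piece246
theorem fin_upto247 : allLt (finRow tabs ptabs 1610022) 177072 = true :=
  allLt_extend _ 176358 714 177072 rfl fin_upto246 fin_piece247
theorem fin_upto248 : allLt (finRow tabs ptabs 1610022) 177786 = true :=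
  allLt_extend _ 177072 714 177786 rfl fin_upto247 fin_piece248
theorem fin_upto249 : allLt (finRow tabs ptabs 1610022) 178500 = true :=
  allLt_extend _ 177786 714 178500 rfl fin_upto248 fin_piece249
theorem fin_upto250 : allLt (finRow tabs ptabs 1610022) 179214 = true :=
  allLt_extend _ 178500 714 179214 rfl fin_upto249 fin_piece250
theorem fin_upto251 : allLt (finRow tabs ptabs 1610022) 179928 = true :=
  allLt_extend _ 179214 714 179928 rfl fin_upto250 fin_piece251
theorem fin_upto252 : allLt (finRow tabs ptabs 1610022) 180642 = true :=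
  allLt_extend _ 179928 714 180642 rfl fin_upto251 fin_piece252
theorem fin_upto253 : allLt (finRow tabs ptabs 1610022) 181356 = true :=
  allLt_extend _ 180642 714 181356 rfl fin_upto252 fin_piece253
theorem fin_upto254 : allLt (finRow tabs ptabs 1610022) 182070 = true :=
  allLt_extend _ 181356 714 182070 rfl fin_upto253 fin_piece254
theorem fin_upto255 : allLt (finRow tabs ptabs 1610022) 182784 = true :=
  allLt_extend _ 182070 714 182784 rfl fin_upto254 fin_piece255
theorem fin_upto256 : allLt (finRow tabs ptabs 1610022) 183498 = true :=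
  allLt_extend _ 182784 714 183498 rfl fin_upto255 fin_piece256
theorem fin_upto257 : allLt (finRow tabs ptabs 1610022) 184212 = true :=
  allLt_extend _ 183498 714 184212 rfl fin_upto256 fin_piece257
theorem fin_upto258 : allLt (finRow tabs ptabs 1610022) 184926 = true :=
  allLt_extend _ 184212 714 184926 rfl fin_upto257 fin_piece258
theorem fin_upto259 : allLt (finRow tabs ptabs 1610022) 185640 = true :=
  allLt_extend _ 184926 714 185640 rfl fin_upto258 fin_piece259
theorem fin_upto260 : allLt (finRow tabs ptabs 1610022) 186354 = true :=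
  allLt_extend _ 185640 714 186354 rfl fin_upto259 fin_piece260
theorem fin_upto261 : allLt (finRow tabs ptabs 1610022) 187068 = true :=
  allLt_extend _ 186354 714 187068 rfl fin_upto260 fin_piece261
theorem fin_upto262 : allLt (finRow tabs ptabs 1610022) 187782 = true :=
  allLt_extend _ 187068 714 187782 rfl fin_upto261 fin_piece262
theorem fin_upto263 : allLt (finRow tabs ptabs 1610022) 188496 = true :=
  allLt_extend _ 187782 714 188496 rfl fin_upto262 fin_piece263
theorem fin_upto264 : allLt (finRow tabs ptabs 1610022) 189210 = true :=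
  allLt_extend _ 188496 714 189210 rfl fin_upto263 fin_piece264
theorem fin_upto265 : allLt (finRow tabs ptabs 1610022) 189924 = true :=
  allLt_extend _ 189210 714 189924 rfl fin_upto264 fin_piece265
theorem fin_upto266 : allLt (finRow tabs ptabs 1610022) 190638 = true :=
  allLt_extend _ 189924 714 190638 rfl fin_upto265 fin_piece266
theorem fin_upto267 : allLt (finRow tabs ptabs 1610022) 191352 = true :=
  allLt_extend _ 190638 714 191352 rfl fin_upto266 fin_piece267
theorem fin_upto268 : allLt (finRow tabs ptabs 1610022) 192066 = true :=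
  allLt_extend _ 191352 714 192066 rfl fin_upto267 fin_piece268
theorem fin_upto269 : allLt (finRow tabs ptabs 1610022) 192780 = true :=
  allLt_extend _ 192066 714 192780 rfl fin_upto268 fin_piece269
theorem fin_upto270 : allLt (finRow tabs ptabs 1610022) 193494 = true :=
  allLt_extend _ 192780 714 193494 rfl fin_upto269 fin_piece270
theorem fin_upto271 : allLt (finRow tabs ptabs 1610022) 194208 = true :=
  allLt_extend _ 193494 714 194208 rfl fin_upto270 fin_piece271
theorem fin_upto272 : allLt (finRow tabs ptabs 1610022) 194922 = true :=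
  allLt_extend _ 194208 714 194922 rfl fin_upto271 fin_piece272
theorem fin_upto273 : allLt (finRow tabs ptabs 1610022) 195636 = true :=
  allLt_extend _ 194922 714 195636 rfl fin_upto272 fin_piece273
theorem fin_upto274 : allLt (finRow tabs ptabs 1610022) 196350 = true :=
  allLt_extend _ 195636 714 196350 rfl fin_upto273 fin_piece274
theorem fin_upto275 : allLt (finRow tabs ptabs 1610022) 197064 = true :=
  allLt_extend _ 196350 714 197064 rfl fin_upto274 fin_piece275
theorem fin_upto276 : allLt (finRow tabs ptabs 1610022) 197778 = true :=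
  allLt_extend _ 197064 714 197778 rfl fin_upto275 fin_piece276
theorem fin_upto277 : allLt (finRow tabs ptabs 1610022) 198492 = true :=
  allLt_extend _ 197778 714 198492 rfl fin_upto276 fin_piece277
theorem fin_upto278 : allLt (finRow tabs ptabs 1610022) 199206 = true :=
  allLt_extend _ 198492 714 199206 rfl fin_upto277 fin_piece278
theorem fin_upto279 : allLt (finRow tabs ptabs 1610022) 199920 = true :=
  allLt_extend _ 199206 714 199920 rfl fin_upto278 fin_piece279
theorem fin_upto280 : allLt (finRow tabs ptabs 1610022) 200634 = true :=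
  allLt_extend _ 199920 714 200634 rfl fin_upto279 fin_piece280
theorem fin_upto281 : allLt (finRow tabs ptabs 1610022) 201348 = true :=
  allLt_extend _ 200634 714 201348 rfl fin_upto280 fin_piece281
theorem fin_upto282 : allLt (finRow tabs ptabs 1610022) 202062 = true :=
  allLt_extend _ 201348 714 202062 rfl fin_upto281 fin_piece282
theorem fin_upto283 : allLt (finRow tabs ptabs 1610022) 202776 = true :=
  allLt_extend _ 202062 714 202776 rfl fin_upto282 fin_piece283
theorem fin_upto284 : allLt (finRow tabs ptabs 1610022) 203490 = true :=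
  allLt_extend _ 202776 714 203490 rfl fin_upto283 fin_piece284
theorem fin_upto285 : allLt (finRow tabs ptabs 1610022) 204204 = true :=
  allLt_extend _ 203490 714 204204 rfl fin_upto284 fin_piece285
theorem fin_upto286 : allLt (finRow tabs ptabs 1610022) 204918 = true :=
  allLt_extend _ 204204 714 204918 rfl fin_upto285 fin_piece286
theorem fin_upto287 : allLt (finRow tabs ptabs 1610022) 205632 = true :=
  allLt_extend _ 204918 714 205632 rfl fin_upto286 fin_piece287
theorem fin_upto288 : allLt (finRow tabs ptabs 1610022) 206346 = true :=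
  allLt_extend _ 205632 714 206346 rfl fin_upto287 fin_piece288
theorem fin_upto289 : allLt (finRow tabs ptabs 1610022) 207060 = true :=
  allLt_extend _ 206346 714 207060 rfl fin_upto288 fin_piece289
theorem fin_upto290 : allLt (finRow tabs ptabs 1610022) 207774 = true :=
  allLt_extend _ 207060 714 207774 rfl fin_upto289 fin_piece290
theorem fin_upto291 : allLt (finRow tabs ptabs 1610022) 208488 = true :=
  allLt_extend _ 207774 714 208488 rfl fin_upto290 fin_piece291
theorem fin_upto292 : allLt (finRow tabs ptabs 1610022) 209202 = true :=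
  allLt_extend _ 208488 714 209202 rfl fin_upto291 fin_piece292
theorem fin_upto293 : allLt (finRow tabs ptabs 1610022) 209916 = true :=
  allLt_extend _ 209202 714 209916 rfl fin_upto292 fin_piece293
theorem fin_upto294 : allLt (finRow tabs ptabs 1610022) 210630 = true :=
  allLt_extend _ 209916 714 210630 rfl fin_upto293 fin_piece294
theorem fin_upto295 : allLt (finRow tabs ptabs 1610022) 211344 = true :=
  allLt_extend _ 210630 714 211344 rfl fin_upto294 fin_piece295
theorem fin_upto296 : allLt (finRow tabs ptabs 1610022) 212058 = true :=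
  allLt_extend _ 211344 714 212058 rfl fin_upto295 fin_piece296
theorem fin_upto297 : allLt (finRow tabs ptabs 1610022) 212772 = true :=
  allLt_extend _ 212058 714 212772 rfl fin_upto296 fin_piece297
theorem fin_upto298 : allLt (finRow tabs ptabs 1610022) 213486 = true :=
  allLt_extend _ 212772 714 213486 rfl fin_upto297 fin_piece298
theorem fin_upto299 : allLt (finRow tabs ptabs 1610022) 214200 = true :=
  allLt_extend _ 213486 714 214200 rfl fin_upto298 fin_piece299
theorem fin_upto300 : allLt (finRow tabs ptabs 1610022) 214914 = true :=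
  allLt_extend _ 214200 714 214914 rfl fin_upto299 fin_piece300
theorem fin_upto301 : allLt (finRow tabs ptabs 1610022) 215628 = true :=
  allLt_extend _ 214914 714 215628 rfl fin_upto300 fin_piece301
theorem fin_upto302 : allLt (finRow tabs ptabs 1610022) 216342 = true :=
  allLt_extend _ 215628 714 216342 rfl fin_upto301 fin_piece302
theorem fin_upto303 : allLt (finRow tabs ptabs 1610022) 217056 = true :=
  allLt_extend _ 216342 714 217056 rfl fin_upto302 fin_piece303
theorem fin_upto304 : allLt (finRow tabs ptabs 1610022) 217770 = true :=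
  allLt_extend _ 217056 714 217770 rfl fin_upto303 fin_piece304
theorem fin_upto305 : allLt (finRow tabs ptabs 1610022) 218484 = true :=
  allLt_extend _ 217770 714 218484 rfl fin_upto304 fin_piece305
theorem fin_upto306 : allLt (finRow tabs ptabs 1610022) 219198 = true :=
  allLt_extend _ 218484 714 219198 rfl fin_upto305 fin_piece306
theorem fin_upto307 : allLt (finRow tabs ptabs 1610022) 219912 = true :=
  allLt_extend _ 219198 714 219912 rfl fin_upto306 fin_piece307
theorem fin_upto308 : allLt (finRow tabs ptabs 1610022) 220626 = true :=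
  allLt_extend _ 219912 714 220626 rfl fin_upto307 fin_piece308
theorem fin_upto309 : allLt (finRow tabs ptabs 1610022) 221340 = true :=
  allLt_extend _ 220626 714 221340 rfl fin_upto308 fin_piece309
theorem fin_upto310 : allLt (finRow tabs ptabs 1610022) 222054 = true :=
  allLt_extend _ 221340 714 222054 rfl fin_upto309 fin_piece310
theorem fin_upto311 : allLt (finRow tabs ptabs 1610022) 222768 = true :=
  allLt_extend _ 222054 714 222768 rfl fin_upto310 fin_piece311
theorem fin_upto312 : allLt (finRow tabs ptabs 1610022) 223482 = true :=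
  allLt_extend _ 222768 714 223482 rfl fin_upto311 fin_piece312
theorem fin_upto313 : allLt (finRow tabs ptabs 1610022) 224196 = true :=
  allLt_extend _ 223482 714 224196 rfl fin_upto312 fin_piece313
theorem fin_upto314 : allLt (finRow tabs ptabs 1610022) 224910 = true :=
  allLt_extend _ 224196 714 224910 rfl fin_upto313 fin_piece314
theorem fin_upto315 : allLt (finRow tabs ptabs 1610022) 225624 = true :=
  allLt_extend _ 224910 714 225624 rfl fin_upto314 fin_piece315
theorem fin_upto316 : allLt (finRow tabs ptabs 1610022) 226338 = true :=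
  allLt_extend _ 225624 714 226338 rfl fin_upto315 fin_piece316
theorem fin_upto317 : allLt (finRow tabs ptabs 1610022) 227052 = true :=
  allLt_extend _ 226338 714 227052 rfl fin_upto316 fin_piece317
theorem fin_upto318 : allLt (finRow tabs ptabs 1610022) 227766 = true :=
  allLt_extend _ 227052 714 227766 rfl fin_upto317 fin_piece318
theorem fin_upto319 : allLt (finRow tabs ptabs 1610022) 228480 = true :=
  allLt_extend _ 227766 714 228480 rfl fin_upto318 fin_piece319
theorem fin_upto320 : allLt (finRow tabs ptabs 1610022) 229194 = true :=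
  allLt_extend _ 228480 714 229194 rfl fin_upto319 fin_piece320
theorem fin_upto321 : allLt (finRow tabs ptabs 1610022) 229908 = true :=
  allLt_extend _ 229194 714 229908 rfl fin_upto320 fin_piece321
theorem fin_upto322 : allLt (finRow tabs ptabs 1610022) 230622 = true :=
  allLt_extend _ 229908 714 230622 rfl fin_upto321 fin_piece322
theorem fin_upto323 : allLt (finRow tabs ptabs 1610022) 231336 = true :=
  allLt_extend _ 230622 714 231336 rfl fin_upto322 fin_piece323
theorem fin_upto324 : allLt (finRow tabs ptabs 1610022) 232050 = true :=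
  allLt_extend _ 231336 714 232050 rfl fin_upto323 fin_piece324
theorem fin_upto325 : allLt (finRow tabs ptabs 1610022) 232764 = true :=
  allLt_extend _ 232050 714 232764 rfl fin_upto324 fin_piece325
theorem fin_upto326 : allLt (finRow tabs ptabs 1610022) 233478 = true :=
  allLt_extend _ 232764 714 233478 rfl fin_upto325 fin_piece326
theorem fin_upto327 : allLt (finRow tabs ptabs 1610022) 234192 = true :=
  allLt_extend _ 233478 714 234192 rfl fin_upto326 fin_piece327
theorem fin_upto328 : allLt (finRow tabs ptabs 1610022) 234906 = true :=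
  allLt_extend _ 234192 714 234906 rfl fin_upto327 fin_piece328
theorem fin_upto329 : allLt (finRow tabs ptabs 1610022) 235620 = true :=
  allLt_extend _ 234906 714 235620 rfl fin_upto328 fin_piece329
theorem fin_upto330 : allLt (finRow tabs ptabs 1610022) 236334 = true :=
  allLt_extend _ 235620 714 236334 rfl fin_upto329 fin_piece330
theorem fin_upto331 : allLt (finRow tabs ptabs 1610022) 237048 = true :=
  allLt_extend _ 236334 714 237048 rfl fin_upto330 fin_piece331
theorem fin_upto332 : allLt (finRow tabs ptabs 1610022) 237762 = true :=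
  allLt_extend _ 237048 714 237762 rfl fin_upto331 fin_piece332
theorem fin_upto333 : allLt (finRow tabs ptabs 1610022) 238476 = true :=
  allLt_extend _ 237762 714 238476 rfl fin_upto332 fin_piece333
theorem fin_upto334 : allLt (finRow tabs ptabs 1610022) 239190 = true :=
  allLt_extend _ 238476 714 239190 rfl fin_upto333 fin_piece334
theorem fin_upto335 : allLt (finRow tabs ptabs 1610022) 239904 = true :=
  allLt_extend _ 239190 714 239904 rfl fin_upto334 fin_piece335
theorem fin_upto336 : allLt (finRow tabs ptabs 1610022) 240618 = true :=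
  allLt_extend _ 239904 714 240618 rfl fin_upto335 fin_piece336
theorem fin_upto337 : allLt (finRow tabs ptabs 1610022) 241332 = true :=
  allLt_extend _ 240618 714 241332 rfl fin_upto336 fin_piece337
theorem fin_upto338 : allLt (finRow tabs ptabs 1610022) 242046 = true :=
  allLt_extend _ 241332 714 242046 rfl fin_upto337 fin_piece338
theorem fin_upto339 : allLt (finRow tabs ptabs 1610022) 242760 = true :=
  allLt_extend _ 242046 714 242760 rfl fin_upto338 fin_piece339
theorem fin_upto340 : allLt (finRow tabs ptabs 1610022) 243474 = true :=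
  allLt_extend _ 242760 714 243474 rfl fin_upto339 fin_piece340
theorem fin_upto341 : allLt (finRow tabs ptabs 1610022) 244188 = true :=
  allLt_extend _ 243474 714 244188 rfl fin_upto340 fin_piece341
theorem fin_upto342 : allLt (finRow tabs ptabs 1610022) 244902 = true :=
  allLt_extend _ 244188 714 244902 rfl fin_upto341 fin_piece342
theorem fin_upto343 : allLt (finRow tabs ptabs 1610022) 245616 = true :=
  allLt_extend _ 244902 714 245616 rfl fin_upto342 fin_piece343
theorem fin_upto344 : allLt (finRow tabs ptabs 1610022) 246330 = true :=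
  allLt_extend _ 245616 714 246330 rfl fin_upto343 fin_piece344
theorem fin_upto345 : allLt (finRow tabs ptabs 1610022) 247044 = true :=
  allLt_extend _ 246330 714 247044 rfl fin_upto344 fin_piece345
theorem fin_upto346 : allLt (finRow tabs ptabs 1610022) 247758 = true :=
  allLt_extend _ 247044 714 247758 rfl fin_upto345 fin_piece346
theorem fin_upto347 : allLt (finRow tabs ptabs 1610022) 248472 = true :=
  allLt_extend _ 247758 714 248472 rfl fin_upto346 fin_piece347
theorem fin_upto348 : allLt (finRow tabs ptabs 1610022) 249186 = true :=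
  allLt_extend _ 248472 714 249186 rfl fin_upto347 fin_piece348
theorem fin_upto349 : allLt (finRow tabs ptabs 1610022) 249900 = true :=
  allLt_extend _ 249186 714 249900 rfl fin_upto348 fin_piece349
theorem fin_upto350 : allLt (finRow tabs ptabs 1610022) 250614 = true :=
  allLt_extend _ 249900 714 250614 rfl fin_upto349 fin_piece350
theorem fin_upto351 : allLt (finRow tabs ptabs 1610022) 251328 = true :=
  allLt_extend _ 250614 714 251328 rfl fin_upto350 fin_piece351
theorem fin_upto352 : allLt (finRow tabs ptabs 1610022) 252042 = true :=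
  allLt_extend _ 251328 714 252042 rfl fin_upto351 fin_piece352
theorem fin_upto353 : allLt (finRow tabs ptabs 1610022) 252756 = true :=
  allLt_extend _ 252042 714 252756 rfl fin_upto352 fin_piece353
theorem fin_upto354 : allLt (finRow tabs ptabs 1610022) 253470 = true :=
  allLt_extend _ 252756 714 253470 rfl fin_upto353 fin_piece354
theorem fin_upto355 : allLt (finRow tabs ptabs 1610022) 254184 = true :=
  allLt_extend _ 253470 714 254184 rfl fin_upto354 fin_piece355
theorem fin_upto356 : allLt (finRow tabs ptabs 1610022) 254898 = true :=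
  allLt_extend _ 254184 714 254898 rfl fin_upto355 fin_piece356
theorem fin_upto357 : allLt (finRow tabs ptabs 1610022) 255612 = true :=
  allLt_extend _ 254898 714 255612 rfl fin_upto356 fin_piece357
theorem fin_upto358 : allLt (finRow tabs ptabs 1610022) 256326 = true :=
  allLt_extend _ 255612 714 256326 rfl fin_upto357 fin_piece358
theorem fin_upto359 : allLt (finRow tabs ptabs 1610022) 257040 = true :=
  allLt_extend _ 256326 714 257040 rfl fin_upto358 fin_piece359
theorem fin_upto360 : allLt (finRow tabs ptabs 1610022) 257754 = true :=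
  allLt_extend _ 257040 714 257754 rfl fin_upto359 fin_piece360
theorem fin_upto361 : allLt (finRow tabs ptabs 1610022) 258468 = true :=
  allLt_extend _ 257754 714 258468 rfl fin_upto360 fin_piece361
theorem fin_upto362 : allLt (finRow tabs ptabs 1610022) 259182 = true :=
  allLt_extend _ 258468 714 259182 rfl fin_upto361 fin_piece362
theorem fin_upto363 : allLt (finRow tabs ptabs 1610022) 259896 = true :=
  allLt_extend _ 259182 714 259896 rfl fin_upto362 fin_piece363
theorem fin_upto364 : allLt (finRow tabs ptabs 1610022) 260610 = true :=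
  allLt_extend _ 259896 714 260610 rfl fin_upto363 fin_piece364
theorem fin_upto365 : allLt (finRow tabs ptabs 1610022) 261324 = true :=
  allLt_extend _ 260610 714 261324 rfl fin_upto364 fin_piece365
theorem fin_upto366 : allLt (finRow tabs ptabs 1610022) 262038 = true :=
  allLt_extend _ 261324 714 262038 rfl fin_upto365 fin_piece366
theorem fin_upto367 : allLt (finRow tabs ptabs 1610022) 262752 = true :=
  allLt_extend _ 262038 714 262752 rfl fin_upto366 fin_piece367
theorem fin_upto368 : allLt (finRow tabs ptabs 1610022) 263466 = true :=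
  allLt_extend _ 262752 714 263466 rfl fin_upto367 fin_piece368
theorem fin_upto369 : allLt (finRow tabs ptabs 1610022) 264180 = true :=
  allLt_extend _ 263466 714 264180 rfl fin_upto368 fin_piece369
theorem fin_upto370 : allLt (finRow tabs ptabs 1610022) 264894 = true :=
  allLt_extend _ 264180 714 264894 rfl fin_upto369 fin_piece370
theorem fin_upto371 : allLt (finRow tabs ptabs 1610022) 265608 = true :=
  allLt_extend _ 264894 714 265608 rfl fin_upto370 fin_piece371
theorem fin_upto372 : allLt (finRow tabs ptabs 1610022) 266322 = true :=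
  allLt_extend _ 265608 714 266322 rfl fin_upto371 fin_piece372
theorem fin_upto373 : allLt (finRow tabs ptabs 1610022) 266560 = true :=
  allLt_extend _ 266322 238 266560 rfl fin_upto372 fin_piece373
theorem fin_ok : checkFin tabs ptabs 1610022 = true := (checkFin_eq tabs ptabs 1610022).trans fin_upto373
theorem inv_upto0 : allLt (invRow ptabs) 2857 = true :=
  allLt_extend _ 0 2857 2857 rfl (allLt_zero _) inv_piece0
theorem inv_upto1 : allLt (invRow ptabs) 5714 = true :=
  allLt_extend _ 2857 2857 5714 rfl inv_upto0 inv_piece1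
theorem inv_upto2 : allLt (invRow ptabs) 8571 = true :=
  allLt_extend _ 5714 2857 8571 rfl inv_upto1 inv_piece2
theorem inv_upto3 : allLt (invRow ptabs) 11428 = true :=
  allLt_extend _ 8571 2857 11428 rfl inv_upto2 inv_piece3
theorem inv_upto4 : allLt (invRow ptabs) 14285 = true :=
  allLt_extend _ 11428 2857 14285 rfl inv_upto3 inv_piece4
theorem inv_upto5 : allLt (invRow ptabs) 17142 = true :=
  allLt_extend _ 14285 2857 17142 rfl inv_upto4 inv_piece5
theorem inv_upto6 : allLt (invRow ptabs) 19999 = true :=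
  allLt_extend _ 17142 2857 19999 rfl inv_upto5 inv_piece6
theorem inv_upto7 : allLt (invRow ptabs) 22856 = true :=
  allLt_extend _ 19999 2857 22856 rfl inv_upto6 inv_piece7
theorem inv_upto8 : allLt (invRow ptabs) 25713 = true :=
  allLt_extend _ 22856 2857 25713 rfl inv_upto7 inv_piece8
theorem inv_upto9 : allLt (invRow ptabs) 28570 = true :=
  allLt_extend _ 25713 2857 28570 rfl inv_upto8 inv_piece9
theorem inv_upto10 : allLt (invRow ptabs) 31427 = true :=
  allLt_extend _ 28570 2857 31427 rfl inv_upto9 inv_piece10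
theorem inv_upto11 : allLt (invRow ptabs) 34284 = true :=
  allLt_extend _ 31427 2857 34284 rfl inv_upto10 inv_piece11
theorem inv_upto12 : allLt (invRow ptabs) 37141 = true :=
  allLt_extend _ 34284 2857 37141 rfl inv_upto11 inv_piece12
theorem inv_upto13 : allLt (invRow ptabs) 39998 = true :=
  allLt_extend _ 37141 2857 39998 rfl inv_upto12 inv_piece13
theorem inv_upto14 : allLt (invRow ptabs) 42855 = true :=
  allLt_extend _ 39998 2857 42855 rfl inv_upto13 inv_piece14
theorem inv_upto15 : allLt (invRow ptabs) 45712 = true :=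
  allLt_extend _ 42855 2857 45712 rfl inv_upto14 inv_piece15
theorem inv_upto16 : allLt (invRow ptabs) 48569 = true :=
  allLt_extend _ 45712 2857 48569 rfl inv_upto15 inv_piece16
theorem inv_upto17 : allLt (invRow ptabs) 51426 = true :=
  allLt_extend _ 48569 2857 51426 rfl inv_upto16 inv_piece17
theorem inv_upto18 : allLt (invRow ptabs) 54283 = true :=
  allLt_extend _ 51426 2857 54283 rfl inv_upto17 inv_piece18
theorem inv_upto19 : allLt (invRow ptabs) 57140 = true :=
  allLt_extend _ 54283 2857 57140 rfl inv_upto18 inv_piece19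
theorem inv_upto20 : allLt (invRow ptabs) 59997 = true :=
  allLt_extend _ 57140 2857 59997 rfl inv_upto19 inv_piece20
theorem inv_upto21 : allLt (invRow ptabs) 62854 = true :=
  allLt_extend _ 59997 2857 62854 rfl inv_upto20 inv_piece21
theorem inv_upto22 : allLt (invRow ptabs) 65711 = true :=
  allLt_extend _ 62854 2857 65711 rfl inv_upto21 inv_piece22
theorem inv_upto23 : allLt (invRow ptabs) 68568 = true :=
  allLt_extend _ 65711 2857 68568 rfl inv_upto22 inv_piece23
theorem inv_upto24 : allLt (invRow ptabs) 71425 = true :=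
  allLt_extend _ 68568 2857 71425 rfl inv_upto23 inv_piece24
theorem inv_upto25 : allLt (invRow ptabs) 74282 = true :=
  allLt_extend _ 71425 2857 74282 rfl inv_upto24 inv_piece25
theorem inv_upto26 : allLt (invRow ptabs) 77139 = true :=
  allLt_extend _ 74282 2857 77139 rfl inv_upto25 inv_piece26
theorem inv_upto27 : allLt (invRow ptabs) 79996 = true :=
  allLt_extend _ 77139 2857 79996 rfl inv_upto26 inv_piece27
theorem inv_upto28 : allLt (invRow ptabs) 82853 = true :=
  allLt_extend _ 79996 2857 82853 rfl inv_upto27 inv_piece28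
theorem inv_upto29 : allLt (invRow ptabs) 85710 = true :=
  allLt_extend _ 82853 2857 85710 rfl inv_upto28 inv_piece29
theorem inv_upto30 : allLt (invRow ptabs) 88567 = true :=
  allLt_extend _ 85710 2857 88567 rfl inv_upto29 inv_piece30
theorem inv_upto31 : allLt (invRow ptabs) 91424 = true :=
  allLt_extend _ 88567 2857 91424 rfl inv_upto30 inv_piece31
theorem inv_upto32 : allLt (invRow ptabs) 94281 = true :=
  allLt_extend _ 91424 2857 94281 rfl inv_upto31 inv_piece32
theorem inv_upto33 : allLt (invRow ptabs) 97138 = true :=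
  allLt_extend _ 94281 2857 97138 rfl inv_upto32 inv_piece33
theorem inv_upto34 : allLt (invRow ptabs) 99995 = true :=
  allLt_extend _ 97138 2857 99995 rfl inv_upto33 inv_piece34
theorem inv_upto35 : allLt (invRow ptabs) 102852 = true :=
  allLt_extend _ 99995 2857 102852 rfl inv_upto34 inv_piece35
theorem inv_upto36 : allLt (invRow ptabs) 105709 = true :=
  allLt_extend _ 102852 2857 105709 rfl inv_upto35 inv_piece36
theorem inv_upto37 : allLt (invRow ptabs) 108566 = true :=
  allLt_extend _ 105709 2857 108566 rfl inv_upto36 inv_piece37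
theorem inv_upto38 : allLt (invRow ptabs) 111423 = true :=
  allLt_extend _ 108566 2857 111423 rfl inv_upto37 inv_piece38
theorem inv_upto39 : allLt (invRow ptabs) 114280 = true :=
  allLt_extend _ 111423 2857 114280 rfl inv_upto38 inv_piece39
theorem inv_upto40 : allLt (invRow ptabs) 117137 = true :=
  allLt_extend _ 114280 2857 117137 rfl inv_upto39 inv_piece40
theorem inv_upto41 : allLt (invRow ptabs) 119994 = true :=
  allLt_extend _ 117137 2857 119994 rfl inv_upto40 inv_piece41
theorem inv_upto42 : allLt (invRow ptabs) 122851 = true :=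
  allLt_extend _ 119994 2857 122851 rfl inv_upto41 inv_piece42
theorem inv_upto43 : allLt (invRow ptabs) 125708 = true :=
  allLt_extend _ 122851 2857 125708 rfl inv_upto42 inv_piece43
theorem inv_upto44 : allLt (invRow ptabs) 128565 = true :=
  allLt_extend _ 125708 2857 128565 rfl inv_upto43 inv_piece44
theorem inv_upto45 : allLt (invRow ptabs) 131422 = true :=
  allLt_extend _ 128565 2857 131422 rfl inv_upto44 inv_piece45
theorem inv_upto46 : allLt (invRow ptabs) 134279 = true :=
  allLt_extend _ 131422 2857 134279 rfl inv_upto45 inv_piece46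
theorem inv_upto47 : allLt (invRow ptabs) 137136 = true :=
  allLt_extend _ 134279 2857 137136 rfl inv_upto46 inv_piece47
theorem inv_upto48 : allLt (invRow ptabs) 139993 = true :=
  allLt_extend _ 137136 2857 139993 rfl inv_upto47 inv_piece48
theorem inv_upto49 : allLt (invRow ptabs) 142850 = true :=
  allLt_extend _ 139993 2857 142850 rfl inv_upto48 inv_piece49
theorem inv_upto50 : allLt (invRow ptabs) 145707 = true :=
  allLt_extend _ 142850 2857 145707 rfl inv_upto49 inv_piece50
theorem inv_upto51 : allLt (invRow ptabs) 148564 = true :=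
  allLt_extend _ 145707 2857 148564 rfl inv_upto50 inv_piece51
theorem inv_upto52 : allLt (invRow ptabs) 151421 = true :=
  allLt_extend _ 148564 2857 151421 rfl inv_upto51 inv_piece52
theorem inv_upto53 : allLt (invRow ptabs) 154278 = true :=
  allLt_extend _ 151421 2857 154278 rfl inv_upto52 inv_piece53
theorem inv_upto54 : allLt (invRow ptabs) 157135 = true :=
  allLt_extend _ 154278 2857 157135 rfl inv_upto53 inv_piece54
theorem inv_upto55 : allLt (invRow ptabs) 159992 = true :=
  allLt_extend _ 157135 2857 159992 rfl inv_upto54 inv_piece55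
theorem inv_upto56 : allLt (invRow ptabs) 162849 = true :=
  allLt_extend _ 159992 2857 162849 rfl inv_upto55 inv_piece56
theorem inv_upto57 : allLt (invRow ptabs) 165706 = true :=
  allLt_extend _ 162849 2857 165706 rfl inv_upto56 inv_piece57
theorem inv_upto58 : allLt (invRow ptabs) 168563 = true :=
  allLt_extend _ 165706 2857 168563 rfl inv_upto57 inv_piece58
theorem inv_upto59 : allLt (invRow ptabs) 171420 = true :=
  allLt_extend _ 168563 2857 171420 rfl inv_upto58 inv_piece59
theorem inv_upto60 : allLt (invRow ptabs) 174277 = true :=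
  allLt_extend _ 171420 2857 174277 rfl inv_upto59 inv_piece60
theorem inv_upto61 : allLt (invRow ptabs) 177134 = true :=
  allLt_extend _ 174277 2857 177134 rfl inv_upto60 inv_piece61
theorem inv_upto62 : allLt (invRow ptabs) 179991 = true :=
  allLt_extend _ 177134 2857 179991 rfl inv_upto61 inv_piece62
theorem inv_upto63 : allLt (invRow ptabs) 182848 = true :=
  allLt_extend _ 179991 2857 182848 rfl inv_upto62 inv_piece63
theorem inv_upto64 : allLt (invRow ptabs) 185705 = true :=
  allLt_extend _ 182848 2857 185705 rfl inv_upto63 inv_piece64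
theorem inv_upto65 : allLt (invRow ptabs) 188562 = true :=
  allLt_extend _ 185705 2857 188562 rfl inv_upto64 inv_piece65
theorem inv_upto66 : allLt (invRow ptabs) 191419 = true :=
  allLt_extend _ 188562 2857 191419 rfl inv_upto65 inv_piece66
theorem inv_upto67 : allLt (invRow ptabs) 194276 = true :=
  allLt_extend _ 191419 2857 194276 rfl inv_upto66 inv_piece67
theorem inv_upto68 : allLt (invRow ptabs) 197133 = true :=
  allLt_extend _ 194276 2857 197133 rfl inv_upto67 inv_piece68
theorem inv_upto69 : allLt (invRow ptabs) 199990 = true :=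
  allLt_extend _ 197133 2857 199990 rfl inv_upto68 inv_piece69
theorem inv_upto70 : allLt (invRow ptabs) 202847 = true :=
  allLt_extend _ 199990 2857 202847 rfl inv_upto69 inv_piece70
theorem inv_upto71 : allLt (invRow ptabs) 205704 = true :=
  allLt_extend _ 202847 2857 205704 rfl inv_upto70 inv_piece71
theorem inv_upto72 : allLt (invRow ptabs) 208561 = true :=
  allLt_extend _ 205704 2857 208561 rfl inv_upto71 inv_piece72
theorem inv_upto73 : allLt (invRow ptabs) 211418 = true :=
  allLt_extend _ 208561 2857 211418 rfl inv_upto72 inv_piece73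
theorem inv_upto74 : allLt (invRow ptabs) 214275 = true :=
  allLt_extend _ 211418 2857 214275 rfl inv_upto73 inv_piece74
theorem inv_upto75 : allLt (invRow ptabs) 217132 = true :=
  allLt_extend _ 214275 2857 217132 rfl inv_upto74 inv_piece75
theorem inv_upto76 : allLt (invRow ptabs) 219989 = true :=
  allLt_extend _ 217132 2857 219989 rfl inv_upto75 inv_piece76
theorem inv_upto77 : allLt (invRow ptabs) 222846 = true :=
  allLt_extend _ 219989 2857 222846 rfl inv_upto76 inv_piece77
theorem inv_upto78 : allLt (invRow ptabs) 225703 = true :=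
  allLt_extend _ 222846 2857 225703 rfl inv_upto77 inv_piece78
theorem inv_upto79 : allLt (invRow ptabs) 228560 = true :=
  allLt_extend _ 225703 2857 228560 rfl inv_upto78 inv_piece79
theorem inv_upto80 : allLt (invRow ptabs) 231417 = true :=
  allLt_extend _ 228560 2857 231417 rfl inv_upto79 inv_piece80
theorem inv_upto81 : allLt (invRow ptabs) 234274 = true :=
  allLt_extend _ 231417 2857 234274 rfl inv_upto80 inv_piece81
theorem inv_upto82 : allLt (invRow ptabs) 237131 = true :=
  allLt_extend _ 234274 2857 237131 rfl inv_upto81 inv_piece82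
theorem inv_upto83 : allLt (invRow ptabs) 239988 = true :=
  allLt_extend _ 237131 2857 239988 rfl inv_upto82 inv_piece83
theorem inv_upto84 : allLt (invRow ptabs) 242845 = true :=
  allLt_extend _ 239988 2857 242845 rfl inv_upto83 inv_piece84
theorem inv_upto85 : allLt (invRow ptabs) 245702 = true :=
  allLt_extend _ 242845 2857 245702 rfl inv_upto84 inv_piece85
theorem inv_upto86 : allLt (invRow ptabs) 248559 = true :=
  allLt_extend _ 245702 2857 248559 rfl inv_upto85 inv_piece86
theorem inv_upto87 : allLt (invRow ptabs) 251416 = true :=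
  allLt_extend _ 248559 2857 251416 rfl inv_upto86 inv_piece87
theorem inv_upto88 : allLt (invRow ptabs) 254273 = true :=
  allLt_extend _ 251416 2857 254273 rfl inv_upto87 inv_piece88
theorem inv_upto89 : allLt (invRow ptabs) 257130 = true :=
  allLt_extend _ 254273 2857 257130 rfl inv_upto88 inv_piece89
theorem inv_upto90 : allLt (invRow ptabs) 259987 = true :=
  allLt_extend _ 257130 2857 259987 rfl inv_upto89 inv_piece90
theorem inv_upto91 : allLt (invRow ptabs) 262844 = true :=
  allLt_extend _ 259987 2857 262844 rfl inv_upto90 inv_piece91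
theorem inv_upto92 : allLt (invRow ptabs) 265701 = true :=
  allLt_extend _ 262844 2857 265701 rfl inv_upto91 inv_piece92
theorem inv_upto93 : allLt (invRow ptabs) 266560 = true :=
  allLt_extend _ 265701 859 266560 rfl inv_upto92 inv_piece93
theorem inv_ok : invOk ptabs = true := (invOk_eq ptabs).trans inv_upto93
theorem defs_upto0 : allLt (defOk tabs) 66666 = true :=
  allLt_extend _ 0 66666 66666 rfl (allLt_zero _) defs_piece0
theorem defs_upto1 : allLt (defOk tabs) 133332 = true :=
  allLt_extend _ 66666 66666 133332 rfl defs_upto0 defs_piece1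
theorem defs_upto2 : allLt (defOk tabs) 199998 = true :=
  allLt_extend _ 133332 66666 199998 rfl defs_upto1 defs_piece2
theorem defs_upto3 : allLt (defOk tabs) 266664 = true :=
  allLt_extend _ 199998 66666 266664 rfl defs_upto2 defs_piece3
theorem defs_upto4 : allLt (defOk tabs) 268982 = true :=
  allLt_extend _ 266664 2318 268982 rfl defs_upto3 defs_piece4
theorem defs_ok : checkDefs tabs = true := (checkDefs_eq tabs).trans defs_upto4
theorem par_upto0 : allLt (parRow ptabs) 53333 = true :=
  allLt_extend _ 0 53333 53333 rfl (allLt_zero _) par_piece0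
theorem par_upto1 : allLt (parRow ptabs) 106666 = true :=
  allLt_extend _ 53333 53333 106666 rfl par_upto0 par_piece1
theorem par_upto2 : allLt (parRow ptabs) 159999 = true :=
  allLt_extend _ 106666 53333 159999 rfl par_upto1 par_piece2
theorem par_upto3 : allLt (parRow ptabs) 213332 = true :=
  allLt_extend _ 159999 53333 213332 rfl par_upto2 par_piece3
theorem par_upto4 : allLt (parRow ptabs) 266560 = true :=
  allLt_extend _ 213332 53228 266560 rfl par_upto3 par_piece4
theorem par_ok : parOk ptabs = true := (parOk_eq ptabs).trans par_upto4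
theorem perm_g0_upto0 : TraceFix ptabs.perm tabs.word 5 1 44444 :=
  traceFix_extendF _ _ letSel perm_eq 5 1 0 44444 44444 rfl (traceFix_zero _ _ 5 1) perm_piece_0_0
theorem perm_g0_upto1 : TraceFix ptabs.perm tabs.word 5 1 88888 :=
  traceFix_extendF _ _ letSel perm_eq 5 1 44444 44444 88888 rfl perm_g0_upto0 perm_piece_0_1
theorem perm_g0_upto2 : TraceFix ptabs.perm tabs.word 5 1 133332 :=
  traceFix_extendF _ _ letSel perm_eq 5 1 88888 44444 133332 rfl perm_g0_upto1 perm_piece_0_2
theorem perm_g0_upto3 : TraceFix ptabs.perm tabs.word 5 1 177776 :=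
  traceFix_extendF _ _ letSel perm_eq 5 1 133332 44444 177776 rfl perm_g0_upto2 perm_piece_0_3
theorem perm_g0_upto4 : TraceFix ptabs.perm tabs.word 5 1 222220 :=
  traceFix_extendF _ _ letSel perm_eq 5 1 177776 44444 222220 rfl perm_g0_upto3 perm_piece_0_4
theorem perm_g0_upto5 : TraceFix ptabs.perm tabs.word 5 1 266560 :=
  traceFix_extendF _ _ letSel perm_eq 5 1 222220 44340 266560 rfl perm_g0_upto4 perm_piece_0_5
theorem perm_g0_fix : TraceFix ptabs.perm tabs.word 5 1 ptabs.n := perm_g0_upto5
theorem perm_g0 : ∀ r, 5 ≤ r → r < 5 + 1 → relOk ptabs (tabs.word r) 0 ptabs.n = true :=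
  relOk_of_traceFix ptabs tabs.word 5 1 perm_g0_upto5
theorem perm_g1_upto0 : TraceFix ptabs.perm tabs.word 6 1 11111 :=
  traceFix_extendF _ _ letSel perm_eq 6 1 0 11111 11111 rfl (traceFix_zero _ _ 6 1) perm_piece_1_0
theorem perm_g1_upto1 : TraceFix ptabs.perm tabs.word 6 1 22222 :=
  traceFix_extendF _ _ letSel perm_eq 6 1 11111 11111 22222 rfl perm_g1_upto0 perm_piece_1_1
theorem perm_g1_upto2 : TraceFix ptabs.perm tabs.word 6 1 33333 :=
  traceFix_extendF _ _ letSel perm_eq 6 1 22222 11111 33333 rfl perm_g1_upto1 perm_piece_1_2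
theorem perm_g1_upto3 : TraceFix ptabs.perm tabs.word 6 1 44444 :=
  traceFix_extendF _ _ letSel perm_eq 6 1 33333 11111 44444 rfl perm_g1_upto2 perm_piece_1_3
theorem perm_g1_upto4 : TraceFix ptabs.perm tabs.word 6 1 55555 :=
  traceFix_extendF _ _ letSel perm_eq 6 1 44444 11111 55555 rfl perm_g1_upto3 perm_piece_1_4
theorem perm_g1_upto5 : TraceFix ptabs.perm tabs.word 6 1 66666 :=
  traceFix_extendF _ _ letSel perm_eq 6 1 55555 11111 66666 rfl perm_g1_upto4 perm_piece_1_5
theorem perm_g1_upto6 : TraceFix ptabs.perm tabs.word 6 1 77777 :=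
  traceFix_extendF _ _ letSel perm_eq 6 1 66666 11111 77777 rfl perm_g1_upto5 perm_piece_1_6
theorem perm_g1_upto7 : TraceFix ptabs.perm tabs.word 6 1 88888 :=
  traceFix_extendF _ _ letSel perm_eq 6 1 77777 11111 88888 rfl perm_g1_upto6 perm_piece_1_7
theorem perm_g1_upto8 : TraceFix ptabs.perm tabs.word 6 1 99999 :=
  traceFix_extendF _ _ letSel perm_eq 6 1 88888 11111 99999 rfl perm_g1_upto7 perm_piece_1_8
theorem perm_g1_upto9 : TraceFix ptabs.perm tabs.word 6 1 111110 :=
  traceFix_extendF _ _ letSel perm_eq 6 1 99999 11111 111110 rfl perm_g1_upto8 perm_piece_1_9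
theorem perm_g1_upto10 : TraceFix ptabs.perm tabs.word 6 1 122221 :=
  traceFix_extendF _ _ letSel perm_eq 6 1 111110 11111 122221 rfl perm_g1_upto9 perm_piece_1_10
theorem perm_g1_upto11 : TraceFix ptabs.perm tabs.word 6 1 133332 :=
  traceFix_extendF _ _ letSel perm_eq 6 1 122221 11111 133332 rfl perm_g1_upto10 perm_piece_1_11
theorem perm_g1_upto12 : TraceFix ptabs.perm tabs.word 6 1 144443 :=
  traceFix_extendF _ _ letSel perm_eq 6 1 133332 11111 144443 rfl perm_g1_upto11 perm_piece_1_12
theorem perm_g1_upto13 : TraceFix ptabs.perm tabs.word 6 1 155554 :=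
  traceFix_extendF _ _ letSel perm_eq 6 1 144443 11111 155554 rfl perm_g1_upto12 perm_piece_1_13
theorem perm_g1_upto14 : TraceFix ptabs.perm tabs.word 6 1 166665 :=
  traceFix_extendF _ _ letSel perm_eq 6 1 155554 11111 166665 rfl perm_g1_upto13 perm_piece_1_14
theorem perm_g1_upto15 : TraceFix ptabs.perm tabs.word 6 1 177776 :=
  traceFix_extendF _ _ letSel perm_eq 6 1 166665 11111 177776 rfl perm_g1_upto14 perm_piece_1_15
theorem perm_g1_upto16 : TraceFix ptabs.perm tabs.word 6 1 188887 :=
  traceFix_extendF _ _ letSel perm_eq 6 1 177776 11111 188887 rfl perm_g1_upto15 perm_piece_1_16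
theorem perm_g1_upto17 : TraceFix ptabs.perm tabs.word 6 1 199998 :=
  traceFix_extendF _ _ letSel perm_eq 6 1 188887 11111 199998 rfl perm_g1_upto16 perm_piece_1_17
theorem perm_g1_upto18 : TraceFix ptabs.perm tabs.word 6 1 211109 :=
  traceFix_extendF _ _ letSel perm_eq 6 1 199998 11111 211109 rfl perm_g1_upto17 perm_piece_1_18
theorem perm_g1_upto19 : TraceFix ptabs.perm tabs.word 6 1 222220 :=
  traceFix_extendF _ _ letSel perm_eq 6 1 211109 11111 222220 rfl perm_g1_upto18 perm_piece_1_19
theorem perm_g1_upto20 : TraceFix ptabs.perm tabs.word 6 1 233331 :=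
  traceFix_extendF _ _ letSel perm_eq 6 1 222220 11111 233331 rfl perm_g1_upto19 perm_piece_1_20
theorem perm_g1_upto21 : TraceFix ptabs.perm tabs.word 6 1 244442 :=
  traceFix_extendF _ _ letSel perm_eq 6 1 233331 11111 244442 rfl perm_g1_upto20 perm_piece_1_21
theorem perm_g1_upto22 : TraceFix ptabs.perm tabs.word 6 1 255553 :=
  traceFix_extendF _ _ letSel perm_eq 6 1 244442 11111 255553 rfl perm_g1_upto21 perm_piece_1_22
theorem perm_g1_upto23 : TraceFix ptabs.perm tabs.word 6 1 266560 :=
  traceFix_extendF _ _ letSel perm_eq 6 1 255553 11007 266560 rfl perm_g1_upto22 perm_piece_1_23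
theorem perm_g1_fix : TraceFix ptabs.perm tabs.word 6 1 ptabs.n := perm_g1_upto23
theorem perm_g1 : ∀ r, 6 ≤ r → r < 6 + 1 → relOk ptabs (tabs.word r) 0 ptabs.n = true :=
  relOk_of_traceFix ptabs tabs.word 6 1 perm_g1_upto23
theorem perm_g2_upto0 : TraceFix ptabs.perm tabs.word 7 1 22222 :=
  traceFix_extendF _ _ letSel perm_eq 7 1 0 22222 22222 rfl (traceFix_zero _ _ 7 1) perm_piece_2_0
theorem perm_g2_upto1 : TraceFix ptabs.perm tabs.word 7 1 44444 :=
  traceFix_extendF _ _ letSel perm_eq 7 1 22222 22222 44444 rfl perm_g2_upto0 perm_piece_2_1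
theorem perm_g2_upto2 : TraceFix ptabs.perm tabs.word 7 1 66666 :=
  traceFix_extendF _ _ letSel perm_eq 7 1 44444 22222 66666 rfl perm_g2_upto1 perm_piece_2_2
theorem perm_g2_upto3 : TraceFix ptabs.perm tabs.word 7 1 88888 :=
  traceFix_extendF _ _ letSel perm_eq 7 1 66666 22222 88888 rfl perm_g2_upto2 perm_piece_2_3
theorem perm_g2_upto4 : TraceFix ptabs.perm tabs.word 7 1 111110 :=
  traceFix_extendF _ _ letSel perm_eq 7 1 88888 22222 111110 rfl perm_g2_upto3 perm_piece_2_4
theorem perm_g2_upto5 : TraceFix ptabs.perm tabs.word 7 1 133332 :=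
  traceFix_extendF _ _ letSel perm_eq 7 1 111110 22222 133332 rfl perm_g2_upto4 perm_piece_2_5
theorem perm_g2_upto6 : TraceFix ptabs.perm tabs.word 7 1 155554 :=
  traceFix_extendF _ _ letSel perm_eq 7 1 133332 22222 155554 rfl perm_g2_upto5 perm_piece_2_6
theorem perm_g2_upto7 : TraceFix ptabs.perm tabs.word 7 1 177776 :=
  traceFix_extendF _ _ letSel perm_eq 7 1 155554 22222 177776 rfl perm_g2_upto6 perm_piece_2_7
theorem perm_g2_upto8 : TraceFix ptabs.perm tabs.word 7 1 199998 :=
  traceFix_extendF _ _ letSel perm_eq 7 1 177776 22222 199998 rfl perm_g2_upto7 perm_piece_2_8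
theorem perm_g2_upto9 : TraceFix ptabs.perm tabs.word 7 1 222220 :=
  traceFix_extendF _ _ letSel perm_eq 7 1 199998 22222 222220 rfl perm_g2_upto8 perm_piece_2_9
theorem perm_g2_upto10 : TraceFix ptabs.perm tabs.word 7 1 244442 :=
  traceFix_extendF _ _ letSel perm_eq 7 1 222220 22222 244442 rfl perm_g2_upto9 perm_piece_2_10
theorem perm_g2_upto11 : TraceFix ptabs.perm tabs.word 7 1 266560 :=
  traceFix_extendF _ _ letSel perm_eq 7 1 244442 22118 266560 rfl perm_g2_upto10 perm_piece_2_11
theorem perm_g2_fix : TraceFix ptabs.perm tabs.word 7 1 ptabs.n := perm_g2_upto11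
theorem perm_g2 : ∀ r, 7 ≤ r → r < 7 + 1 → relOk ptabs (tabs.word r) 0 ptabs.n = true :=
  relOk_of_traceFix ptabs tabs.word 7 1 perm_g2_upto11
theorem perm_g3_upto0 : TraceFix ptabs.perm tabs.word 8 1 22222 :=
  traceFix_extendF _ _ letSel perm_eq 8 1 0 22222 22222 rfl (traceFix_zero _ _ 8 1) perm_piece_3_0
theorem perm_g3_upto1 : TraceFix ptabs.perm tabs.word 8 1 44444 :=
  traceFix_extendF _ _ letSel perm_eq 8 1 22222 22222 44444 rfl perm_g3_upto0 perm_piece_3_1
theorem perm_g3_upto2 : TraceFix ptabs.perm tabs.word 8 1 66666 :=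
  traceFix_extendF _ _ letSel perm_eq 8 1 44444 22222 66666 rfl perm_g3_upto1 perm_piece_3_2
theorem perm_g3_upto3 : TraceFix ptabs.perm tabs.word 8 1 88888 :=
  traceFix_extendF _ _ letSel perm_eq 8 1 66666 22222 88888 rfl perm_g3_upto2 perm_piece_3_3
theorem perm_g3_upto4 : TraceFix ptabs.perm tabs.word 8 1 111110 :=
  traceFix_extendF _ _ letSel perm_eq 8 1 88888 22222 111110 rfl perm_g3_upto3 perm_piece_3_4
theorem perm_g3_upto5 : TraceFix ptabs.perm tabs.word 8 1 133332 :=
  traceFix_extendF _ _ letSel perm_eq 8 1 111110 22222 133332 rfl perm_g3_upto4 perm_piece_3_5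
theorem perm_g3_upto6 : TraceFix ptabs.perm tabs.word 8 1 155554 :=
  traceFix_extendF _ _ letSel perm_eq 8 1 133332 22222 155554 rfl perm_g3_upto5 perm_piece_3_6
theorem perm_g3_upto7 : TraceFix ptabs.perm tabs.word 8 1 177776 :=
  traceFix_extendF _ _ letSel perm_eq 8 1 155554 22222 177776 rfl perm_g3_upto6 perm_piece_3_7
theorem perm_g3_upto8 : TraceFix ptabs.perm tabs.word 8 1 199998 :=
  traceFix_extendF _ _ letSel perm_eq 8 1 177776 22222 199998 rfl perm_g3_upto7 perm_piece_3_8
theorem perm_g3_upto9 : TraceFix ptabs.perm tabs.word 8 1 222220 :=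
  traceFix_extendF _ _ letSel perm_eq 8 1 199998 22222 222220 rfl perm_g3_upto8 perm_piece_3_9
theorem perm_g3_upto10 : TraceFix ptabs.perm tabs.word 8 1 244442 :=
  traceFix_extendF _ _ letSel perm_eq 8 1 222220 22222 244442 rfl perm_g3_upto9 perm_piece_3_10
theorem perm_g3_upto11 : TraceFix ptabs.perm tabs.word 8 1 266560 :=
  traceFix_extendF _ _ letSel perm_eq 8 1 244442 22118 266560 rfl perm_g3_upto10 perm_piece_3_11
theorem perm_g3_fix : TraceFix ptabs.perm tabs.word 8 1 ptabs.n := perm_g3_upto11
theorem perm_g3 : ∀ r, 8 ≤ r → r < 8 + 1 → relOk ptabs (tabs.word r) 0 ptabs.n = true :=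
  relOk_of_traceFix ptabs tabs.word 8 1 perm_g3_upto11
theorem perm_g4_upto0 : TraceFix ptabs.perm tabs.word 9 1 22222 :=
  traceFix_extendF _ _ letSel perm_eq 9 1 0 22222 22222 rfl (traceFix_zero _ _ 9 1) perm_piece_4_0
theorem perm_g4_upto1 : TraceFix ptabs.perm tabs.word 9 1 44444 :=
  traceFix_extendF _ _ letSel perm_eq 9 1 22222 22222 44444 rfl perm_g4_upto0 perm_piece_4_1
theorem perm_g4_upto2 : TraceFix ptabs.perm tabs.word 9 1 66666 :=
  traceFix_extendF _ _ letSel perm_eq 9 1 44444 22222 66666 rfl perm_g4_upto1 perm_piece_4_2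
theorem perm_g4_upto3 : TraceFix ptabs.perm tabs.word 9 1 88888 :=
  traceFix_extendF _ _ letSel perm_eq 9 1 66666 22222 88888 rfl perm_g4_upto2 perm_piece_4_3
theorem perm_g4_upto4 : TraceFix ptabs.perm tabs.word 9 1 111110 :=
  traceFix_extendF _ _ letSel perm_eq 9 1 88888 22222 111110 rfl perm_g4_upto3 perm_piece_4_4
theorem perm_g4_upto5 : TraceFix ptabs.perm tabs.word 9 1 133332 :=
  traceFix_extendF _ _ letSel perm_eq 9 1 111110 22222 133332 rfl perm_g4_upto4 perm_piece_4_5
theorem perm_g4_upto6 : TraceFix ptabs.perm tabs.word 9 1 155554 :=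
  traceFix_extendF _ _ letSel perm_eq 9 1 133332 22222 155554 rfl perm_g4_upto5 perm_piece_4_6
theorem perm_g4_upto7 : TraceFix ptabs.perm tabs.word 9 1 177776 :=
  traceFix_extendF _ _ letSel perm_eq 9 1 155554 22222 177776 rfl perm_g4_upto6 perm_piece_4_7
theorem perm_g4_upto8 : TraceFix ptabs.perm tabs.word 9 1 199998 :=
  traceFix_extendF _ _ letSel perm_eq 9 1 177776 22222 199998 rfl perm_g4_upto7 perm_piece_4_8
theorem perm_g4_upto9 : TraceFix ptabs.perm tabs.word 9 1 222220 :=
  traceFix_extendF _ _ letSel perm_eq 9 1 199998 22222 222220 rfl perm_g4_upto8 perm_piece_4_9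
theorem perm_g4_upto10 : TraceFix ptabs.perm tabs.word 9 1 244442 :=
  traceFix_extendF _ _ letSel perm_eq 9 1 222220 22222 244442 rfl perm_g4_upto9 perm_piece_4_10
theorem perm_g4_upto11 : TraceFix ptabs.perm tabs.word 9 1 266560 :=
  traceFix_extendF _ _ letSel perm_eq 9 1 244442 22118 266560 rfl perm_g4_upto10 perm_piece_4_11
theorem perm_g4_fix : TraceFix ptabs.perm tabs.word 9 1 ptabs.n := perm_g4_upto11
theorem perm_g4 : ∀ r, 9 ≤ r → r < 9 + 1 → relOk ptabs (tabs.word r) 0 ptabs.n = true :=
  relOk_of_traceFix ptabs tabs.word 9 1 perm_g4_upto11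
theorem perm_g5_upto0 : TraceFix ptabs.perm tabs.word 10 1 22222 :=
  traceFix_extendF _ _ letSel perm_eq 10 1 0 22222 22222 rfl (traceFix_zero _ _ 10 1) perm_piece_5_0
theorem perm_g5_upto1 : TraceFix ptabs.perm tabs.word 10 1 44444 :=
  traceFix_extendF _ _ letSel perm_eq 10 1 22222 22222 44444 rfl perm_g5_upto0 perm_piece_5_1
theorem perm_g5_upto2 : TraceFix ptabs.perm tabs.word 10 1 66666 :=
  traceFix_extendF _ _ letSel perm_eq 10 1 44444 22222 66666 rfl perm_g5_upto1 perm_piece_5_2
theorem perm_g5_upto3 : TraceFix ptabs.perm tabs.word 10 1 88888 :=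
  traceFix_extendF _ _ letSel perm_eq 10 1 66666 22222 88888 rfl perm_g5_upto2 perm_piece_5_3
theorem perm_g5_upto4 : TraceFix ptabs.perm tabs.word 10 1 111110 :=
  traceFix_extendF _ _ letSel perm_eq 10 1 88888 22222 111110 rfl perm_g5_upto3 perm_piece_5_4
theorem perm_g5_upto5 : TraceFix ptabs.perm tabs.word 10 1 133332 :=
  traceFix_extendF _ _ letSel perm_eq 10 1 111110 22222 133332 rfl perm_g5_upto4 perm_piece_5_5
theorem perm_g5_upto6 : TraceFix ptabs.perm tabs.word 10 1 155554 :=
  traceFix_extendF _ _ letSel perm_eq 10 1 133332 22222 155554 rfl perm_g5_upto5 perm_piece_5_6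
theorem perm_g5_upto7 : TraceFix ptabs.perm tabs.word 10 1 177776 :=
  traceFix_extendF _ _ letSel perm_eq 10 1 155554 22222 177776 rfl perm_g5_upto6 perm_piece_5_7
theorem perm_g5_upto8 : TraceFix ptabs.perm tabs.word 10 1 199998 :=
  traceFix_extendF _ _ letSel perm_eq 10 1 177776 22222 199998 rfl perm_g5_upto7 perm_piece_5_8
theorem perm_g5_upto9 : TraceFix ptabs.perm tabs.word 10 1 222220 :=
  traceFix_extendF _ _ letSel perm_eq 10 1 199998 22222 222220 rfl perm_g5_upto8 perm_piece_5_9
theorem perm_g5_upto10 : TraceFix ptabs.perm tabs.word 10 1 244442 :=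
  traceFix_extendF _ _ letSel perm_eq 10 1 222220 22222 244442 rfl perm_g5_upto9 perm_piece_5_10
theorem perm_g5_upto11 : TraceFix ptabs.perm tabs.word 10 1 266560 :=
  traceFix_extendF _ _ letSel perm_eq 10 1 244442 22118 266560 rfl perm_g5_upto10 perm_piece_5_11
theorem perm_g5_fix : TraceFix ptabs.perm tabs.word 10 1 ptabs.n := perm_g5_upto11
theorem perm_g5 : ∀ r, 10 ≤ r → r < 10 + 1 → relOk ptabs (tabs.word r) 0 ptabs.n = true :=
  relOk_of_traceFix ptabs tabs.word 10 1 perm_g5_upto11
theorem perm_g6_upto0 : TraceFix ptabs.perm tabs.word 11 1 22222 :=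
  traceFix_extendF _ _ letSel perm_eq 11 1 0 22222 22222 rfl (traceFix_zero _ _ 11 1) perm_piece_6_0
theorem perm_g6_upto1 : TraceFix ptabs.perm tabs.word 11 1 44444 :=
  traceFix_extendF _ _ letSel perm_eq 11 1 22222 22222 44444 rfl perm_g6_upto0 perm_piece_6_1
theorem perm_g6_upto2 : TraceFix ptabs.perm tabs.word 11 1 66666 :=
  traceFix_extendF _ _ letSel perm_eq 11 1 44444 22222 66666 rfl perm_g6_upto1 perm_piece_6_2
theorem perm_g6_upto3 : TraceFix ptabs.perm tabs.word 11 1 88888 :=
  traceFix_extendF _ _ letSel perm_eq 11 1 66666 22222 88888 rfl perm_g6_upto2 perm_piece_6_3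
theorem perm_g6_upto4 : TraceFix ptabs.perm tabs.word 11 1 111110 :=
  traceFix_extendF _ _ letSel perm_eq 11 1 88888 22222 111110 rfl perm_g6_upto3 perm_piece_6_4
theorem perm_g6_upto5 : TraceFix ptabs.perm tabs.word 11 1 133332 :=
  traceFix_extendF _ _ letSel perm_eq 11 1 111110 22222 133332 rfl perm_g6_upto4 perm_piece_6_5
theorem perm_g6_upto6 : TraceFix ptabs.perm tabs.word 11 1 155554 :=
  traceFix_extendF _ _ letSel perm_eq 11 1 133332 22222 155554 rfl perm_g6_upto5 perm_piece_6_6
theorem perm_g6_upto7 : TraceFix ptabs.perm tabs.word 11 1 177776 :=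
  traceFix_extendF _ _ letSel perm_eq 11 1 155554 22222 177776 rfl perm_g6_upto6 perm_piece_6_7
theorem perm_g6_upto8 : TraceFix ptabs.perm tabs.word 11 1 199998 :=
  traceFix_extendF _ _ letSel perm_eq 11 1 177776 22222 199998 rfl perm_g6_upto7 perm_piece_6_8
theorem perm_g6_upto9 : TraceFix ptabs.perm tabs.word 11 1 222220 :=
  traceFix_extendF _ _ letSel perm_eq 11 1 199998 22222 222220 rfl perm_g6_upto8 perm_piece_6_9
theorem perm_g6_upto10 : TraceFix ptabs.perm tabs.word 11 1 244442 :=
  traceFix_extendF _ _ letSel perm_eq 11 1 222220 22222 244442 rfl perm_g6_upto9 perm_piece_6_10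
theorem perm_g6_upto11 : TraceFix ptabs.perm tabs.word 11 1 266560 :=
  traceFix_extendF _ _ letSel perm_eq 11 1 244442 22118 266560 rfl perm_g6_upto10 perm_piece_6_11
theorem perm_g6_fix : TraceFix ptabs.perm tabs.word 11 1 ptabs.n := perm_g6_upto11
theorem perm_g6 : ∀ r, 11 ≤ r → r < 11 + 1 → relOk ptabs (tabs.word r) 0 ptabs.n = true :=
  relOk_of_traceFix ptabs tabs.word 11 1 perm_g6_upto11
theorem perm_g7_upto0 : TraceFix ptabs.perm tabs.word 13 1 44444 :=
  traceFix_extendF _ _ letSel perm_eq 13 1 0 44444 44444 rfl (traceFix_zero _ _ 13 1) perm_piece_7_0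
theorem perm_g7_upto1 : TraceFix ptabs.perm tabs.word 13 1 88888 :=
  traceFix_extendF _ _ letSel perm_eq 13 1 44444 44444 88888 rfl perm_g7_upto0 perm_piece_7_1
theorem perm_g7_upto2 : TraceFix ptabs.perm tabs.word 13 1 133332 :=
  traceFix_extendF _ _ letSel perm_eq 13 1 88888 44444 133332 rfl perm_g7_upto1 perm_piece_7_2
theorem perm_g7_upto3 : TraceFix ptabs.perm tabs.word 13 1 177776 :=
  traceFix_extendF _ _ letSel perm_eq 13 1 133332 44444 177776 rfl perm_g7_upto2 perm_piece_7_3
theorem perm_g7_upto4 : TraceFix ptabs.perm tabs.word 13 1 222220 :=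
  traceFix_extendF _ _ letSel perm_eq 13 1 177776 44444 222220 rfl perm_g7_upto3 perm_piece_7_4
theorem perm_g7_upto5 : TraceFix ptabs.perm tabs.word 13 1 266560 :=
  traceFix_extendF _ _ letSel perm_eq 13 1 222220 44340 266560 rfl perm_g7_upto4 perm_piece_7_5
theorem perm_g7_fix : TraceFix ptabs.perm tabs.word 13 1 ptabs.n := perm_g7_upto5
theorem perm_g7 : ∀ r, 13 ≤ r → r < 13 + 1 → relOk ptabs (tabs.word r) 0 ptabs.n = true :=
  relOk_of_traceFix ptabs tabs.word 13 1 perm_g7_upto5
theorem perm_g8_upto0 : TraceFix ptabs.perm tabs.word 14 1 14814 :=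
  traceFix_extendF _ _ letSel perm_eq 14 1 0 14814 14814 rfl (traceFix_zero _ _ 14 1) perm_piece_8_0
theorem perm_g8_upto1 : TraceFix ptabs.perm tabs.word 14 1 29628 :=
  traceFix_extendF _ _ letSel perm_eq 14 1 14814 14814 29628 rfl perm_g8_upto0 perm_piece_8_1
theorem perm_g8_upto2 : TraceFix ptabs.perm tabs.word 14 1 44442 :=
  traceFix_extendF _ _ letSel perm_eq 14 1 29628 14814 44442 rfl perm_g8_upto1 perm_piece_8_2
theorem perm_g8_upto3 : TraceFix ptabs.perm tabs.word 14 1 59256 :=
  traceFix_extendF _ _ letSel perm_eq 14 1 44442 14814 59256 rfl perm_g8_upto2 perm_piece_8_3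
theorem perm_g8_upto4 : TraceFix ptabs.perm tabs.word 14 1 74070 :=
  traceFix_extendF _ _ letSel perm_eq 14 1 59256 14814 74070 rfl perm_g8_upto3 perm_piece_8_4
theorem perm_g8_upto5 : TraceFix ptabs.perm tabs.word 14 1 88884 :=
  traceFix_extendF _ _ letSel perm_eq 14 1 74070 14814 88884 rfl perm_g8_upto4 perm_piece_8_5
theorem perm_g8_upto6 : TraceFix ptabs.perm tabs.word 14 1 103698 :=
  traceFix_extendF _ _ letSel perm_eq 14 1 88884 14814 103698 rfl perm_g8_upto5 perm_piece_8_6
theorem perm_g8_upto7 : TraceFix ptabs.perm tabs.word 14 1 118512 :=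
  traceFix_extendF _ _ letSel perm_eq 14 1 103698 14814 118512 rfl perm_g8_upto6 perm_piece_8_7
theorem perm_g8_upto8 : TraceFix ptabs.perm tabs.word 14 1 133326 :=
  traceFix_extendF _ _ letSel perm_eq 14 1 118512 14814 133326 rfl perm_g8_upto7 perm_piece_8_8
theorem perm_g8_upto9 : TraceFix ptabs.perm tabs.word 14 1 148140 :=
  traceFix_extendF _ _ letSel perm_eq 14 1 133326 14814 148140 rfl perm_g8_upto8 perm_piece_8_9
theorem perm_g8_upto10 : TraceFix ptabs.perm tabs.word 14 1 162954 :=
  traceFix_extendF _ _ letSel perm_eq 14 1 148140 14814 162954 rfl perm_g8_upto9 perm_piece_8_10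
theorem perm_g8_upto11 : TraceFix ptabs.perm tabs.word 14 1 177768 :=
  traceFix_extendF _ _ letSel perm_eq 14 1 162954 14814 177768 rfl perm_g8_upto10 perm_piece_8_11
theorem perm_g8_upto12 : TraceFix ptabs.perm tabs.word 14 1 192582 :=
  traceFix_extendF _ _ letSel perm_eq 14 1 177768 14814 192582 rfl perm_g8_upto11 perm_piece_8_12
theorem perm_g8_upto13 : TraceFix ptabs.perm tabs.word 14 1 207396 :=
  traceFix_extendF _ _ letSel perm_eq 14 1 192582 14814 207396 rfl perm_g8_upto12 perm_piece_8_13
theorem perm_g8_upto14 : TraceFix ptabs.perm tabs.word 14 1 222210 :=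
  traceFix_extendF _ _ letSel perm_eq 14 1 207396 14814 222210 rfl perm_g8_upto13 perm_piece_8_14
theorem perm_g8_upto15 : TraceFix ptabs.perm tabs.word 14 1 237024 :=
  traceFix_extendF _ _ letSel perm_eq 14 1 222210 14814 237024 rfl perm_g8_upto14 perm_piece_8_15
theorem perm_g8_upto16 : TraceFix ptabs.perm tabs.word 14 1 251838 :=
  traceFix_extendF _ _ letSel perm_eq 14 1 237024 14814 251838 rfl perm_g8_upto15 perm_piece_8_16
theorem perm_g8_upto17 : TraceFix ptabs.perm tabs.word 14 1 266560 :=
  traceFix_extendF _ _ letSel perm_eq 14 1 251838 14722 266560 rfl perm_g8_upto16 perm_piece_8_17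
theorem perm_g8_fix : TraceFix ptabs.perm tabs.word 14 1 ptabs.n := perm_g8_upto17
theorem perm_g8 : ∀ r, 14 ≤ r → r < 14 + 1 → relOk ptabs (tabs.word r) 0 ptabs.n = true :=
  relOk_of_traceFix ptabs tabs.word 14 1 perm_g8_upto17
theorem perm_g9_upto0 : TraceFix ptabs.perm tabs.word 15 1 22222 :=
  traceFix_extendF _ _ letSel perm_eq 15 1 0 22222 22222 rfl (traceFix_zero _ _ 15 1) perm_piece_9_0
theorem perm_g9_upto1 : TraceFix ptabs.perm tabs.word 15 1 44444 :=
  traceFix_extendF _ _ letSel perm_eq 15 1 22222 22222 44444 rfl perm_g9_upto0 perm_piece_9_1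
theorem perm_g9_upto2 : TraceFix ptabs.perm tabs.word 15 1 66666 :=
  traceFix_extendF _ _ letSel perm_eq 15 1 44444 22222 66666 rfl perm_g9_upto1 perm_piece_9_2
theorem perm_g9_upto3 : TraceFix ptabs.perm tabs.word 15 1 88888 :=
  traceFix_extendF _ _ letSel perm_eq 15 1 66666 22222 88888 rfl perm_g9_upto2 perm_piece_9_3
theorem perm_g9_upto4 : TraceFix ptabs.perm tabs.word 15 1 111110 :=
  traceFix_extendF _ _ letSel perm_eq 15 1 88888 22222 111110 rfl perm_g9_upto3 perm_piece_9_4
theorem perm_g9_upto5 : TraceFix ptabs.perm tabs.word 15 1 133332 :=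
  traceFix_extendF _ _ letSel perm_eq 15 1 111110 22222 133332 rfl perm_g9_upto4 perm_piece_9_5
theorem perm_g9_upto6 : TraceFix ptabs.perm tabs.word 15 1 155554 :=
  traceFix_extendF _ _ letSel perm_eq 15 1 133332 22222 155554 rfl perm_g9_upto5 perm_piece_9_6
theorem perm_g9_upto7 : TraceFix ptabs.perm tabs.word 15 1 177776 :=
  traceFix_extendF _ _ letSel perm_eq 15 1 155554 22222 177776 rfl perm_g9_upto6 perm_piece_9_7
theorem perm_g9_upto8 : TraceFix ptabs.perm tabs.word 15 1 199998 :=
  traceFix_extendF _ _ letSel perm_eq 15 1 177776 22222 199998 rfl perm_g9_upto7 perm_piece_9_8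
theorem perm_g9_upto9 : TraceFix ptabs.perm tabs.word 15 1 222220 :=
  traceFix_extendF _ _ letSel perm_eq 15 1 199998 22222 222220 rfl perm_g9_upto8 perm_piece_9_9
theorem perm_g9_upto10 : TraceFix ptabs.perm tabs.word 15 1 244442 :=
  traceFix_extendF _ _ letSel perm_eq 15 1 222220 22222 244442 rfl perm_g9_upto9 perm_piece_9_10
theorem perm_g9_upto11 : TraceFix ptabs.perm tabs.word 15 1 266560 :=
  traceFix_extendF _ _ letSel perm_eq 15 1 244442 22118 266560 rfl perm_g9_upto10 perm_piece_9_11
theorem perm_g9_fix : TraceFix ptabs.perm tabs.word 15 1 ptabs.n := perm_g9_upto11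
theorem perm_g9 : ∀ r, 15 ≤ r → r < 15 + 1 → relOk ptabs (tabs.word r) 0 ptabs.n = true :=
  relOk_of_traceFix ptabs tabs.word 15 1 perm_g9_upto11
theorem perm_g10_upto0 : TraceFix ptabs.perm tabs.word 16 1 22222 :=
  traceFix_extendF _ _ letSel perm_eq 16 1 0 22222 22222 rfl (traceFix_zero _ _ 16 1) perm_piece_10_0
theorem perm_g10_upto1 : TraceFix ptabs.perm tabs.word 16 1 44444 :=
  traceFix_extendF _ _ letSel perm_eq 16 1 22222 22222 44444 rfl perm_g10_upto0 perm_piece_10_1
theorem perm_g10_upto2 : TraceFix ptabs.perm tabs.word 16 1 66666 :=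
  traceFix_extendF _ _ letSel perm_eq 16 1 44444 22222 66666 rfl perm_g10_upto1 perm_piece_10_2
theorem perm_g10_upto3 : TraceFix ptabs.perm tabs.word 16 1 88888 :=
  traceFix_extendF _ _ letSel perm_eq 16 1 66666 22222 88888 rfl perm_g10_upto2 perm_piece_10_3
theorem perm_g10_upto4 : TraceFix ptabs.perm tabs.word 16 1 111110 :=
  traceFix_extendF _ _ letSel perm_eq 16 1 88888 22222 111110 rfl perm_g10_upto3 perm_piece_10_4
theorem perm_g10_upto5 : TraceFix ptabs.perm tabs.word 16 1 133332 :=
  traceFix_extendF _ _ letSel perm_eq 16 1 111110 22222 133332 rfl perm_g10_upto4 perm_piece_10_5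
theorem perm_g10_upto6 : TraceFix ptabs.perm tabs.word 16 1 155554 :=
  traceFix_extendF _ _ letSel perm_eq 16 1 133332 22222 155554 rfl perm_g10_upto5 perm_piece_10_6
theorem perm_g10_upto7 : TraceFix ptabs.perm tabs.word 16 1 177776 :=
  traceFix_extendF _ _ letSel perm_eq 16 1 155554 22222 177776 rfl perm_g10_upto6 perm_piece_10_7
theorem perm_g10_upto8 : TraceFix ptabs.perm tabs.word 16 1 199998 :=
  traceFix_extendF _ _ letSel perm_eq 16 1 177776 22222 199998 rfl perm_g10_upto7 perm_piece_10_8
theorem perm_g10_upto9 : TraceFix ptabs.perm tabs.word 16 1 222220 :=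
  traceFix_extendF _ _ letSel perm_eq 16 1 199998 22222 222220 rfl perm_g10_upto8 perm_piece_10_9
theorem perm_g10_upto10 : TraceFix ptabs.perm tabs.word 16 1 244442 :=
  traceFix_extendF _ _ letSel perm_eq 16 1 222220 22222 244442 rfl perm_g10_upto9 perm_piece_10_10
theorem perm_g10_upto11 : TraceFix ptabs.perm tabs.word 16 1 266560 :=
  traceFix_extendF _ _ letSel perm_eq 16 1 244442 22118 266560 rfl perm_g10_upto10 perm_piece_10_11
theorem perm_g10_fix : TraceFix ptabs.perm tabs.word 16 1 ptabs.n := perm_g10_upto11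
theorem perm_g10 : ∀ r, 16 ≤ r → r < 16 + 1 → relOk ptabs (tabs.word r) 0 ptabs.n = true :=
  relOk_of_traceFix ptabs tabs.word 16 1 perm_g10_upto11
theorem perm_g11_upto0 : TraceFix ptabs.perm tabs.word 17 1 22222 :=
  traceFix_extendF _ _ letSel perm_eq 17 1 0 22222 22222 rfl (traceFix_zero _ _ 17 1) perm_piece_11_0
theorem perm_g11_upto1 : TraceFix ptabs.perm tabs.word 17 1 44444 :=
  traceFix_extendF _ _ letSel perm_eq 17 1 22222 22222 44444 rfl perm_g11_upto0 perm_piece_11_1
theorem perm_g11_upto2 : TraceFix ptabs.perm tabs.word 17 1 66666 :=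
  traceFix_extendF _ _ letSel perm_eq 17 1 44444 22222 66666 rfl perm_g11_upto1 perm_piece_11_2
theorem perm_g11_upto3 : TraceFix ptabs.perm tabs.word 17 1 88888 :=
  traceFix_extendF _ _ letSel perm_eq 17 1 66666 22222 88888 rfl perm_g11_upto2 perm_piece_11_3
theorem perm_g11_upto4 : TraceFix ptabs.perm tabs.word 17 1 111110 :=
  traceFix_extendF _ _ letSel perm_eq 17 1 88888 22222 111110 rfl perm_g11_upto3 perm_piece_11_4
theorem perm_g11_upto5 : TraceFix ptabs.perm tabs.word 17 1 133332 :=
  traceFix_extendF _ _ letSel perm_eq 17 1 111110 22222 133332 rfl perm_g11_upto4 perm_piece_11_5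
theorem perm_g11_upto6 : TraceFix ptabs.perm tabs.word 17 1 155554 :=
  traceFix_extendF _ _ letSel perm_eq 17 1 133332 22222 155554 rfl perm_g11_upto5 perm_piece_11_6
theorem perm_g11_upto7 : TraceFix ptabs.perm tabs.word 17 1 177776 :=
  traceFix_extendF _ _ letSel perm_eq 17 1 155554 22222 177776 rfl perm_g11_upto6 perm_piece_11_7
theorem perm_g11_upto8 : TraceFix ptabs.perm tabs.word 17 1 199998 :=
  traceFix_extendF _ _ letSel perm_eq 17 1 177776 22222 199998 rfl perm_g11_upto7 perm_piece_11_8
theorem perm_g11_upto9 : TraceFix ptabs.perm tabs.word 17 1 222220 :=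
  traceFix_extendF _ _ letSel perm_eq 17 1 199998 22222 222220 rfl perm_g11_upto8 perm_piece_11_9
theorem perm_g11_upto10 : TraceFix ptabs.perm tabs.word 17 1 244442 :=
  traceFix_extendF _ _ letSel perm_eq 17 1 222220 22222 244442 rfl perm_g11_upto9 perm_piece_11_10
theorem perm_g11_upto11 : TraceFix ptabs.perm tabs.word 17 1 266560 :=
  traceFix_extendF _ _ letSel perm_eq 17 1 244442 22118 266560 rfl perm_g11_upto10 perm_piece_11_11
theorem perm_g11_fix : TraceFix ptabs.perm tabs.word 17 1 ptabs.n := perm_g11_upto11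
theorem perm_g11 : ∀ r, 17 ≤ r → r < 17 + 1 → relOk ptabs (tabs.word r) 0 ptabs.n = true :=
  relOk_of_traceFix ptabs tabs.word 17 1 perm_g11_upto11
theorem perm_g12_upto0 : TraceFix ptabs.perm tabs.word 18 1 22222 :=
  traceFix_extendF _ _ letSel perm_eq 18 1 0 22222 22222 rfl (traceFix_zero _ _ 18 1) perm_piece_12_0
theorem perm_g12_upto1 : TraceFix ptabs.perm tabs.word 18 1 44444 :=
  traceFix_extendF _ _ letSel perm_eq 18 1 22222 22222 44444 rfl perm_g12_upto0 perm_piece_12_1
theorem perm_g12_upto2 : TraceFix ptabs.perm tabs.word 18 1 66666 :=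
  traceFix_extendF _ _ letSel perm_eq 18 1 44444 22222 66666 rfl perm_g12_upto1 perm_piece_12_2
theorem perm_g12_upto3 : TraceFix ptabs.perm tabs.word 18 1 88888 :=
  traceFix_extendF _ _ letSel perm_eq 18 1 66666 22222 88888 rfl perm_g12_upto2 perm_piece_12_3
theorem perm_g12_upto4 : TraceFix ptabs.perm tabs.word 18 1 111110 :=
  traceFix_extendF _ _ letSel perm_eq 18 1 88888 22222 111110 rfl perm_g12_upto3 perm_piece_12_4
theorem perm_g12_upto5 : TraceFix ptabs.perm tabs.word 18 1 133332 :=
  traceFix_extendF _ _ letSel perm_eq 18 1 111110 22222 133332 rfl perm_g12_upto4 perm_piece_12_5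
theorem perm_g12_upto6 : TraceFix ptabs.perm tabs.word 18 1 155554 :=
  traceFix_extendF _ _ letSel perm_eq 18 1 133332 22222 155554 rfl perm_g12_upto5 perm_piece_12_6
theorem perm_g12_upto7 : TraceFix ptabs.perm tabs.word 18 1 177776 :=
  traceFix_extendF _ _ letSel perm_eq 18 1 155554 22222 177776 rfl perm_g12_upto6 perm_piece_12_7
theorem perm_g12_upto8 : TraceFix ptabs.perm tabs.word 18 1 199998 :=
  traceFix_extendF _ _ letSel perm_eq 18 1 177776 22222 199998 rfl perm_g12_upto7 perm_piece_12_8
theorem perm_g12_upto9 : TraceFix ptabs.perm tabs.word 18 1 222220 :=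
  traceFix_extendF _ _ letSel perm_eq 18 1 199998 22222 222220 rfl perm_g12_upto8 perm_piece_12_9
theorem perm_g12_upto10 : TraceFix ptabs.perm tabs.word 18 1 244442 :=
  traceFix_extendF _ _ letSel perm_eq 18 1 222220 22222 244442 rfl perm_g12_upto9 perm_piece_12_10
theorem perm_g12_upto11 : TraceFix ptabs.perm tabs.word 18 1 266560 :=
  traceFix_extendF _ _ letSel perm_eq 18 1 244442 22118 266560 rfl perm_g12_upto10 perm_piece_12_11
theorem perm_g12_fix : TraceFix ptabs.perm tabs.word 18 1 ptabs.n := perm_g12_upto11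
theorem perm_g12 : ∀ r, 18 ≤ r → r < 18 + 1 → relOk ptabs (tabs.word r) 0 ptabs.n = true :=
  relOk_of_traceFix ptabs tabs.word 18 1 perm_g12_upto11
theorem perm_g13_upto0 : TraceFix ptabs.perm tabs.word 21 1 44444 :=
  traceFix_extendF _ _ letSel perm_eq 21 1 0 44444 44444 rfl (traceFix_zero _ _ 21 1) perm_piece_13_0
theorem perm_g13_upto1 : TraceFix ptabs.perm tabs.word 21 1 88888 :=
  traceFix_extendF _ _ letSel perm_eq 21 1 44444 44444 88888 rfl perm_g13_upto0 perm_piece_13_1
theorem perm_g13_upto2 : TraceFix ptabs.perm tabs.word 21 1 133332 :=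
  traceFix_extendF _ _ letSel perm_eq 21 1 88888 44444 133332 rfl perm_g13_upto1 perm_piece_13_2
theorem perm_g13_upto3 : TraceFix ptabs.perm tabs.word 21 1 177776 :=
  traceFix_extendF _ _ letSel perm_eq 21 1 133332 44444 177776 rfl perm_g13_upto2 perm_piece_13_3
theorem perm_g13_upto4 : TraceFix ptabs.perm tabs.word 21 1 222220 :=
  traceFix_extendF _ _ letSel perm_eq 21 1 177776 44444 222220 rfl perm_g13_upto3 perm_piece_13_4
theorem perm_g13_upto5 : TraceFix ptabs.perm tabs.word 21 1 266560 :=
  traceFix_extendF _ _ letSel perm_eq 21 1 222220 44340 266560 rfl perm_g13_upto4 perm_piece_13_5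
theorem perm_g13_fix : TraceFix ptabs.perm tabs.word 21 1 ptabs.n := perm_g13_upto5
theorem perm_g13 : ∀ r, 21 ≤ r → r < 21 + 1 → relOk ptabs (tabs.word r) 0 ptabs.n = true :=
  relOk_of_traceFix ptabs tabs.word 21 1 perm_g13_upto5
theorem perm_g14_upto0 : TraceFix ptabs.perm tabs.word 22 1 4444 :=
  traceFix_extendF _ _ letSel perm_eq 22 1 0 4444 4444 rfl (traceFix_zero _ _ 22 1) perm_piece_14_0
theorem perm_g14_upto1 : TraceFix ptabs.perm tabs.word 22 1 8888 :=
  traceFix_extendF _ _ letSel perm_eq 22 1 4444 4444 8888 rfl perm_g14_upto0 perm_piece_14_1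
theorem perm_g14_upto2 : TraceFix ptabs.perm tabs.word 22 1 13332 :=
  traceFix_extendF _ _ letSel perm_eq 22 1 8888 4444 13332 rfl perm_g14_upto1 perm_piece_14_2
theorem perm_g14_upto3 : TraceFix ptabs.perm tabs.word 22 1 17776 :=
  traceFix_extendF _ _ letSel perm_eq 22 1 13332 4444 17776 rfl perm_g14_upto2 perm_piece_14_3
theorem perm_g14_upto4 : TraceFix ptabs.perm tabs.word 22 1 22220 :=
  traceFix_extendF _ _ letSel perm_eq 22 1 17776 4444 22220 rfl perm_g14_upto3 perm_piece_14_4
theorem perm_g14_upto5 : TraceFix ptabs.perm tabs.word 22 1 26664 :=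
  traceFix_extendF _ _ letSel perm_eq 22 1 22220 4444 26664 rfl perm_g14_upto4 perm_piece_14_5
theorem perm_g14_upto6 : TraceFix ptabs.perm tabs.word 22 1 31108 :=
  traceFix_extendF _ _ letSel perm_eq 22 1 26664 4444 31108 rfl perm_g14_upto5 perm_piece_14_6
theorem perm_g14_upto7 : TraceFix ptabs.perm tabs.word 22 1 35552 :=
  traceFix_extendF _ _ letSel perm_eq 22 1 31108 4444 35552 rfl perm_g14_upto6 perm_piece_14_7
theorem perm_g14_upto8 : TraceFix ptabs.perm tabs.word 22 1 39996 :=
  traceFix_extendF _ _ letSel perm_eq 22 1 35552 4444 39996 rfl perm_g14_upto7 perm_piece_14_8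
theorem perm_g14_upto9 : TraceFix ptabs.perm tabs.word 22 1 44440 :=
  traceFix_extendF _ _ letSel perm_eq 22 1 39996 4444 44440 rfl perm_g14_upto8 perm_piece_14_9
theorem perm_g14_upto10 : TraceFix ptabs.perm tabs.word 22 1 48884 :=
  traceFix_extendF _ _ letSel perm_eq 22 1 44440 4444 48884 rfl perm_g14_upto9 perm_piece_14_10
theorem perm_g14_upto11 : TraceFix ptabs.perm tabs.word 22 1 53328 :=
  traceFix_extendF _ _ letSel perm_eq 22 1 48884 4444 53328 rfl perm_g14_upto10 perm_piece_14_11
theorem perm_g14_upto12 : TraceFix ptabs.perm tabs.word 22 1 57772 :=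
  traceFix_extendF _ _ letSel perm_eq 22 1 53328 4444 57772 rfl perm_g14_upto11 perm_piece_14_12
theorem perm_g14_upto13 : TraceFix ptabs.perm tabs.word 22 1 62216 :=
  traceFix_extendF _ _ letSel perm_eq 22 1 57772 4444 62216 rfl perm_g14_upto12 perm_piece_14_13
theorem perm_g14_upto14 : TraceFix ptabs.perm tabs.word 22 1 66660 :=
  traceFix_extendF _ _ letSel perm_eq 22 1 62216 4444 66660 rfl perm_g14_upto13 perm_piece_14_14
theorem perm_g14_upto15 : TraceFix ptabs.perm tabs.word 22 1 71104 :=
  traceFix_extendF _ _ letSel perm_eq 22 1 66660 4444 71104 rfl perm_g14_upto14 perm_piece_14_15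
theorem perm_g14_upto16 : TraceFix ptabs.perm tabs.word 22 1 75548 :=
  traceFix_extendF _ _ letSel perm_eq 22 1 71104 4444 75548 rfl perm_g14_upto15 perm_piece_14_16
theorem perm_g14_upto17 : TraceFix ptabs.perm tabs.word 22 1 79992 :=
  traceFix_extendF _ _ letSel perm_eq 22 1 75548 4444 79992 rfl perm_g14_upto16 perm_piece_14_17
theorem perm_g14_upto18 : TraceFix ptabs.perm tabs.word 22 1 84436 :=
  traceFix_extendF _ _ letSel perm_eq 22 1 79992 4444 84436 rfl perm_g14_upto17 perm_piece_14_18
theorem perm_g14_upto19 : TraceFix ptabs.perm tabs.word 22 1 88880 :=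
  traceFix_extendF _ _ letSel perm_eq 22 1 84436 4444 88880 rfl perm_g14_upto18 perm_piece_14_19
theorem perm_g14_upto20 : TraceFix ptabs.perm tabs.word 22 1 93324 :=
  traceFix_extendF _ _ letSel perm_eq 22 1 88880 4444 93324 rfl perm_g14_upto19 perm_piece_14_20
theorem perm_g14_upto21 : TraceFix ptabs.perm tabs.word 22 1 97768 :=
  traceFix_extendF _ _ letSel perm_eq 22 1 93324 4444 97768 rfl perm_g14_upto20 perm_piece_14_21
theorem perm_g14_upto22 : TraceFix ptabs.perm tabs.word 22 1 102212 :=
  traceFix_extendF _ _ letSel perm_eq 22 1 97768 4444 102212 rfl perm_g14_upto21 perm_piece_14_22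
theorem perm_g14_upto23 : TraceFix ptabs.perm tabs.word 22 1 106656 :=
  traceFix_extendF _ _ letSel perm_eq 22 1 102212 4444 106656 rfl perm_g14_upto22 perm_piece_14_23
theorem perm_g14_upto24 : TraceFix ptabs.perm tabs.word 22 1 111100 :=
  traceFix_extendF _ _ letSel perm_eq 22 1 106656 4444 111100 rfl perm_g14_upto23 perm_piece_14_24
theorem perm_g14_upto25 : TraceFix ptabs.perm tabs.word 22 1 115544 :=
  traceFix_extendF _ _ letSel perm_eq 22 1 111100 4444 115544 rfl perm_g14_upto24 perm_piece_14_25
theorem perm_g14_upto26 : TraceFix ptabs.perm tabs.word 22 1 119988 :=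
  traceFix_extendF _ _ letSel perm_eq 22 1 115544 4444 119988 rfl perm_g14_upto25 perm_piece_14_26
theorem perm_g14_upto27 : TraceFix ptabs.perm tabs.word 22 1 124432 :=
  traceFix_extendF _ _ letSel perm_eq 22 1 119988 4444 124432 rfl perm_g14_upto26 perm_piece_14_27
theorem perm_g14_upto28 : TraceFix ptabs.perm tabs.word 22 1 128876 :=
  traceFix_extendF _ _ letSel perm_eq 22 1 124432 4444 128876 rfl perm_g14_upto27 perm_piece_14_28
theorem perm_g14_upto29 : TraceFix ptabs.perm tabs.word 22 1 133320 :=
  traceFix_extendF _ _ letSel perm_eq 22 1 128876 4444 133320 rfl perm_g14_upto28 perm_piece_14_29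
theorem perm_g14_upto30 : TraceFix ptabs.perm tabs.word 22 1 137764 :=
  traceFix_extendF _ _ letSel perm_eq 22 1 133320 4444 137764 rfl perm_g14_upto29 perm_piece_14_30
theorem perm_g14_upto31 : TraceFix ptabs.perm tabs.word 22 1 142208 :=
  traceFix_extendF _ _ letSel perm_eq 22 1 137764 4444 142208 rfl perm_g14_upto30 perm_piece_14_31
theorem perm_g14_upto32 : TraceFix ptabs.perm tabs.word 22 1 146652 :=
  traceFix_extendF _ _ letSel perm_eq 22 1 142208 4444 146652 rfl perm_g14_upto31 perm_piece_14_32
theorem perm_g14_upto33 : TraceFix ptabs.perm tabs.word 22 1 151096 :=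
  traceFix_extendF _ _ letSel perm_eq 22 1 146652 4444 151096 rfl perm_g14_upto32 perm_piece_14_33
theorem perm_g14_upto34 : TraceFix ptabs.perm tabs.word 22 1 155540 :=
  traceFix_extendF _ _ letSel perm_eq 22 1 151096 4444 155540 rfl perm_g14_upto33 perm_piece_14_34
theorem perm_g14_upto35 : TraceFix ptabs.perm tabs.word 22 1 159984 :=
  traceFix_extendF _ _ letSel perm_eq 22 1 155540 4444 159984 rfl perm_g14_upto34 perm_piece_14_35
theorem perm_g14_upto36 : TraceFix ptabs.perm tabs.word 22 1 164428 :=
  traceFix_extendF _ _ letSel perm_eq 22 1 159984 4444 164428 rfl perm_g14_upto35 perm_piece_14_36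
theorem perm_g14_upto37 : TraceFix ptabs.perm tabs.word 22 1 168872 :=
  traceFix_extendF _ _ letSel perm_eq 22 1 164428 4444 168872 rfl perm_g14_upto36 perm_piece_14_37
theorem perm_g14_upto38 : TraceFix ptabs.perm tabs.word 22 1 173316 :=
  traceFix_extendF _ _ letSel perm_eq 22 1 168872 4444 173316 rfl perm_g14_upto37 perm_piece_14_38
theorem perm_g14_upto39 : TraceFix ptabs.perm tabs.word 22 1 177760 :=
  traceFix_extendF _ _ letSel perm_eq 22 1 173316 4444 177760 rfl perm_g14_upto38 perm_piece_14_39
theorem perm_g14_upto40 : TraceFix ptabs.perm tabs.word 22 1 182204 :=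
  traceFix_extendF _ _ letSel perm_eq 22 1 177760 4444 182204 rfl perm_g14_upto39 perm_piece_14_40
theorem perm_g14_upto41 : TraceFix ptabs.perm tabs.word 22 1 186648 :=
  traceFix_extendF _ _ letSel perm_eq 22 1 182204 4444 186648 rfl perm_g14_upto40 perm_piece_14_41
theorem perm_g14_upto42 : TraceFix ptabs.perm tabs.word 22 1 191092 :=
  traceFix_extendF _ _ letSel perm_eq 22 1 186648 4444 191092 rfl perm_g14_upto41 perm_piece_14_42
theorem perm_g14_upto43 : TraceFix ptabs.perm tabs.word 22 1 195536 :=
  traceFix_extendF _ _ letSel perm_eq 22 1 191092 4444 195536 rfl perm_g14_upto42 perm_piece_14_43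
theorem perm_g14_upto44 : TraceFix ptabs.perm tabs.word 22 1 199980 :=
  traceFix_extendF _ _ letSel perm_eq 22 1 195536 4444 199980 rfl perm_g14_upto43 perm_piece_14_44
theorem perm_g14_upto45 : TraceFix ptabs.perm tabs.word 22 1 204424 :=
  traceFix_extendF _ _ letSel perm_eq 22 1 199980 4444 204424 rfl perm_g14_upto44 perm_piece_14_45
theorem perm_g14_upto46 : TraceFix ptabs.perm tabs.word 22 1 208868 :=
  traceFix_extendF _ _ letSel perm_eq 22 1 204424 4444 208868 rfl perm_g14_upto45 perm_piece_14_46
theorem perm_g14_upto47 : TraceFix ptabs.perm tabs.word 22 1 213312 :=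
  traceFix_extendF _ _ letSel perm_eq 22 1 208868 4444 213312 rfl perm_g14_upto46 perm_piece_14_47
theorem perm_g14_upto48 : TraceFix ptabs.perm tabs.word 22 1 217756 :=
  traceFix_extendF _ _ letSel perm_eq 22 1 213312 4444 217756 rfl perm_g14_upto47 perm_piece_14_48
theorem perm_g14_upto49 : TraceFix ptabs.perm tabs.word 22 1 222200 :=
  traceFix_extendF _ _ letSel perm_eq 22 1 217756 4444 222200 rfl perm_g14_upto48 perm_piece_14_49
theorem perm_g14_upto50 : TraceFix ptabs.perm tabs.word 22 1 226644 :=
  traceFix_extendF _ _ letSel perm_eq 22 1 222200 4444 226644 rfl perm_g14_upto49 perm_piece_14_50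
theorem perm_g14_upto51 : TraceFix ptabs.perm tabs.word 22 1 231088 :=
  traceFix_extendF _ _ letSel perm_eq 22 1 226644 4444 231088 rfl perm_g14_upto50 perm_piece_14_51
theorem perm_g14_upto52 : TraceFix ptabs.perm tabs.word 22 1 235532 :=
  traceFix_extendF _ _ letSel perm_eq 22 1 231088 4444 235532 rfl perm_g14_upto51 perm_piece_14_52
theorem perm_g14_upto53 : TraceFix ptabs.perm tabs.word 22 1 239976 :=
  traceFix_extendF _ _ letSel perm_eq 22 1 235532 4444 239976 rfl perm_g14_upto52 perm_piece_14_53
theorem perm_g14_upto54 : TraceFix ptabs.perm tabs.word 22 1 244420 :=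
  traceFix_extendF _ _ letSel perm_eq 22 1 239976 4444 244420 rfl perm_g14_upto53 perm_piece_14_54
theorem perm_g14_upto55 : TraceFix ptabs.perm tabs.word 22 1 248864 :=
  traceFix_extendF _ _ letSel perm_eq 22 1 244420 4444 248864 rfl perm_g14_upto54 perm_piece_14_55
theorem perm_g14_upto56 : TraceFix ptabs.perm tabs.word 22 1 253308 :=
  traceFix_extendF _ _ letSel perm_eq 22 1 248864 4444 253308 rfl perm_g14_upto55 perm_piece_14_56
theorem perm_g14_upto57 : TraceFix ptabs.perm tabs.word 22 1 257752 :=
  traceFix_extendF _ _ letSel perm_eq 22 1 253308 4444 257752 rfl perm_g14_upto56 perm_piece_14_57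
theorem perm_g14_upto58 : TraceFix ptabs.perm tabs.word 22 1 262196 :=
  traceFix_extendF _ _ letSel perm_eq 22 1 257752 4444 262196 rfl perm_g14_upto57 perm_piece_14_58
theorem perm_g14_upto59 : TraceFix ptabs.perm tabs.word 22 1 266560 :=
  traceFix_extendF _ _ letSel perm_eq 22 1 262196 4364 266560 rfl perm_g14_upto58 perm_piece_14_59
theorem perm_g14_fix : TraceFix ptabs.perm tabs.word 22 1 ptabs.n := perm_g14_upto59
theorem perm_g14 : ∀ r, 22 ≤ r → r < 22 + 1 → relOk ptabs (tabs.word r) 0 ptabs.n = true :=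
  relOk_of_traceFix ptabs tabs.word 22 1 perm_g14_upto59
theorem perm_g15_upto0 : TraceFix ptabs.perm tabs.word 23 1 22222 :=
  traceFix_extendF _ _ letSel perm_eq 23 1 0 22222 22222 rfl (traceFix_zero _ _ 23 1) perm_piece_15_0
theorem perm_g15_upto1 : TraceFix ptabs.perm tabs.word 23 1 44444 :=
  traceFix_extendF _ _ letSel perm_eq 23 1 22222 22222 44444 rfl perm_g15_upto0 perm_piece_15_1
theorem perm_g15_upto2 : TraceFix ptabs.perm tabs.word 23 1 66666 :=
  traceFix_extendF _ _ letSel perm_eq 23 1 44444 22222 66666 rfl perm_g15_upto1 perm_piece_15_2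
theorem perm_g15_upto3 : TraceFix ptabs.perm tabs.word 23 1 88888 :=
  traceFix_extendF _ _ letSel perm_eq 23 1 66666 22222 88888 rfl perm_g15_upto2 perm_piece_15_3
theorem perm_g15_upto4 : TraceFix ptabs.perm tabs.word 23 1 111110 :=
  traceFix_extendF _ _ letSel perm_eq 23 1 88888 22222 111110 rfl perm_g15_upto3 perm_piece_15_4
theorem perm_g15_upto5 : TraceFix ptabs.perm tabs.word 23 1 133332 :=
  traceFix_extendF _ _ letSel perm_eq 23 1 111110 22222 133332 rfl perm_g15_upto4 perm_piece_15_5
theorem perm_g15_upto6 : TraceFix ptabs.perm tabs.word 23 1 155554 :=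
  traceFix_extendF _ _ letSel perm_eq 23 1 133332 22222 155554 rfl perm_g15_upto5 perm_piece_15_6
theorem perm_g15_upto7 : TraceFix ptabs.perm tabs.word 23 1 177776 :=
  traceFix_extendF _ _ letSel perm_eq 23 1 155554 22222 177776 rfl perm_g15_upto6 perm_piece_15_7
theorem perm_g15_upto8 : TraceFix ptabs.perm tabs.word 23 1 199998 :=
  traceFix_extendF _ _ letSel perm_eq 23 1 177776 22222 199998 rfl perm_g15_upto7 perm_piece_15_8
theorem perm_g15_upto9 : TraceFix ptabs.perm tabs.word 23 1 222220 :=
  traceFix_extendF _ _ letSel perm_eq 23 1 199998 22222 222220 rfl perm_g15_upto8 perm_piece_15_9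
theorem perm_g15_upto10 : TraceFix ptabs.perm tabs.word 23 1 244442 :=
  traceFix_extendF _ _ letSel perm_eq 23 1 222220 22222 244442 rfl perm_g15_upto9 perm_piece_15_10
theorem perm_g15_upto11 : TraceFix ptabs.perm tabs.word 23 1 266560 :=
  traceFix_extendF _ _ letSel perm_eq 23 1 244442 22118 266560 rfl perm_g15_upto10 perm_piece_15_11
theorem perm_g15_fix : TraceFix ptabs.perm tabs.word 23 1 ptabs.n := perm_g15_upto11
theorem perm_g15 : ∀ r, 23 ≤ r → r < 23 + 1 → relOk ptabs (tabs.word r) 0 ptabs.n = true :=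
  relOk_of_traceFix ptabs tabs.word 23 1 perm_g15_upto11
theorem perm_g16_upto0 : TraceFix ptabs.perm tabs.word 24 1 22222 :=
  traceFix_extendF _ _ letSel perm_eq 24 1 0 22222 22222 rfl (traceFix_zero _ _ 24 1) perm_piece_16_0
theorem perm_g16_upto1 : TraceFix ptabs.perm tabs.word 24 1 44444 :=
  traceFix_extendF _ _ letSel perm_eq 24 1 22222 22222 44444 rfl perm_g16_upto0 perm_piece_16_1
theorem perm_g16_upto2 : TraceFix ptabs.perm tabs.word 24 1 66666 :=
  traceFix_extendF _ _ letSel perm_eq 24 1 44444 22222 66666 rfl perm_g16_upto1 perm_piece_16_2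
theorem perm_g16_upto3 : TraceFix ptabs.perm tabs.word 24 1 88888 :=
  traceFix_extendF _ _ letSel perm_eq 24 1 66666 22222 88888 rfl perm_g16_upto2 perm_piece_16_3
theorem perm_g16_upto4 : TraceFix ptabs.perm tabs.word 24 1 111110 :=
  traceFix_extendF _ _ letSel perm_eq 24 1 88888 22222 111110 rfl perm_g16_upto3 perm_piece_16_4
theorem perm_g16_upto5 : TraceFix ptabs.perm tabs.word 24 1 133332 :=
  traceFix_extendF _ _ letSel perm_eq 24 1 111110 22222 133332 rfl perm_g16_upto4 perm_piece_16_5
theorem perm_g16_upto6 : TraceFix ptabs.perm tabs.word 24 1 155554 :=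
  traceFix_extendF _ _ letSel perm_eq 24 1 133332 22222 155554 rfl perm_g16_upto5 perm_piece_16_6
theorem perm_g16_upto7 : TraceFix ptabs.perm tabs.word 24 1 177776 :=
  traceFix_extendF _ _ letSel perm_eq 24 1 155554 22222 177776 rfl perm_g16_upto6 perm_piece_16_7
theorem perm_g16_upto8 : TraceFix ptabs.perm tabs.word 24 1 199998 :=
  traceFix_extendF _ _ letSel perm_eq 24 1 177776 22222 199998 rfl perm_g16_upto7 perm_piece_16_8
theorem perm_g16_upto9 : TraceFix ptabs.perm tabs.word 24 1 222220 :=
  traceFix_extendF _ _ letSel perm_eq 24 1 199998 22222 222220 rfl perm_g16_upto8 perm_piece_16_9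
theorem perm_g16_upto10 : TraceFix ptabs.perm tabs.word 24 1 244442 :=
  traceFix_extendF _ _ letSel perm_eq 24 1 222220 22222 244442 rfl perm_g16_upto9 perm_piece_16_10
theorem perm_g16_upto11 : TraceFix ptabs.perm tabs.word 24 1 266560 :=
  traceFix_extendF _ _ letSel perm_eq 24 1 244442 22118 266560 rfl perm_g16_upto10 perm_piece_16_11
theorem perm_g16_fix : TraceFix ptabs.perm tabs.word 24 1 ptabs.n := perm_g16_upto11
theorem perm_g16 : ∀ r, 24 ≤ r → r < 24 + 1 → relOk ptabs (tabs.word r) 0 ptabs.n = true :=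
  relOk_of_traceFix ptabs tabs.word 24 1 perm_g16_upto11
theorem perm_g17_upto0 : TraceFix ptabs.perm tabs.word 25 1 22222 :=
  traceFix_extendF _ _ letSel perm_eq 25 1 0 22222 22222 rfl (traceFix_zero _ _ 25 1) perm_piece_17_0
theorem perm_g17_upto1 : TraceFix ptabs.perm tabs.word 25 1 44444 :=
  traceFix_extendF _ _ letSel perm_eq 25 1 22222 22222 44444 rfl perm_g17_upto0 perm_piece_17_1
theorem perm_g17_upto2 : TraceFix ptabs.perm tabs.word 25 1 66666 :=
  traceFix_extendF _ _ letSel perm_eq 25 1 44444 22222 66666 rfl perm_g17_upto1 perm_piece_17_2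
theorem perm_g17_upto3 : TraceFix ptabs.perm tabs.word 25 1 88888 :=
  traceFix_extendF _ _ letSel perm_eq 25 1 66666 22222 88888 rfl perm_g17_upto2 perm_piece_17_3
theorem perm_g17_upto4 : TraceFix ptabs.perm tabs.word 25 1 111110 :=
  traceFix_extendF _ _ letSel perm_eq 25 1 88888 22222 111110 rfl perm_g17_upto3 perm_piece_17_4
theorem perm_g17_upto5 : TraceFix ptabs.perm tabs.word 25 1 133332 :=
  traceFix_extendF _ _ letSel perm_eq 25 1 111110 22222 133332 rfl perm_g17_upto4 perm_piece_17_5
theorem perm_g17_upto6 : TraceFix ptabs.perm tabs.word 25 1 155554 :=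
  traceFix_extendF _ _ letSel perm_eq 25 1 133332 22222 155554 rfl perm_g17_upto5 perm_piece_17_6
theorem perm_g17_upto7 : TraceFix ptabs.perm tabs.word 25 1 177776 :=
  traceFix_extendF _ _ letSel perm_eq 25 1 155554 22222 177776 rfl perm_g17_upto6 perm_piece_17_7
theorem perm_g17_upto8 : TraceFix ptabs.perm tabs.word 25 1 199998 :=
  traceFix_extendF _ _ letSel perm_eq 25 1 177776 22222 199998 rfl perm_g17_upto7 perm_piece_17_8
theorem perm_g17_upto9 : TraceFix ptabs.perm tabs.word 25 1 222220 :=
  traceFix_extendF _ _ letSel perm_eq 25 1 199998 22222 222220 rfl perm_g17_upto8 perm_piece_17_9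
theorem perm_g17_upto10 : TraceFix ptabs.perm tabs.word 25 1 244442 :=
  traceFix_extendF _ _ letSel perm_eq 25 1 222220 22222 244442 rfl perm_g17_upto9 perm_piece_17_10
theorem perm_g17_upto11 : TraceFix ptabs.perm tabs.word 25 1 266560 :=
  traceFix_extendF _ _ letSel perm_eq 25 1 244442 22118 266560 rfl perm_g17_upto10 perm_piece_17_11
theorem perm_g17_fix : TraceFix ptabs.perm tabs.word 25 1 ptabs.n := perm_g17_upto11
theorem perm_g17 : ∀ r, 25 ≤ r → r < 25 + 1 → relOk ptabs (tabs.word r) 0 ptabs.n = true :=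
  relOk_of_traceFix ptabs tabs.word 25 1 perm_g17_upto11
theorem perm_g18_upto0 : TraceFix ptabs.perm tabs.word 29 1 44444 :=
  traceFix_extendF _ _ letSel perm_eq 29 1 0 44444 44444 rfl (traceFix_zero _ _ 29 1) perm_piece_18_0
theorem perm_g18_upto1 : TraceFix ptabs.perm tabs.word 29 1 88888 :=
  traceFix_extendF _ _ letSel perm_eq 29 1 44444 44444 88888 rfl perm_g18_upto0 perm_piece_18_1
theorem perm_g18_upto2 : TraceFix ptabs.perm tabs.word 29 1 133332 :=
  traceFix_extendF _ _ letSel perm_eq 29 1 88888 44444 133332 rfl perm_g18_upto1 perm_piece_18_2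
theorem perm_g18_upto3 : TraceFix ptabs.perm tabs.word 29 1 177776 :=
  traceFix_extendF _ _ letSel perm_eq 29 1 133332 44444 177776 rfl perm_g18_upto2 perm_piece_18_3
theorem perm_g18_upto4 : TraceFix ptabs.perm tabs.word 29 1 222220 :=
  traceFix_extendF _ _ letSel perm_eq 29 1 177776 44444 222220 rfl perm_g18_upto3 perm_piece_18_4
theorem perm_g18_upto5 : TraceFix ptabs.perm tabs.word 29 1 266560 :=
  traceFix_extendF _ _ letSel perm_eq 29 1 222220 44340 266560 rfl perm_g18_upto4 perm_piece_18_5
theorem perm_g18_fix : TraceFix ptabs.perm tabs.word 29 1 ptabs.n := perm_g18_upto5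
theorem perm_g18 : ∀ r, 29 ≤ r → r < 29 + 1 → relOk ptabs (tabs.word r) 0 ptabs.n = true :=
  relOk_of_traceFix ptabs tabs.word 29 1 perm_g18_upto5
theorem perm_g19_upto0 : TraceFix ptabs.perm tabs.word 30 1 14814 :=
  traceFix_extendF _ _ letSel perm_eq 30 1 0 14814 14814 rfl (traceFix_zero _ _ 30 1) perm_piece_19_0
theorem perm_g19_upto1 : TraceFix ptabs.perm tabs.word 30 1 29628 :=
  traceFix_extendF _ _ letSel perm_eq 30 1 14814 14814 29628 rfl perm_g19_upto0 perm_piece_19_1
theorem perm_g19_upto2 : TraceFix ptabs.perm tabs.word 30 1 44442 :=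
  traceFix_extendF _ _ letSel perm_eq 30 1 29628 14814 44442 rfl perm_g19_upto1 perm_piece_19_2
theorem perm_g19_upto3 : TraceFix ptabs.perm tabs.word 30 1 59256 :=
  traceFix_extendF _ _ letSel perm_eq 30 1 44442 14814 59256 rfl perm_g19_upto2 perm_piece_19_3
theorem perm_g19_upto4 : TraceFix ptabs.perm tabs.word 30 1 74070 :=
  traceFix_extendF _ _ letSel perm_eq 30 1 59256 14814 74070 rfl perm_g19_upto3 perm_piece_19_4
theorem perm_g19_upto5 : TraceFix ptabs.perm tabs.word 30 1 88884 :=
  traceFix_extendF _ _ letSel perm_eq 30 1 74070 14814 88884 rfl perm_g19_upto4 perm_piece_19_5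
theorem perm_g19_upto6 : TraceFix ptabs.perm tabs.word 30 1 103698 :=
  traceFix_extendF _ _ letSel perm_eq 30 1 88884 14814 103698 rfl perm_g19_upto5 perm_piece_19_6
theorem perm_g19_upto7 : TraceFix ptabs.perm tabs.word 30 1 118512 :=
  traceFix_extendF _ _ letSel perm_eq 30 1 103698 14814 118512 rfl perm_g19_upto6 perm_piece_19_7
theorem perm_g19_upto8 : TraceFix ptabs.perm tabs.word 30 1 133326 :=
  traceFix_extendF _ _ letSel perm_eq 30 1 118512 14814 133326 rfl perm_g19_upto7 perm_piece_19_8
theorem perm_g19_upto9 : TraceFix ptabs.perm tabs.word 30 1 148140 :=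
  traceFix_extendF _ _ letSel perm_eq 30 1 133326 14814 148140 rfl perm_g19_upto8 perm_piece_19_9
theorem perm_g19_upto10 : TraceFix ptabs.perm tabs.word 30 1 162954 :=
  traceFix_extendF _ _ letSel perm_eq 30 1 148140 14814 162954 rfl perm_g19_upto9 perm_piece_19_10
theorem perm_g19_upto11 : TraceFix ptabs.perm tabs.word 30 1 177768 :=
  traceFix_extendF _ _ letSel perm_eq 30 1 162954 14814 177768 rfl perm_g19_upto10 perm_piece_19_11
theorem perm_g19_upto12 : TraceFix ptabs.perm tabs.word 30 1 192582 :=
  traceFix_extendF _ _ letSel perm_eq 30 1 177768 14814 192582 rfl perm_g19_upto11 perm_piece_19_12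
theorem perm_g19_upto13 : TraceFix ptabs.perm tabs.word 30 1 207396 :=
  traceFix_extendF _ _ letSel perm_eq 30 1 192582 14814 207396 rfl perm_g19_upto12 perm_piece_19_13
theorem perm_g19_upto14 : TraceFix ptabs.perm tabs.word 30 1 222210 :=
  traceFix_extendF _ _ letSel perm_eq 30 1 207396 14814 222210 rfl perm_g19_upto13 perm_piece_19_14
theorem perm_g19_upto15 : TraceFix ptabs.perm tabs.word 30 1 237024 :=
  traceFix_extendF _ _ letSel perm_eq 30 1 222210 14814 237024 rfl perm_g19_upto14 perm_piece_19_15
theorem perm_g19_upto16 : TraceFix ptabs.perm tabs.word 30 1 251838 :=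
  traceFix_extendF _ _ letSel perm_eq 30 1 237024 14814 251838 rfl perm_g19_upto15 perm_piece_19_16
theorem perm_g19_upto17 : TraceFix ptabs.perm tabs.word 30 1 266560 :=
  traceFix_extendF _ _ letSel perm_eq 30 1 251838 14722 266560 rfl perm_g19_upto16 perm_piece_19_17
theorem perm_g19_fix : TraceFix ptabs.perm tabs.word 30 1 ptabs.n := perm_g19_upto17
theorem perm_g19 : ∀ r, 30 ≤ r → r < 30 + 1 → relOk ptabs (tabs.word r) 0 ptabs.n = true :=
  relOk_of_traceFix ptabs tabs.word 30 1 perm_g19_upto17
theorem perm_g20_upto0 : TraceFix ptabs.perm tabs.word 31 1 14814 :=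
  traceFix_extendF _ _ letSel perm_eq 31 1 0 14814 14814 rfl (traceFix_zero _ _ 31 1) perm_piece_20_0
theorem perm_g20_upto1 : TraceFix ptabs.perm tabs.word 31 1 29628 :=
  traceFix_extendF _ _ letSel perm_eq 31 1 14814 14814 29628 rfl perm_g20_upto0 perm_piece_20_1
theorem perm_g20_upto2 : TraceFix ptabs.perm tabs.word 31 1 44442 :=
  traceFix_extendF _ _ letSel perm_eq 31 1 29628 14814 44442 rfl perm_g20_upto1 perm_piece_20_2
theorem perm_g20_upto3 : TraceFix ptabs.perm tabs.word 31 1 59256 :=
  traceFix_extendF _ _ letSel perm_eq 31 1 44442 14814 59256 rfl perm_g20_upto2 perm_piece_20_3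
theorem perm_g20_upto4 : TraceFix ptabs.perm tabs.word 31 1 74070 :=
  traceFix_extendF _ _ letSel perm_eq 31 1 59256 14814 74070 rfl perm_g20_upto3 perm_piece_20_4
theorem perm_g20_upto5 : TraceFix ptabs.perm tabs.word 31 1 88884 :=
  traceFix_extendF _ _ letSel perm_eq 31 1 74070 14814 88884 rfl perm_g20_upto4 perm_piece_20_5
theorem perm_g20_upto6 : TraceFix ptabs.perm tabs.word 31 1 103698 :=
  traceFix_extendF _ _ letSel perm_eq 31 1 88884 14814 103698 rfl perm_g20_upto5 perm_piece_20_6
theorem perm_g20_upto7 : TraceFix ptabs.perm tabs.word 31 1 118512 :=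
  traceFix_extendF _ _ letSel perm_eq 31 1 103698 14814 118512 rfl perm_g20_upto6 perm_piece_20_7
theorem perm_g20_upto8 : TraceFix ptabs.perm tabs.word 31 1 133326 :=
  traceFix_extendF _ _ letSel perm_eq 31 1 118512 14814 133326 rfl perm_g20_upto7 perm_piece_20_8
theorem perm_g20_upto9 : TraceFix ptabs.perm tabs.word 31 1 148140 :=
  traceFix_extendF _ _ letSel perm_eq 31 1 133326 14814 148140 rfl perm_g20_upto8 perm_piece_20_9
theorem perm_g20_upto10 : TraceFix ptabs.perm tabs.word 31 1 162954 :=
  traceFix_extendF _ _ letSel perm_eq 31 1 148140 14814 162954 rfl perm_g20_upto9 perm_piece_20_10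
theorem perm_g20_upto11 : TraceFix ptabs.perm tabs.word 31 1 177768 :=
  traceFix_extendF _ _ letSel perm_eq 31 1 162954 14814 177768 rfl perm_g20_upto10 perm_piece_20_11
theorem perm_g20_upto12 : TraceFix ptabs.perm tabs.word 31 1 192582 :=
  traceFix_extendF _ _ letSel perm_eq 31 1 177768 14814 192582 rfl perm_g20_upto11 perm_piece_20_12
theorem perm_g20_upto13 : TraceFix ptabs.perm tabs.word 31 1 207396 :=
  traceFix_extendF _ _ letSel perm_eq 31 1 192582 14814 207396 rfl perm_g20_upto12 perm_piece_20_13
theorem perm_g20_upto14 : TraceFix ptabs.perm tabs.word 31 1 222210 :=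
  traceFix_extendF _ _ letSel perm_eq 31 1 207396 14814 222210 rfl perm_g20_upto13 perm_piece_20_14
theorem perm_g20_upto15 : TraceFix ptabs.perm tabs.word 31 1 237024 :=
  traceFix_extendF _ _ letSel perm_eq 31 1 222210 14814 237024 rfl perm_g20_upto14 perm_piece_20_15
theorem perm_g20_upto16 : TraceFix ptabs.perm tabs.word 31 1 251838 :=
  traceFix_extendF _ _ letSel perm_eq 31 1 237024 14814 251838 rfl perm_g20_upto15 perm_piece_20_16
theorem perm_g20_upto17 : TraceFix ptabs.perm tabs.word 31 1 266560 :=
  traceFix_extendF _ _ letSel perm_eq 31 1 251838 14722 266560 rfl perm_g20_upto16 perm_piece_20_17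
theorem perm_g20_fix : TraceFix ptabs.perm tabs.word 31 1 ptabs.n := perm_g20_upto17
theorem perm_g20 : ∀ r, 31 ≤ r → r < 31 + 1 → relOk ptabs (tabs.word r) 0 ptabs.n = true :=
  relOk_of_traceFix ptabs tabs.word 31 1 perm_g20_upto17
theorem perm_g21_upto0 : TraceFix ptabs.perm tabs.word 32 1 14814 :=
  traceFix_extendF _ _ letSel perm_eq 32 1 0 14814 14814 rfl (traceFix_zero _ _ 32 1) perm_piece_21_0
theorem perm_g21_upto1 : TraceFix ptabs.perm tabs.word 32 1 29628 :=
  traceFix_extendF _ _ letSel perm_eq 32 1 14814 14814 29628 rfl perm_g21_upto0 perm_piece_21_1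
theorem perm_g21_upto2 : TraceFix ptabs.perm tabs.word 32 1 44442 :=
  traceFix_extendF _ _ letSel perm_eq 32 1 29628 14814 44442 rfl perm_g21_upto1 perm_piece_21_2
theorem perm_g21_upto3 : TraceFix ptabs.perm tabs.word 32 1 59256 :=
  traceFix_extendF _ _ letSel perm_eq 32 1 44442 14814 59256 rfl perm_g21_upto2 perm_piece_21_3
theorem perm_g21_upto4 : TraceFix ptabs.perm tabs.word 32 1 74070 :=
  traceFix_extendF _ _ letSel perm_eq 32 1 59256 14814 74070 rfl perm_g21_upto3 perm_piece_21_4
theorem perm_g21_upto5 : TraceFix ptabs.perm tabs.word 32 1 88884 :=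
  traceFix_extendF _ _ letSel perm_eq 32 1 74070 14814 88884 rfl perm_g21_upto4 perm_piece_21_5
theorem perm_g21_upto6 : TraceFix ptabs.perm tabs.word 32 1 103698 :=
  traceFix_extendF _ _ letSel perm_eq 32 1 88884 14814 103698 rfl perm_g21_upto5 perm_piece_21_6
theorem perm_g21_upto7 : TraceFix ptabs.perm tabs.word 32 1 118512 :=
  traceFix_extendF _ _ letSel perm_eq 32 1 103698 14814 118512 rfl perm_g21_upto6 perm_piece_21_7
theorem perm_g21_upto8 : TraceFix ptabs.perm tabs.word 32 1 133326 :=
  traceFix_extendF _ _ letSel perm_eq 32 1 118512 14814 133326 rfl perm_g21_upto7 perm_piece_21_8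
theorem perm_g21_upto9 : TraceFix ptabs.perm tabs.word 32 1 148140 :=
  traceFix_extendF _ _ letSel perm_eq 32 1 133326 14814 148140 rfl perm_g21_upto8 perm_piece_21_9
theorem perm_g21_upto10 : TraceFix ptabs.perm tabs.word 32 1 162954 :=
  traceFix_extendF _ _ letSel perm_eq 32 1 148140 14814 162954 rfl perm_g21_upto9 perm_piece_21_10
theorem perm_g21_upto11 : TraceFix ptabs.perm tabs.word 32 1 177768 :=
  traceFix_extendF _ _ letSel perm_eq 32 1 162954 14814 177768 rfl perm_g21_upto10 perm_piece_21_11
theorem perm_g21_upto12 : TraceFix ptabs.perm tabs.word 32 1 192582 :=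
  traceFix_extendF _ _ letSel perm_eq 32 1 177768 14814 192582 rfl perm_g21_upto11 perm_piece_21_12
theorem perm_g21_upto13 : TraceFix ptabs.perm tabs.word 32 1 207396 :=
  traceFix_extendF _ _ letSel perm_eq 32 1 192582 14814 207396 rfl perm_g21_upto12 perm_piece_21_13
theorem perm_g21_upto14 : TraceFix ptabs.perm tabs.word 32 1 222210 :=
  traceFix_extendF _ _ letSel perm_eq 32 1 207396 14814 222210 rfl perm_g21_upto13 perm_piece_21_14
theorem perm_g21_upto15 : TraceFix ptabs.perm tabs.word 32 1 237024 :=
  traceFix_extendF _ _ letSel perm_eq 32 1 222210 14814 237024 rfl perm_g21_upto14 perm_piece_21_15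
theorem perm_g21_upto16 : TraceFix ptabs.perm tabs.word 32 1 251838 :=
  traceFix_extendF _ _ letSel perm_eq 32 1 237024 14814 251838 rfl perm_g21_upto15 perm_piece_21_16
theorem perm_g21_upto17 : TraceFix ptabs.perm tabs.word 32 1 266560 :=
  traceFix_extendF _ _ letSel perm_eq 32 1 251838 14722 266560 rfl perm_g21_upto16 perm_piece_21_17
theorem perm_g21_fix : TraceFix ptabs.perm tabs.word 32 1 ptabs.n := perm_g21_upto17
theorem perm_g21 : ∀ r, 32 ≤ r → r < 32 + 1 → relOk ptabs (tabs.word r) 0 ptabs.n = true :=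
  relOk_of_traceFix ptabs tabs.word 32 1 perm_g21_upto17
theorem perm_g22_upto0 : TraceFix ptabs.perm tabs.word 37 1 44444 :=
  traceFix_extendF _ _ letSel perm_eq 37 1 0 44444 44444 rfl (traceFix_zero _ _ 37 1) perm_piece_22_0
theorem perm_g22_upto1 : TraceFix ptabs.perm tabs.word 37 1 88888 :=
  traceFix_extendF _ _ letSel perm_eq 37 1 44444 44444 88888 rfl perm_g22_upto0 perm_piece_22_1
theorem perm_g22_upto2 : TraceFix ptabs.perm tabs.word 37 1 133332 :=
  traceFix_extendF _ _ letSel perm_eq 37 1 88888 44444 133332 rfl perm_g22_upto1 perm_piece_22_2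
theorem perm_g22_upto3 : TraceFix ptabs.perm tabs.word 37 1 177776 :=
  traceFix_extendF _ _ letSel perm_eq 37 1 133332 44444 177776 rfl perm_g22_upto2 perm_piece_22_3
theorem perm_g22_upto4 : TraceFix ptabs.perm tabs.word 37 1 222220 :=
  traceFix_extendF _ _ letSel perm_eq 37 1 177776 44444 222220 rfl perm_g22_upto3 perm_piece_22_4
theorem perm_g22_upto5 : TraceFix ptabs.perm tabs.word 37 1 266560 :=
  traceFix_extendF _ _ letSel perm_eq 37 1 222220 44340 266560 rfl perm_g22_upto4 perm_piece_22_5
theorem perm_g22_fix : TraceFix ptabs.perm tabs.word 37 1 ptabs.n := perm_g22_upto5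
theorem perm_g22 : ∀ r, 37 ≤ r → r < 37 + 1 → relOk ptabs (tabs.word r) 0 ptabs.n = true :=
  relOk_of_traceFix ptabs tabs.word 37 1 perm_g22_upto5
theorem perm_g23_upto0 : TraceFix ptabs.perm tabs.word 38 1 22222 :=
  traceFix_extendF _ _ letSel perm_eq 38 1 0 22222 22222 rfl (traceFix_zero _ _ 38 1) perm_piece_23_0
theorem perm_g23_upto1 : TraceFix ptabs.perm tabs.word 38 1 44444 :=
  traceFix_extendF _ _ letSel perm_eq 38 1 22222 22222 44444 rfl perm_g23_upto0 perm_piece_23_1
theorem perm_g23_upto2 : TraceFix ptabs.perm tabs.word 38 1 66666 :=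
  traceFix_extendF _ _ letSel perm_eq 38 1 44444 22222 66666 rfl perm_g23_upto1 perm_piece_23_2
theorem perm_g23_upto3 : TraceFix ptabs.perm tabs.word 38 1 88888 :=
  traceFix_extendF _ _ letSel perm_eq 38 1 66666 22222 88888 rfl perm_g23_upto2 perm_piece_23_3
theorem perm_g23_upto4 : TraceFix ptabs.perm tabs.word 38 1 111110 :=
  traceFix_extendF _ _ letSel perm_eq 38 1 88888 22222 111110 rfl perm_g23_upto3 perm_piece_23_4
theorem perm_g23_upto5 : TraceFix ptabs.perm tabs.word 38 1 133332 :=
  traceFix_extendF _ _ letSel perm_eq 38 1 111110 22222 133332 rfl perm_g23_upto4 perm_piece_23_5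
theorem perm_g23_upto6 : TraceFix ptabs.perm tabs.word 38 1 155554 :=
  traceFix_extendF _ _ letSel perm_eq 38 1 133332 22222 155554 rfl perm_g23_upto5 perm_piece_23_6
theorem perm_g23_upto7 : TraceFix ptabs.perm tabs.word 38 1 177776 :=
  traceFix_extendF _ _ letSel perm_eq 38 1 155554 22222 177776 rfl perm_g23_upto6 perm_piece_23_7
theorem perm_g23_upto8 : TraceFix ptabs.perm tabs.word 38 1 199998 :=
  traceFix_extendF _ _ letSel perm_eq 38 1 177776 22222 199998 rfl perm_g23_upto7 perm_piece_23_8
theorem perm_g23_upto9 : TraceFix ptabs.perm tabs.word 38 1 222220 :=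
  traceFix_extendF _ _ letSel perm_eq 38 1 199998 22222 222220 rfl perm_g23_upto8 perm_piece_23_9
theorem perm_g23_upto10 : TraceFix ptabs.perm tabs.word 38 1 244442 :=
  traceFix_extendF _ _ letSel perm_eq 38 1 222220 22222 244442 rfl perm_g23_upto9 perm_piece_23_10
theorem perm_g23_upto11 : TraceFix ptabs.perm tabs.word 38 1 266560 :=
  traceFix_extendF _ _ letSel perm_eq 38 1 244442 22118 266560 rfl perm_g23_upto10 perm_piece_23_11
theorem perm_g23_fix : TraceFix ptabs.perm tabs.word 38 1 ptabs.n := perm_g23_upto11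
theorem perm_g23 : ∀ r, 38 ≤ r → r < 38 + 1 → relOk ptabs (tabs.word r) 0 ptabs.n = true :=
  relOk_of_traceFix ptabs tabs.word 38 1 perm_g23_upto11
theorem perm_g24_upto0 : TraceFix ptabs.perm tabs.word 39 1 22222 :=
  traceFix_extendF _ _ letSel perm_eq 39 1 0 22222 22222 rfl (traceFix_zero _ _ 39 1) perm_piece_24_0
theorem perm_g24_upto1 : TraceFix ptabs.perm tabs.word 39 1 44444 :=
  traceFix_extendF _ _ letSel perm_eq 39 1 22222 22222 44444 rfl perm_g24_upto0 perm_piece_24_1
theorem perm_g24_upto2 : TraceFix ptabs.perm tabs.word 39 1 66666 :=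
  traceFix_extendF _ _ letSel perm_eq 39 1 44444 22222 66666 rfl perm_g24_upto1 perm_piece_24_2
theorem perm_g24_upto3 : TraceFix ptabs.perm tabs.word 39 1 88888 :=
  traceFix_extendF _ _ letSel perm_eq 39 1 66666 22222 88888 rfl perm_g24_upto2 perm_piece_24_3
theorem perm_g24_upto4 : TraceFix ptabs.perm tabs.word 39 1 111110 :=
  traceFix_extendF _ _ letSel perm_eq 39 1 88888 22222 111110 rfl perm_g24_upto3 perm_piece_24_4
theorem perm_g24_upto5 : TraceFix ptabs.perm tabs.word 39 1 133332 :=
  traceFix_extendF _ _ letSel perm_eq 39 1 111110 22222 133332 rfl perm_g24_upto4 perm_piece_24_5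
theorem perm_g24_upto6 : TraceFix ptabs.perm tabs.word 39 1 155554 :=
  traceFix_extendF _ _ letSel perm_eq 39 1 133332 22222 155554 rfl perm_g24_upto5 perm_piece_24_6
theorem perm_g24_upto7 : TraceFix ptabs.perm tabs.word 39 1 177776 :=
  traceFix_extendF _ _ letSel perm_eq 39 1 155554 22222 177776 rfl perm_g24_upto6 perm_piece_24_7
theorem perm_g24_upto8 : TraceFix ptabs.perm tabs.word 39 1 199998 :=
  traceFix_extendF _ _ letSel perm_eq 39 1 177776 22222 199998 rfl perm_g24_upto7 perm_piece_24_8
theorem perm_g24_upto9 : TraceFix ptabs.perm tabs.word 39 1 222220 :=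
  traceFix_extendF _ _ letSel perm_eq 39 1 199998 22222 222220 rfl perm_g24_upto8 perm_piece_24_9
theorem perm_g24_upto10 : TraceFix ptabs.perm tabs.word 39 1 244442 :=
  traceFix_extendF _ _ letSel perm_eq 39 1 222220 22222 244442 rfl perm_g24_upto9 perm_piece_24_10
theorem perm_g24_upto11 : TraceFix ptabs.perm tabs.word 39 1 266560 :=
  traceFix_extendF _ _ letSel perm_eq 39 1 244442 22118 266560 rfl perm_g24_upto10 perm_piece_24_11
theorem perm_g24_fix : TraceFix ptabs.perm tabs.word 39 1 ptabs.n := perm_g24_upto11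
theorem perm_g24 : ∀ r, 39 ≤ r → r < 39 + 1 → relOk ptabs (tabs.word r) 0 ptabs.n = true :=
  relOk_of_traceFix ptabs tabs.word 39 1 perm_g24_upto11
theorem perm_g25_upto0 : TraceFix ptabs.perm tabs.word 45 1 44444 :=
  traceFix_extendF _ _ letSel perm_eq 45 1 0 44444 44444 rfl (traceFix_zero _ _ 45 1) perm_piece_25_0
theorem perm_g25_upto1 : TraceFix ptabs.perm tabs.word 45 1 88888 :=
  traceFix_extendF _ _ letSel perm_eq 45 1 44444 44444 88888 rfl perm_g25_upto0 perm_piece_25_1
theorem perm_g25_upto2 : TraceFix ptabs.perm tabs.word 45 1 133332 :=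
  traceFix_extendF _ _ letSel perm_eq 45 1 88888 44444 133332 rfl perm_g25_upto1 perm_piece_25_2
theorem perm_g25_upto3 : TraceFix ptabs.perm tabs.word 45 1 177776 :=
  traceFix_extendF _ _ letSel perm_eq 45 1 133332 44444 177776 rfl perm_g25_upto2 perm_piece_25_3
theorem perm_g25_upto4 : TraceFix ptabs.perm tabs.word 45 1 222220 :=
  traceFix_extendF _ _ letSel perm_eq 45 1 177776 44444 222220 rfl perm_g25_upto3 perm_piece_25_4
theorem perm_g25_upto5 : TraceFix ptabs.perm tabs.word 45 1 266560 :=
  traceFix_extendF _ _ letSel perm_eq 45 1 222220 44340 266560 rfl perm_g25_upto4 perm_piece_25_5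
theorem perm_g25_fix : TraceFix ptabs.perm tabs.word 45 1 ptabs.n := perm_g25_upto5
theorem perm_g25 : ∀ r, 45 ≤ r → r < 45 + 1 → relOk ptabs (tabs.word r) 0 ptabs.n = true :=
  relOk_of_traceFix ptabs tabs.word 45 1 perm_g25_upto5
theorem perm_g26_upto0 : TraceFix ptabs.perm tabs.word 46 1 11111 :=
  traceFix_extendF _ _ letSel perm_eq 46 1 0 11111 11111 rfl (traceFix_zero _ _ 46 1) perm_piece_26_0
theorem perm_g26_upto1 : TraceFix ptabs.perm tabs.word 46 1 22222 :=
  traceFix_extendF _ _ letSel perm_eq 46 1 11111 11111 22222 rfl perm_g26_upto0 perm_piece_26_1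
theorem perm_g26_upto2 : TraceFix ptabs.perm tabs.word 46 1 33333 :=
  traceFix_extendF _ _ letSel perm_eq 46 1 22222 11111 33333 rfl perm_g26_upto1 perm_piece_26_2
theorem perm_g26_upto3 : TraceFix ptabs.perm tabs.word 46 1 44444 :=
  traceFix_extendF _ _ letSel perm_eq 46 1 33333 11111 44444 rfl perm_g26_upto2 perm_piece_26_3
theorem perm_g26_upto4 : TraceFix ptabs.perm tabs.word 46 1 55555 :=
  traceFix_extendF _ _ letSel perm_eq 46 1 44444 11111 55555 rfl perm_g26_upto3 perm_piece_26_4
theorem perm_g26_upto5 : TraceFix ptabs.perm tabs.word 46 1 66666 :=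
  traceFix_extendF _ _ letSel perm_eq 46 1 55555 11111 66666 rfl perm_g26_upto4 perm_piece_26_5
theorem perm_g26_upto6 : TraceFix ptabs.perm tabs.word 46 1 77777 :=
  traceFix_extendF _ _ letSel perm_eq 46 1 66666 11111 77777 rfl perm_g26_upto5 perm_piece_26_6
theorem perm_g26_upto7 : TraceFix ptabs.perm tabs.word 46 1 88888 :=
  traceFix_extendF _ _ letSel perm_eq 46 1 77777 11111 88888 rfl perm_g26_upto6 perm_piece_26_7
theorem perm_g26_upto8 : TraceFix ptabs.perm tabs.word 46 1 99999 :=
  traceFix_extendF _ _ letSel perm_eq 46 1 88888 11111 99999 rfl perm_g26_upto7 perm_piece_26_8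
theorem perm_g26_upto9 : TraceFix ptabs.perm tabs.word 46 1 111110 :=
  traceFix_extendF _ _ letSel perm_eq 46 1 99999 11111 111110 rfl perm_g26_upto8 perm_piece_26_9
theorem perm_g26_upto10 : TraceFix ptabs.perm tabs.word 46 1 122221 :=
  traceFix_extendF _ _ letSel perm_eq 46 1 111110 11111 122221 rfl perm_g26_upto9 perm_piece_26_10
theorem perm_g26_upto11 : TraceFix ptabs.perm tabs.word 46 1 133332 :=
  traceFix_extendF _ _ letSel perm_eq 46 1 122221 11111 133332 rfl perm_g26_upto10 perm_piece_26_11
theorem perm_g26_upto12 : TraceFix ptabs.perm tabs.word 46 1 144443 :=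
  traceFix_extendF _ _ letSel perm_eq 46 1 133332 11111 144443 rfl perm_g26_upto11 perm_piece_26_12
theorem perm_g26_upto13 : TraceFix ptabs.perm tabs.word 46 1 155554 :=
  traceFix_extendF _ _ letSel perm_eq 46 1 144443 11111 155554 rfl perm_g26_upto12 perm_piece_26_13
theorem perm_g26_upto14 : TraceFix ptabs.perm tabs.word 46 1 166665 :=
  traceFix_extendF _ _ letSel perm_eq 46 1 155554 11111 166665 rfl perm_g26_upto13 perm_piece_26_14
theorem perm_g26_upto15 : TraceFix ptabs.perm tabs.word 46 1 177776 :=
  traceFix_extendF _ _ letSel perm_eq 46 1 166665 11111 177776 rfl perm_g26_upto14 perm_piece_26_15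
theorem perm_g26_upto16 : TraceFix ptabs.perm tabs.word 46 1 188887 :=
  traceFix_extendF _ _ letSel perm_eq 46 1 177776 11111 188887 rfl perm_g26_upto15 perm_piece_26_16
theorem perm_g26_upto17 : TraceFix ptabs.perm tabs.word 46 1 199998 :=
  traceFix_extendF _ _ letSel perm_eq 46 1 188887 11111 199998 rfl perm_g26_upto16 perm_piece_26_17
theorem perm_g26_upto18 : TraceFix ptabs.perm tabs.word 46 1 211109 :=
  traceFix_extendF _ _ letSel perm_eq 46 1 199998 11111 211109 rfl perm_g26_upto17 perm_piece_26_18
theorem perm_g26_upto19 : TraceFix ptabs.perm tabs.word 46 1 222220 :=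
  traceFix_extendF _ _ letSel perm_eq 46 1 211109 11111 222220 rfl perm_g26_upto18 perm_piece_26_19
theorem perm_g26_upto20 : TraceFix ptabs.perm tabs.word 46 1 233331 :=
  traceFix_extendF _ _ letSel perm_eq 46 1 222220 11111 233331 rfl perm_g26_upto19 perm_piece_26_20
theorem perm_g26_upto21 : TraceFix ptabs.perm tabs.word 46 1 244442 :=
  traceFix_extendF _ _ letSel perm_eq 46 1 233331 11111 244442 rfl perm_g26_upto20 perm_piece_26_21
theorem perm_g26_upto22 : TraceFix ptabs.perm tabs.word 46 1 255553 :=
  traceFix_extendF _ _ letSel perm_eq 46 1 244442 11111 255553 rfl perm_g26_upto21 perm_piece_26_22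
theorem perm_g26_upto23 : TraceFix ptabs.perm tabs.word 46 1 266560 :=
  traceFix_extendF _ _ letSel perm_eq 46 1 255553 11007 266560 rfl perm_g26_upto22 perm_piece_26_23
theorem perm_g26_fix : TraceFix ptabs.perm tabs.word 46 1 ptabs.n := perm_g26_upto23
theorem perm_g26 : ∀ r, 46 ≤ r → r < 46 + 1 → relOk ptabs (tabs.word r) 0 ptabs.n = true :=
  relOk_of_traceFix ptabs tabs.word 46 1 perm_g26_upto23
theorem perm_g27_upto0 : TraceFix ptabs.perm tabs.word 53 1 44444 :=
  traceFix_extendF _ _ letSel perm_eq 53 1 0 44444 44444 rfl (traceFix_zero _ _ 53 1) perm_piece_27_0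
theorem perm_g27_upto1 : TraceFix ptabs.perm tabs.word 53 1 88888 :=
  traceFix_extendF _ _ letSel perm_eq 53 1 44444 44444 88888 rfl perm_g27_upto0 perm_piece_27_1
theorem perm_g27_upto2 : TraceFix ptabs.perm tabs.word 53 1 133332 :=
  traceFix_extendF _ _ letSel perm_eq 53 1 88888 44444 133332 rfl perm_g27_upto1 perm_piece_27_2
theorem perm_g27_upto3 : TraceFix ptabs.perm tabs.word 53 1 177776 :=
  traceFix_extendF _ _ letSel perm_eq 53 1 133332 44444 177776 rfl perm_g27_upto2 perm_piece_27_3
theorem perm_g27_upto4 : TraceFix ptabs.perm tabs.word 53 1 222220 :=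
  traceFix_extendF _ _ letSel perm_eq 53 1 177776 44444 222220 rfl perm_g27_upto3 perm_piece_27_4
theorem perm_g27_upto5 : TraceFix ptabs.perm tabs.word 53 1 266560 :=
  traceFix_extendF _ _ letSel perm_eq 53 1 222220 44340 266560 rfl perm_g27_upto4 perm_piece_27_5
theorem perm_g27_fix : TraceFix ptabs.perm tabs.word 53 1 ptabs.n := perm_g27_upto5
theorem perm_g27 : ∀ r, 53 ≤ r → r < 53 + 1 → relOk ptabs (tabs.word r) 0 ptabs.n = true :=
  relOk_of_traceFix ptabs tabs.word 53 1 perm_g27_upto5
theorem perm_g28_upto0 : TraceFix ptabs.perm tabs.word 54 1 17777 :=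
  traceFix_extendF _ _ letSel perm_eq 54 1 0 17777 17777 rfl (traceFix_zero _ _ 54 1) perm_piece_28_0
theorem perm_g28_upto1 : TraceFix ptabs.perm tabs.word 54 1 35554 :=
  traceFix_extendF _ _ letSel perm_eq 54 1 17777 17777 35554 rfl perm_g28_upto0 perm_piece_28_1
theorem perm_g28_upto2 : TraceFix ptabs.perm tabs.word 54 1 53331 :=
  traceFix_extendF _ _ letSel perm_eq 54 1 35554 17777 53331 rfl perm_g28_upto1 perm_piece_28_2
theorem perm_g28_upto3 : TraceFix ptabs.perm tabs.word 54 1 71108 :=
  traceFix_extendF _ _ letSel perm_eq 54 1 53331 17777 71108 rfl perm_g28_upto2 perm_piece_28_3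
theorem perm_g28_upto4 : TraceFix ptabs.perm tabs.word 54 1 88885 :=
  traceFix_extendF _ _ letSel perm_eq 54 1 71108 17777 88885 rfl perm_g28_upto3 perm_piece_28_4
theorem perm_g28_upto5 : TraceFix ptabs.perm tabs.word 54 1 106662 :=
  traceFix_extendF _ _ letSel perm_eq 54 1 88885 17777 106662 rfl perm_g28_upto4 perm_piece_28_5
theorem perm_g28_upto6 : TraceFix ptabs.perm tabs.word 54 1 124439 :=
  traceFix_extendF _ _ letSel perm_eq 54 1 106662 17777 124439 rfl perm_g28_upto5 perm_piece_28_6
theorem perm_g28_upto7 : TraceFix ptabs.perm tabs.word 54 1 142216 :=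
  traceFix_extendF _ _ letSel perm_eq 54 1 124439 17777 142216 rfl perm_g28_upto6 perm_piece_28_7
theorem perm_g28_upto8 : TraceFix ptabs.perm tabs.word 54 1 159993 :=
  traceFix_extendF _ _ letSel perm_eq 54 1 142216 17777 159993 rfl perm_g28_upto7 perm_piece_28_8
theorem perm_g28_upto9 : TraceFix ptabs.perm tabs.word 54 1 177770 :=
  traceFix_extendF _ _ letSel perm_eq 54 1 159993 17777 177770 rfl perm_g28_upto8 perm_piece_28_9
theorem perm_g28_upto10 : TraceFix ptabs.perm tabs.word 54 1 195547 :=
  traceFix_extendF _ _ letSel perm_eq 54 1 177770 17777 195547 rfl perm_g28_upto9 perm_piece_28_10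
theorem perm_g28_upto11 : TraceFix ptabs.perm tabs.word 54 1 213324 :=
  traceFix_extendF _ _ letSel perm_eq 54 1 195547 17777 213324 rfl perm_g28_upto10 perm_piece_28_11
theorem perm_g28_upto12 : TraceFix ptabs.perm tabs.word 54 1 231101 :=
  traceFix_extendF _ _ letSel perm_eq 54 1 213324 17777 231101 rfl perm_g28_upto11 perm_piece_28_12
theorem perm_g28_upto13 : TraceFix ptabs.perm tabs.word 54 1 248878 :=
  traceFix_extendF _ _ letSel perm_eq 54 1 231101 17777 248878 rfl perm_g28_upto12 perm_piece_28_13
theorem perm_g28_upto14 : TraceFix ptabs.perm tabs.word 54 1 266560 :=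
  traceFix_extendF _ _ letSel perm_eq 54 1 248878 17682 266560 rfl perm_g28_upto13 perm_piece_28_14
theorem perm_g28_fix : TraceFix ptabs.perm tabs.word 54 1 ptabs.n := perm_g28_upto14
theorem perm_g28 : ∀ r, 54 ≤ r → r < 54 + 1 → relOk ptabs (tabs.word r) 0 ptabs.n = true :=
  relOk_of_traceFix ptabs tabs.word 54 1 perm_g28_upto14
theorem perm_g29_upto0 : TraceFix ptabs.perm tabs.word 74 1 22222 :=
  traceFix_extendF _ _ letSel perm_eq 74 1 0 22222 22222 rfl (traceFix_zero _ _ 74 1) perm_piece_29_0
theorem perm_g29_upto1 : TraceFix ptabs.perm tabs.word 74 1 44444 :=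
  traceFix_extendF _ _ letSel perm_eq 74 1 22222 22222 44444 rfl perm_g29_upto0 perm_piece_29_1
theorem perm_g29_upto2 : TraceFix ptabs.perm tabs.word 74 1 66666 :=
  traceFix_extendF _ _ letSel perm_eq 74 1 44444 22222 66666 rfl perm_g29_upto1 perm_piece_29_2
theorem perm_g29_upto3 : TraceFix ptabs.perm tabs.word 74 1 88888 :=
  traceFix_extendF _ _ letSel perm_eq 74 1 66666 22222 88888 rfl perm_g29_upto2 perm_piece_29_3
theorem perm_g29_upto4 : TraceFix ptabs.perm tabs.word 74 1 111110 :=
  traceFix_extendF _ _ letSel perm_eq 74 1 88888 22222 111110 rfl perm_g29_upto3 perm_piece_29_4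
theorem perm_g29_upto5 : TraceFix ptabs.perm tabs.word 74 1 133332 :=
  traceFix_extendF _ _ letSel perm_eq 74 1 111110 22222 133332 rfl perm_g29_upto4 perm_piece_29_5
theorem perm_g29_upto6 : TraceFix ptabs.perm tabs.word 74 1 155554 :=
  traceFix_extendF _ _ letSel perm_eq 74 1 133332 22222 155554 rfl perm_g29_upto5 perm_piece_29_6
theorem perm_g29_upto7 : TraceFix ptabs.perm tabs.word 74 1 177776 :=
  traceFix_extendF _ _ letSel perm_eq 74 1 155554 22222 177776 rfl perm_g29_upto6 perm_piece_29_7
theorem perm_g29_upto8 : TraceFix ptabs.perm tabs.word 74 1 199998 :=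
  traceFix_extendF _ _ letSel perm_eq 74 1 177776 22222 199998 rfl perm_g29_upto7 perm_piece_29_8
theorem perm_g29_upto9 : TraceFix ptabs.perm tabs.word 74 1 222220 :=
  traceFix_extendF _ _ letSel perm_eq 74 1 199998 22222 222220 rfl perm_g29_upto8 perm_piece_29_9
theorem perm_g29_upto10 : TraceFix ptabs.perm tabs.word 74 1 244442 :=
  traceFix_extendF _ _ letSel perm_eq 74 1 222220 22222 244442 rfl perm_g29_upto9 perm_piece_29_10
theorem perm_g29_upto11 : TraceFix ptabs.perm tabs.word 74 1 266560 :=
  traceFix_extendF _ _ letSel perm_eq 74 1 244442 22118 266560 rfl perm_g29_upto10 perm_piece_29_11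
theorem perm_g29_fix : TraceFix ptabs.perm tabs.word 74 1 ptabs.n := perm_g29_upto11
theorem perm_g29 : ∀ r, 74 ≤ r → r < 74 + 1 → relOk ptabs (tabs.word r) 0 ptabs.n = true :=
  relOk_of_traceFix ptabs tabs.word 74 1 perm_g29_upto11
theorem perm_g30_upto0 : TraceFix ptabs.perm tabs.word 56 1 8080 :=
  traceFix_extendF _ _ letSel perm_eq 56 1 0 8080 8080 rfl (traceFix_zero _ _ 56 1) perm_piece_30_0
theorem perm_g30_upto1 : TraceFix ptabs.perm tabs.word 56 1 16160 :=
  traceFix_extendF _ _ letSel perm_eq 56 1 8080 8080 16160 rfl perm_g30_upto0 perm_piece_30_1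
theorem perm_g30_upto2 : TraceFix ptabs.perm tabs.word 56 1 24240 :=
  traceFix_extendF _ _ letSel perm_eq 56 1 16160 8080 24240 rfl perm_g30_upto1 perm_piece_30_2
theorem perm_g30_upto3 : TraceFix ptabs.perm tabs.word 56 1 32320 :=
  traceFix_extendF _ _ letSel perm_eq 56 1 24240 8080 32320 rfl perm_g30_upto2 perm_piece_30_3
theorem perm_g30_upto4 : TraceFix ptabs.perm tabs.word 56 1 40400 :=
  traceFix_extendF _ _ letSel perm_eq 56 1 32320 8080 40400 rfl perm_g30_upto3 perm_piece_30_4
theorem perm_g30_upto5 : TraceFix ptabs.perm tabs.word 56 1 48480 :=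
  traceFix_extendF _ _ letSel perm_eq 56 1 40400 8080 48480 rfl perm_g30_upto4 perm_piece_30_5
theorem perm_g30_upto6 : TraceFix ptabs.perm tabs.word 56 1 56560 :=
  traceFix_extendF _ _ letSel perm_eq 56 1 48480 8080 56560 rfl perm_g30_upto5 perm_piece_30_6
theorem perm_g30_upto7 : TraceFix ptabs.perm tabs.word 56 1 64640 :=
  traceFix_extendF _ _ letSel perm_eq 56 1 56560 8080 64640 rfl perm_g30_upto6 perm_piece_30_7
theorem perm_g30_upto8 : TraceFix ptabs.perm tabs.word 56 1 72720 :=
  traceFix_extendF _ _ letSel perm_eq 56 1 64640 8080 72720 rfl perm_g30_upto7 perm_piece_30_8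
theorem perm_g30_upto9 : TraceFix ptabs.perm tabs.word 56 1 80800 :=
  traceFix_extendF _ _ letSel perm_eq 56 1 72720 8080 80800 rfl perm_g30_upto8 perm_piece_30_9
theorem perm_g30_upto10 : TraceFix ptabs.perm tabs.word 56 1 88880 :=
  traceFix_extendF _ _ letSel perm_eq 56 1 80800 8080 88880 rfl perm_g30_upto9 perm_piece_30_10
theorem perm_g30_upto11 : TraceFix ptabs.perm tabs.word 56 1 96960 :=
  traceFix_extendF _ _ letSel perm_eq 56 1 88880 8080 96960 rfl perm_g30_upto10 perm_piece_30_11
theorem perm_g30_upto12 : TraceFix ptabs.perm tabs.word 56 1 105040 :=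
  traceFix_extendF _ _ letSel perm_eq 56 1 96960 8080 105040 rfl perm_g30_upto11 perm_piece_30_12
theorem perm_g30_upto13 : TraceFix ptabs.perm tabs.word 56 1 113120 :=
  traceFix_extendF _ _ letSel perm_eq 56 1 105040 8080 113120 rfl perm_g30_upto12 perm_piece_30_13
theorem perm_g30_upto14 : TraceFix ptabs.perm tabs.word 56 1 121200 :=
  traceFix_extendF _ _ letSel perm_eq 56 1 113120 8080 121200 rfl perm_g30_upto13 perm_piece_30_14
theorem perm_g30_upto15 : TraceFix ptabs.perm tabs.word 56 1 129280 :=
  traceFix_extendF _ _ letSel perm_eq 56 1 121200 8080 129280 rfl perm_g30_upto14 perm_piece_30_15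
theorem perm_g30_upto16 : TraceFix ptabs.perm tabs.word 56 1 137360 :=
  traceFix_extendF _ _ letSel perm_eq 56 1 129280 8080 137360 rfl perm_g30_upto15 perm_piece_30_16
theorem perm_g30_upto17 : TraceFix ptabs.perm tabs.word 56 1 145440 :=
  traceFix_extendF _ _ letSel perm_eq 56 1 137360 8080 145440 rfl perm_g30_upto16 perm_piece_30_17
theorem perm_g30_upto18 : TraceFix ptabs.perm tabs.word 56 1 153520 :=
  traceFix_extendF _ _ letSel perm_eq 56 1 145440 8080 153520 rfl perm_g30_upto17 perm_piece_30_18
theorem perm_g30_upto19 : TraceFix ptabs.perm tabs.word 56 1 161600 :=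
  traceFix_extendF _ _ letSel perm_eq 56 1 153520 8080 161600 rfl perm_g30_upto18 perm_piece_30_19
theorem perm_g30_upto20 : TraceFix ptabs.perm tabs.word 56 1 169680 :=
  traceFix_extendF _ _ letSel perm_eq 56 1 161600 8080 169680 rfl perm_g30_upto19 perm_piece_30_20
theorem perm_g30_upto21 : TraceFix ptabs.perm tabs.word 56 1 177760 :=
  traceFix_extendF _ _ letSel perm_eq 56 1 169680 8080 177760 rfl perm_g30_upto20 perm_piece_30_21
theorem perm_g30_upto22 : TraceFix ptabs.perm tabs.word 56 1 185840 :=
  traceFix_extendF _ _ letSel perm_eq 56 1 177760 8080 185840 rfl perm_g30_upto21 perm_piece_30_22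
theorem perm_g30_upto23 : TraceFix ptabs.perm tabs.word 56 1 193920 :=
  traceFix_extendF _ _ letSel perm_eq 56 1 185840 8080 193920 rfl perm_g30_upto22 perm_piece_30_23
theorem perm_g30_upto24 : TraceFix ptabs.perm tabs.word 56 1 202000 :=
  traceFix_extendF _ _ letSel perm_eq 56 1 193920 8080 202000 rfl perm_g30_upto23 perm_piece_30_24
theorem perm_g30_upto25 : TraceFix ptabs.perm tabs.word 56 1 210080 :=
  traceFix_extendF _ _ letSel perm_eq 56 1 202000 8080 210080 rfl perm_g30_upto24 perm_piece_30_25
theorem perm_g30_upto26 : TraceFix ptabs.perm tabs.word 56 1 218160 :=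
  traceFix_extendF _ _ letSel perm_eq 56 1 210080 8080 218160 rfl perm_g30_upto25 perm_piece_30_26
theorem perm_g30_upto27 : TraceFix ptabs.perm tabs.word 56 1 226240 :=
  traceFix_extendF _ _ letSel perm_eq 56 1 218160 8080 226240 rfl perm_g30_upto26 perm_piece_30_27
theorem perm_g30_upto28 : TraceFix ptabs.perm tabs.word 56 1 234320 :=
  traceFix_extendF _ _ letSel perm_eq 56 1 226240 8080 234320 rfl perm_g30_upto27 perm_piece_30_28
theorem perm_g30_upto29 : TraceFix ptabs.perm tabs.word 56 1 242400 :=
  traceFix_extendF _ _ letSel perm_eq 56 1 234320 8080 242400 rfl perm_g30_upto28 perm_piece_30_29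
theorem perm_g30_upto30 : TraceFix ptabs.perm tabs.word 56 1 250480 :=
  traceFix_extendF _ _ letSel perm_eq 56 1 242400 8080 250480 rfl perm_g30_upto29 perm_piece_30_30
theorem perm_g30_upto31 : TraceFix ptabs.perm tabs.word 56 1 258560 :=
  traceFix_extendF _ _ letSel perm_eq 56 1 250480 8080 258560 rfl perm_g30_upto30 perm_piece_30_31
theorem perm_g30_upto32 : TraceFix ptabs.perm tabs.word 56 1 266560 :=
  traceFix_extendF _ _ letSel perm_eq 56 1 258560 8000 266560 rfl perm_g30_upto31 perm_piece_30_32
theorem perm_g30_fix : TraceFix ptabs.perm tabs.word 56 1 ptabs.n := perm_g30_upto32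
theorem perm_g30 : ∀ r, 56 ≤ r → r < 56 + 1 → relOk ptabs (tabs.word r) 0 ptabs.n = true :=
  relOk_of_traceFix ptabs tabs.word 56 1 perm_g30_upto32
theorem perm_g31_upto0 : TraceFix ptabs.perm tabs.word 76 1 22222 :=
  traceFix_extendF _ _ letSel perm_eq 76 1 0 22222 22222 rfl (traceFix_zero _ _ 76 1) perm_piece_31_0
theorem perm_g31_upto1 : TraceFix ptabs.perm tabs.word 76 1 44444 :=
  traceFix_extendF _ _ letSel perm_eq 76 1 22222 22222 44444 rfl perm_g31_upto0 perm_piece_31_1
theorem perm_g31_upto2 : TraceFix ptabs.perm tabs.word 76 1 66666 :=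
  traceFix_extendF _ _ letSel perm_eq 76 1 44444 22222 66666 rfl perm_g31_upto1 perm_piece_31_2
theorem perm_g31_upto3 : TraceFix ptabs.perm tabs.word 76 1 88888 :=
  traceFix_extendF _ _ letSel perm_eq 76 1 66666 22222 88888 rfl perm_g31_upto2 perm_piece_31_3
theorem perm_g31_upto4 : TraceFix ptabs.perm tabs.word 76 1 111110 :=
  traceFix_extendF _ _ letSel perm_eq 76 1 88888 22222 111110 rfl perm_g31_upto3 perm_piece_31_4
theorem perm_g31_upto5 : TraceFix ptabs.perm tabs.word 76 1 133332 :=
  traceFix_extendF _ _ letSel perm_eq 76 1 111110 22222 133332 rfl perm_g31_upto4 perm_piece_31_5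
theorem perm_g31_upto6 : TraceFix ptabs.perm tabs.word 76 1 155554 :=
  traceFix_extendF _ _ letSel perm_eq 76 1 133332 22222 155554 rfl perm_g31_upto5 perm_piece_31_6
theorem perm_g31_upto7 : TraceFix ptabs.perm tabs.word 76 1 177776 :=
  traceFix_extendF _ _ letSel perm_eq 76 1 155554 22222 177776 rfl perm_g31_upto6 perm_piece_31_7
theorem perm_g31_upto8 : TraceFix ptabs.perm tabs.word 76 1 199998 :=
  traceFix_extendF _ _ letSel perm_eq 76 1 177776 22222 199998 rfl perm_g31_upto7 perm_piece_31_8
theorem perm_g31_upto9 : TraceFix ptabs.perm tabs.word 76 1 222220 :=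
  traceFix_extendF _ _ letSel perm_eq 76 1 199998 22222 222220 rfl perm_g31_upto8 perm_piece_31_9
theorem perm_g31_upto10 : TraceFix ptabs.perm tabs.word 76 1 244442 :=
  traceFix_extendF _ _ letSel perm_eq 76 1 222220 22222 244442 rfl perm_g31_upto9 perm_piece_31_10
theorem perm_g31_upto11 : TraceFix ptabs.perm tabs.word 76 1 266560 :=
  traceFix_extendF _ _ letSel perm_eq 76 1 244442 22118 266560 rfl perm_g31_upto10 perm_piece_31_11
theorem perm_g31_fix : TraceFix ptabs.perm tabs.word 76 1 ptabs.n := perm_g31_upto11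
theorem perm_g31 : ∀ r, 76 ≤ r → r < 76 + 1 → relOk ptabs (tabs.word r) 0 ptabs.n = true :=
  relOk_of_traceFix ptabs tabs.word 76 1 perm_g31_upto11
theorem macro_14_upto0 : MacroOk ptabs.perm tabs.word 14 73 22222 :=
  macroOk_extend _ _ letSel perm_eq 14 73 0 22222 22222 rfl (macroOk_zero _ _ 14 73) macro_piece_14_0
theorem macro_14_upto1 : MacroOk ptabs.perm tabs.word 14 73 44444 :=
  macroOk_extend _ _ letSel perm_eq 14 73 22222 22222 44444 rfl macro_14_upto0 macro_piece_14_1
theorem macro_14_upto2 : MacroOk ptabs.perm tabs.word 14 73 66666 :=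
  macroOk_extend _ _ letSel perm_eq 14 73 44444 22222 66666 rfl macro_14_upto1 macro_piece_14_2
theorem macro_14_upto3 : MacroOk ptabs.perm tabs.word 14 73 88888 :=
  macroOk_extend _ _ letSel perm_eq 14 73 66666 22222 88888 rfl macro_14_upto2 macro_piece_14_3
theorem macro_14_upto4 : MacroOk ptabs.perm tabs.word 14 73 111110 :=
  macroOk_extend _ _ letSel perm_eq 14 73 88888 22222 111110 rfl macro_14_upto3 macro_piece_14_4
theorem macro_14_upto5 : MacroOk ptabs.perm tabs.word 14 73 133332 :=
  macroOk_extend _ _ letSel perm_eq 14 73 111110 22222 133332 rfl macro_14_upto4 macro_piece_14_5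
theorem macro_14_upto6 : MacroOk ptabs.perm tabs.word 14 73 155554 :=
  macroOk_extend _ _ letSel perm_eq 14 73 133332 22222 155554 rfl macro_14_upto5 macro_piece_14_6
theorem macro_14_upto7 : MacroOk ptabs.perm tabs.word 14 73 177776 :=
  macroOk_extend _ _ letSel perm_eq 14 73 155554 22222 177776 rfl macro_14_upto6 macro_piece_14_7
theorem macro_14_upto8 : MacroOk ptabs.perm tabs.word 14 73 199998 :=
  macroOk_extend _ _ letSel perm_eq 14 73 177776 22222 199998 rfl macro_14_upto7 macro_piece_14_8
theorem macro_14_upto9 : MacroOk ptabs.perm tabs.word 14 73 222220 :=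
  macroOk_extend _ _ letSel perm_eq 14 73 199998 22222 222220 rfl macro_14_upto8 macro_piece_14_9
theorem macro_14_upto10 : MacroOk ptabs.perm tabs.word 14 73 244442 :=
  macroOk_extend _ _ letSel perm_eq 14 73 222220 22222 244442 rfl macro_14_upto9 macro_piece_14_10
theorem macro_14_upto11 : MacroOk ptabs.perm tabs.word 14 73 266560 :=
  macroOk_extend _ _ letSel perm_eq 14 73 244442 22118 266560 rfl macro_14_upto10 macro_piece_14_11
theorem macro_14_ok : MacroOk ptabs.perm tabs.word 14 73 266560 := macro_14_upto11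
theorem macro_15_upto0 : MacroOk ptabs.perm tabs.word 15 75 17777 :=
  macroOk_extend _ _ letSel perm_eq 15 75 0 17777 17777 rfl (macroOk_zero _ _ 15 75) macro_piece_15_0
theorem macro_15_upto1 : MacroOk ptabs.perm tabs.word 15 75 35554 :=
  macroOk_extend _ _ letSel perm_eq 15 75 17777 17777 35554 rfl macro_15_upto0 macro_piece_15_1
theorem macro_15_upto2 : MacroOk ptabs.perm tabs.word 15 75 53331 :=
  macroOk_extend _ _ letSel perm_eq 15 75 35554 17777 53331 rfl macro_15_upto1 macro_piece_15_2
theorem macro_15_upto3 : MacroOk ptabs.perm tabs.word 15 75 71108 :=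
  macroOk_extend _ _ letSel perm_eq 15 75 53331 17777 71108 rfl macro_15_upto2 macro_piece_15_3
theorem macro_15_upto4 : MacroOk ptabs.perm tabs.word 15 75 88885 :=
  macroOk_extend _ _ letSel perm_eq 15 75 71108 17777 88885 rfl macro_15_upto3 macro_piece_15_4
theorem macro_15_upto5 : MacroOk ptabs.perm tabs.word 15 75 106662 :=
  macroOk_extend _ _ letSel perm_eq 15 75 88885 17777 106662 rfl macro_15_upto4 macro_piece_15_5
theorem macro_15_upto6 : MacroOk ptabs.perm tabs.word 15 75 124439 :=
  macroOk_extend _ _ letSel perm_eq 15 75 106662 17777 124439 rfl macro_15_upto5 macro_piece_15_6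
theorem macro_15_upto7 : MacroOk ptabs.perm tabs.word 15 75 142216 :=
  macroOk_extend _ _ letSel perm_eq 15 75 124439 17777 142216 rfl macro_15_upto6 macro_piece_15_7
theorem macro_15_upto8 : MacroOk ptabs.perm tabs.word 15 75 159993 :=
  macroOk_extend _ _ letSel perm_eq 15 75 142216 17777 159993 rfl macro_15_upto7 macro_piece_15_8
theorem macro_15_upto9 : MacroOk ptabs.perm tabs.word 15 75 177770 :=
  macroOk_extend _ _ letSel perm_eq 15 75 159993 17777 177770 rfl macro_15_upto8 macro_piece_15_9
theorem macro_15_upto10 : MacroOk ptabs.perm tabs.word 15 75 195547 :=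
  macroOk_extend _ _ letSel perm_eq 15 75 177770 17777 195547 rfl macro_15_upto9 macro_piece_15_10
theorem macro_15_upto11 : MacroOk ptabs.perm tabs.word 15 75 213324 :=
  macroOk_extend _ _ letSel perm_eq 15 75 195547 17777 213324 rfl macro_15_upto10 macro_piece_15_11
theorem macro_15_upto12 : MacroOk ptabs.perm tabs.word 15 75 231101 :=
  macroOk_extend _ _ letSel perm_eq 15 75 213324 17777 231101 rfl macro_15_upto11 macro_piece_15_12
theorem macro_15_upto13 : MacroOk ptabs.perm tabs.word 15 75 248878 :=
  macroOk_extend _ _ letSel perm_eq 15 75 231101 17777 248878 rfl macro_15_upto12 macro_piece_15_13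
theorem macro_15_upto14 : MacroOk ptabs.perm tabs.word 15 75 266560 :=
  macroOk_extend _ _ letSel perm_eq 15 75 248878 17682 266560 rfl macro_15_upto13 macro_piece_15_14
theorem macro_15_ok : MacroOk ptabs.perm tabs.word 15 75 266560 := macro_15_upto14
/-- expansion of the letters of the extended alphabet -/
noncomputable def exF (x : Nat) : List Nat := if x < 14 then [x] else tabs.word (73 + 2 * (x - 14))
theorem exF_base : ∀ l, l < ptabs.L → exF l = [l] := fun _ hl => if_pos hl
theorem exF_macro : ∀ x, ptabs.L ≤ x → x < 16 →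
    (∀ l ∈ exF x, l < ptabs.L) ∧ ∀ i, i < ptabs.n → ptabs.perm x i = trace ptabs.perm (exF x) i := by
  intro x h1 h2
  have h1' : 14 ≤ x := h1
  interval_cases x
  · exact ⟨macro_lt_14, macro_14_ok⟩
  · exact ⟨macro_lt_15, macro_15_ok⟩
theorem macro_exp_14 : tabs.word 55 = (tabs.word 74).flatMap exF := by decide +kernel
theorem macro_exp_15 : tabs.word 57 = (tabs.word 76).flatMap exF := by decide +kernel
theorem hpermC : ∀ ix iy, ix ≤ iy → iy < 7 → relOk ptabs (tabs.word (5 + ix * 7 + iy)) 0 ptabs.n = true := by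
  intro ix iy h1 h2
  have h3 : ix < 7 := by omega
  interval_cases ix
  · by_cases c0 : 5 + 0 * 7 + iy < 6
    · exact perm_g0 _ (by omega) (by omega)
    by_cases c1 : 5 + 0 * 7 + iy < 7
    · exact perm_g1 _ (by omega) (by omega)
    by_cases c2 : 5 + 0 * 7 + iy < 8
    · exact perm_g2 _ (by omega) (by omega)
    by_cases c3 : 5 + 0 * 7 + iy < 9
    · exact perm_g3 _ (by omega) (by omega)
    by_cases c4 : 5 + 0 * 7 + iy < 10
    · exact perm_g4 _ (by omega) (by omega)
    by_cases c5 : 5 + 0 * 7 + iy < 11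
    · exact perm_g5 _ (by omega) (by omega)
    exact perm_g6 _ (by omega) (by omega)
  · by_cases c7 : 5 + 1 * 7 + iy < 14
    · exact perm_g7 _ (by omega) (by omega)
    by_cases c8 : 5 + 1 * 7 + iy < 15
    · exact perm_g8 _ (by omega) (by omega)
    by_cases c9 : 5 + 1 * 7 + iy < 16
    · exact perm_g9 _ (by omega) (by omega)
    by_cases c10 : 5 + 1 * 7 + iy < 17
    · exact perm_g10 _ (by omega) (by omega)
    by_cases c11 : 5 + 1 * 7 + iy < 18
    · exact perm_g11 _ (by omega) (by omega)
    exact perm_g12 _ (by omega) (by omega)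
  · by_cases c13 : 5 + 2 * 7 + iy < 22
    · exact perm_g13 _ (by omega) (by omega)
    by_cases c14 : 5 + 2 * 7 + iy < 23
    · exact perm_g14 _ (by omega) (by omega)
    by_cases c15 : 5 + 2 * 7 + iy < 24
    · exact perm_g15 _ (by omega) (by omega)
    by_cases c16 : 5 + 2 * 7 + iy < 25
    · exact perm_g16 _ (by omega) (by omega)
    exact perm_g17 _ (by omega) (by omega)
  · by_cases c18 : 5 + 3 * 7 + iy < 30
    · exact perm_g18 _ (by omega) (by omega)
    by_cases c19 : 5 + 3 * 7 + iy < 31
    · exact perm_g19 _ (by omega) (by omega)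
    by_cases c20 : 5 + 3 * 7 + iy < 32
    · exact perm_g20 _ (by omega) (by omega)
    exact perm_g21 _ (by omega) (by omega)
  · by_cases c22 : 5 + 4 * 7 + iy < 38
    · exact perm_g22 _ (by omega) (by omega)
    by_cases c23 : 5 + 4 * 7 + iy < 39
    · exact perm_g23 _ (by omega) (by omega)
    exact perm_g24 _ (by omega) (by omega)
  · by_cases c25 : 5 + 5 * 7 + iy < 46
    · exact perm_g25 _ (by omega) (by omega)
    exact perm_g26 _ (by omega) (by omega)
  · exact perm_g27 _ (by omega) (by omega)
theorem hpermE : ∀ j, j < 4 → relOk ptabs (tabs.word (5 + 7 * 7 + j)) 0 ptabs.n = true := by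
  intro j hj
  interval_cases j
  · exact perm_g28 _ (by omega) (by omega)
  · exact relOk_of_macro ptabs inv_ok tabs.word exF 16 exF_base exF_macro 55 74 macro_Wlt_14 macro_exp_14 perm_g29_fix
  · exact perm_g30 _ (by omega) (by omega)
  · exact relOk_of_macro ptabs inv_ok tabs.word exF 16 exF_base exF_macro 57 76 macro_Wlt_15 macro_exp_15 perm_g31_fix
theorem subfix_all : ∀ r, r < 5 → relOk ptabs (tabs.word r) 0 1 = true := allLt_sound _ _ subfix_ok
end Cfsg.Agent.Helper28.He2
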