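import Cfsg.Agent.Helper28.He2.D0
import Cfsg.Agent.Helper28.He2.D1
import Cfsg.Agent.Helper28.He2.D2
import Cfsg.Agent.Helper28.He2.D3
import Cfsg.Agent.Helper28.He2.D4
import Cfsg.Agent.Helper28.He2.D5
import Cfsg.Agent.Helper28.He2.D6
import Cfsg.Agent.Helper28.He2.D7
import Cfsg.Agent.Helper28.He2.D8
import Cfsg.Agent.Helper28.He2.D9
import Cfsg.Agent.Helper28.He2.D10
import Cfsg.Agent.Helper28.He2.D11
import Cfsg.Agent.Helper28.He2.D12
import Cfsg.Agent.Helper28.He2.D13
import Cfsg.Agent.Helper28.He2.D14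
import Cfsg.Agent.Helper28.He2.D15
import Cfsg.Agent.Helper28.He2.D16
import Cfsg.Agent.Helper28.He2.D17
import Cfsg.Agent.Helper28.He2.D18
import Cfsg.Agent.Helper28.He2.D19
import Cfsg.Agent.Helper28.He2.D20
import Cfsg.Agent.Helper28.He2.D21
import Cfsg.Agent.Helper28.He2.D22
import Cfsg.Agent.Helper28.He2.D23
import Cfsg.Agent.Helper28.He2.D24
import Cfsg.Agent.Helper28.He2.D25
import Cfsg.Agent.Helper28.He2.D26
import Cfsg.Agent.Helper28.He2.D27
import Cfsg.Agent.Helper28.He2.D28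
import Cfsg.Agent.Helper28.He2.D29
import Cfsg.Agent.Helper28.He2.D30
import Cfsg.Agent.Helper28.He2.D31
import Cfsg.Agent.Helper28.He2.D32
import Cfsg.Agent.Helper28.He2.D33
import Cfsg.Agent.Helper28.He2.D34
import Cfsg.Agent.Helper28.He2.D35
import Cfsg.Agent.Helper28.He2.D36
import Cfsg.Agent.Helper28.He2.D37
import Cfsg.Agent.Helper28.He2.D38
import Cfsg.Agent.Helper28.He2.D39
import Cfsg.Agent.Helper28.He2.D40
import Cfsg.Agent.Helper28.He2.D41
import Cfsg.Agent.Helper28.He2.D42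
import Cfsg.Agent.Helper28.He2.D43
import Cfsg.Agent.Helper28.He2.D44
import Cfsg.Agent.Helper28.He2.D45
set_option autoImplicit false
set_option maxRecDepth 1000000
namespace Cfsg.Agent.Helper28.He2
open Cfsg.Agent.Helper28
noncomputable def nd5 (i : Nat) : Nat := (Bool.rec (motive := fun _ => Nat) (nl1 i) (nl2 i) (Nat.ble 2048 i))
noncomputable def nd6 (i : Nat) : Nat := (Bool.rec (motive := fun _ => Nat) (nl4 i) (nl5 i) (Nat.ble 5120 i))
noncomputable def nd4 (i : Nat) : Nat := (Bool.rec (motive := fun _ => Nat) ((Bool.rec (motive := fun _ => Nat) (nl0 i) (nd5 i) (Nat.ble 1024 i))) ((Bool.rec (motive := fun _ => Nat) (nl3 i) (nd6 i) (Nat.ble 4096 i))) (Nat.ble 3072 i))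
noncomputable def nd8 (i : Nat) : Nat := (Bool.rec (motive := fun _ => Nat) (nl7 i) (nl8 i) (Nat.ble 8192 i))
noncomputable def nd9 (i : Nat) : Nat := (Bool.rec (motive := fun _ => Nat) (nl10 i) (nl11 i) (Nat.ble 11264 i))
noncomputable def nd7 (i : Nat) : Nat := (Bool.rec (motive := fun _ => Nat) ((Bool.rec (motive := fun _ => Nat) (nl6 i) (nd8 i) (Nat.ble 7168 i))) ((Bool.rec (motive := fun _ => Nat) (nl9 i) (nd9 i) (Nat.ble 10240 i))) (Nat.ble 9216 i))
noncomputable def nd11 (i : Nat) : Nat := (Bool.rec (motive := fun _ => Nat) (nl13 i) (nl14 i) (Nat.ble 14336 i))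
noncomputable def nd12 (i : Nat) : Nat := (Bool.rec (motive := fun _ => Nat) (nl16 i) (nl17 i) (Nat.ble 17408 i))
noncomputable def nd10 (i : Nat) : Nat := (Bool.rec (motive := fun _ => Nat) ((Bool.rec (motive := fun _ => Nat) (nl12 i) (nd11 i) (Nat.ble 13312 i))) ((Bool.rec (motive := fun _ => Nat) (nl15 i) (nd12 i) (Nat.ble 16384 i))) (Nat.ble 15360 i))
noncomputable def nd14 (i : Nat) : Nat := (Bool.rec (motive := fun _ => Nat) (nl19 i) (nl20 i) (Nat.ble 20480 i))
noncomputable def nd15 (i : Nat) : Nat := (Bool.rec (motive := fun _ => Nat) (nl22 i) (nl23 i) (Nat.ble 23552 i))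
noncomputable def nd13 (i : Nat) : Nat := (Bool.rec (motive := fun _ => Nat) ((Bool.rec (motive := fun _ => Nat) (nl18 i) (nd14 i) (Nat.ble 19456 i))) ((Bool.rec (motive := fun _ => Nat) (nl21 i) (nd15 i) (Nat.ble 22528 i))) (Nat.ble 21504 i))
noncomputable def nd3 (i : Nat) : Nat := (Bool.rec (motive := fun _ => Nat) ((Bool.rec (motive := fun _ => Nat) (nd4 i) (nd7 i) (Nat.ble 6144 i))) ((Bool.rec (motive := fun _ => Nat) (nd10 i) (nd13 i) (Nat.ble 18432 i))) (Nat.ble 12288 i))
noncomputable def nd18 (i : Nat) : Nat := (Bool.rec (motive := fun _ => Nat) (nl25 i) (nl26 i) (Nat.ble 26624 i))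
noncomputable def nd19 (i : Nat) : Nat := (Bool.rec (motive := fun _ => Nat) (nl28 i) (nl29 i) (Nat.ble 29696 i))
noncomputable def nd17 (i : Nat) : Nat := (Bool.rec (motive := fun _ => Nat) ((Bool.rec (motive := fun _ => Nat) (nl24 i) (nd18 i) (Nat.ble 25600 i))) ((Bool.rec (motive := fun _ => Nat) (nl27 i) (nd19 i) (Nat.ble 28672 i))) (Nat.ble 27648 i))
noncomputable def nd21 (i : Nat) : Nat := (Bool.rec (motive := fun _ => Nat) (nl31 i) (nl32 i) (Nat.ble 32768 i))
noncomputable def nd22 (i : Nat) : Nat := (Bool.rec (motive := fun _ => Nat) (nl34 i) (nl35 i) (Nat.ble 35840 i))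
noncomputable def nd20 (i : Nat) : Nat := (Bool.rec (motive := fun _ => Nat) ((Bool.rec (motive := fun _ => Nat) (nl30 i) (nd21 i) (Nat.ble 31744 i))) ((Bool.rec (motive := fun _ => Nat) (nl33 i) (nd22 i) (Nat.ble 34816 i))) (Nat.ble 33792 i))
noncomputable def nd24 (i : Nat) : Nat := (Bool.rec (motive := fun _ => Nat) (nl37 i) (nl38 i) (Nat.ble 38912 i))
noncomputable def nd25 (i : Nat) : Nat := (Bool.rec (motive := fun _ => Nat) (nl40 i) (nl41 i) (Nat.ble 41984 i))
noncomputable def nd23 (i : Nat) : Nat := (Bool.rec (motive := fun _ => Nat) ((Bool.rec (motive := fun _ => Nat) (nl36 i) (nd24 i) (Nat.ble 37888 i))) ((Bool.rec (motive := fun _ => Nat) (nl39 i) (nd25 i) (Nat.ble 40960 i))) (Nat.ble 39936 i))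
noncomputable def nd27 (i : Nat) : Nat := (Bool.rec (motive := fun _ => Nat) (nl43 i) (nl44 i) (Nat.ble 45056 i))
noncomputable def nd28 (i : Nat) : Nat := (Bool.rec (motive := fun _ => Nat) (nl45 i) (nl46 i) (Nat.ble 47104 i))
noncomputable def nd29 (i : Nat) : Nat := (Bool.rec (motive := fun _ => Nat) (nl47 i) (nl48 i) (Nat.ble 49152 i))
noncomputable def nd26 (i : Nat) : Nat := (Bool.rec (motive := fun _ => Nat) ((Bool.rec (motive := fun _ => Nat) (nl42 i) (nd27 i) (Nat.ble 44032 i))) ((Bool.rec (motive := fun _ => Nat) (nd28 i) (nd29 i) (Nat.ble 48128 i))) (Nat.ble 46080 i))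
noncomputable def nd16 (i : Nat) : Nat := (Bool.rec (motive := fun _ => Nat) ((Bool.rec (motive := fun _ => Nat) (nd17 i) (nd20 i) (Nat.ble 30720 i))) ((Bool.rec (motive := fun _ => Nat) (nd23 i) (nd26 i) (Nat.ble 43008 i))) (Nat.ble 36864 i))
noncomputable def nd32 (i : Nat) : Nat := (Bool.rec (motive := fun _ => Nat) (nl50 i) (nl51 i) (Nat.ble 52224 i))
noncomputable def nd33 (i : Nat) : Nat := (Bool.rec (motive := fun _ => Nat) (nl53 i) (nl54 i) (Nat.ble 55296 i))
noncomputable def nd31 (i : Nat) : Nat := (Bool.rec (motive := fun _ => Nat) ((Bool.rec (motive := fun _ => Nat) (nl49 i) (nd32 i) (Nat.ble 51200 i))) ((Bool.rec (motive := fun _ => Nat) (nl52 i) (nd33 i) (Nat.ble 54272 i))) (Nat.ble 53248 i))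
noncomputable def nd35 (i : Nat) : Nat := (Bool.rec (motive := fun _ => Nat) (nl56 i) (nl57 i) (Nat.ble 58368 i))
noncomputable def nd36 (i : Nat) : Nat := (Bool.rec (motive := fun _ => Nat) (nl59 i) (nl60 i) (Nat.ble 61440 i))
noncomputable def nd34 (i : Nat) : Nat := (Bool.rec (motive := fun _ => Nat) ((Bool.rec (motive := fun _ => Nat) (nl55 i) (nd35 i) (Nat.ble 57344 i))) ((Bool.rec (motive := fun _ => Nat) (nl58 i) (nd36 i) (Nat.ble 60416 i))) (Nat.ble 59392 i))
noncomputable def nd38 (i : Nat) : Nat := (Bool.rec (motive := fun _ => Nat) (nl62 i) (nl63 i) (Nat.ble 64512 i))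
noncomputable def nd39 (i : Nat) : Nat := (Bool.rec (motive := fun _ => Nat) (nl65 i) (nl66 i) (Nat.ble 67584 i))
noncomputable def nd37 (i : Nat) : Nat := (Bool.rec (motive := fun _ => Nat) ((Bool.rec (motive := fun _ => Nat) (nl61 i) (nd38 i) (Nat.ble 63488 i))) ((Bool.rec (motive := fun _ => Nat) (nl64 i) (nd39 i) (Nat.ble 66560 i))) (Nat.ble 65536 i))
noncomputable def nd41 (i : Nat) : Nat := (Bool.rec (motive := fun _ => Nat) (nl68 i) (nl69 i) (Nat.ble 70656 i))
noncomputable def nd42 (i : Nat) : Nat := (Bool.rec (motive := fun _ => Nat) (nl71 i) (nl72 i) (Nat.ble 73728 i))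
noncomputable def nd40 (i : Nat) : Nat := (Bool.rec (motive := fun _ => Nat) ((Bool.rec (motive := fun _ => Nat) (nl67 i) (nd41 i) (Nat.ble 69632 i))) ((Bool.rec (motive := fun _ => Nat) (nl70 i) (nd42 i) (Nat.ble 72704 i))) (Nat.ble 71680 i))
noncomputable def nd30 (i : Nat) : Nat := (Bool.rec (motive := fun _ => Nat) ((Bool.rec (motive := fun _ => Nat) (nd31 i) (nd34 i) (Nat.ble 56320 i))) ((Bool.rec (motive := fun _ => Nat) (nd37 i) (nd40 i) (Nat.ble 68608 i))) (Nat.ble 62464 i))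
noncomputable def nd45 (i : Nat) : Nat := (Bool.rec (motive := fun _ => Nat) (nl74 i) (nl75 i) (Nat.ble 76800 i))
noncomputable def nd46 (i : Nat) : Nat := (Bool.rec (motive := fun _ => Nat) (nl77 i) (nl78 i) (Nat.ble 79872 i))
noncomputable def nd44 (i : Nat) : Nat := (Bool.rec (motive := fun _ => Nat) ((Bool.rec (motive := fun _ => Nat) (nl73 i) (nd45 i) (Nat.ble 75776 i))) ((Bool.rec (motive := fun _ => Nat) (nl76 i) (nd46 i) (Nat.ble 78848 i))) (Nat.ble 77824 i))
noncomputable def nd48 (i : Nat) : Nat := (Bool.rec (motive := fun _ => Nat) (nl80 i) (nl81 i) (Nat.ble 82944 i))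
noncomputable def nd49 (i : Nat) : Nat := (Bool.rec (motive := fun _ => Nat) (nl83 i) (nl84 i) (Nat.ble 86016 i))
noncomputable def nd47 (i : Nat) : Nat := (Bool.rec (motive := fun _ => Nat) ((Bool.rec (motive := fun _ => Nat) (nl79 i) (nd48 i) (Nat.ble 81920 i))) ((Bool.rec (motive := fun _ => Nat) (nl82 i) (nd49 i) (Nat.ble 84992 i))) (Nat.ble 83968 i))
noncomputable def nd51 (i : Nat) : Nat := (Bool.rec (motive := fun _ => Nat) (nl86 i) (nl87 i) (Nat.ble 89088 i))
noncomputable def nd52 (i : Nat) : Nat := (Bool.rec (motive := fun _ => Nat) (nl89 i) (nl90 i) (Nat.ble 92160 i))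
noncomputable def nd50 (i : Nat) : Nat := (Bool.rec (motive := fun _ => Nat) ((Bool.rec (motive := fun _ => Nat) (nl85 i) (nd51 i) (Nat.ble 88064 i))) ((Bool.rec (motive := fun _ => Nat) (nl88 i) (nd52 i) (Nat.ble 91136 i))) (Nat.ble 90112 i))
noncomputable def nd54 (i : Nat) : Nat := (Bool.rec (motive := fun _ => Nat) (nl92 i) (nl93 i) (Nat.ble 95232 i))
noncomputable def nd55 (i : Nat) : Nat := (Bool.rec (motive := fun _ => Nat) (nl94 i) (nl95 i) (Nat.ble 97280 i))
noncomputable def nd56 (i : Nat) : Nat := (Bool.rec (motive := fun _ => Nat) (nl96 i) (nl97 i) (Nat.ble 99328 i))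
noncomputable def nd53 (i : Nat) : Nat := (Bool.rec (motive := fun _ => Nat) ((Bool.rec (motive := fun _ => Nat) (nl91 i) (nd54 i) (Nat.ble 94208 i))) ((Bool.rec (motive := fun _ => Nat) (nd55 i) (nd56 i) (Nat.ble 98304 i))) (Nat.ble 96256 i))
noncomputable def nd43 (i : Nat) : Nat := (Bool.rec (motive := fun _ => Nat) ((Bool.rec (motive := fun _ => Nat) (nd44 i) (nd47 i) (Nat.ble 80896 i))) ((Bool.rec (motive := fun _ => Nat) (nd50 i) (nd53 i) (Nat.ble 93184 i))) (Nat.ble 87040 i))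
noncomputable def nd2 (i : Nat) : Nat := (Bool.rec (motive := fun _ => Nat) ((Bool.rec (motive := fun _ => Nat) (nd3 i) (nd16 i) (Nat.ble 24576 i))) ((Bool.rec (motive := fun _ => Nat) (nd30 i) (nd43 i) (Nat.ble 74752 i))) (Nat.ble 50176 i))
noncomputable def nd60 (i : Nat) : Nat := (Bool.rec (motive := fun _ => Nat) (nl99 i) (nl100 i) (Nat.ble 102400 i))
noncomputable def nd61 (i : Nat) : Nat := (Bool.rec (motive := fun _ => Nat) (nl102 i) (nl103 i) (Nat.ble 105472 i))
noncomputable def nd59 (i : Nat) : Nat := (Bool.rec (motive := fun _ => Nat) ((Bool.rec (motive := fun _ => Nat) (nl98 i) (nd60 i) (Nat.ble 101376 i))) ((Bool.rec (motive := fun _ => Nat) (nl101 i) (nd61 i) (Nat.ble 104448 i))) (Nat.ble 103424 i))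
noncomputable def nd63 (i : Nat) : Nat := (Bool.rec (motive := fun _ => Nat) (nl105 i) (nl106 i) (Nat.ble 108544 i))
noncomputable def nd64 (i : Nat) : Nat := (Bool.rec (motive := fun _ => Nat) (nl108 i) (nl109 i) (Nat.ble 111616 i))
noncomputable def nd62 (i : Nat) : Nat := (Bool.rec (motive := fun _ => Nat) ((Bool.rec (motive := fun _ => Nat) (nl104 i) (nd63 i) (Nat.ble 107520 i))) ((Bool.rec (motive := fun _ => Nat) (nl107 i) (nd64 i) (Nat.ble 110592 i))) (Nat.ble 109568 i))
noncomputable def nd66 (i : Nat) : Nat := (Bool.rec (motive := fun _ => Nat) (nl111 i) (nl112 i) (Nat.ble 114688 i))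
noncomputable def nd67 (i : Nat) : Nat := (Bool.rec (motive := fun _ => Nat) (nl114 i) (nl115 i) (Nat.ble 117760 i))
noncomputable def nd65 (i : Nat) : Nat := (Bool.rec (motive := fun _ => Nat) ((Bool.rec (motive := fun _ => Nat) (nl110 i) (nd66 i) (Nat.ble 113664 i))) ((Bool.rec (motive := fun _ => Nat) (nl113 i) (nd67 i) (Nat.ble 116736 i))) (Nat.ble 115712 i))
noncomputable def nd69 (i : Nat) : Nat := (Bool.rec (motive := fun _ => Nat) (nl117 i) (nl118 i) (Nat.ble 120832 i))
noncomputable def nd70 (i : Nat) : Nat := (Bool.rec (motive := fun _ => Nat) (nl120 i) (nl121 i) (Nat.ble 123904 i))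
noncomputable def nd68 (i : Nat) : Nat := (Bool.rec (motive := fun _ => Nat) ((Bool.rec (motive := fun _ => Nat) (nl116 i) (nd69 i) (Nat.ble 119808 i))) ((Bool.rec (motive := fun _ => Nat) (nl119 i) (nd70 i) (Nat.ble 122880 i))) (Nat.ble 121856 i))
noncomputable def nd58 (i : Nat) : Nat := (Bool.rec (motive := fun _ => Nat) ((Bool.rec (motive := fun _ => Nat) (nd59 i) (nd62 i) (Nat.ble 106496 i))) ((Bool.rec (motive := fun _ => Nat) (nd65 i) (nd68 i) (Nat.ble 118784 i))) (Nat.ble 112640 i))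
noncomputable def nd73 (i : Nat) : Nat := (Bool.rec (motive := fun _ => Nat) (nl123 i) (nl124 i) (Nat.ble 126976 i))
noncomputable def nd74 (i : Nat) : Nat := (Bool.rec (motive := fun _ => Nat) (nl126 i) (nl127 i) (Nat.ble 130048 i))
noncomputable def nd72 (i : Nat) : Nat := (Bool.rec (motive := fun _ => Nat) ((Bool.rec (motive := fun _ => Nat) (nl122 i) (nd73 i) (Nat.ble 125952 i))) ((Bool.rec (motive := fun _ => Nat) (nl125 i) (nd74 i) (Nat.ble 129024 i))) (Nat.ble 128000 i))
noncomputable def nd76 (i : Nat) : Nat := (Bool.rec (motive := fun _ => Nat) (nl129 i) (nl130 i) (Nat.ble 133120 i))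
noncomputable def nd77 (i : Nat) : Nat := (Bool.rec (motive := fun _ => Nat) (nl132 i) (nl133 i) (Nat.ble 136192 i))
noncomputable def nd75 (i : Nat) : Nat := (Bool.rec (motive := fun _ => Nat) ((Bool.rec (motive := fun _ => Nat) (nl128 i) (nd76 i) (Nat.ble 132096 i))) ((Bool.rec (motive := fun _ => Nat) (nl131 i) (nd77 i) (Nat.ble 135168 i))) (Nat.ble 134144 i))
noncomputable def nd79 (i : Nat) : Nat := (Bool.rec (motive := fun _ => Nat) (nl135 i) (nl136 i) (Nat.ble 139264 i))
noncomputable def nd80 (i : Nat) : Nat := (Bool.rec (motive := fun _ => Nat) (nl138 i) (nl139 i) (Nat.ble 142336 i))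
noncomputable def nd78 (i : Nat) : Nat := (Bool.rec (motive := fun _ => Nat) ((Bool.rec (motive := fun _ => Nat) (nl134 i) (nd79 i) (Nat.ble 138240 i))) ((Bool.rec (motive := fun _ => Nat) (nl137 i) (nd80 i) (Nat.ble 141312 i))) (Nat.ble 140288 i))
noncomputable def nd82 (i : Nat) : Nat := (Bool.rec (motive := fun _ => Nat) (nl141 i) (nl142 i) (Nat.ble 145408 i))
noncomputable def nd83 (i : Nat) : Nat := (Bool.rec (motive := fun _ => Nat) (nl143 i) (nl144 i) (Nat.ble 147456 i))
noncomputable def nd84 (i : Nat) : Nat := (Bool.rec (motive := fun _ => Nat) (nl145 i) (nl146 i) (Nat.ble 149504 i))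
noncomputable def nd81 (i : Nat) : Nat := (Bool.rec (motive := fun _ => Nat) ((Bool.rec (motive := fun _ => Nat) (nl140 i) (nd82 i) (Nat.ble 144384 i))) ((Bool.rec (motive := fun _ => Nat) (nd83 i) (nd84 i) (Nat.ble 148480 i))) (Nat.ble 146432 i))
noncomputable def nd71 (i : Nat) : Nat := (Bool.rec (motive := fun _ => Nat) ((Bool.rec (motive := fun _ => Nat) (nd72 i) (nd75 i) (Nat.ble 131072 i))) ((Bool.rec (motive := fun _ => Nat) (nd78 i) (nd81 i) (Nat.ble 143360 i))) (Nat.ble 137216 i))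
noncomputable def nd87 (i : Nat) : Nat := (Bool.rec (motive := fun _ => Nat) (nl148 i) (nl149 i) (Nat.ble 152576 i))
noncomputable def nd88 (i : Nat) : Nat := (Bool.rec (motive := fun _ => Nat) (nl151 i) (nl152 i) (Nat.ble 155648 i))
noncomputable def nd86 (i : Nat) : Nat := (Bool.rec (motive := fun _ => Nat) ((Bool.rec (motive := fun _ => Nat) (nl147 i) (nd87 i) (Nat.ble 151552 i))) ((Bool.rec (motive := fun _ => Nat) (nl150 i) (nd88 i) (Nat.ble 154624 i))) (Nat.ble 153600 i))
noncomputable def nd90 (i : Nat) : Nat := (Bool.rec (motive := fun _ => Nat) (nl154 i) (nl155 i) (Nat.ble 158720 i))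
noncomputable def nd91 (i : Nat) : Nat := (Bool.rec (motive := fun _ => Nat) (nl157 i) (nl158 i) (Nat.ble 161792 i))
noncomputable def nd89 (i : Nat) : Nat := (Bool.rec (motive := fun _ => Nat) ((Bool.rec (motive := fun _ => Nat) (nl153 i) (nd90 i) (Nat.ble 157696 i))) ((Bool.rec (motive := fun _ => Nat) (nl156 i) (nd91 i) (Nat.ble 160768 i))) (Nat.ble 159744 i))
noncomputable def nd93 (i : Nat) : Nat := (Bool.rec (motive := fun _ => Nat) (nl160 i) (nl161 i) (Nat.ble 164864 i))
noncomputable def nd94 (i : Nat) : Nat := (Bool.rec (motive := fun _ => Nat) (nl163 i) (nl164 i) (Nat.ble 167936 i))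
noncomputable def nd92 (i : Nat) : Nat := (Bool.rec (motive := fun _ => Nat) ((Bool.rec (motive := fun _ => Nat) (nl159 i) (nd93 i) (Nat.ble 163840 i))) ((Bool.rec (motive := fun _ => Nat) (nl162 i) (nd94 i) (Nat.ble 166912 i))) (Nat.ble 165888 i))
noncomputable def nd96 (i : Nat) : Nat := (Bool.rec (motive := fun _ => Nat) (nl166 i) (nl167 i) (Nat.ble 171008 i))
noncomputable def nd97 (i : Nat) : Nat := (Bool.rec (motive := fun _ => Nat) (nl169 i) (nl170 i) (Nat.ble 174080 i))
noncomputable def nd95 (i : Nat) : Nat := (Bool.rec (motive := fun _ => Nat) ((Bool.rec (motive := fun _ => Nat) (nl165 i) (nd96 i) (Nat.ble 169984 i))) ((Bool.rec (motive := fun _ => Nat) (nl168 i) (nd97 i) (Nat.ble 173056 i))) (Nat.ble 172032 i))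
noncomputable def nd85 (i : Nat) : Nat := (Bool.rec (motive := fun _ => Nat) ((Bool.rec (motive := fun _ => Nat) (nd86 i) (nd89 i) (Nat.ble 156672 i))) ((Bool.rec (motive := fun _ => Nat) (nd92 i) (nd95 i) (Nat.ble 168960 i))) (Nat.ble 162816 i))
noncomputable def nd100 (i : Nat) : Nat := (Bool.rec (motive := fun _ => Nat) (nl172 i) (nl173 i) (Nat.ble 177152 i))
noncomputable def nd101 (i : Nat) : Nat := (Bool.rec (motive := fun _ => Nat) (nl175 i) (nl176 i) (Nat.ble 180224 i))
noncomputable def nd99 (i : Nat) : Nat := (Bool.rec (motive := fun _ => Nat) ((Bool.rec (motive := fun _ => Nat) (nl171 i) (nd100 i) (Nat.ble 176128 i))) ((Bool.rec (motive := fun _ => Nat) (nl174 i) (nd101 i) (Nat.ble 179200 i))) (Nat.ble 178176 i))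
noncomputable def nd103 (i : Nat) : Nat := (Bool.rec (motive := fun _ => Nat) (nl178 i) (nl179 i) (Nat.ble 183296 i))
noncomputable def nd104 (i : Nat) : Nat := (Bool.rec (motive := fun _ => Nat) (nl181 i) (nl182 i) (Nat.ble 186368 i))
noncomputable def nd102 (i : Nat) : Nat := (Bool.rec (motive := fun _ => Nat) ((Bool.rec (motive := fun _ => Nat) (nl177 i) (nd103 i) (Nat.ble 182272 i))) ((Bool.rec (motive := fun _ => Nat) (nl180 i) (nd104 i) (Nat.ble 185344 i))) (Nat.ble 184320 i))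
noncomputable def nd106 (i : Nat) : Nat := (Bool.rec (motive := fun _ => Nat) (nl184 i) (nl185 i) (Nat.ble 189440 i))
noncomputable def nd107 (i : Nat) : Nat := (Bool.rec (motive := fun _ => Nat) (nl187 i) (nl188 i) (Nat.ble 192512 i))
noncomputable def nd105 (i : Nat) : Nat := (Bool.rec (motive := fun _ => Nat) ((Bool.rec (motive := fun _ => Nat) (nl183 i) (nd106 i) (Nat.ble 188416 i))) ((Bool.rec (motive := fun _ => Nat) (nl186 i) (nd107 i) (Nat.ble 191488 i))) (Nat.ble 190464 i))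
noncomputable def nd109 (i : Nat) : Nat := (Bool.rec (motive := fun _ => Nat) (nl190 i) (nl191 i) (Nat.ble 195584 i))
noncomputable def nd110 (i : Nat) : Nat := (Bool.rec (motive := fun _ => Nat) (nl192 i) (nl193 i) (Nat.ble 197632 i))
noncomputable def nd111 (i : Nat) : Nat := (Bool.rec (motive := fun _ => Nat) (nl194 i) (nl195 i) (Nat.ble 199680 i))
noncomputable def nd108 (i : Nat) : Nat := (Bool.rec (motive := fun _ => Nat) ((Bool.rec (motive := fun _ => Nat) (nl189 i) (nd109 i) (Nat.ble 194560 i))) ((Bool.rec (motive := fun _ => Nat) (nd110 i) (nd111 i) (Nat.ble 198656 i))) (Nat.ble 196608 i))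
noncomputable def nd98 (i : Nat) : Nat := (Bool.rec (motive := fun _ => Nat) ((Bool.rec (motive := fun _ => Nat) (nd99 i) (nd102 i) (Nat.ble 181248 i))) ((Bool.rec (motive := fun _ => Nat) (nd105 i) (nd108 i) (Nat.ble 193536 i))) (Nat.ble 187392 i))
noncomputable def nd57 (i : Nat) : Nat := (Bool.rec (motive := fun _ => Nat) ((Bool.rec (motive := fun _ => Nat) (nd58 i) (nd71 i) (Nat.ble 124928 i))) ((Bool.rec (motive := fun _ => Nat) (nd85 i) (nd98 i) (Nat.ble 175104 i))) (Nat.ble 150528 i))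
noncomputable def nd115 (i : Nat) : Nat := (Bool.rec (motive := fun _ => Nat) (nl197 i) (nl198 i) (Nat.ble 202752 i))
noncomputable def nd116 (i : Nat) : Nat := (Bool.rec (motive := fun _ => Nat) (nl200 i) (nl201 i) (Nat.ble 205824 i))
noncomputable def nd114 (i : Nat) : Nat := (Bool.rec (motive := fun _ => Nat) ((Bool.rec (motive := fun _ => Nat) (nl196 i) (nd115 i) (Nat.ble 201728 i))) ((Bool.rec (motive := fun _ => Nat) (nl199 i) (nd116 i) (Nat.ble 204800 i))) (Nat.ble 203776 i))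
noncomputable def nd118 (i : Nat) : Nat := (Bool.rec (motive := fun _ => Nat) (nl203 i) (nl204 i) (Nat.ble 208896 i))
noncomputable def nd119 (i : Nat) : Nat := (Bool.rec (motive := fun _ => Nat) (nl206 i) (nl207 i) (Nat.ble 211968 i))
noncomputable def nd117 (i : Nat) : Nat := (Bool.rec (motive := fun _ => Nat) ((Bool.rec (motive := fun _ => Nat) (nl202 i) (nd118 i) (Nat.ble 207872 i))) ((Bool.rec (motive := fun _ => Nat) (nl205 i) (nd119 i) (Nat.ble 210944 i))) (Nat.ble 209920 i))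
noncomputable def nd121 (i : Nat) : Nat := (Bool.rec (motive := fun _ => Nat) (nl209 i) (nl210 i) (Nat.ble 215040 i))
noncomputable def nd122 (i : Nat) : Nat := (Bool.rec (motive := fun _ => Nat) (nl212 i) (nl213 i) (Nat.ble 218112 i))
noncomputable def nd120 (i : Nat) : Nat := (Bool.rec (motive := fun _ => Nat) ((Bool.rec (motive := fun _ => Nat) (nl208 i) (nd121 i) (Nat.ble 214016 i))) ((Bool.rec (motive := fun _ => Nat) (nl211 i) (nd122 i) (Nat.ble 217088 i))) (Nat.ble 216064 i))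
noncomputable def nd124 (i : Nat) : Nat := (Bool.rec (motive := fun _ => Nat) (nl215 i) (nl216 i) (Nat.ble 221184 i))
noncomputable def nd125 (i : Nat) : Nat := (Bool.rec (motive := fun _ => Nat) (nl218 i) (nl219 i) (Nat.ble 224256 i))
noncomputable def nd123 (i : Nat) : Nat := (Bool.rec (motive := fun _ => Nat) ((Bool.rec (motive := fun _ => Nat) (nl214 i) (nd124 i) (Nat.ble 220160 i))) ((Bool.rec (motive := fun _ => Nat) (nl217 i) (nd125 i) (Nat.ble 223232 i))) (Nat.ble 222208 i))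
noncomputable def nd113 (i : Nat) : Nat := (Bool.rec (motive := fun _ => Nat) ((Bool.rec (motive := fun _ => Nat) (nd114 i) (nd117 i) (Nat.ble 206848 i))) ((Bool.rec (motive := fun _ => Nat) (nd120 i) (nd123 i) (Nat.ble 219136 i))) (Nat.ble 212992 i))
noncomputable def nd128 (i : Nat) : Nat := (Bool.rec (motive := fun _ => Nat) (nl221 i) (nl222 i) (Nat.ble 227328 i))
noncomputable def nd129 (i : Nat) : Nat := (Bool.rec (motive := fun _ => Nat) (nl224 i) (nl225 i) (Nat.ble 230400 i))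
noncomputable def nd127 (i : Nat) : Nat := (Bool.rec (motive := fun _ => Nat) ((Bool.rec (motive := fun _ => Nat) (nl220 i) (nd128 i) (Nat.ble 226304 i))) ((Bool.rec (motive := fun _ => Nat) (nl223 i) (nd129 i) (Nat.ble 229376 i))) (Nat.ble 228352 i))
noncomputable def nd131 (i : Nat) : Nat := (Bool.rec (motive := fun _ => Nat) (nl227 i) (nl228 i) (Nat.ble 233472 i))
noncomputable def nd132 (i : Nat) : Nat := (Bool.rec (motive := fun _ => Nat) (nl230 i) (nl231 i) (Nat.ble 236544 i))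
noncomputable def nd130 (i : Nat) : Nat := (Bool.rec (motive := fun _ => Nat) ((Bool.rec (motive := fun _ => Nat) (nl226 i) (nd131 i) (Nat.ble 232448 i))) ((Bool.rec (motive := fun _ => Nat) (nl229 i) (nd132 i) (Nat.ble 235520 i))) (Nat.ble 234496 i))
noncomputable def nd134 (i : Nat) : Nat := (Bool.rec (motive := fun _ => Nat) (nl233 i) (nl234 i) (Nat.ble 239616 i))
noncomputable def nd135 (i : Nat) : Nat := (Bool.rec (motive := fun _ => Nat) (nl236 i) (nl237 i) (Nat.ble 242688 i))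
noncomputable def nd133 (i : Nat) : Nat := (Bool.rec (motive := fun _ => Nat) ((Bool.rec (motive := fun _ => Nat) (nl232 i) (nd134 i) (Nat.ble 238592 i))) ((Bool.rec (motive := fun _ => Nat) (nl235 i) (nd135 i) (Nat.ble 241664 i))) (Nat.ble 240640 i))
noncomputable def nd137 (i : Nat) : Nat := (Bool.rec (motive := fun _ => Nat) (nl239 i) (nl240 i) (Nat.ble 245760 i))
noncomputable def nd138 (i : Nat) : Nat := (Bool.rec (motive := fun _ => Nat) (nl241 i) (nl242 i) (Nat.ble 247808 i))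
noncomputable def nd139 (i : Nat) : Nat := (Bool.rec (motive := fun _ => Nat) (nl243 i) (nl244 i) (Nat.ble 249856 i))
noncomputable def nd136 (i : Nat) : Nat := (Bool.rec (motive := fun _ => Nat) ((Bool.rec (motive := fun _ => Nat) (nl238 i) (nd137 i) (Nat.ble 244736 i))) ((Bool.rec (motive := fun _ => Nat) (nd138 i) (nd139 i) (Nat.ble 248832 i))) (Nat.ble 246784 i))
noncomputable def nd126 (i : Nat) : Nat := (Bool.rec (motive := fun _ => Nat) ((Bool.rec (motive := fun _ => Nat) (nd127 i) (nd130 i) (Nat.ble 231424 i))) ((Bool.rec (motive := fun _ => Nat) (nd133 i) (nd136 i) (Nat.ble 243712 i))) (Nat.ble 237568 i))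
noncomputable def nd142 (i : Nat) : Nat := (Bool.rec (motive := fun _ => Nat) (nl246 i) (nl247 i) (Nat.ble 252928 i))
noncomputable def nd143 (i : Nat) : Nat := (Bool.rec (motive := fun _ => Nat) (nl249 i) (nl250 i) (Nat.ble 256000 i))
noncomputable def nd141 (i : Nat) : Nat := (Bool.rec (motive := fun _ => Nat) ((Bool.rec (motive := fun _ => Nat) (nl245 i) (nd142 i) (Nat.ble 251904 i))) ((Bool.rec (motive := fun _ => Nat) (nl248 i) (nd143 i) (Nat.ble 254976 i))) (Nat.ble 253952 i))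
noncomputable def nd145 (i : Nat) : Nat := (Bool.rec (motive := fun _ => Nat) (nl252 i) (nl253 i) (Nat.ble 259072 i))
noncomputable def nd146 (i : Nat) : Nat := (Bool.rec (motive := fun _ => Nat) (nl255 i) (nl256 i) (Nat.ble 262144 i))
noncomputable def nd144 (i : Nat) : Nat := (Bool.rec (motive := fun _ => Nat) ((Bool.rec (motive := fun _ => Nat) (nl251 i) (nd145 i) (Nat.ble 258048 i))) ((Bool.rec (motive := fun _ => Nat) (nl254 i) (nd146 i) (Nat.ble 261120 i))) (Nat.ble 260096 i))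
noncomputable def nd148 (i : Nat) : Nat := (Bool.rec (motive := fun _ => Nat) (nl258 i) (nl259 i) (Nat.ble 265216 i))
noncomputable def nd149 (i : Nat) : Nat := (Bool.rec (motive := fun _ => Nat) (nl261 i) (nl262 i) (Nat.ble 268288 i))
noncomputable def nd147 (i : Nat) : Nat := (Bool.rec (motive := fun _ => Nat) ((Bool.rec (motive := fun _ => Nat) (nl257 i) (nd148 i) (Nat.ble 264192 i))) ((Bool.rec (motive := fun _ => Nat) (nl260 i) (nd149 i) (Nat.ble 267264 i))) (Nat.ble 266240 i))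
noncomputable def nd151 (i : Nat) : Nat := (Bool.rec (motive := fun _ => Nat) (nl264 i) (nl265 i) (Nat.ble 271360 i))
noncomputable def nd152 (i : Nat) : Nat := (Bool.rec (motive := fun _ => Nat) (nl267 i) (nl268 i) (Nat.ble 274432 i))
noncomputable def nd150 (i : Nat) : Nat := (Bool.rec (motive := fun _ => Nat) ((Bool.rec (motive := fun _ => Nat) (nl263 i) (nd151 i) (Nat.ble 270336 i))) ((Bool.rec (motive := fun _ => Nat) (nl266 i) (nd152 i) (Nat.ble 273408 i))) (Nat.ble 272384 i))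
noncomputable def nd140 (i : Nat) : Nat := (Bool.rec (motive := fun _ => Nat) ((Bool.rec (motive := fun _ => Nat) (nd141 i) (nd144 i) (Nat.ble 257024 i))) ((Bool.rec (motive := fun _ => Nat) (nd147 i) (nd150 i) (Nat.ble 269312 i))) (Nat.ble 263168 i))
noncomputable def nd155 (i : Nat) : Nat := (Bool.rec (motive := fun _ => Nat) (nl270 i) (nl271 i) (Nat.ble 277504 i))
noncomputable def nd156 (i : Nat) : Nat := (Bool.rec (motive := fun _ => Nat) (nl273 i) (nl274 i) (Nat.ble 280576 i))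
noncomputable def nd154 (i : Nat) : Nat := (Bool.rec (motive := fun _ => Nat) ((Bool.rec (motive := fun _ => Nat) (nl269 i) (nd155 i) (Nat.ble 276480 i))) ((Bool.rec (motive := fun _ => Nat) (nl272 i) (nd156 i) (Nat.ble 279552 i))) (Nat.ble 278528 i))
noncomputable def nd158 (i : Nat) : Nat := (Bool.rec (motive := fun _ => Nat) (nl276 i) (nl277 i) (Nat.ble 283648 i))
noncomputable def nd159 (i : Nat) : Nat := (Bool.rec (motive := fun _ => Nat) (nl279 i) (nl280 i) (Nat.ble 286720 i))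
noncomputable def nd157 (i : Nat) : Nat := (Bool.rec (motive := fun _ => Nat) ((Bool.rec (motive := fun _ => Nat) (nl275 i) (nd158 i) (Nat.ble 282624 i))) ((Bool.rec (motive := fun _ => Nat) (nl278 i) (nd159 i) (Nat.ble 285696 i))) (Nat.ble 284672 i))
noncomputable def nd161 (i : Nat) : Nat := (Bool.rec (motive := fun _ => Nat) (nl282 i) (nl283 i) (Nat.ble 289792 i))
noncomputable def nd162 (i : Nat) : Nat := (Bool.rec (motive := fun _ => Nat) (nl285 i) (nl286 i) (Nat.ble 292864 i))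
noncomputable def nd160 (i : Nat) : Nat := (Bool.rec (motive := fun _ => Nat) ((Bool.rec (motive := fun _ => Nat) (nl281 i) (nd161 i) (Nat.ble 288768 i))) ((Bool.rec (motive := fun _ => Nat) (nl284 i) (nd162 i) (Nat.ble 291840 i))) (Nat.ble 290816 i))
noncomputable def nd164 (i : Nat) : Nat := (Bool.rec (motive := fun _ => Nat) (nl288 i) (nl289 i) (Nat.ble 295936 i))
noncomputable def nd165 (i : Nat) : Nat := (Bool.rec (motive := fun _ => Nat) (nl290 i) (nl291 i) (Nat.ble 297984 i))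
noncomputable def nd166 (i : Nat) : Nat := (Bool.rec (motive := fun _ => Nat) (nl292 i) (nl293 i) (Nat.ble 300032 i))
noncomputable def nd163 (i : Nat) : Nat := (Bool.rec (motive := fun _ => Nat) ((Bool.rec (motive := fun _ => Nat) (nl287 i) (nd164 i) (Nat.ble 294912 i))) ((Bool.rec (motive := fun _ => Nat) (nd165 i) (nd166 i) (Nat.ble 299008 i))) (Nat.ble 296960 i))
noncomputable def nd153 (i : Nat) : Nat := (Bool.rec (motive := fun _ => Nat) ((Bool.rec (motive := fun _ => Nat) (nd154 i) (nd157 i) (Nat.ble 281600 i))) ((Bool.rec (motive := fun _ => Nat) (nd160 i) (nd163 i) (Nat.ble 293888 i))) (Nat.ble 287744 i))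
noncomputable def nd112 (i : Nat) : Nat := (Bool.rec (motive := fun _ => Nat) ((Bool.rec (motive := fun _ => Nat) (nd113 i) (nd126 i) (Nat.ble 225280 i))) ((Bool.rec (motive := fun _ => Nat) (nd140 i) (nd153 i) (Nat.ble 275456 i))) (Nat.ble 250880 i))
noncomputable def nd170 (i : Nat) : Nat := (Bool.rec (motive := fun _ => Nat) (nl295 i) (nl296 i) (Nat.ble 303104 i))
noncomputable def nd171 (i : Nat) : Nat := (Bool.rec (motive := fun _ => Nat) (nl298 i) (nl299 i) (Nat.ble 306176 i))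
noncomputable def nd169 (i : Nat) : Nat := (Bool.rec (motive := fun _ => Nat) ((Bool.rec (motive := fun _ => Nat) (nl294 i) (nd170 i) (Nat.ble 302080 i))) ((Bool.rec (motive := fun _ => Nat) (nl297 i) (nd171 i) (Nat.ble 305152 i))) (Nat.ble 304128 i))
noncomputable def nd173 (i : Nat) : Nat := (Bool.rec (motive := fun _ => Nat) (nl301 i) (nl302 i) (Nat.ble 309248 i))
noncomputable def nd174 (i : Nat) : Nat := (Bool.rec (motive := fun _ => Nat) (nl304 i) (nl305 i) (Nat.ble 312320 i))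
noncomputable def nd172 (i : Nat) : Nat := (Bool.rec (motive := fun _ => Nat) ((Bool.rec (motive := fun _ => Nat) (nl300 i) (nd173 i) (Nat.ble 308224 i))) ((Bool.rec (motive := fun _ => Nat) (nl303 i) (nd174 i) (Nat.ble 311296 i))) (Nat.ble 310272 i))
noncomputable def nd176 (i : Nat) : Nat := (Bool.rec (motive := fun _ => Nat) (nl307 i) (nl308 i) (Nat.ble 315392 i))
noncomputable def nd177 (i : Nat) : Nat := (Bool.rec (motive := fun _ => Nat) (nl310 i) (nl311 i) (Nat.ble 318464 i))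
noncomputable def nd175 (i : Nat) : Nat := (Bool.rec (motive := fun _ => Nat) ((Bool.rec (motive := fun _ => Nat) (nl306 i) (nd176 i) (Nat.ble 314368 i))) ((Bool.rec (motive := fun _ => Nat) (nl309 i) (nd177 i) (Nat.ble 317440 i))) (Nat.ble 316416 i))
noncomputable def nd179 (i : Nat) : Nat := (Bool.rec (motive := fun _ => Nat) (nl313 i) (nl314 i) (Nat.ble 321536 i))
noncomputable def nd180 (i : Nat) : Nat := (Bool.rec (motive := fun _ => Nat) (nl316 i) (nl317 i) (Nat.ble 324608 i))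
noncomputable def nd178 (i : Nat) : Nat := (Bool.rec (motive := fun _ => Nat) ((Bool.rec (motive := fun _ => Nat) (nl312 i) (nd179 i) (Nat.ble 320512 i))) ((Bool.rec (motive := fun _ => Nat) (nl315 i) (nd180 i) (Nat.ble 323584 i))) (Nat.ble 322560 i))
noncomputable def nd168 (i : Nat) : Nat := (Bool.rec (motive := fun _ => Nat) ((Bool.rec (motive := fun _ => Nat) (nd169 i) (nd172 i) (Nat.ble 307200 i))) ((Bool.rec (motive := fun _ => Nat) (nd175 i) (nd178 i) (Nat.ble 319488 i))) (Nat.ble 313344 i))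
noncomputable def nd183 (i : Nat) : Nat := (Bool.rec (motive := fun _ => Nat) (nl319 i) (nl320 i) (Nat.ble 327680 i))
noncomputable def nd184 (i : Nat) : Nat := (Bool.rec (motive := fun _ => Nat) (nl322 i) (nl323 i) (Nat.ble 330752 i))
noncomputable def nd182 (i : Nat) : Nat := (Bool.rec (motive := fun _ => Nat) ((Bool.rec (motive := fun _ => Nat) (nl318 i) (nd183 i) (Nat.ble 326656 i))) ((Bool.rec (motive := fun _ => Nat) (nl321 i) (nd184 i) (Nat.ble 329728 i))) (Nat.ble 328704 i))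
noncomputable def nd186 (i : Nat) : Nat := (Bool.rec (motive := fun _ => Nat) (nl325 i) (nl326 i) (Nat.ble 333824 i))
noncomputable def nd187 (i : Nat) : Nat := (Bool.rec (motive := fun _ => Nat) (nl328 i) (nl329 i) (Nat.ble 336896 i))
noncomputable def nd185 (i : Nat) : Nat := (Bool.rec (motive := fun _ => Nat) ((Bool.rec (motive := fun _ => Nat) (nl324 i) (nd186 i) (Nat.ble 332800 i))) ((Bool.rec (motive := fun _ => Nat) (nl327 i) (nd187 i) (Nat.ble 335872 i))) (Nat.ble 334848 i))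
noncomputable def nd189 (i : Nat) : Nat := (Bool.rec (motive := fun _ => Nat) (nl331 i) (nl332 i) (Nat.ble 339968 i))
noncomputable def nd190 (i : Nat) : Nat := (Bool.rec (motive := fun _ => Nat) (nl334 i) (nl335 i) (Nat.ble 343040 i))
noncomputable def nd188 (i : Nat) : Nat := (Bool.rec (motive := fun _ => Nat) ((Bool.rec (motive := fun _ => Nat) (nl330 i) (nd189 i) (Nat.ble 338944 i))) ((Bool.rec (motive := fun _ => Nat) (nl333 i) (nd190 i) (Nat.ble 342016 i))) (Nat.ble 340992 i))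
noncomputable def nd192 (i : Nat) : Nat := (Bool.rec (motive := fun _ => Nat) (nl337 i) (nl338 i) (Nat.ble 346112 i))
noncomputable def nd193 (i : Nat) : Nat := (Bool.rec (motive := fun _ => Nat) (nl339 i) (nl340 i) (Nat.ble 348160 i))
noncomputable def nd194 (i : Nat) : Nat := (Bool.rec (motive := fun _ => Nat) (nl341 i) (nl342 i) (Nat.ble 350208 i))
noncomputable def nd191 (i : Nat) : Nat := (Bool.rec (motive := fun _ => Nat) ((Bool.rec (motive := fun _ => Nat) (nl336 i) (nd192 i) (Nat.ble 345088 i))) ((Bool.rec (motive := fun _ => Nat) (nd193 i) (nd194 i) (Nat.ble 349184 i))) (Nat.ble 347136 i))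
noncomputable def nd181 (i : Nat) : Nat := (Bool.rec (motive := fun _ => Nat) ((Bool.rec (motive := fun _ => Nat) (nd182 i) (nd185 i) (Nat.ble 331776 i))) ((Bool.rec (motive := fun _ => Nat) (nd188 i) (nd191 i) (Nat.ble 344064 i))) (Nat.ble 337920 i))
noncomputable def nd197 (i : Nat) : Nat := (Bool.rec (motive := fun _ => Nat) (nl344 i) (nl345 i) (Nat.ble 353280 i))
noncomputable def nd198 (i : Nat) : Nat := (Bool.rec (motive := fun _ => Nat) (nl347 i) (nl348 i) (Nat.ble 356352 i))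
noncomputable def nd196 (i : Nat) : Nat := (Bool.rec (motive := fun _ => Nat) ((Bool.rec (motive := fun _ => Nat) (nl343 i) (nd197 i) (Nat.ble 352256 i))) ((Bool.rec (motive := fun _ => Nat) (nl346 i) (nd198 i) (Nat.ble 355328 i))) (Nat.ble 354304 i))
noncomputable def nd200 (i : Nat) : Nat := (Bool.rec (motive := fun _ => Nat) (nl350 i) (nl351 i) (Nat.ble 359424 i))
noncomputable def nd201 (i : Nat) : Nat := (Bool.rec (motive := fun _ => Nat) (nl353 i) (nl354 i) (Nat.ble 362496 i))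
noncomputable def nd199 (i : Nat) : Nat := (Bool.rec (motive := fun _ => Nat) ((Bool.rec (motive := fun _ => Nat) (nl349 i) (nd200 i) (Nat.ble 358400 i))) ((Bool.rec (motive := fun _ => Nat) (nl352 i) (nd201 i) (Nat.ble 361472 i))) (Nat.ble 360448 i))
noncomputable def nd203 (i : Nat) : Nat := (Bool.rec (motive := fun _ => Nat) (nl356 i) (nl357 i) (Nat.ble 365568 i))
noncomputable def nd204 (i : Nat) : Nat := (Bool.rec (motive := fun _ => Nat) (nl359 i) (nl360 i) (Nat.ble 368640 i))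
noncomputable def nd202 (i : Nat) : Nat := (Bool.rec (motive := fun _ => Nat) ((Bool.rec (motive := fun _ => Nat) (nl355 i) (nd203 i) (Nat.ble 364544 i))) ((Bool.rec (motive := fun _ => Nat) (nl358 i) (nd204 i) (Nat.ble 367616 i))) (Nat.ble 366592 i))
noncomputable def nd206 (i : Nat) : Nat := (Bool.rec (motive := fun _ => Nat) (nl362 i) (nl363 i) (Nat.ble 371712 i))
noncomputable def nd207 (i : Nat) : Nat := (Bool.rec (motive := fun _ => Nat) (nl364 i) (nl365 i) (Nat.ble 373760 i))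
noncomputable def nd208 (i : Nat) : Nat := (Bool.rec (motive := fun _ => Nat) (nl366 i) (nl367 i) (Nat.ble 375808 i))
noncomputable def nd205 (i : Nat) : Nat := (Bool.rec (motive := fun _ => Nat) ((Bool.rec (motive := fun _ => Nat) (nl361 i) (nd206 i) (Nat.ble 370688 i))) ((Bool.rec (motive := fun _ => Nat) (nd207 i) (nd208 i) (Nat.ble 374784 i))) (Nat.ble 372736 i))
noncomputable def nd195 (i : Nat) : Nat := (Bool.rec (motive := fun _ => Nat) ((Bool.rec (motive := fun _ => Nat) (nd196 i) (nd199 i) (Nat.ble 357376 i))) ((Bool.rec (motive := fun _ => Nat) (nd202 i) (nd205 i) (Nat.ble 369664 i))) (Nat.ble 363520 i))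
noncomputable def nd211 (i : Nat) : Nat := (Bool.rec (motive := fun _ => Nat) (nl369 i) (nl370 i) (Nat.ble 378880 i))
noncomputable def nd212 (i : Nat) : Nat := (Bool.rec (motive := fun _ => Nat) (nl372 i) (nl373 i) (Nat.ble 381952 i))
noncomputable def nd210 (i : Nat) : Nat := (Bool.rec (motive := fun _ => Nat) ((Bool.rec (motive := fun _ => Nat) (nl368 i) (nd211 i) (Nat.ble 377856 i))) ((Bool.rec (motive := fun _ => Nat) (nl371 i) (nd212 i) (Nat.ble 380928 i))) (Nat.ble 379904 i))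
noncomputable def nd214 (i : Nat) : Nat := (Bool.rec (motive := fun _ => Nat) (nl375 i) (nl376 i) (Nat.ble 385024 i))
noncomputable def nd215 (i : Nat) : Nat := (Bool.rec (motive := fun _ => Nat) (nl378 i) (nl379 i) (Nat.ble 388096 i))
noncomputable def nd213 (i : Nat) : Nat := (Bool.rec (motive := fun _ => Nat) ((Bool.rec (motive := fun _ => Nat) (nl374 i) (nd214 i) (Nat.ble 384000 i))) ((Bool.rec (motive := fun _ => Nat) (nl377 i) (nd215 i) (Nat.ble 387072 i))) (Nat.ble 386048 i))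
noncomputable def nd217 (i : Nat) : Nat := (Bool.rec (motive := fun _ => Nat) (nl381 i) (nl382 i) (Nat.ble 391168 i))
noncomputable def nd218 (i : Nat) : Nat := (Bool.rec (motive := fun _ => Nat) (nl384 i) (nl385 i) (Nat.ble 394240 i))
noncomputable def nd216 (i : Nat) : Nat := (Bool.rec (motive := fun _ => Nat) ((Bool.rec (motive := fun _ => Nat) (nl380 i) (nd217 i) (Nat.ble 390144 i))) ((Bool.rec (motive := fun _ => Nat) (nl383 i) (nd218 i) (Nat.ble 393216 i))) (Nat.ble 392192 i))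
noncomputable def nd220 (i : Nat) : Nat := (Bool.rec (motive := fun _ => Nat) (nl387 i) (nl388 i) (Nat.ble 397312 i))
noncomputable def nd221 (i : Nat) : Nat := (Bool.rec (motive := fun _ => Nat) (nl389 i) (nl390 i) (Nat.ble 399360 i))
noncomputable def nd222 (i : Nat) : Nat := (Bool.rec (motive := fun _ => Nat) (nl391 i) (nl392 i) (Nat.ble 401408 i))
noncomputable def nd219 (i : Nat) : Nat := (Bool.rec (motive := fun _ => Nat) ((Bool.rec (motive := fun _ => Nat) (nl386 i) (nd220 i) (Nat.ble 396288 i))) ((Bool.rec (motive := fun _ => Nat) (nd221 i) (nd222 i) (Nat.ble 400384 i))) (Nat.ble 398336 i))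
noncomputable def nd209 (i : Nat) : Nat := (Bool.rec (motive := fun _ => Nat) ((Bool.rec (motive := fun _ => Nat) (nd210 i) (nd213 i) (Nat.ble 382976 i))) ((Bool.rec (motive := fun _ => Nat) (nd216 i) (nd219 i) (Nat.ble 395264 i))) (Nat.ble 389120 i))
noncomputable def nd167 (i : Nat) : Nat := (Bool.rec (motive := fun _ => Nat) ((Bool.rec (motive := fun _ => Nat) (nd168 i) (nd181 i) (Nat.ble 325632 i))) ((Bool.rec (motive := fun _ => Nat) (nd195 i) (nd209 i) (Nat.ble 376832 i))) (Nat.ble 351232 i))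
noncomputable def nd1 (i : Nat) : Nat := (Bool.rec (motive := fun _ => Nat) ((Bool.rec (motive := fun _ => Nat) (nd2 i) (nd57 i) (Nat.ble 100352 i))) ((Bool.rec (motive := fun _ => Nat) (nd112 i) (nd167 i) (Nat.ble 301056 i))) (Nat.ble 200704 i))
noncomputable def nd227 (i : Nat) : Nat := (Bool.rec (motive := fun _ => Nat) (nl394 i) (nl395 i) (Nat.ble 404480 i))
noncomputable def nd228 (i : Nat) : Nat := (Bool.rec (motive := fun _ => Nat) (nl397 i) (nl398 i) (Nat.ble 407552 i))
noncomputable def nd226 (i : Nat) : Nat := (Bool.rec (motive := fun _ => Nat) ((Bool.rec (motive := fun _ => Nat) (nl393 i) (nd227 i) (Nat.ble 403456 i))) ((Bool.rec (motive := fun _ => Nat) (nl396 i) (nd228 i) (Nat.ble 406528 i))) (Nat.ble 405504 i))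
noncomputable def nd230 (i : Nat) : Nat := (Bool.rec (motive := fun _ => Nat) (nl400 i) (nl401 i) (Nat.ble 410624 i))
noncomputable def nd231 (i : Nat) : Nat := (Bool.rec (motive := fun _ => Nat) (nl403 i) (nl404 i) (Nat.ble 413696 i))
noncomputable def nd229 (i : Nat) : Nat := (Bool.rec (motive := fun _ => Nat) ((Bool.rec (motive := fun _ => Nat) (nl399 i) (nd230 i) (Nat.ble 409600 i))) ((Bool.rec (motive := fun _ => Nat) (nl402 i) (nd231 i) (Nat.ble 412672 i))) (Nat.ble 411648 i))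
noncomputable def nd233 (i : Nat) : Nat := (Bool.rec (motive := fun _ => Nat) (nl406 i) (nl407 i) (Nat.ble 416768 i))
noncomputable def nd234 (i : Nat) : Nat := (Bool.rec (motive := fun _ => Nat) (nl409 i) (nl410 i) (Nat.ble 419840 i))
noncomputable def nd232 (i : Nat) : Nat := (Bool.rec (motive := fun _ => Nat) ((Bool.rec (motive := fun _ => Nat) (nl405 i) (nd233 i) (Nat.ble 415744 i))) ((Bool.rec (motive := fun _ => Nat) (nl408 i) (nd234 i) (Nat.ble 418816 i))) (Nat.ble 417792 i))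
noncomputable def nd236 (i : Nat) : Nat := (Bool.rec (motive := fun _ => Nat) (nl412 i) (nl413 i) (Nat.ble 422912 i))
noncomputable def nd237 (i : Nat) : Nat := (Bool.rec (motive := fun _ => Nat) (nl415 i) (nl416 i) (Nat.ble 425984 i))
noncomputable def nd235 (i : Nat) : Nat := (Bool.rec (motive := fun _ => Nat) ((Bool.rec (motive := fun _ => Nat) (nl411 i) (nd236 i) (Nat.ble 421888 i))) ((Bool.rec (motive := fun _ => Nat) (nl414 i) (nd237 i) (Nat.ble 424960 i))) (Nat.ble 423936 i))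
noncomputable def nd225 (i : Nat) : Nat := (Bool.rec (motive := fun _ => Nat) ((Bool.rec (motive := fun _ => Nat) (nd226 i) (nd229 i) (Nat.ble 408576 i))) ((Bool.rec (motive := fun _ => Nat) (nd232 i) (nd235 i) (Nat.ble 420864 i))) (Nat.ble 414720 i))
noncomputable def nd240 (i : Nat) : Nat := (Bool.rec (motive := fun _ => Nat) (nl418 i) (nl419 i) (Nat.ble 429056 i))
noncomputable def nd241 (i : Nat) : Nat := (Bool.rec (motive := fun _ => Nat) (nl421 i) (nl422 i) (Nat.ble 432128 i))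
noncomputable def nd239 (i : Nat) : Nat := (Bool.rec (motive := fun _ => Nat) ((Bool.rec (motive := fun _ => Nat) (nl417 i) (nd240 i) (Nat.ble 428032 i))) ((Bool.rec (motive := fun _ => Nat) (nl420 i) (nd241 i) (Nat.ble 431104 i))) (Nat.ble 430080 i))
noncomputable def nd243 (i : Nat) : Nat := (Bool.rec (motive := fun _ => Nat) (nl424 i) (nl425 i) (Nat.ble 435200 i))
noncomputable def nd244 (i : Nat) : Nat := (Bool.rec (motive := fun _ => Nat) (nl427 i) (nl428 i) (Nat.ble 438272 i))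
noncomputable def nd242 (i : Nat) : Nat := (Bool.rec (motive := fun _ => Nat) ((Bool.rec (motive := fun _ => Nat) (nl423 i) (nd243 i) (Nat.ble 434176 i))) ((Bool.rec (motive := fun _ => Nat) (nl426 i) (nd244 i) (Nat.ble 437248 i))) (Nat.ble 436224 i))
noncomputable def nd246 (i : Nat) : Nat := (Bool.rec (motive := fun _ => Nat) (nl430 i) (nl431 i) (Nat.ble 441344 i))
noncomputable def nd247 (i : Nat) : Nat := (Bool.rec (motive := fun _ => Nat) (nl433 i) (nl434 i) (Nat.ble 444416 i))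
noncomputable def nd245 (i : Nat) : Nat := (Bool.rec (motive := fun _ => Nat) ((Bool.rec (motive := fun _ => Nat) (nl429 i) (nd246 i) (Nat.ble 440320 i))) ((Bool.rec (motive := fun _ => Nat) (nl432 i) (nd247 i) (Nat.ble 443392 i))) (Nat.ble 442368 i))
noncomputable def nd249 (i : Nat) : Nat := (Bool.rec (motive := fun _ => Nat) (nl436 i) (nl437 i) (Nat.ble 447488 i))
noncomputable def nd250 (i : Nat) : Nat := (Bool.rec (motive := fun _ => Nat) (nl438 i) (nl439 i) (Nat.ble 449536 i))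
noncomputable def nd251 (i : Nat) : Nat := (Bool.rec (motive := fun _ => Nat) (nl440 i) (nl441 i) (Nat.ble 451584 i))
noncomputable def nd248 (i : Nat) : Nat := (Bool.rec (motive := fun _ => Nat) ((Bool.rec (motive := fun _ => Nat) (nl435 i) (nd249 i) (Nat.ble 446464 i))) ((Bool.rec (motive := fun _ => Nat) (nd250 i) (nd251 i) (Nat.ble 450560 i))) (Nat.ble 448512 i))
noncomputable def nd238 (i : Nat) : Nat := (Bool.rec (motive := fun _ => Nat) ((Bool.rec (motive := fun _ => Nat) (nd239 i) (nd242 i) (Nat.ble 433152 i))) ((Bool.rec (motive := fun _ => Nat) (nd245 i) (nd248 i) (Nat.ble 445440 i))) (Nat.ble 439296 i))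
noncomputable def nd254 (i : Nat) : Nat := (Bool.rec (motive := fun _ => Nat) (nl443 i) (nl444 i) (Nat.ble 454656 i))
noncomputable def nd255 (i : Nat) : Nat := (Bool.rec (motive := fun _ => Nat) (nl446 i) (nl447 i) (Nat.ble 457728 i))
noncomputable def nd253 (i : Nat) : Nat := (Bool.rec (motive := fun _ => Nat) ((Bool.rec (motive := fun _ => Nat) (nl442 i) (nd254 i) (Nat.ble 453632 i))) ((Bool.rec (motive := fun _ => Nat) (nl445 i) (nd255 i) (Nat.ble 456704 i))) (Nat.ble 455680 i))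
noncomputable def nd257 (i : Nat) : Nat := (Bool.rec (motive := fun _ => Nat) (nl449 i) (nl450 i) (Nat.ble 460800 i))
noncomputable def nd258 (i : Nat) : Nat := (Bool.rec (motive := fun _ => Nat) (nl452 i) (nl453 i) (Nat.ble 463872 i))
noncomputable def nd256 (i : Nat) : Nat := (Bool.rec (motive := fun _ => Nat) ((Bool.rec (motive := fun _ => Nat) (nl448 i) (nd257 i) (Nat.ble 459776 i))) ((Bool.rec (motive := fun _ => Nat) (nl451 i) (nd258 i) (Nat.ble 462848 i))) (Nat.ble 461824 i))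
noncomputable def nd260 (i : Nat) : Nat := (Bool.rec (motive := fun _ => Nat) (nl455 i) (nl456 i) (Nat.ble 466944 i))
noncomputable def nd261 (i : Nat) : Nat := (Bool.rec (motive := fun _ => Nat) (nl458 i) (nl459 i) (Nat.ble 470016 i))
noncomputable def nd259 (i : Nat) : Nat := (Bool.rec (motive := fun _ => Nat) ((Bool.rec (motive := fun _ => Nat) (nl454 i) (nd260 i) (Nat.ble 465920 i))) ((Bool.rec (motive := fun _ => Nat) (nl457 i) (nd261 i) (Nat.ble 468992 i))) (Nat.ble 467968 i))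
noncomputable def nd263 (i : Nat) : Nat := (Bool.rec (motive := fun _ => Nat) (nl461 i) (nl462 i) (Nat.ble 473088 i))
noncomputable def nd264 (i : Nat) : Nat := (Bool.rec (motive := fun _ => Nat) (nl464 i) (nl465 i) (Nat.ble 476160 i))
noncomputable def nd262 (i : Nat) : Nat := (Bool.rec (motive := fun _ => Nat) ((Bool.rec (motive := fun _ => Nat) (nl460 i) (nd263 i) (Nat.ble 472064 i))) ((Bool.rec (motive := fun _ => Nat) (nl463 i) (nd264 i) (Nat.ble 475136 i))) (Nat.ble 474112 i))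
noncomputable def nd252 (i : Nat) : Nat := (Bool.rec (motive := fun _ => Nat) ((Bool.rec (motive := fun _ => Nat) (nd253 i) (nd256 i) (Nat.ble 458752 i))) ((Bool.rec (motive := fun _ => Nat) (nd259 i) (nd262 i) (Nat.ble 471040 i))) (Nat.ble 464896 i))
noncomputable def nd267 (i : Nat) : Nat := (Bool.rec (motive := fun _ => Nat) (nl467 i) (nl468 i) (Nat.ble 479232 i))
noncomputable def nd268 (i : Nat) : Nat := (Bool.rec (motive := fun _ => Nat) (nl470 i) (nl471 i) (Nat.ble 482304 i))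
noncomputable def nd266 (i : Nat) : Nat := (Bool.rec (motive := fun _ => Nat) ((Bool.rec (motive := fun _ => Nat) (nl466 i) (nd267 i) (Nat.ble 478208 i))) ((Bool.rec (motive := fun _ => Nat) (nl469 i) (nd268 i) (Nat.ble 481280 i))) (Nat.ble 480256 i))
noncomputable def nd270 (i : Nat) : Nat := (Bool.rec (motive := fun _ => Nat) (nl473 i) (nl474 i) (Nat.ble 485376 i))
noncomputable def nd271 (i : Nat) : Nat := (Bool.rec (motive := fun _ => Nat) (nl476 i) (nl477 i) (Nat.ble 488448 i))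
noncomputable def nd269 (i : Nat) : Nat := (Bool.rec (motive := fun _ => Nat) ((Bool.rec (motive := fun _ => Nat) (nl472 i) (nd270 i) (Nat.ble 484352 i))) ((Bool.rec (motive := fun _ => Nat) (nl475 i) (nd271 i) (Nat.ble 487424 i))) (Nat.ble 486400 i))
noncomputable def nd273 (i : Nat) : Nat := (Bool.rec (motive := fun _ => Nat) (nl479 i) (nl480 i) (Nat.ble 491520 i))
noncomputable def nd274 (i : Nat) : Nat := (Bool.rec (motive := fun _ => Nat) (nl482 i) (nl483 i) (Nat.ble 494592 i))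
noncomputable def nd272 (i : Nat) : Nat := (Bool.rec (motive := fun _ => Nat) ((Bool.rec (motive := fun _ => Nat) (nl478 i) (nd273 i) (Nat.ble 490496 i))) ((Bool.rec (motive := fun _ => Nat) (nl481 i) (nd274 i) (Nat.ble 493568 i))) (Nat.ble 492544 i))
noncomputable def nd276 (i : Nat) : Nat := (Bool.rec (motive := fun _ => Nat) (nl485 i) (nl486 i) (Nat.ble 497664 i))
noncomputable def nd277 (i : Nat) : Nat := (Bool.rec (motive := fun _ => Nat) (nl487 i) (nl488 i) (Nat.ble 499712 i))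
noncomputable def nd278 (i : Nat) : Nat := (Bool.rec (motive := fun _ => Nat) (nl489 i) (nl490 i) (Nat.ble 501760 i))
noncomputable def nd275 (i : Nat) : Nat := (Bool.rec (motive := fun _ => Nat) ((Bool.rec (motive := fun _ => Nat) (nl484 i) (nd276 i) (Nat.ble 496640 i))) ((Bool.rec (motive := fun _ => Nat) (nd277 i) (nd278 i) (Nat.ble 500736 i))) (Nat.ble 498688 i))
noncomputable def nd265 (i : Nat) : Nat := (Bool.rec (motive := fun _ => Nat) ((Bool.rec (motive := fun _ => Nat) (nd266 i) (nd269 i) (Nat.ble 483328 i))) ((Bool.rec (motive := fun _ => Nat) (nd272 i) (nd275 i) (Nat.ble 495616 i))) (Nat.ble 489472 i))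
noncomputable def nd224 (i : Nat) : Nat := (Bool.rec (motive := fun _ => Nat) ((Bool.rec (motive := fun _ => Nat) (nd225 i) (nd238 i) (Nat.ble 427008 i))) ((Bool.rec (motive := fun _ => Nat) (nd252 i) (nd265 i) (Nat.ble 477184 i))) (Nat.ble 452608 i))
noncomputable def nd282 (i : Nat) : Nat := (Bool.rec (motive := fun _ => Nat) (nl492 i) (nl493 i) (Nat.ble 504832 i))
noncomputable def nd283 (i : Nat) : Nat := (Bool.rec (motive := fun _ => Nat) (nl495 i) (nl496 i) (Nat.ble 507904 i))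
noncomputable def nd281 (i : Nat) : Nat := (Bool.rec (motive := fun _ => Nat) ((Bool.rec (motive := fun _ => Nat) (nl491 i) (nd282 i) (Nat.ble 503808 i))) ((Bool.rec (motive := fun _ => Nat) (nl494 i) (nd283 i) (Nat.ble 506880 i))) (Nat.ble 505856 i))
noncomputable def nd285 (i : Nat) : Nat := (Bool.rec (motive := fun _ => Nat) (nl498 i) (nl499 i) (Nat.ble 510976 i))
noncomputable def nd286 (i : Nat) : Nat := (Bool.rec (motive := fun _ => Nat) (nl501 i) (nl502 i) (Nat.ble 514048 i))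
noncomputable def nd284 (i : Nat) : Nat := (Bool.rec (motive := fun _ => Nat) ((Bool.rec (motive := fun _ => Nat) (nl497 i) (nd285 i) (Nat.ble 509952 i))) ((Bool.rec (motive := fun _ => Nat) (nl500 i) (nd286 i) (Nat.ble 513024 i))) (Nat.ble 512000 i))
noncomputable def nd288 (i : Nat) : Nat := (Bool.rec (motive := fun _ => Nat) (nl504 i) (nl505 i) (Nat.ble 517120 i))
noncomputable def nd289 (i : Nat) : Nat := (Bool.rec (motive := fun _ => Nat) (nl507 i) (nl508 i) (Nat.ble 520192 i))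
noncomputable def nd287 (i : Nat) : Nat := (Bool.rec (motive := fun _ => Nat) ((Bool.rec (motive := fun _ => Nat) (nl503 i) (nd288 i) (Nat.ble 516096 i))) ((Bool.rec (motive := fun _ => Nat) (nl506 i) (nd289 i) (Nat.ble 519168 i))) (Nat.ble 518144 i))
noncomputable def nd291 (i : Nat) : Nat := (Bool.rec (motive := fun _ => Nat) (nl510 i) (nl511 i) (Nat.ble 523264 i))
noncomputable def nd292 (i : Nat) : Nat := (Bool.rec (motive := fun _ => Nat) (nl513 i) (nl514 i) (Nat.ble 526336 i))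
noncomputable def nd290 (i : Nat) : Nat := (Bool.rec (motive := fun _ => Nat) ((Bool.rec (motive := fun _ => Nat) (nl509 i) (nd291 i) (Nat.ble 522240 i))) ((Bool.rec (motive := fun _ => Nat) (nl512 i) (nd292 i) (Nat.ble 525312 i))) (Nat.ble 524288 i))
noncomputable def nd280 (i : Nat) : Nat := (Bool.rec (motive := fun _ => Nat) ((Bool.rec (motive := fun _ => Nat) (nd281 i) (nd284 i) (Nat.ble 508928 i))) ((Bool.rec (motive := fun _ => Nat) (nd287 i) (nd290 i) (Nat.ble 521216 i))) (Nat.ble 515072 i))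
noncomputable def nd295 (i : Nat) : Nat := (Bool.rec (motive := fun _ => Nat) (nl516 i) (nl517 i) (Nat.ble 529408 i))
noncomputable def nd296 (i : Nat) : Nat := (Bool.rec (motive := fun _ => Nat) (nl519 i) (nl520 i) (Nat.ble 532480 i))
noncomputable def nd294 (i : Nat) : Nat := (Bool.rec (motive := fun _ => Nat) ((Bool.rec (motive := fun _ => Nat) (nl515 i) (nd295 i) (Nat.ble 528384 i))) ((Bool.rec (motive := fun _ => Nat) (nl518 i) (nd296 i) (Nat.ble 531456 i))) (Nat.ble 530432 i))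
noncomputable def nd298 (i : Nat) : Nat := (Bool.rec (motive := fun _ => Nat) (nl522 i) (nl523 i) (Nat.ble 535552 i))
noncomputable def nd299 (i : Nat) : Nat := (Bool.rec (motive := fun _ => Nat) (nl525 i) (nl526 i) (Nat.ble 538624 i))
noncomputable def nd297 (i : Nat) : Nat := (Bool.rec (motive := fun _ => Nat) ((Bool.rec (motive := fun _ => Nat) (nl521 i) (nd298 i) (Nat.ble 534528 i))) ((Bool.rec (motive := fun _ => Nat) (nl524 i) (nd299 i) (Nat.ble 537600 i))) (Nat.ble 536576 i))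
noncomputable def nd301 (i : Nat) : Nat := (Bool.rec (motive := fun _ => Nat) (nl528 i) (nl529 i) (Nat.ble 541696 i))
noncomputable def nd302 (i : Nat) : Nat := (Bool.rec (motive := fun _ => Nat) (nl531 i) (nl532 i) (Nat.ble 544768 i))
noncomputable def nd300 (i : Nat) : Nat := (Bool.rec (motive := fun _ => Nat) ((Bool.rec (motive := fun _ => Nat) (nl527 i) (nd301 i) (Nat.ble 540672 i))) ((Bool.rec (motive := fun _ => Nat) (nl530 i) (nd302 i) (Nat.ble 543744 i))) (Nat.ble 542720 i))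
noncomputable def nd304 (i : Nat) : Nat := (Bool.rec (motive := fun _ => Nat) (nl534 i) (nl535 i) (Nat.ble 547840 i))
noncomputable def nd305 (i : Nat) : Nat := (Bool.rec (motive := fun _ => Nat) (nl536 i) (nl537 i) (Nat.ble 549888 i))
noncomputable def nd306 (i : Nat) : Nat := (Bool.rec (motive := fun _ => Nat) (nl538 i) (nl539 i) (Nat.ble 551936 i))
noncomputable def nd303 (i : Nat) : Nat := (Bool.rec (motive := fun _ => Nat) ((Bool.rec (motive := fun _ => Nat) (nl533 i) (nd304 i) (Nat.ble 546816 i))) ((Bool.rec (motive := fun _ => Nat) (nd305 i) (nd306 i) (Nat.ble 550912 i))) (Nat.ble 548864 i))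
noncomputable def nd293 (i : Nat) : Nat := (Bool.rec (motive := fun _ => Nat) ((Bool.rec (motive := fun _ => Nat) (nd294 i) (nd297 i) (Nat.ble 533504 i))) ((Bool.rec (motive := fun _ => Nat) (nd300 i) (nd303 i) (Nat.ble 545792 i))) (Nat.ble 539648 i))
noncomputable def nd309 (i : Nat) : Nat := (Bool.rec (motive := fun _ => Nat) (nl541 i) (nl542 i) (Nat.ble 555008 i))
noncomputable def nd310 (i : Nat) : Nat := (Bool.rec (motive := fun _ => Nat) (nl544 i) (nl545 i) (Nat.ble 558080 i))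
noncomputable def nd308 (i : Nat) : Nat := (Bool.rec (motive := fun _ => Nat) ((Bool.rec (motive := fun _ => Nat) (nl540 i) (nd309 i) (Nat.ble 553984 i))) ((Bool.rec (motive := fun _ => Nat) (nl543 i) (nd310 i) (Nat.ble 557056 i))) (Nat.ble 556032 i))
noncomputable def nd312 (i : Nat) : Nat := (Bool.rec (motive := fun _ => Nat) (nl547 i) (nl548 i) (Nat.ble 561152 i))
noncomputable def nd313 (i : Nat) : Nat := (Bool.rec (motive := fun _ => Nat) (nl550 i) (nl551 i) (Nat.ble 564224 i))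
noncomputable def nd311 (i : Nat) : Nat := (Bool.rec (motive := fun _ => Nat) ((Bool.rec (motive := fun _ => Nat) (nl546 i) (nd312 i) (Nat.ble 560128 i))) ((Bool.rec (motive := fun _ => Nat) (nl549 i) (nd313 i) (Nat.ble 563200 i))) (Nat.ble 562176 i))
noncomputable def nd315 (i : Nat) : Nat := (Bool.rec (motive := fun _ => Nat) (nl553 i) (nl554 i) (Nat.ble 567296 i))
noncomputable def nd316 (i : Nat) : Nat := (Bool.rec (motive := fun _ => Nat) (nl556 i) (nl557 i) (Nat.ble 570368 i))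
noncomputable def nd314 (i : Nat) : Nat := (Bool.rec (motive := fun _ => Nat) ((Bool.rec (motive := fun _ => Nat) (nl552 i) (nd315 i) (Nat.ble 566272 i))) ((Bool.rec (motive := fun _ => Nat) (nl555 i) (nd316 i) (Nat.ble 569344 i))) (Nat.ble 568320 i))
noncomputable def nd318 (i : Nat) : Nat := (Bool.rec (motive := fun _ => Nat) (nl559 i) (nl560 i) (Nat.ble 573440 i))
noncomputable def nd319 (i : Nat) : Nat := (Bool.rec (motive := fun _ => Nat) (nl562 i) (nl563 i) (Nat.ble 576512 i))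
noncomputable def nd317 (i : Nat) : Nat := (Bool.rec (motive := fun _ => Nat) ((Bool.rec (motive := fun _ => Nat) (nl558 i) (nd318 i) (Nat.ble 572416 i))) ((Bool.rec (motive := fun _ => Nat) (nl561 i) (nd319 i) (Nat.ble 575488 i))) (Nat.ble 574464 i))
noncomputable def nd307 (i : Nat) : Nat := (Bool.rec (motive := fun _ => Nat) ((Bool.rec (motive := fun _ => Nat) (nd308 i) (nd311 i) (Nat.ble 559104 i))) ((Bool.rec (motive := fun _ => Nat) (nd314 i) (nd317 i) (Nat.ble 571392 i))) (Nat.ble 565248 i))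
noncomputable def nd322 (i : Nat) : Nat := (Bool.rec (motive := fun _ => Nat) (nl565 i) (nl566 i) (Nat.ble 579584 i))
noncomputable def nd323 (i : Nat) : Nat := (Bool.rec (motive := fun _ => Nat) (nl568 i) (nl569 i) (Nat.ble 582656 i))
noncomputable def nd321 (i : Nat) : Nat := (Bool.rec (motive := fun _ => Nat) ((Bool.rec (motive := fun _ => Nat) (nl564 i) (nd322 i) (Nat.ble 578560 i))) ((Bool.rec (motive := fun _ => Nat) (nl567 i) (nd323 i) (Nat.ble 581632 i))) (Nat.ble 580608 i))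
noncomputable def nd325 (i : Nat) : Nat := (Bool.rec (motive := fun _ => Nat) (nl571 i) (nl572 i) (Nat.ble 585728 i))
noncomputable def nd326 (i : Nat) : Nat := (Bool.rec (motive := fun _ => Nat) (nl574 i) (nl575 i) (Nat.ble 588800 i))
noncomputable def nd324 (i : Nat) : Nat := (Bool.rec (motive := fun _ => Nat) ((Bool.rec (motive := fun _ => Nat) (nl570 i) (nd325 i) (Nat.ble 584704 i))) ((Bool.rec (motive := fun _ => Nat) (nl573 i) (nd326 i) (Nat.ble 587776 i))) (Nat.ble 586752 i))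
noncomputable def nd328 (i : Nat) : Nat := (Bool.rec (motive := fun _ => Nat) (nl577 i) (nl578 i) (Nat.ble 591872 i))
noncomputable def nd329 (i : Nat) : Nat := (Bool.rec (motive := fun _ => Nat) (nl580 i) (nl581 i) (Nat.ble 594944 i))
noncomputable def nd327 (i : Nat) : Nat := (Bool.rec (motive := fun _ => Nat) ((Bool.rec (motive := fun _ => Nat) (nl576 i) (nd328 i) (Nat.ble 590848 i))) ((Bool.rec (motive := fun _ => Nat) (nl579 i) (nd329 i) (Nat.ble 593920 i))) (Nat.ble 592896 i))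
noncomputable def nd331 (i : Nat) : Nat := (Bool.rec (motive := fun _ => Nat) (nl583 i) (nl584 i) (Nat.ble 598016 i))
noncomputable def nd332 (i : Nat) : Nat := (Bool.rec (motive := fun _ => Nat) (nl585 i) (nl586 i) (Nat.ble 600064 i))
noncomputable def nd333 (i : Nat) : Nat := (Bool.rec (motive := fun _ => Nat) (nl587 i) (nl588 i) (Nat.ble 602112 i))
noncomputable def nd330 (i : Nat) : Nat := (Bool.rec (motive := fun _ => Nat) ((Bool.rec (motive := fun _ => Nat) (nl582 i) (nd331 i) (Nat.ble 596992 i))) ((Bool.rec (motive := fun _ => Nat) (nd332 i) (nd333 i) (Nat.ble 601088 i))) (Nat.ble 599040 i))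
noncomputable def nd320 (i : Nat) : Nat := (Bool.rec (motive := fun _ => Nat) ((Bool.rec (motive := fun _ => Nat) (nd321 i) (nd324 i) (Nat.ble 583680 i))) ((Bool.rec (motive := fun _ => Nat) (nd327 i) (nd330 i) (Nat.ble 595968 i))) (Nat.ble 589824 i))
noncomputable def nd279 (i : Nat) : Nat := (Bool.rec (motive := fun _ => Nat) ((Bool.rec (motive := fun _ => Nat) (nd280 i) (nd293 i) (Nat.ble 527360 i))) ((Bool.rec (motive := fun _ => Nat) (nd307 i) (nd320 i) (Nat.ble 577536 i))) (Nat.ble 552960 i))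
noncomputable def nd337 (i : Nat) : Nat := (Bool.rec (motive := fun _ => Nat) (nl590 i) (nl591 i) (Nat.ble 605184 i))
noncomputable def nd338 (i : Nat) : Nat := (Bool.rec (motive := fun _ => Nat) (nl593 i) (nl594 i) (Nat.ble 608256 i))
noncomputable def nd336 (i : Nat) : Nat := (Bool.rec (motive := fun _ => Nat) ((Bool.rec (motive := fun _ => Nat) (nl589 i) (nd337 i) (Nat.ble 604160 i))) ((Bool.rec (motive := fun _ => Nat) (nl592 i) (nd338 i) (Nat.ble 607232 i))) (Nat.ble 606208 i))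
noncomputable def nd340 (i : Nat) : Nat := (Bool.rec (motive := fun _ => Nat) (nl596 i) (nl597 i) (Nat.ble 611328 i))
noncomputable def nd341 (i : Nat) : Nat := (Bool.rec (motive := fun _ => Nat) (nl599 i) (nl600 i) (Nat.ble 614400 i))
noncomputable def nd339 (i : Nat) : Nat := (Bool.rec (motive := fun _ => Nat) ((Bool.rec (motive := fun _ => Nat) (nl595 i) (nd340 i) (Nat.ble 610304 i))) ((Bool.rec (motive := fun _ => Nat) (nl598 i) (nd341 i) (Nat.ble 613376 i))) (Nat.ble 612352 i))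
noncomputable def nd343 (i : Nat) : Nat := (Bool.rec (motive := fun _ => Nat) (nl602 i) (nl603 i) (Nat.ble 617472 i))
noncomputable def nd344 (i : Nat) : Nat := (Bool.rec (motive := fun _ => Nat) (nl605 i) (nl606 i) (Nat.ble 620544 i))
noncomputable def nd342 (i : Nat) : Nat := (Bool.rec (motive := fun _ => Nat) ((Bool.rec (motive := fun _ => Nat) (nl601 i) (nd343 i) (Nat.ble 616448 i))) ((Bool.rec (motive := fun _ => Nat) (nl604 i) (nd344 i) (Nat.ble 619520 i))) (Nat.ble 618496 i))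
noncomputable def nd346 (i : Nat) : Nat := (Bool.rec (motive := fun _ => Nat) (nl608 i) (nl609 i) (Nat.ble 623616 i))
noncomputable def nd347 (i : Nat) : Nat := (Bool.rec (motive := fun _ => Nat) (nl611 i) (nl612 i) (Nat.ble 626688 i))
noncomputable def nd345 (i : Nat) : Nat := (Bool.rec (motive := fun _ => Nat) ((Bool.rec (motive := fun _ => Nat) (nl607 i) (nd346 i) (Nat.ble 622592 i))) ((Bool.rec (motive := fun _ => Nat) (nl610 i) (nd347 i) (Nat.ble 625664 i))) (Nat.ble 624640 i))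
noncomputable def nd335 (i : Nat) : Nat := (Bool.rec (motive := fun _ => Nat) ((Bool.rec (motive := fun _ => Nat) (nd336 i) (nd339 i) (Nat.ble 609280 i))) ((Bool.rec (motive := fun _ => Nat) (nd342 i) (nd345 i) (Nat.ble 621568 i))) (Nat.ble 615424 i))
noncomputable def nd350 (i : Nat) : Nat := (Bool.rec (motive := fun _ => Nat) (nl614 i) (nl615 i) (Nat.ble 629760 i))
noncomputable def nd351 (i : Nat) : Nat := (Bool.rec (motive := fun _ => Nat) (nl617 i) (nl618 i) (Nat.ble 632832 i))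
noncomputable def nd349 (i : Nat) : Nat := (Bool.rec (motive := fun _ => Nat) ((Bool.rec (motive := fun _ => Nat) (nl613 i) (nd350 i) (Nat.ble 628736 i))) ((Bool.rec (motive := fun _ => Nat) (nl616 i) (nd351 i) (Nat.ble 631808 i))) (Nat.ble 630784 i))
noncomputable def nd353 (i : Nat) : Nat := (Bool.rec (motive := fun _ => Nat) (nl620 i) (nl621 i) (Nat.ble 635904 i))
noncomputable def nd354 (i : Nat) : Nat := (Bool.rec (motive := fun _ => Nat) (nl623 i) (nl624 i) (Nat.ble 638976 i))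
noncomputable def nd352 (i : Nat) : Nat := (Bool.rec (motive := fun _ => Nat) ((Bool.rec (motive := fun _ => Nat) (nl619 i) (nd353 i) (Nat.ble 634880 i))) ((Bool.rec (motive := fun _ => Nat) (nl622 i) (nd354 i) (Nat.ble 637952 i))) (Nat.ble 636928 i))
noncomputable def nd356 (i : Nat) : Nat := (Bool.rec (motive := fun _ => Nat) (nl626 i) (nl627 i) (Nat.ble 642048 i))
noncomputable def nd357 (i : Nat) : Nat := (Bool.rec (motive := fun _ => Nat) (nl629 i) (nl630 i) (Nat.ble 645120 i))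
noncomputable def nd355 (i : Nat) : Nat := (Bool.rec (motive := fun _ => Nat) ((Bool.rec (motive := fun _ => Nat) (nl625 i) (nd356 i) (Nat.ble 641024 i))) ((Bool.rec (motive := fun _ => Nat) (nl628 i) (nd357 i) (Nat.ble 644096 i))) (Nat.ble 643072 i))
noncomputable def nd359 (i : Nat) : Nat := (Bool.rec (motive := fun _ => Nat) (nl632 i) (nl633 i) (Nat.ble 648192 i))
noncomputable def nd360 (i : Nat) : Nat := (Bool.rec (motive := fun _ => Nat) (nl634 i) (nl635 i) (Nat.ble 650240 i))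
noncomputable def nd361 (i : Nat) : Nat := (Bool.rec (motive := fun _ => Nat) (nl636 i) (nl637 i) (Nat.ble 652288 i))
noncomputable def nd358 (i : Nat) : Nat := (Bool.rec (motive := fun _ => Nat) ((Bool.rec (motive := fun _ => Nat) (nl631 i) (nd359 i) (Nat.ble 647168 i))) ((Bool.rec (motive := fun _ => Nat) (nd360 i) (nd361 i) (Nat.ble 651264 i))) (Nat.ble 649216 i))
noncomputable def nd348 (i : Nat) : Nat := (Bool.rec (motive := fun _ => Nat) ((Bool.rec (motive := fun _ => Nat) (nd349 i) (nd352 i) (Nat.ble 633856 i))) ((Bool.rec (motive := fun _ => Nat) (nd355 i) (nd358 i) (Nat.ble 646144 i))) (Nat.ble 640000 i))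
noncomputable def nd364 (i : Nat) : Nat := (Bool.rec (motive := fun _ => Nat) (nl639 i) (nl640 i) (Nat.ble 655360 i))
noncomputable def nd365 (i : Nat) : Nat := (Bool.rec (motive := fun _ => Nat) (nl642 i) (nl643 i) (Nat.ble 658432 i))
noncomputable def nd363 (i : Nat) : Nat := (Bool.rec (motive := fun _ => Nat) ((Bool.rec (motive := fun _ => Nat) (nl638 i) (nd364 i) (Nat.ble 654336 i))) ((Bool.rec (motive := fun _ => Nat) (nl641 i) (nd365 i) (Nat.ble 657408 i))) (Nat.ble 656384 i))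
noncomputable def nd367 (i : Nat) : Nat := (Bool.rec (motive := fun _ => Nat) (nl645 i) (nl646 i) (Nat.ble 661504 i))
noncomputable def nd368 (i : Nat) : Nat := (Bool.rec (motive := fun _ => Nat) (nl648 i) (nl649 i) (Nat.ble 664576 i))
noncomputable def nd366 (i : Nat) : Nat := (Bool.rec (motive := fun _ => Nat) ((Bool.rec (motive := fun _ => Nat) (nl644 i) (nd367 i) (Nat.ble 660480 i))) ((Bool.rec (motive := fun _ => Nat) (nl647 i) (nd368 i) (Nat.ble 663552 i))) (Nat.ble 662528 i))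
noncomputable def nd370 (i : Nat) : Nat := (Bool.rec (motive := fun _ => Nat) (nl651 i) (nl652 i) (Nat.ble 667648 i))
noncomputable def nd371 (i : Nat) : Nat := (Bool.rec (motive := fun _ => Nat) (nl654 i) (nl655 i) (Nat.ble 670720 i))
noncomputable def nd369 (i : Nat) : Nat := (Bool.rec (motive := fun _ => Nat) ((Bool.rec (motive := fun _ => Nat) (nl650 i) (nd370 i) (Nat.ble 666624 i))) ((Bool.rec (motive := fun _ => Nat) (nl653 i) (nd371 i) (Nat.ble 669696 i))) (Nat.ble 668672 i))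
noncomputable def nd373 (i : Nat) : Nat := (Bool.rec (motive := fun _ => Nat) (nl657 i) (nl658 i) (Nat.ble 673792 i))
noncomputable def nd374 (i : Nat) : Nat := (Bool.rec (motive := fun _ => Nat) (nl660 i) (nl661 i) (Nat.ble 676864 i))
noncomputable def nd372 (i : Nat) : Nat := (Bool.rec (motive := fun _ => Nat) ((Bool.rec (motive := fun _ => Nat) (nl656 i) (nd373 i) (Nat.ble 672768 i))) ((Bool.rec (motive := fun _ => Nat) (nl659 i) (nd374 i) (Nat.ble 675840 i))) (Nat.ble 674816 i))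
noncomputable def nd362 (i : Nat) : Nat := (Bool.rec (motive := fun _ => Nat) ((Bool.rec (motive := fun _ => Nat) (nd363 i) (nd366 i) (Nat.ble 659456 i))) ((Bool.rec (motive := fun _ => Nat) (nd369 i) (nd372 i) (Nat.ble 671744 i))) (Nat.ble 665600 i))
noncomputable def nd377 (i : Nat) : Nat := (Bool.rec (motive := fun _ => Nat) (nl663 i) (nl664 i) (Nat.ble 679936 i))
noncomputable def nd378 (i : Nat) : Nat := (Bool.rec (motive := fun _ => Nat) (nl666 i) (nl667 i) (Nat.ble 683008 i))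
noncomputable def nd376 (i : Nat) : Nat := (Bool.rec (motive := fun _ => Nat) ((Bool.rec (motive := fun _ => Nat) (nl662 i) (nd377 i) (Nat.ble 678912 i))) ((Bool.rec (motive := fun _ => Nat) (nl665 i) (nd378 i) (Nat.ble 681984 i))) (Nat.ble 680960 i))
noncomputable def nd380 (i : Nat) : Nat := (Bool.rec (motive := fun _ => Nat) (nl669 i) (nl670 i) (Nat.ble 686080 i))
noncomputable def nd381 (i : Nat) : Nat := (Bool.rec (motive := fun _ => Nat) (nl672 i) (nl673 i) (Nat.ble 689152 i))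
noncomputable def nd379 (i : Nat) : Nat := (Bool.rec (motive := fun _ => Nat) ((Bool.rec (motive := fun _ => Nat) (nl668 i) (nd380 i) (Nat.ble 685056 i))) ((Bool.rec (motive := fun _ => Nat) (nl671 i) (nd381 i) (Nat.ble 688128 i))) (Nat.ble 687104 i))
noncomputable def nd383 (i : Nat) : Nat := (Bool.rec (motive := fun _ => Nat) (nl675 i) (nl676 i) (Nat.ble 692224 i))
noncomputable def nd384 (i : Nat) : Nat := (Bool.rec (motive := fun _ => Nat) (nl678 i) (nl679 i) (Nat.ble 695296 i))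
noncomputable def nd382 (i : Nat) : Nat := (Bool.rec (motive := fun _ => Nat) ((Bool.rec (motive := fun _ => Nat) (nl674 i) (nd383 i) (Nat.ble 691200 i))) ((Bool.rec (motive := fun _ => Nat) (nl677 i) (nd384 i) (Nat.ble 694272 i))) (Nat.ble 693248 i))
noncomputable def nd386 (i : Nat) : Nat := (Bool.rec (motive := fun _ => Nat) (nl681 i) (nl682 i) (Nat.ble 698368 i))
noncomputable def nd387 (i : Nat) : Nat := (Bool.rec (motive := fun _ => Nat) (nl683 i) (nl684 i) (Nat.ble 700416 i))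
noncomputable def nd388 (i : Nat) : Nat := (Bool.rec (motive := fun _ => Nat) (nl685 i) (nl686 i) (Nat.ble 702464 i))
noncomputable def nd385 (i : Nat) : Nat := (Bool.rec (motive := fun _ => Nat) ((Bool.rec (motive := fun _ => Nat) (nl680 i) (nd386 i) (Nat.ble 697344 i))) ((Bool.rec (motive := fun _ => Nat) (nd387 i) (nd388 i) (Nat.ble 701440 i))) (Nat.ble 699392 i))
noncomputable def nd375 (i : Nat) : Nat := (Bool.rec (motive := fun _ => Nat) ((Bool.rec (motive := fun _ => Nat) (nd376 i) (nd379 i) (Nat.ble 684032 i))) ((Bool.rec (motive := fun _ => Nat) (nd382 i) (nd385 i) (Nat.ble 696320 i))) (Nat.ble 690176 i))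
noncomputable def nd334 (i : Nat) : Nat := (Bool.rec (motive := fun _ => Nat) ((Bool.rec (motive := fun _ => Nat) (nd335 i) (nd348 i) (Nat.ble 627712 i))) ((Bool.rec (motive := fun _ => Nat) (nd362 i) (nd375 i) (Nat.ble 677888 i))) (Nat.ble 653312 i))
noncomputable def nd392 (i : Nat) : Nat := (Bool.rec (motive := fun _ => Nat) (nl688 i) (nl689 i) (Nat.ble 705536 i))
noncomputable def nd393 (i : Nat) : Nat := (Bool.rec (motive := fun _ => Nat) (nl691 i) (nl692 i) (Nat.ble 708608 i))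
noncomputable def nd391 (i : Nat) : Nat := (Bool.rec (motive := fun _ => Nat) ((Bool.rec (motive := fun _ => Nat) (nl687 i) (nd392 i) (Nat.ble 704512 i))) ((Bool.rec (motive := fun _ => Nat) (nl690 i) (nd393 i) (Nat.ble 707584 i))) (Nat.ble 706560 i))
noncomputable def nd395 (i : Nat) : Nat := (Bool.rec (motive := fun _ => Nat) (nl694 i) (nl695 i) (Nat.ble 711680 i))
noncomputable def nd396 (i : Nat) : Nat := (Bool.rec (motive := fun _ => Nat) (nl697 i) (nl698 i) (Nat.ble 714752 i))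
noncomputable def nd394 (i : Nat) : Nat := (Bool.rec (motive := fun _ => Nat) ((Bool.rec (motive := fun _ => Nat) (nl693 i) (nd395 i) (Nat.ble 710656 i))) ((Bool.rec (motive := fun _ => Nat) (nl696 i) (nd396 i) (Nat.ble 713728 i))) (Nat.ble 712704 i))
noncomputable def nd398 (i : Nat) : Nat := (Bool.rec (motive := fun _ => Nat) (nl700 i) (nl701 i) (Nat.ble 717824 i))
noncomputable def nd399 (i : Nat) : Nat := (Bool.rec (motive := fun _ => Nat) (nl703 i) (nl704 i) (Nat.ble 720896 i))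
noncomputable def nd397 (i : Nat) : Nat := (Bool.rec (motive := fun _ => Nat) ((Bool.rec (motive := fun _ => Nat) (nl699 i) (nd398 i) (Nat.ble 716800 i))) ((Bool.rec (motive := fun _ => Nat) (nl702 i) (nd399 i) (Nat.ble 719872 i))) (Nat.ble 718848 i))
noncomputable def nd401 (i : Nat) : Nat := (Bool.rec (motive := fun _ => Nat) (nl706 i) (nl707 i) (Nat.ble 723968 i))
noncomputable def nd402 (i : Nat) : Nat := (Bool.rec (motive := fun _ => Nat) (nl709 i) (nl710 i) (Nat.ble 727040 i))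
noncomputable def nd400 (i : Nat) : Nat := (Bool.rec (motive := fun _ => Nat) ((Bool.rec (motive := fun _ => Nat) (nl705 i) (nd401 i) (Nat.ble 722944 i))) ((Bool.rec (motive := fun _ => Nat) (nl708 i) (nd402 i) (Nat.ble 726016 i))) (Nat.ble 724992 i))
noncomputable def nd390 (i : Nat) : Nat := (Bool.rec (motive := fun _ => Nat) ((Bool.rec (motive := fun _ => Nat) (nd391 i) (nd394 i) (Nat.ble 709632 i))) ((Bool.rec (motive := fun _ => Nat) (nd397 i) (nd400 i) (Nat.ble 721920 i))) (Nat.ble 715776 i))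
noncomputable def nd405 (i : Nat) : Nat := (Bool.rec (motive := fun _ => Nat) (nl712 i) (nl713 i) (Nat.ble 730112 i))
noncomputable def nd406 (i : Nat) : Nat := (Bool.rec (motive := fun _ => Nat) (nl715 i) (nl716 i) (Nat.ble 733184 i))
noncomputable def nd404 (i : Nat) : Nat := (Bool.rec (motive := fun _ => Nat) ((Bool.rec (motive := fun _ => Nat) (nl711 i) (nd405 i) (Nat.ble 729088 i))) ((Bool.rec (motive := fun _ => Nat) (nl714 i) (nd406 i) (Nat.ble 732160 i))) (Nat.ble 731136 i))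
noncomputable def nd408 (i : Nat) : Nat := (Bool.rec (motive := fun _ => Nat) (nl718 i) (nl719 i) (Nat.ble 736256 i))
noncomputable def nd409 (i : Nat) : Nat := (Bool.rec (motive := fun _ => Nat) (nl721 i) (nl722 i) (Nat.ble 739328 i))
noncomputable def nd407 (i : Nat) : Nat := (Bool.rec (motive := fun _ => Nat) ((Bool.rec (motive := fun _ => Nat) (nl717 i) (nd408 i) (Nat.ble 735232 i))) ((Bool.rec (motive := fun _ => Nat) (nl720 i) (nd409 i) (Nat.ble 738304 i))) (Nat.ble 737280 i))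
noncomputable def nd411 (i : Nat) : Nat := (Bool.rec (motive := fun _ => Nat) (nl724 i) (nl725 i) (Nat.ble 742400 i))
noncomputable def nd412 (i : Nat) : Nat := (Bool.rec (motive := fun _ => Nat) (nl727 i) (nl728 i) (Nat.ble 745472 i))
noncomputable def nd410 (i : Nat) : Nat := (Bool.rec (motive := fun _ => Nat) ((Bool.rec (motive := fun _ => Nat) (nl723 i) (nd411 i) (Nat.ble 741376 i))) ((Bool.rec (motive := fun _ => Nat) (nl726 i) (nd412 i) (Nat.ble 744448 i))) (Nat.ble 743424 i))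
noncomputable def nd414 (i : Nat) : Nat := (Bool.rec (motive := fun _ => Nat) (nl730 i) (nl731 i) (Nat.ble 748544 i))
noncomputable def nd415 (i : Nat) : Nat := (Bool.rec (motive := fun _ => Nat) (nl732 i) (nl733 i) (Nat.ble 750592 i))
noncomputable def nd416 (i : Nat) : Nat := (Bool.rec (motive := fun _ => Nat) (nl734 i) (nl735 i) (Nat.ble 752640 i))
noncomputable def nd413 (i : Nat) : Nat := (Bool.rec (motive := fun _ => Nat) ((Bool.rec (motive := fun _ => Nat) (nl729 i) (nd414 i) (Nat.ble 747520 i))) ((Bool.rec (motive := fun _ => Nat) (nd415 i) (nd416 i) (Nat.ble 751616 i))) (Nat.ble 749568 i))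
noncomputable def nd403 (i : Nat) : Nat := (Bool.rec (motive := fun _ => Nat) ((Bool.rec (motive := fun _ => Nat) (nd404 i) (nd407 i) (Nat.ble 734208 i))) ((Bool.rec (motive := fun _ => Nat) (nd410 i) (nd413 i) (Nat.ble 746496 i))) (Nat.ble 740352 i))
noncomputable def nd419 (i : Nat) : Nat := (Bool.rec (motive := fun _ => Nat) (nl737 i) (nl738 i) (Nat.ble 755712 i))
noncomputable def nd420 (i : Nat) : Nat := (Bool.rec (motive := fun _ => Nat) (nl740 i) (nl741 i) (Nat.ble 758784 i))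
noncomputable def nd418 (i : Nat) : Nat := (Bool.rec (motive := fun _ => Nat) ((Bool.rec (motive := fun _ => Nat) (nl736 i) (nd419 i) (Nat.ble 754688 i))) ((Bool.rec (motive := fun _ => Nat) (nl739 i) (nd420 i) (Nat.ble 757760 i))) (Nat.ble 756736 i))
noncomputable def nd422 (i : Nat) : Nat := (Bool.rec (motive := fun _ => Nat) (nl743 i) (nl744 i) (Nat.ble 761856 i))
noncomputable def nd423 (i : Nat) : Nat := (Bool.rec (motive := fun _ => Nat) (nl746 i) (nl747 i) (Nat.ble 764928 i))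
noncomputable def nd421 (i : Nat) : Nat := (Bool.rec (motive := fun _ => Nat) ((Bool.rec (motive := fun _ => Nat) (nl742 i) (nd422 i) (Nat.ble 760832 i))) ((Bool.rec (motive := fun _ => Nat) (nl745 i) (nd423 i) (Nat.ble 763904 i))) (Nat.ble 762880 i))
noncomputable def nd425 (i : Nat) : Nat := (Bool.rec (motive := fun _ => Nat) (nl749 i) (nl750 i) (Nat.ble 768000 i))
noncomputable def nd426 (i : Nat) : Nat := (Bool.rec (motive := fun _ => Nat) (nl752 i) (nl753 i) (Nat.ble 771072 i))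
noncomputable def nd424 (i : Nat) : Nat := (Bool.rec (motive := fun _ => Nat) ((Bool.rec (motive := fun _ => Nat) (nl748 i) (nd425 i) (Nat.ble 766976 i))) ((Bool.rec (motive := fun _ => Nat) (nl751 i) (nd426 i) (Nat.ble 770048 i))) (Nat.ble 769024 i))
noncomputable def nd428 (i : Nat) : Nat := (Bool.rec (motive := fun _ => Nat) (nl755 i) (nl756 i) (Nat.ble 774144 i))
noncomputable def nd429 (i : Nat) : Nat := (Bool.rec (motive := fun _ => Nat) (nl757 i) (nl758 i) (Nat.ble 776192 i))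
noncomputable def nd430 (i : Nat) : Nat := (Bool.rec (motive := fun _ => Nat) (nl759 i) (nl760 i) (Nat.ble 778240 i))
noncomputable def nd427 (i : Nat) : Nat := (Bool.rec (motive := fun _ => Nat) ((Bool.rec (motive := fun _ => Nat) (nl754 i) (nd428 i) (Nat.ble 773120 i))) ((Bool.rec (motive := fun _ => Nat) (nd429 i) (nd430 i) (Nat.ble 777216 i))) (Nat.ble 775168 i))
noncomputable def nd417 (i : Nat) : Nat := (Bool.rec (motive := fun _ => Nat) ((Bool.rec (motive := fun _ => Nat) (nd418 i) (nd421 i) (Nat.ble 759808 i))) ((Bool.rec (motive := fun _ => Nat) (nd424 i) (nd427 i) (Nat.ble 772096 i))) (Nat.ble 765952 i))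
noncomputable def nd433 (i : Nat) : Nat := (Bool.rec (motive := fun _ => Nat) (nl762 i) (nl763 i) (Nat.ble 781312 i))
noncomputable def nd434 (i : Nat) : Nat := (Bool.rec (motive := fun _ => Nat) (nl765 i) (nl766 i) (Nat.ble 784384 i))
noncomputable def nd432 (i : Nat) : Nat := (Bool.rec (motive := fun _ => Nat) ((Bool.rec (motive := fun _ => Nat) (nl761 i) (nd433 i) (Nat.ble 780288 i))) ((Bool.rec (motive := fun _ => Nat) (nl764 i) (nd434 i) (Nat.ble 783360 i))) (Nat.ble 782336 i))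
noncomputable def nd436 (i : Nat) : Nat := (Bool.rec (motive := fun _ => Nat) (nl768 i) (nl769 i) (Nat.ble 787456 i))
noncomputable def nd437 (i : Nat) : Nat := (Bool.rec (motive := fun _ => Nat) (nl771 i) (nl772 i) (Nat.ble 790528 i))
noncomputable def nd435 (i : Nat) : Nat := (Bool.rec (motive := fun _ => Nat) ((Bool.rec (motive := fun _ => Nat) (nl767 i) (nd436 i) (Nat.ble 786432 i))) ((Bool.rec (motive := fun _ => Nat) (nl770 i) (nd437 i) (Nat.ble 789504 i))) (Nat.ble 788480 i))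
noncomputable def nd439 (i : Nat) : Nat := (Bool.rec (motive := fun _ => Nat) (nl774 i) (nl775 i) (Nat.ble 793600 i))
noncomputable def nd440 (i : Nat) : Nat := (Bool.rec (motive := fun _ => Nat) (nl777 i) (nl778 i) (Nat.ble 796672 i))
noncomputable def nd438 (i : Nat) : Nat := (Bool.rec (motive := fun _ => Nat) ((Bool.rec (motive := fun _ => Nat) (nl773 i) (nd439 i) (Nat.ble 792576 i))) ((Bool.rec (motive := fun _ => Nat) (nl776 i) (nd440 i) (Nat.ble 795648 i))) (Nat.ble 794624 i))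
noncomputable def nd442 (i : Nat) : Nat := (Bool.rec (motive := fun _ => Nat) (nl780 i) (nl781 i) (Nat.ble 799744 i))
noncomputable def nd443 (i : Nat) : Nat := (Bool.rec (motive := fun _ => Nat) (nl782 i) (nl783 i) (Nat.ble 801792 i))
noncomputable def nd444 (i : Nat) : Nat := (Bool.rec (motive := fun _ => Nat) (nl784 i) (nl785 i) (Nat.ble 803840 i))
noncomputable def nd441 (i : Nat) : Nat := (Bool.rec (motive := fun _ => Nat) ((Bool.rec (motive := fun _ => Nat) (nl779 i) (nd442 i) (Nat.ble 798720 i))) ((Bool.rec (motive := fun _ => Nat) (nd443 i) (nd444 i) (Nat.ble 802816 i))) (Nat.ble 800768 i))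
noncomputable def nd431 (i : Nat) : Nat := (Bool.rec (motive := fun _ => Nat) ((Bool.rec (motive := fun _ => Nat) (nd432 i) (nd435 i) (Nat.ble 785408 i))) ((Bool.rec (motive := fun _ => Nat) (nd438 i) (nd441 i) (Nat.ble 797696 i))) (Nat.ble 791552 i))
noncomputable def nd389 (i : Nat) : Nat := (Bool.rec (motive := fun _ => Nat) ((Bool.rec (motive := fun _ => Nat) (nd390 i) (nd403 i) (Nat.ble 728064 i))) ((Bool.rec (motive := fun _ => Nat) (nd417 i) (nd431 i) (Nat.ble 779264 i))) (Nat.ble 753664 i))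
noncomputable def nd223 (i : Nat) : Nat := (Bool.rec (motive := fun _ => Nat) ((Bool.rec (motive := fun _ => Nat) (nd224 i) (nd279 i) (Nat.ble 502784 i))) ((Bool.rec (motive := fun _ => Nat) (nd334 i) (nd389 i) (Nat.ble 703488 i))) (Nat.ble 603136 i))
noncomputable def nd449 (i : Nat) : Nat := (Bool.rec (motive := fun _ => Nat) (nl787 i) (nl788 i) (Nat.ble 806912 i))
noncomputable def nd450 (i : Nat) : Nat := (Bool.rec (motive := fun _ => Nat) (nl790 i) (nl791 i) (Nat.ble 809984 i))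
noncomputable def nd448 (i : Nat) : Nat := (Bool.rec (motive := fun _ => Nat) ((Bool.rec (motive := fun _ => Nat) (nl786 i) (nd449 i) (Nat.ble 805888 i))) ((Bool.rec (motive := fun _ => Nat) (nl789 i) (nd450 i) (Nat.ble 808960 i))) (Nat.ble 807936 i))
noncomputable def nd452 (i : Nat) : Nat := (Bool.rec (motive := fun _ => Nat) (nl793 i) (nl794 i) (Nat.ble 813056 i))
noncomputable def nd453 (i : Nat) : Nat := (Bool.rec (motive := fun _ => Nat) (nl796 i) (nl797 i) (Nat.ble 816128 i))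
noncomputable def nd451 (i : Nat) : Nat := (Bool.rec (motive := fun _ => Nat) ((Bool.rec (motive := fun _ => Nat) (nl792 i) (nd452 i) (Nat.ble 812032 i))) ((Bool.rec (motive := fun _ => Nat) (nl795 i) (nd453 i) (Nat.ble 815104 i))) (Nat.ble 814080 i))
noncomputable def nd455 (i : Nat) : Nat := (Bool.rec (motive := fun _ => Nat) (nl799 i) (nl800 i) (Nat.ble 819200 i))
noncomputable def nd456 (i : Nat) : Nat := (Bool.rec (motive := fun _ => Nat) (nl802 i) (nl803 i) (Nat.ble 822272 i))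
noncomputable def nd454 (i : Nat) : Nat := (Bool.rec (motive := fun _ => Nat) ((Bool.rec (motive := fun _ => Nat) (nl798 i) (nd455 i) (Nat.ble 818176 i))) ((Bool.rec (motive := fun _ => Nat) (nl801 i) (nd456 i) (Nat.ble 821248 i))) (Nat.ble 820224 i))
noncomputable def nd458 (i : Nat) : Nat := (Bool.rec (motive := fun _ => Nat) (nl805 i) (nl806 i) (Nat.ble 825344 i))
noncomputable def nd459 (i : Nat) : Nat := (Bool.rec (motive := fun _ => Nat) (nl808 i) (nl809 i) (Nat.ble 828416 i))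
noncomputable def nd457 (i : Nat) : Nat := (Bool.rec (motive := fun _ => Nat) ((Bool.rec (motive := fun _ => Nat) (nl804 i) (nd458 i) (Nat.ble 824320 i))) ((Bool.rec (motive := fun _ => Nat) (nl807 i) (nd459 i) (Nat.ble 827392 i))) (Nat.ble 826368 i))
noncomputable def nd447 (i : Nat) : Nat := (Bool.rec (motive := fun _ => Nat) ((Bool.rec (motive := fun _ => Nat) (nd448 i) (nd451 i) (Nat.ble 811008 i))) ((Bool.rec (motive := fun _ => Nat) (nd454 i) (nd457 i) (Nat.ble 823296 i))) (Nat.ble 817152 i))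
noncomputable def nd462 (i : Nat) : Nat := (Bool.rec (motive := fun _ => Nat) (nl811 i) (nl812 i) (Nat.ble 831488 i))
noncomputable def nd463 (i : Nat) : Nat := (Bool.rec (motive := fun _ => Nat) (nl814 i) (nl815 i) (Nat.ble 834560 i))
noncomputable def nd461 (i : Nat) : Nat := (Bool.rec (motive := fun _ => Nat) ((Bool.rec (motive := fun _ => Nat) (nl810 i) (nd462 i) (Nat.ble 830464 i))) ((Bool.rec (motive := fun _ => Nat) (nl813 i) (nd463 i) (Nat.ble 833536 i))) (Nat.ble 832512 i))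
noncomputable def nd465 (i : Nat) : Nat := (Bool.rec (motive := fun _ => Nat) (nl817 i) (nl818 i) (Nat.ble 837632 i))
noncomputable def nd466 (i : Nat) : Nat := (Bool.rec (motive := fun _ => Nat) (nl820 i) (nl821 i) (Nat.ble 840704 i))
noncomputable def nd464 (i : Nat) : Nat := (Bool.rec (motive := fun _ => Nat) ((Bool.rec (motive := fun _ => Nat) (nl816 i) (nd465 i) (Nat.ble 836608 i))) ((Bool.rec (motive := fun _ => Nat) (nl819 i) (nd466 i) (Nat.ble 839680 i))) (Nat.ble 838656 i))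
noncomputable def nd468 (i : Nat) : Nat := (Bool.rec (motive := fun _ => Nat) (nl823 i) (nl824 i) (Nat.ble 843776 i))
noncomputable def nd469 (i : Nat) : Nat := (Bool.rec (motive := fun _ => Nat) (nl826 i) (nl827 i) (Nat.ble 846848 i))
noncomputable def nd467 (i : Nat) : Nat := (Bool.rec (motive := fun _ => Nat) ((Bool.rec (motive := fun _ => Nat) (nl822 i) (nd468 i) (Nat.ble 842752 i))) ((Bool.rec (motive := fun _ => Nat) (nl825 i) (nd469 i) (Nat.ble 845824 i))) (Nat.ble 844800 i))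
noncomputable def nd471 (i : Nat) : Nat := (Bool.rec (motive := fun _ => Nat) (nl829 i) (nl830 i) (Nat.ble 849920 i))
noncomputable def nd472 (i : Nat) : Nat := (Bool.rec (motive := fun _ => Nat) (nl831 i) (nl832 i) (Nat.ble 851968 i))
noncomputable def nd473 (i : Nat) : Nat := (Bool.rec (motive := fun _ => Nat) (nl833 i) (nl834 i) (Nat.ble 854016 i))
noncomputable def nd470 (i : Nat) : Nat := (Bool.rec (motive := fun _ => Nat) ((Bool.rec (motive := fun _ => Nat) (nl828 i) (nd471 i) (Nat.ble 848896 i))) ((Bool.rec (motive := fun _ => Nat) (nd472 i) (nd473 i) (Nat.ble 852992 i))) (Nat.ble 850944 i))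
noncomputable def nd460 (i : Nat) : Nat := (Bool.rec (motive := fun _ => Nat) ((Bool.rec (motive := fun _ => Nat) (nd461 i) (nd464 i) (Nat.ble 835584 i))) ((Bool.rec (motive := fun _ => Nat) (nd467 i) (nd470 i) (Nat.ble 847872 i))) (Nat.ble 841728 i))
noncomputable def nd476 (i : Nat) : Nat := (Bool.rec (motive := fun _ => Nat) (nl836 i) (nl837 i) (Nat.ble 857088 i))
noncomputable def nd477 (i : Nat) : Nat := (Bool.rec (motive := fun _ => Nat) (nl839 i) (nl840 i) (Nat.ble 860160 i))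
noncomputable def nd475 (i : Nat) : Nat := (Bool.rec (motive := fun _ => Nat) ((Bool.rec (motive := fun _ => Nat) (nl835 i) (nd476 i) (Nat.ble 856064 i))) ((Bool.rec (motive := fun _ => Nat) (nl838 i) (nd477 i) (Nat.ble 859136 i))) (Nat.ble 858112 i))
noncomputable def nd479 (i : Nat) : Nat := (Bool.rec (motive := fun _ => Nat) (nl842 i) (nl843 i) (Nat.ble 863232 i))
noncomputable def nd480 (i : Nat) : Nat := (Bool.rec (motive := fun _ => Nat) (nl845 i) (nl846 i) (Nat.ble 866304 i))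
noncomputable def nd478 (i : Nat) : Nat := (Bool.rec (motive := fun _ => Nat) ((Bool.rec (motive := fun _ => Nat) (nl841 i) (nd479 i) (Nat.ble 862208 i))) ((Bool.rec (motive := fun _ => Nat) (nl844 i) (nd480 i) (Nat.ble 865280 i))) (Nat.ble 864256 i))
noncomputable def nd482 (i : Nat) : Nat := (Bool.rec (motive := fun _ => Nat) (nl848 i) (nl849 i) (Nat.ble 869376 i))
noncomputable def nd483 (i : Nat) : Nat := (Bool.rec (motive := fun _ => Nat) (nl851 i) (nl852 i) (Nat.ble 872448 i))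
noncomputable def nd481 (i : Nat) : Nat := (Bool.rec (motive := fun _ => Nat) ((Bool.rec (motive := fun _ => Nat) (nl847 i) (nd482 i) (Nat.ble 868352 i))) ((Bool.rec (motive := fun _ => Nat) (nl850 i) (nd483 i) (Nat.ble 871424 i))) (Nat.ble 870400 i))
noncomputable def nd485 (i : Nat) : Nat := (Bool.rec (motive := fun _ => Nat) (nl854 i) (nl855 i) (Nat.ble 875520 i))
noncomputable def nd486 (i : Nat) : Nat := (Bool.rec (motive := fun _ => Nat) (nl857 i) (nl858 i) (Nat.ble 878592 i))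
noncomputable def nd484 (i : Nat) : Nat := (Bool.rec (motive := fun _ => Nat) ((Bool.rec (motive := fun _ => Nat) (nl853 i) (nd485 i) (Nat.ble 874496 i))) ((Bool.rec (motive := fun _ => Nat) (nl856 i) (nd486 i) (Nat.ble 877568 i))) (Nat.ble 876544 i))
noncomputable def nd474 (i : Nat) : Nat := (Bool.rec (motive := fun _ => Nat) ((Bool.rec (motive := fun _ => Nat) (nd475 i) (nd478 i) (Nat.ble 861184 i))) ((Bool.rec (motive := fun _ => Nat) (nd481 i) (nd484 i) (Nat.ble 873472 i))) (Nat.ble 867328 i))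
noncomputable def nd489 (i : Nat) : Nat := (Bool.rec (motive := fun _ => Nat) (nl860 i) (nl861 i) (Nat.ble 881664 i))
noncomputable def nd490 (i : Nat) : Nat := (Bool.rec (motive := fun _ => Nat) (nl863 i) (nl864 i) (Nat.ble 884736 i))
noncomputable def nd488 (i : Nat) : Nat := (Bool.rec (motive := fun _ => Nat) ((Bool.rec (motive := fun _ => Nat) (nl859 i) (nd489 i) (Nat.ble 880640 i))) ((Bool.rec (motive := fun _ => Nat) (nl862 i) (nd490 i) (Nat.ble 883712 i))) (Nat.ble 882688 i))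
noncomputable def nd492 (i : Nat) : Nat := (Bool.rec (motive := fun _ => Nat) (nl866 i) (nl867 i) (Nat.ble 887808 i))
noncomputable def nd493 (i : Nat) : Nat := (Bool.rec (motive := fun _ => Nat) (nl869 i) (nl870 i) (Nat.ble 890880 i))
noncomputable def nd491 (i : Nat) : Nat := (Bool.rec (motive := fun _ => Nat) ((Bool.rec (motive := fun _ => Nat) (nl865 i) (nd492 i) (Nat.ble 886784 i))) ((Bool.rec (motive := fun _ => Nat) (nl868 i) (nd493 i) (Nat.ble 889856 i))) (Nat.ble 888832 i))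
noncomputable def nd495 (i : Nat) : Nat := (Bool.rec (motive := fun _ => Nat) (nl872 i) (nl873 i) (Nat.ble 893952 i))
noncomputable def nd496 (i : Nat) : Nat := (Bool.rec (motive := fun _ => Nat) (nl875 i) (nl876 i) (Nat.ble 897024 i))
noncomputable def nd494 (i : Nat) : Nat := (Bool.rec (motive := fun _ => Nat) ((Bool.rec (motive := fun _ => Nat) (nl871 i) (nd495 i) (Nat.ble 892928 i))) ((Bool.rec (motive := fun _ => Nat) (nl874 i) (nd496 i) (Nat.ble 896000 i))) (Nat.ble 894976 i))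
noncomputable def nd498 (i : Nat) : Nat := (Bool.rec (motive := fun _ => Nat) (nl878 i) (nl879 i) (Nat.ble 900096 i))
noncomputable def nd499 (i : Nat) : Nat := (Bool.rec (motive := fun _ => Nat) (nl880 i) (nl881 i) (Nat.ble 902144 i))
noncomputable def nd500 (i : Nat) : Nat := (Bool.rec (motive := fun _ => Nat) (nl882 i) (nl883 i) (Nat.ble 904192 i))
noncomputable def nd497 (i : Nat) : Nat := (Bool.rec (motive := fun _ => Nat) ((Bool.rec (motive := fun _ => Nat) (nl877 i) (nd498 i) (Nat.ble 899072 i))) ((Bool.rec (motive := fun _ => Nat) (nd499 i) (nd500 i) (Nat.ble 903168 i))) (Nat.ble 901120 i))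
noncomputable def nd487 (i : Nat) : Nat := (Bool.rec (motive := fun _ => Nat) ((Bool.rec (motive := fun _ => Nat) (nd488 i) (nd491 i) (Nat.ble 885760 i))) ((Bool.rec (motive := fun _ => Nat) (nd494 i) (nd497 i) (Nat.ble 898048 i))) (Nat.ble 891904 i))
noncomputable def nd446 (i : Nat) : Nat := (Bool.rec (motive := fun _ => Nat) ((Bool.rec (motive := fun _ => Nat) (nd447 i) (nd460 i) (Nat.ble 829440 i))) ((Bool.rec (motive := fun _ => Nat) (nd474 i) (nd487 i) (Nat.ble 879616 i))) (Nat.ble 855040 i))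
noncomputable def nd504 (i : Nat) : Nat := (Bool.rec (motive := fun _ => Nat) (nl885 i) (nl886 i) (Nat.ble 907264 i))
noncomputable def nd505 (i : Nat) : Nat := (Bool.rec (motive := fun _ => Nat) (nl888 i) (nl889 i) (Nat.ble 910336 i))
noncomputable def nd503 (i : Nat) : Nat := (Bool.rec (motive := fun _ => Nat) ((Bool.rec (motive := fun _ => Nat) (nl884 i) (nd504 i) (Nat.ble 906240 i))) ((Bool.rec (motive := fun _ => Nat) (nl887 i) (nd505 i) (Nat.ble 909312 i))) (Nat.ble 908288 i))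
noncomputable def nd507 (i : Nat) : Nat := (Bool.rec (motive := fun _ => Nat) (nl891 i) (nl892 i) (Nat.ble 913408 i))
noncomputable def nd508 (i : Nat) : Nat := (Bool.rec (motive := fun _ => Nat) (nl894 i) (nl895 i) (Nat.ble 916480 i))
noncomputable def nd506 (i : Nat) : Nat := (Bool.rec (motive := fun _ => Nat) ((Bool.rec (motive := fun _ => Nat) (nl890 i) (nd507 i) (Nat.ble 912384 i))) ((Bool.rec (motive := fun _ => Nat) (nl893 i) (nd508 i) (Nat.ble 915456 i))) (Nat.ble 914432 i))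
noncomputable def nd510 (i : Nat) : Nat := (Bool.rec (motive := fun _ => Nat) (nl897 i) (nl898 i) (Nat.ble 919552 i))
noncomputable def nd511 (i : Nat) : Nat := (Bool.rec (motive := fun _ => Nat) (nl900 i) (nl901 i) (Nat.ble 922624 i))
noncomputable def nd509 (i : Nat) : Nat := (Bool.rec (motive := fun _ => Nat) ((Bool.rec (motive := fun _ => Nat) (nl896 i) (nd510 i) (Nat.ble 918528 i))) ((Bool.rec (motive := fun _ => Nat) (nl899 i) (nd511 i) (Nat.ble 921600 i))) (Nat.ble 920576 i))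
noncomputable def nd513 (i : Nat) : Nat := (Bool.rec (motive := fun _ => Nat) (nl903 i) (nl904 i) (Nat.ble 925696 i))
noncomputable def nd514 (i : Nat) : Nat := (Bool.rec (motive := fun _ => Nat) (nl906 i) (nl907 i) (Nat.ble 928768 i))
noncomputable def nd512 (i : Nat) : Nat := (Bool.rec (motive := fun _ => Nat) ((Bool.rec (motive := fun _ => Nat) (nl902 i) (nd513 i) (Nat.ble 924672 i))) ((Bool.rec (motive := fun _ => Nat) (nl905 i) (nd514 i) (Nat.ble 927744 i))) (Nat.ble 926720 i))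
noncomputable def nd502 (i : Nat) : Nat := (Bool.rec (motive := fun _ => Nat) ((Bool.rec (motive := fun _ => Nat) (nd503 i) (nd506 i) (Nat.ble 911360 i))) ((Bool.rec (motive := fun _ => Nat) (nd509 i) (nd512 i) (Nat.ble 923648 i))) (Nat.ble 917504 i))
noncomputable def nd517 (i : Nat) : Nat := (Bool.rec (motive := fun _ => Nat) (nl909 i) (nl910 i) (Nat.ble 931840 i))
noncomputable def nd518 (i : Nat) : Nat := (Bool.rec (motive := fun _ => Nat) (nl912 i) (nl913 i) (Nat.ble 934912 i))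
noncomputable def nd516 (i : Nat) : Nat := (Bool.rec (motive := fun _ => Nat) ((Bool.rec (motive := fun _ => Nat) (nl908 i) (nd517 i) (Nat.ble 930816 i))) ((Bool.rec (motive := fun _ => Nat) (nl911 i) (nd518 i) (Nat.ble 933888 i))) (Nat.ble 932864 i))
noncomputable def nd520 (i : Nat) : Nat := (Bool.rec (motive := fun _ => Nat) (nl915 i) (nl916 i) (Nat.ble 937984 i))
noncomputable def nd521 (i : Nat) : Nat := (Bool.rec (motive := fun _ => Nat) (nl918 i) (nl919 i) (Nat.ble 941056 i))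
noncomputable def nd519 (i : Nat) : Nat := (Bool.rec (motive := fun _ => Nat) ((Bool.rec (motive := fun _ => Nat) (nl914 i) (nd520 i) (Nat.ble 936960 i))) ((Bool.rec (motive := fun _ => Nat) (nl917 i) (nd521 i) (Nat.ble 940032 i))) (Nat.ble 939008 i))
noncomputable def nd523 (i : Nat) : Nat := (Bool.rec (motive := fun _ => Nat) (nl921 i) (nl922 i) (Nat.ble 944128 i))
noncomputable def nd524 (i : Nat) : Nat := (Bool.rec (motive := fun _ => Nat) (nl924 i) (nl925 i) (Nat.ble 947200 i))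
noncomputable def nd522 (i : Nat) : Nat := (Bool.rec (motive := fun _ => Nat) ((Bool.rec (motive := fun _ => Nat) (nl920 i) (nd523 i) (Nat.ble 943104 i))) ((Bool.rec (motive := fun _ => Nat) (nl923 i) (nd524 i) (Nat.ble 946176 i))) (Nat.ble 945152 i))
noncomputable def nd526 (i : Nat) : Nat := (Bool.rec (motive := fun _ => Nat) (nl927 i) (nl928 i) (Nat.ble 950272 i))
noncomputable def nd527 (i : Nat) : Nat := (Bool.rec (motive := fun _ => Nat) (nl929 i) (nl930 i) (Nat.ble 952320 i))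
noncomputable def nd528 (i : Nat) : Nat := (Bool.rec (motive := fun _ => Nat) (nl931 i) (nl932 i) (Nat.ble 954368 i))
noncomputable def nd525 (i : Nat) : Nat := (Bool.rec (motive := fun _ => Nat) ((Bool.rec (motive := fun _ => Nat) (nl926 i) (nd526 i) (Nat.ble 949248 i))) ((Bool.rec (motive := fun _ => Nat) (nd527 i) (nd528 i) (Nat.ble 953344 i))) (Nat.ble 951296 i))
noncomputable def nd515 (i : Nat) : Nat := (Bool.rec (motive := fun _ => Nat) ((Bool.rec (motive := fun _ => Nat) (nd516 i) (nd519 i) (Nat.ble 935936 i))) ((Bool.rec (motive := fun _ => Nat) (nd522 i) (nd525 i) (Nat.ble 948224 i))) (Nat.ble 942080 i))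
noncomputable def nd531 (i : Nat) : Nat := (Bool.rec (motive := fun _ => Nat) (nl934 i) (nl935 i) (Nat.ble 957440 i))
noncomputable def nd532 (i : Nat) : Nat := (Bool.rec (motive := fun _ => Nat) (nl937 i) (nl938 i) (Nat.ble 960512 i))
noncomputable def nd530 (i : Nat) : Nat := (Bool.rec (motive := fun _ => Nat) ((Bool.rec (motive := fun _ => Nat) (nl933 i) (nd531 i) (Nat.ble 956416 i))) ((Bool.rec (motive := fun _ => Nat) (nl936 i) (nd532 i) (Nat.ble 959488 i))) (Nat.ble 958464 i))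
noncomputable def nd534 (i : Nat) : Nat := (Bool.rec (motive := fun _ => Nat) (nl940 i) (nl941 i) (Nat.ble 963584 i))
noncomputable def nd535 (i : Nat) : Nat := (Bool.rec (motive := fun _ => Nat) (nl943 i) (nl944 i) (Nat.ble 966656 i))
noncomputable def nd533 (i : Nat) : Nat := (Bool.rec (motive := fun _ => Nat) ((Bool.rec (motive := fun _ => Nat) (nl939 i) (nd534 i) (Nat.ble 962560 i))) ((Bool.rec (motive := fun _ => Nat) (nl942 i) (nd535 i) (Nat.ble 965632 i))) (Nat.ble 964608 i))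
noncomputable def nd537 (i : Nat) : Nat := (Bool.rec (motive := fun _ => Nat) (nl946 i) (nl947 i) (Nat.ble 969728 i))
noncomputable def nd538 (i : Nat) : Nat := (Bool.rec (motive := fun _ => Nat) (nl949 i) (nl950 i) (Nat.ble 972800 i))
noncomputable def nd536 (i : Nat) : Nat := (Bool.rec (motive := fun _ => Nat) ((Bool.rec (motive := fun _ => Nat) (nl945 i) (nd537 i) (Nat.ble 968704 i))) ((Bool.rec (motive := fun _ => Nat) (nl948 i) (nd538 i) (Nat.ble 971776 i))) (Nat.ble 970752 i))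
noncomputable def nd540 (i : Nat) : Nat := (Bool.rec (motive := fun _ => Nat) (nl952 i) (nl953 i) (Nat.ble 975872 i))
noncomputable def nd541 (i : Nat) : Nat := (Bool.rec (motive := fun _ => Nat) (nl955 i) (nl956 i) (Nat.ble 978944 i))
noncomputable def nd539 (i : Nat) : Nat := (Bool.rec (motive := fun _ => Nat) ((Bool.rec (motive := fun _ => Nat) (nl951 i) (nd540 i) (Nat.ble 974848 i))) ((Bool.rec (motive := fun _ => Nat) (nl954 i) (nd541 i) (Nat.ble 977920 i))) (Nat.ble 976896 i))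
noncomputable def nd529 (i : Nat) : Nat := (Bool.rec (motive := fun _ => Nat) ((Bool.rec (motive := fun _ => Nat) (nd530 i) (nd533 i) (Nat.ble 961536 i))) ((Bool.rec (motive := fun _ => Nat) (nd536 i) (nd539 i) (Nat.ble 973824 i))) (Nat.ble 967680 i))
noncomputable def nd544 (i : Nat) : Nat := (Bool.rec (motive := fun _ => Nat) (nl958 i) (nl959 i) (Nat.ble 982016 i))
noncomputable def nd545 (i : Nat) : Nat := (Bool.rec (motive := fun _ => Nat) (nl961 i) (nl962 i) (Nat.ble 985088 i))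
noncomputable def nd543 (i : Nat) : Nat := (Bool.rec (motive := fun _ => Nat) ((Bool.rec (motive := fun _ => Nat) (nl957 i) (nd544 i) (Nat.ble 980992 i))) ((Bool.rec (motive := fun _ => Nat) (nl960 i) (nd545 i) (Nat.ble 984064 i))) (Nat.ble 983040 i))
noncomputable def nd547 (i : Nat) : Nat := (Bool.rec (motive := fun _ => Nat) (nl964 i) (nl965 i) (Nat.ble 988160 i))
noncomputable def nd548 (i : Nat) : Nat := (Bool.rec (motive := fun _ => Nat) (nl967 i) (nl968 i) (Nat.ble 991232 i))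
noncomputable def nd546 (i : Nat) : Nat := (Bool.rec (motive := fun _ => Nat) ((Bool.rec (motive := fun _ => Nat) (nl963 i) (nd547 i) (Nat.ble 987136 i))) ((Bool.rec (motive := fun _ => Nat) (nl966 i) (nd548 i) (Nat.ble 990208 i))) (Nat.ble 989184 i))
noncomputable def nd550 (i : Nat) : Nat := (Bool.rec (motive := fun _ => Nat) (nl970 i) (nl971 i) (Nat.ble 994304 i))
noncomputable def nd551 (i : Nat) : Nat := (Bool.rec (motive := fun _ => Nat) (nl973 i) (nl974 i) (Nat.ble 997376 i))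
noncomputable def nd549 (i : Nat) : Nat := (Bool.rec (motive := fun _ => Nat) ((Bool.rec (motive := fun _ => Nat) (nl969 i) (nd550 i) (Nat.ble 993280 i))) ((Bool.rec (motive := fun _ => Nat) (nl972 i) (nd551 i) (Nat.ble 996352 i))) (Nat.ble 995328 i))
noncomputable def nd553 (i : Nat) : Nat := (Bool.rec (motive := fun _ => Nat) (nl976 i) (nl977 i) (Nat.ble 1000448 i))
noncomputable def nd554 (i : Nat) : Nat := (Bool.rec (motive := fun _ => Nat) (nl978 i) (nl979 i) (Nat.ble 1002496 i))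
noncomputable def nd555 (i : Nat) : Nat := (Bool.rec (motive := fun _ => Nat) (nl980 i) (nl981 i) (Nat.ble 1004544 i))
noncomputable def nd552 (i : Nat) : Nat := (Bool.rec (motive := fun _ => Nat) ((Bool.rec (motive := fun _ => Nat) (nl975 i) (nd553 i) (Nat.ble 999424 i))) ((Bool.rec (motive := fun _ => Nat) (nd554 i) (nd555 i) (Nat.ble 1003520 i))) (Nat.ble 1001472 i))
noncomputable def nd542 (i : Nat) : Nat := (Bool.rec (motive := fun _ => Nat) ((Bool.rec (motive := fun _ => Nat) (nd543 i) (nd546 i) (Nat.ble 986112 i))) ((Bool.rec (motive := fun _ => Nat) (nd549 i) (nd552 i) (Nat.ble 998400 i))) (Nat.ble 992256 i))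
noncomputable def nd501 (i : Nat) : Nat := (Bool.rec (motive := fun _ => Nat) ((Bool.rec (motive := fun _ => Nat) (nd502 i) (nd515 i) (Nat.ble 929792 i))) ((Bool.rec (motive := fun _ => Nat) (nd529 i) (nd542 i) (Nat.ble 979968 i))) (Nat.ble 955392 i))
noncomputable def nd559 (i : Nat) : Nat := (Bool.rec (motive := fun _ => Nat) (nl983 i) (nl984 i) (Nat.ble 1007616 i))
noncomputable def nd560 (i : Nat) : Nat := (Bool.rec (motive := fun _ => Nat) (nl986 i) (nl987 i) (Nat.ble 1010688 i))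
noncomputable def nd558 (i : Nat) : Nat := (Bool.rec (motive := fun _ => Nat) ((Bool.rec (motive := fun _ => Nat) (nl982 i) (nd559 i) (Nat.ble 1006592 i))) ((Bool.rec (motive := fun _ => Nat) (nl985 i) (nd560 i) (Nat.ble 1009664 i))) (Nat.ble 1008640 i))
noncomputable def nd562 (i : Nat) : Nat := (Bool.rec (motive := fun _ => Nat) (nl989 i) (nl990 i) (Nat.ble 1013760 i))
noncomputable def nd563 (i : Nat) : Nat := (Bool.rec (motive := fun _ => Nat) (nl992 i) (nl993 i) (Nat.ble 1016832 i))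
noncomputable def nd561 (i : Nat) : Nat := (Bool.rec (motive := fun _ => Nat) ((Bool.rec (motive := fun _ => Nat) (nl988 i) (nd562 i) (Nat.ble 1012736 i))) ((Bool.rec (motive := fun _ => Nat) (nl991 i) (nd563 i) (Nat.ble 1015808 i))) (Nat.ble 1014784 i))
noncomputable def nd565 (i : Nat) : Nat := (Bool.rec (motive := fun _ => Nat) (nl995 i) (nl996 i) (Nat.ble 1019904 i))
noncomputable def nd566 (i : Nat) : Nat := (Bool.rec (motive := fun _ => Nat) (nl998 i) (nl999 i) (Nat.ble 1022976 i))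
noncomputable def nd564 (i : Nat) : Nat := (Bool.rec (motive := fun _ => Nat) ((Bool.rec (motive := fun _ => Nat) (nl994 i) (nd565 i) (Nat.ble 1018880 i))) ((Bool.rec (motive := fun _ => Nat) (nl997 i) (nd566 i) (Nat.ble 1021952 i))) (Nat.ble 1020928 i))
noncomputable def nd568 (i : Nat) : Nat := (Bool.rec (motive := fun _ => Nat) (nl1001 i) (nl1002 i) (Nat.ble 1026048 i))
noncomputable def nd569 (i : Nat) : Nat := (Bool.rec (motive := fun _ => Nat) (nl1004 i) (nl1005 i) (Nat.ble 1029120 i))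
noncomputable def nd567 (i : Nat) : Nat := (Bool.rec (motive := fun _ => Nat) ((Bool.rec (motive := fun _ => Nat) (nl1000 i) (nd568 i) (Nat.ble 1025024 i))) ((Bool.rec (motive := fun _ => Nat) (nl1003 i) (nd569 i) (Nat.ble 1028096 i))) (Nat.ble 1027072 i))
noncomputable def nd557 (i : Nat) : Nat := (Bool.rec (motive := fun _ => Nat) ((Bool.rec (motive := fun _ => Nat) (nd558 i) (nd561 i) (Nat.ble 1011712 i))) ((Bool.rec (motive := fun _ => Nat) (nd564 i) (nd567 i) (Nat.ble 1024000 i))) (Nat.ble 1017856 i))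
noncomputable def nd572 (i : Nat) : Nat := (Bool.rec (motive := fun _ => Nat) (nl1007 i) (nl1008 i) (Nat.ble 1032192 i))
noncomputable def nd573 (i : Nat) : Nat := (Bool.rec (motive := fun _ => Nat) (nl1010 i) (nl1011 i) (Nat.ble 1035264 i))
noncomputable def nd571 (i : Nat) : Nat := (Bool.rec (motive := fun _ => Nat) ((Bool.rec (motive := fun _ => Nat) (nl1006 i) (nd572 i) (Nat.ble 1031168 i))) ((Bool.rec (motive := fun _ => Nat) (nl1009 i) (nd573 i) (Nat.ble 1034240 i))) (Nat.ble 1033216 i))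
noncomputable def nd575 (i : Nat) : Nat := (Bool.rec (motive := fun _ => Nat) (nl1013 i) (nl1014 i) (Nat.ble 1038336 i))
noncomputable def nd576 (i : Nat) : Nat := (Bool.rec (motive := fun _ => Nat) (nl1016 i) (nl1017 i) (Nat.ble 1041408 i))
noncomputable def nd574 (i : Nat) : Nat := (Bool.rec (motive := fun _ => Nat) ((Bool.rec (motive := fun _ => Nat) (nl1012 i) (nd575 i) (Nat.ble 1037312 i))) ((Bool.rec (motive := fun _ => Nat) (nl1015 i) (nd576 i) (Nat.ble 1040384 i))) (Nat.ble 1039360 i))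
noncomputable def nd578 (i : Nat) : Nat := (Bool.rec (motive := fun _ => Nat) (nl1019 i) (nl1020 i) (Nat.ble 1044480 i))
noncomputable def nd579 (i : Nat) : Nat := (Bool.rec (motive := fun _ => Nat) (nl1022 i) (nl1023 i) (Nat.ble 1047552 i))
noncomputable def nd577 (i : Nat) : Nat := (Bool.rec (motive := fun _ => Nat) ((Bool.rec (motive := fun _ => Nat) (nl1018 i) (nd578 i) (Nat.ble 1043456 i))) ((Bool.rec (motive := fun _ => Nat) (nl1021 i) (nd579 i) (Nat.ble 1046528 i))) (Nat.ble 1045504 i))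
noncomputable def nd581 (i : Nat) : Nat := (Bool.rec (motive := fun _ => Nat) (nl1025 i) (nl1026 i) (Nat.ble 1050624 i))
noncomputable def nd582 (i : Nat) : Nat := (Bool.rec (motive := fun _ => Nat) (nl1027 i) (nl1028 i) (Nat.ble 1052672 i))
noncomputable def nd583 (i : Nat) : Nat := (Bool.rec (motive := fun _ => Nat) (nl1029 i) (nl1030 i) (Nat.ble 1054720 i))
noncomputable def nd580 (i : Nat) : Nat := (Bool.rec (motive := fun _ => Nat) ((Bool.rec (motive := fun _ => Nat) (nl1024 i) (nd581 i) (Nat.ble 1049600 i))) ((Bool.rec (motive := fun _ => Nat) (nd582 i) (nd583 i) (Nat.ble 1053696 i))) (Nat.ble 1051648 i))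
noncomputable def nd570 (i : Nat) : Nat := (Bool.rec (motive := fun _ => Nat) ((Bool.rec (motive := fun _ => Nat) (nd571 i) (nd574 i) (Nat.ble 1036288 i))) ((Bool.rec (motive := fun _ => Nat) (nd577 i) (nd580 i) (Nat.ble 1048576 i))) (Nat.ble 1042432 i))
noncomputable def nd586 (i : Nat) : Nat := (Bool.rec (motive := fun _ => Nat) (nl1032 i) (nl1033 i) (Nat.ble 1057792 i))
noncomputable def nd587 (i : Nat) : Nat := (Bool.rec (motive := fun _ => Nat) (nl1035 i) (nl1036 i) (Nat.ble 1060864 i))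
noncomputable def nd585 (i : Nat) : Nat := (Bool.rec (motive := fun _ => Nat) ((Bool.rec (motive := fun _ => Nat) (nl1031 i) (nd586 i) (Nat.ble 1056768 i))) ((Bool.rec (motive := fun _ => Nat) (nl1034 i) (nd587 i) (Nat.ble 1059840 i))) (Nat.ble 1058816 i))
noncomputable def nd589 (i : Nat) : Nat := (Bool.rec (motive := fun _ => Nat) (nl1038 i) (nl1039 i) (Nat.ble 1063936 i))
noncomputable def nd590 (i : Nat) : Nat := (Bool.rec (motive := fun _ => Nat) (nl1041 i) (nl1042 i) (Nat.ble 1067008 i))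
noncomputable def nd588 (i : Nat) : Nat := (Bool.rec (motive := fun _ => Nat) ((Bool.rec (motive := fun _ => Nat) (nl1037 i) (nd589 i) (Nat.ble 1062912 i))) ((Bool.rec (motive := fun _ => Nat) (nl1040 i) (nd590 i) (Nat.ble 1065984 i))) (Nat.ble 1064960 i))
noncomputable def nd592 (i : Nat) : Nat := (Bool.rec (motive := fun _ => Nat) (nl1044 i) (nl1045 i) (Nat.ble 1070080 i))
noncomputable def nd593 (i : Nat) : Nat := (Bool.rec (motive := fun _ => Nat) (nl1047 i) (nl1048 i) (Nat.ble 1073152 i))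
noncomputable def nd591 (i : Nat) : Nat := (Bool.rec (motive := fun _ => Nat) ((Bool.rec (motive := fun _ => Nat) (nl1043 i) (nd592 i) (Nat.ble 1069056 i))) ((Bool.rec (motive := fun _ => Nat) (nl1046 i) (nd593 i) (Nat.ble 1072128 i))) (Nat.ble 1071104 i))
noncomputable def nd595 (i : Nat) : Nat := (Bool.rec (motive := fun _ => Nat) (nl1050 i) (nl1051 i) (Nat.ble 1076224 i))
noncomputable def nd596 (i : Nat) : Nat := (Bool.rec (motive := fun _ => Nat) (nl1053 i) (nl1054 i) (Nat.ble 1079296 i))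
noncomputable def nd594 (i : Nat) : Nat := (Bool.rec (motive := fun _ => Nat) ((Bool.rec (motive := fun _ => Nat) (nl1049 i) (nd595 i) (Nat.ble 1075200 i))) ((Bool.rec (motive := fun _ => Nat) (nl1052 i) (nd596 i) (Nat.ble 1078272 i))) (Nat.ble 1077248 i))
noncomputable def nd584 (i : Nat) : Nat := (Bool.rec (motive := fun _ => Nat) ((Bool.rec (motive := fun _ => Nat) (nd585 i) (nd588 i) (Nat.ble 1061888 i))) ((Bool.rec (motive := fun _ => Nat) (nd591 i) (nd594 i) (Nat.ble 1074176 i))) (Nat.ble 1068032 i))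
noncomputable def nd599 (i : Nat) : Nat := (Bool.rec (motive := fun _ => Nat) (nl1056 i) (nl1057 i) (Nat.ble 1082368 i))
noncomputable def nd600 (i : Nat) : Nat := (Bool.rec (motive := fun _ => Nat) (nl1059 i) (nl1060 i) (Nat.ble 1085440 i))
noncomputable def nd598 (i : Nat) : Nat := (Bool.rec (motive := fun _ => Nat) ((Bool.rec (motive := fun _ => Nat) (nl1055 i) (nd599 i) (Nat.ble 1081344 i))) ((Bool.rec (motive := fun _ => Nat) (nl1058 i) (nd600 i) (Nat.ble 1084416 i))) (Nat.ble 1083392 i))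
noncomputable def nd602 (i : Nat) : Nat := (Bool.rec (motive := fun _ => Nat) (nl1062 i) (nl1063 i) (Nat.ble 1088512 i))
noncomputable def nd603 (i : Nat) : Nat := (Bool.rec (motive := fun _ => Nat) (nl1065 i) (nl1066 i) (Nat.ble 1091584 i))
noncomputable def nd601 (i : Nat) : Nat := (Bool.rec (motive := fun _ => Nat) ((Bool.rec (motive := fun _ => Nat) (nl1061 i) (nd602 i) (Nat.ble 1087488 i))) ((Bool.rec (motive := fun _ => Nat) (nl1064 i) (nd603 i) (Nat.ble 1090560 i))) (Nat.ble 1089536 i))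
noncomputable def nd605 (i : Nat) : Nat := (Bool.rec (motive := fun _ => Nat) (nl1068 i) (nl1069 i) (Nat.ble 1094656 i))
noncomputable def nd606 (i : Nat) : Nat := (Bool.rec (motive := fun _ => Nat) (nl1071 i) (nl1072 i) (Nat.ble 1097728 i))
noncomputable def nd604 (i : Nat) : Nat := (Bool.rec (motive := fun _ => Nat) ((Bool.rec (motive := fun _ => Nat) (nl1067 i) (nd605 i) (Nat.ble 1093632 i))) ((Bool.rec (motive := fun _ => Nat) (nl1070 i) (nd606 i) (Nat.ble 1096704 i))) (Nat.ble 1095680 i))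
noncomputable def nd608 (i : Nat) : Nat := (Bool.rec (motive := fun _ => Nat) (nl1074 i) (nl1075 i) (Nat.ble 1100800 i))
noncomputable def nd609 (i : Nat) : Nat := (Bool.rec (motive := fun _ => Nat) (nl1076 i) (nl1077 i) (Nat.ble 1102848 i))
noncomputable def nd610 (i : Nat) : Nat := (Bool.rec (motive := fun _ => Nat) (nl1078 i) (nl1079 i) (Nat.ble 1104896 i))
noncomputable def nd607 (i : Nat) : Nat := (Bool.rec (motive := fun _ => Nat) ((Bool.rec (motive := fun _ => Nat) (nl1073 i) (nd608 i) (Nat.ble 1099776 i))) ((Bool.rec (motive := fun _ => Nat) (nd609 i) (nd610 i) (Nat.ble 1103872 i))) (Nat.ble 1101824 i))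
noncomputable def nd597 (i : Nat) : Nat := (Bool.rec (motive := fun _ => Nat) ((Bool.rec (motive := fun _ => Nat) (nd598 i) (nd601 i) (Nat.ble 1086464 i))) ((Bool.rec (motive := fun _ => Nat) (nd604 i) (nd607 i) (Nat.ble 1098752 i))) (Nat.ble 1092608 i))
noncomputable def nd556 (i : Nat) : Nat := (Bool.rec (motive := fun _ => Nat) ((Bool.rec (motive := fun _ => Nat) (nd557 i) (nd570 i) (Nat.ble 1030144 i))) ((Bool.rec (motive := fun _ => Nat) (nd584 i) (nd597 i) (Nat.ble 1080320 i))) (Nat.ble 1055744 i))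
noncomputable def nd614 (i : Nat) : Nat := (Bool.rec (motive := fun _ => Nat) (nl1081 i) (nl1082 i) (Nat.ble 1107968 i))
noncomputable def nd615 (i : Nat) : Nat := (Bool.rec (motive := fun _ => Nat) (nl1084 i) (nl1085 i) (Nat.ble 1111040 i))
noncomputable def nd613 (i : Nat) : Nat := (Bool.rec (motive := fun _ => Nat) ((Bool.rec (motive := fun _ => Nat) (nl1080 i) (nd614 i) (Nat.ble 1106944 i))) ((Bool.rec (motive := fun _ => Nat) (nl1083 i) (nd615 i) (Nat.ble 1110016 i))) (Nat.ble 1108992 i))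
noncomputable def nd617 (i : Nat) : Nat := (Bool.rec (motive := fun _ => Nat) (nl1087 i) (nl1088 i) (Nat.ble 1114112 i))
noncomputable def nd618 (i : Nat) : Nat := (Bool.rec (motive := fun _ => Nat) (nl1090 i) (nl1091 i) (Nat.ble 1117184 i))
noncomputable def nd616 (i : Nat) : Nat := (Bool.rec (motive := fun _ => Nat) ((Bool.rec (motive := fun _ => Nat) (nl1086 i) (nd617 i) (Nat.ble 1113088 i))) ((Bool.rec (motive := fun _ => Nat) (nl1089 i) (nd618 i) (Nat.ble 1116160 i))) (Nat.ble 1115136 i))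
noncomputable def nd620 (i : Nat) : Nat := (Bool.rec (motive := fun _ => Nat) (nl1093 i) (nl1094 i) (Nat.ble 1120256 i))
noncomputable def nd621 (i : Nat) : Nat := (Bool.rec (motive := fun _ => Nat) (nl1096 i) (nl1097 i) (Nat.ble 1123328 i))
noncomputable def nd619 (i : Nat) : Nat := (Bool.rec (motive := fun _ => Nat) ((Bool.rec (motive := fun _ => Nat) (nl1092 i) (nd620 i) (Nat.ble 1119232 i))) ((Bool.rec (motive := fun _ => Nat) (nl1095 i) (nd621 i) (Nat.ble 1122304 i))) (Nat.ble 1121280 i))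
noncomputable def nd623 (i : Nat) : Nat := (Bool.rec (motive := fun _ => Nat) (nl1099 i) (nl1100 i) (Nat.ble 1126400 i))
noncomputable def nd624 (i : Nat) : Nat := (Bool.rec (motive := fun _ => Nat) (nl1102 i) (nl1103 i) (Nat.ble 1129472 i))
noncomputable def nd622 (i : Nat) : Nat := (Bool.rec (motive := fun _ => Nat) ((Bool.rec (motive := fun _ => Nat) (nl1098 i) (nd623 i) (Nat.ble 1125376 i))) ((Bool.rec (motive := fun _ => Nat) (nl1101 i) (nd624 i) (Nat.ble 1128448 i))) (Nat.ble 1127424 i))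
noncomputable def nd612 (i : Nat) : Nat := (Bool.rec (motive := fun _ => Nat) ((Bool.rec (motive := fun _ => Nat) (nd613 i) (nd616 i) (Nat.ble 1112064 i))) ((Bool.rec (motive := fun _ => Nat) (nd619 i) (nd622 i) (Nat.ble 1124352 i))) (Nat.ble 1118208 i))
noncomputable def nd627 (i : Nat) : Nat := (Bool.rec (motive := fun _ => Nat) (nl1105 i) (nl1106 i) (Nat.ble 1132544 i))
noncomputable def nd628 (i : Nat) : Nat := (Bool.rec (motive := fun _ => Nat) (nl1108 i) (nl1109 i) (Nat.ble 1135616 i))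
noncomputable def nd626 (i : Nat) : Nat := (Bool.rec (motive := fun _ => Nat) ((Bool.rec (motive := fun _ => Nat) (nl1104 i) (nd627 i) (Nat.ble 1131520 i))) ((Bool.rec (motive := fun _ => Nat) (nl1107 i) (nd628 i) (Nat.ble 1134592 i))) (Nat.ble 1133568 i))
noncomputable def nd630 (i : Nat) : Nat := (Bool.rec (motive := fun _ => Nat) (nl1111 i) (nl1112 i) (Nat.ble 1138688 i))
noncomputable def nd631 (i : Nat) : Nat := (Bool.rec (motive := fun _ => Nat) (nl1114 i) (nl1115 i) (Nat.ble 1141760 i))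
noncomputable def nd629 (i : Nat) : Nat := (Bool.rec (motive := fun _ => Nat) ((Bool.rec (motive := fun _ => Nat) (nl1110 i) (nd630 i) (Nat.ble 1137664 i))) ((Bool.rec (motive := fun _ => Nat) (nl1113 i) (nd631 i) (Nat.ble 1140736 i))) (Nat.ble 1139712 i))
noncomputable def nd633 (i : Nat) : Nat := (Bool.rec (motive := fun _ => Nat) (nl1117 i) (nl1118 i) (Nat.ble 1144832 i))
noncomputable def nd634 (i : Nat) : Nat := (Bool.rec (motive := fun _ => Nat) (nl1120 i) (nl1121 i) (Nat.ble 1147904 i))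
noncomputable def nd632 (i : Nat) : Nat := (Bool.rec (motive := fun _ => Nat) ((Bool.rec (motive := fun _ => Nat) (nl1116 i) (nd633 i) (Nat.ble 1143808 i))) ((Bool.rec (motive := fun _ => Nat) (nl1119 i) (nd634 i) (Nat.ble 1146880 i))) (Nat.ble 1145856 i))
noncomputable def nd636 (i : Nat) : Nat := (Bool.rec (motive := fun _ => Nat) (nl1123 i) (nl1124 i) (Nat.ble 1150976 i))
noncomputable def nd637 (i : Nat) : Nat := (Bool.rec (motive := fun _ => Nat) (nl1125 i) (nl1126 i) (Nat.ble 1153024 i))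
noncomputable def nd638 (i : Nat) : Nat := (Bool.rec (motive := fun _ => Nat) (nl1127 i) (nl1128 i) (Nat.ble 1155072 i))
noncomputable def nd635 (i : Nat) : Nat := (Bool.rec (motive := fun _ => Nat) ((Bool.rec (motive := fun _ => Nat) (nl1122 i) (nd636 i) (Nat.ble 1149952 i))) ((Bool.rec (motive := fun _ => Nat) (nd637 i) (nd638 i) (Nat.ble 1154048 i))) (Nat.ble 1152000 i))
noncomputable def nd625 (i : Nat) : Nat := (Bool.rec (motive := fun _ => Nat) ((Bool.rec (motive := fun _ => Nat) (nd626 i) (nd629 i) (Nat.ble 1136640 i))) ((Bool.rec (motive := fun _ => Nat) (nd632 i) (nd635 i) (Nat.ble 1148928 i))) (Nat.ble 1142784 i))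
noncomputable def nd641 (i : Nat) : Nat := (Bool.rec (motive := fun _ => Nat) (nl1130 i) (nl1131 i) (Nat.ble 1158144 i))
noncomputable def nd642 (i : Nat) : Nat := (Bool.rec (motive := fun _ => Nat) (nl1133 i) (nl1134 i) (Nat.ble 1161216 i))
noncomputable def nd640 (i : Nat) : Nat := (Bool.rec (motive := fun _ => Nat) ((Bool.rec (motive := fun _ => Nat) (nl1129 i) (nd641 i) (Nat.ble 1157120 i))) ((Bool.rec (motive := fun _ => Nat) (nl1132 i) (nd642 i) (Nat.ble 1160192 i))) (Nat.ble 1159168 i))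
noncomputable def nd644 (i : Nat) : Nat := (Bool.rec (motive := fun _ => Nat) (nl1136 i) (nl1137 i) (Nat.ble 1164288 i))
noncomputable def nd645 (i : Nat) : Nat := (Bool.rec (motive := fun _ => Nat) (nl1139 i) (nl1140 i) (Nat.ble 1167360 i))
noncomputable def nd643 (i : Nat) : Nat := (Bool.rec (motive := fun _ => Nat) ((Bool.rec (motive := fun _ => Nat) (nl1135 i) (nd644 i) (Nat.ble 1163264 i))) ((Bool.rec (motive := fun _ => Nat) (nl1138 i) (nd645 i) (Nat.ble 1166336 i))) (Nat.ble 1165312 i))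
noncomputable def nd647 (i : Nat) : Nat := (Bool.rec (motive := fun _ => Nat) (nl1142 i) (nl1143 i) (Nat.ble 1170432 i))
noncomputable def nd648 (i : Nat) : Nat := (Bool.rec (motive := fun _ => Nat) (nl1145 i) (nl1146 i) (Nat.ble 1173504 i))
noncomputable def nd646 (i : Nat) : Nat := (Bool.rec (motive := fun _ => Nat) ((Bool.rec (motive := fun _ => Nat) (nl1141 i) (nd647 i) (Nat.ble 1169408 i))) ((Bool.rec (motive := fun _ => Nat) (nl1144 i) (nd648 i) (Nat.ble 1172480 i))) (Nat.ble 1171456 i))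
noncomputable def nd650 (i : Nat) : Nat := (Bool.rec (motive := fun _ => Nat) (nl1148 i) (nl1149 i) (Nat.ble 1176576 i))
noncomputable def nd651 (i : Nat) : Nat := (Bool.rec (motive := fun _ => Nat) (nl1150 i) (nl1151 i) (Nat.ble 1178624 i))
noncomputable def nd652 (i : Nat) : Nat := (Bool.rec (motive := fun _ => Nat) (nl1152 i) (nl1153 i) (Nat.ble 1180672 i))
noncomputable def nd649 (i : Nat) : Nat := (Bool.rec (motive := fun _ => Nat) ((Bool.rec (motive := fun _ => Nat) (nl1147 i) (nd650 i) (Nat.ble 1175552 i))) ((Bool.rec (motive := fun _ => Nat) (nd651 i) (nd652 i) (Nat.ble 1179648 i))) (Nat.ble 1177600 i))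
noncomputable def nd639 (i : Nat) : Nat := (Bool.rec (motive := fun _ => Nat) ((Bool.rec (motive := fun _ => Nat) (nd640 i) (nd643 i) (Nat.ble 1162240 i))) ((Bool.rec (motive := fun _ => Nat) (nd646 i) (nd649 i) (Nat.ble 1174528 i))) (Nat.ble 1168384 i))
noncomputable def nd655 (i : Nat) : Nat := (Bool.rec (motive := fun _ => Nat) (nl1155 i) (nl1156 i) (Nat.ble 1183744 i))
noncomputable def nd656 (i : Nat) : Nat := (Bool.rec (motive := fun _ => Nat) (nl1158 i) (nl1159 i) (Nat.ble 1186816 i))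
noncomputable def nd654 (i : Nat) : Nat := (Bool.rec (motive := fun _ => Nat) ((Bool.rec (motive := fun _ => Nat) (nl1154 i) (nd655 i) (Nat.ble 1182720 i))) ((Bool.rec (motive := fun _ => Nat) (nl1157 i) (nd656 i) (Nat.ble 1185792 i))) (Nat.ble 1184768 i))
noncomputable def nd658 (i : Nat) : Nat := (Bool.rec (motive := fun _ => Nat) (nl1161 i) (nl1162 i) (Nat.ble 1189888 i))
noncomputable def nd659 (i : Nat) : Nat := (Bool.rec (motive := fun _ => Nat) (nl1164 i) (nl1165 i) (Nat.ble 1192960 i))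
noncomputable def nd657 (i : Nat) : Nat := (Bool.rec (motive := fun _ => Nat) ((Bool.rec (motive := fun _ => Nat) (nl1160 i) (nd658 i) (Nat.ble 1188864 i))) ((Bool.rec (motive := fun _ => Nat) (nl1163 i) (nd659 i) (Nat.ble 1191936 i))) (Nat.ble 1190912 i))
noncomputable def nd661 (i : Nat) : Nat := (Bool.rec (motive := fun _ => Nat) (nl1167 i) (nl1168 i) (Nat.ble 1196032 i))
noncomputable def nd662 (i : Nat) : Nat := (Bool.rec (motive := fun _ => Nat) (nl1170 i) (nl1171 i) (Nat.ble 1199104 i))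
noncomputable def nd660 (i : Nat) : Nat := (Bool.rec (motive := fun _ => Nat) ((Bool.rec (motive := fun _ => Nat) (nl1166 i) (nd661 i) (Nat.ble 1195008 i))) ((Bool.rec (motive := fun _ => Nat) (nl1169 i) (nd662 i) (Nat.ble 1198080 i))) (Nat.ble 1197056 i))
noncomputable def nd664 (i : Nat) : Nat := (Bool.rec (motive := fun _ => Nat) (nl1173 i) (nl1174 i) (Nat.ble 1202176 i))
noncomputable def nd665 (i : Nat) : Nat := (Bool.rec (motive := fun _ => Nat) (nl1175 i) (nl1176 i) (Nat.ble 1204224 i))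
noncomputable def nd666 (i : Nat) : Nat := (Bool.rec (motive := fun _ => Nat) (nl1177 i) (nl1178 i) (Nat.ble 1206272 i))
noncomputable def nd663 (i : Nat) : Nat := (Bool.rec (motive := fun _ => Nat) ((Bool.rec (motive := fun _ => Nat) (nl1172 i) (nd664 i) (Nat.ble 1201152 i))) ((Bool.rec (motive := fun _ => Nat) (nd665 i) (nd666 i) (Nat.ble 1205248 i))) (Nat.ble 1203200 i))
noncomputable def nd653 (i : Nat) : Nat := (Bool.rec (motive := fun _ => Nat) ((Bool.rec (motive := fun _ => Nat) (nd654 i) (nd657 i) (Nat.ble 1187840 i))) ((Bool.rec (motive := fun _ => Nat) (nd660 i) (nd663 i) (Nat.ble 1200128 i))) (Nat.ble 1193984 i))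
noncomputable def nd611 (i : Nat) : Nat := (Bool.rec (motive := fun _ => Nat) ((Bool.rec (motive := fun _ => Nat) (nd612 i) (nd625 i) (Nat.ble 1130496 i))) ((Bool.rec (motive := fun _ => Nat) (nd639 i) (nd653 i) (Nat.ble 1181696 i))) (Nat.ble 1156096 i))
noncomputable def nd445 (i : Nat) : Nat := (Bool.rec (motive := fun _ => Nat) ((Bool.rec (motive := fun _ => Nat) (nd446 i) (nd501 i) (Nat.ble 905216 i))) ((Bool.rec (motive := fun _ => Nat) (nd556 i) (nd611 i) (Nat.ble 1105920 i))) (Nat.ble 1005568 i))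
noncomputable def nd671 (i : Nat) : Nat := (Bool.rec (motive := fun _ => Nat) (nl1180 i) (nl1181 i) (Nat.ble 1209344 i))
noncomputable def nd672 (i : Nat) : Nat := (Bool.rec (motive := fun _ => Nat) (nl1183 i) (nl1184 i) (Nat.ble 1212416 i))
noncomputable def nd670 (i : Nat) : Nat := (Bool.rec (motive := fun _ => Nat) ((Bool.rec (motive := fun _ => Nat) (nl1179 i) (nd671 i) (Nat.ble 1208320 i))) ((Bool.rec (motive := fun _ => Nat) (nl1182 i) (nd672 i) (Nat.ble 1211392 i))) (Nat.ble 1210368 i))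
noncomputable def nd674 (i : Nat) : Nat := (Bool.rec (motive := fun _ => Nat) (nl1186 i) (nl1187 i) (Nat.ble 1215488 i))
noncomputable def nd675 (i : Nat) : Nat := (Bool.rec (motive := fun _ => Nat) (nl1189 i) (nl1190 i) (Nat.ble 1218560 i))
noncomputable def nd673 (i : Nat) : Nat := (Bool.rec (motive := fun _ => Nat) ((Bool.rec (motive := fun _ => Nat) (nl1185 i) (nd674 i) (Nat.ble 1214464 i))) ((Bool.rec (motive := fun _ => Nat) (nl1188 i) (nd675 i) (Nat.ble 1217536 i))) (Nat.ble 1216512 i))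
noncomputable def nd677 (i : Nat) : Nat := (Bool.rec (motive := fun _ => Nat) (nl1192 i) (nl1193 i) (Nat.ble 1221632 i))
noncomputable def nd678 (i : Nat) : Nat := (Bool.rec (motive := fun _ => Nat) (nl1195 i) (nl1196 i) (Nat.ble 1224704 i))
noncomputable def nd676 (i : Nat) : Nat := (Bool.rec (motive := fun _ => Nat) ((Bool.rec (motive := fun _ => Nat) (nl1191 i) (nd677 i) (Nat.ble 1220608 i))) ((Bool.rec (motive := fun _ => Nat) (nl1194 i) (nd678 i) (Nat.ble 1223680 i))) (Nat.ble 1222656 i))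
noncomputable def nd680 (i : Nat) : Nat := (Bool.rec (motive := fun _ => Nat) (nl1198 i) (nl1199 i) (Nat.ble 1227776 i))
noncomputable def nd681 (i : Nat) : Nat := (Bool.rec (motive := fun _ => Nat) (nl1201 i) (nl1202 i) (Nat.ble 1230848 i))
noncomputable def nd679 (i : Nat) : Nat := (Bool.rec (motive := fun _ => Nat) ((Bool.rec (motive := fun _ => Nat) (nl1197 i) (nd680 i) (Nat.ble 1226752 i))) ((Bool.rec (motive := fun _ => Nat) (nl1200 i) (nd681 i) (Nat.ble 1229824 i))) (Nat.ble 1228800 i))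
noncomputable def nd669 (i : Nat) : Nat := (Bool.rec (motive := fun _ => Nat) ((Bool.rec (motive := fun _ => Nat) (nd670 i) (nd673 i) (Nat.ble 1213440 i))) ((Bool.rec (motive := fun _ => Nat) (nd676 i) (nd679 i) (Nat.ble 1225728 i))) (Nat.ble 1219584 i))
noncomputable def nd684 (i : Nat) : Nat := (Bool.rec (motive := fun _ => Nat) (nl1204 i) (nl1205 i) (Nat.ble 1233920 i))
noncomputable def nd685 (i : Nat) : Nat := (Bool.rec (motive := fun _ => Nat) (nl1207 i) (nl1208 i) (Nat.ble 1236992 i))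
noncomputable def nd683 (i : Nat) : Nat := (Bool.rec (motive := fun _ => Nat) ((Bool.rec (motive := fun _ => Nat) (nl1203 i) (nd684 i) (Nat.ble 1232896 i))) ((Bool.rec (motive := fun _ => Nat) (nl1206 i) (nd685 i) (Nat.ble 1235968 i))) (Nat.ble 1234944 i))
noncomputable def nd687 (i : Nat) : Nat := (Bool.rec (motive := fun _ => Nat) (nl1210 i) (nl1211 i) (Nat.ble 1240064 i))
noncomputable def nd688 (i : Nat) : Nat := (Bool.rec (motive := fun _ => Nat) (nl1213 i) (nl1214 i) (Nat.ble 1243136 i))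
noncomputable def nd686 (i : Nat) : Nat := (Bool.rec (motive := fun _ => Nat) ((Bool.rec (motive := fun _ => Nat) (nl1209 i) (nd687 i) (Nat.ble 1239040 i))) ((Bool.rec (motive := fun _ => Nat) (nl1212 i) (nd688 i) (Nat.ble 1242112 i))) (Nat.ble 1241088 i))
noncomputable def nd690 (i : Nat) : Nat := (Bool.rec (motive := fun _ => Nat) (nl1216 i) (nl1217 i) (Nat.ble 1246208 i))
noncomputable def nd691 (i : Nat) : Nat := (Bool.rec (motive := fun _ => Nat) (nl1219 i) (nl1220 i) (Nat.ble 1249280 i))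
noncomputable def nd689 (i : Nat) : Nat := (Bool.rec (motive := fun _ => Nat) ((Bool.rec (motive := fun _ => Nat) (nl1215 i) (nd690 i) (Nat.ble 1245184 i))) ((Bool.rec (motive := fun _ => Nat) (nl1218 i) (nd691 i) (Nat.ble 1248256 i))) (Nat.ble 1247232 i))
noncomputable def nd693 (i : Nat) : Nat := (Bool.rec (motive := fun _ => Nat) (nl1222 i) (nl1223 i) (Nat.ble 1252352 i))
noncomputable def nd694 (i : Nat) : Nat := (Bool.rec (motive := fun _ => Nat) (nl1224 i) (nl1225 i) (Nat.ble 1254400 i))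
noncomputable def nd695 (i : Nat) : Nat := (Bool.rec (motive := fun _ => Nat) (nl1226 i) (nl1227 i) (Nat.ble 1256448 i))
noncomputable def nd692 (i : Nat) : Nat := (Bool.rec (motive := fun _ => Nat) ((Bool.rec (motive := fun _ => Nat) (nl1221 i) (nd693 i) (Nat.ble 1251328 i))) ((Bool.rec (motive := fun _ => Nat) (nd694 i) (nd695 i) (Nat.ble 1255424 i))) (Nat.ble 1253376 i))
noncomputable def nd682 (i : Nat) : Nat := (Bool.rec (motive := fun _ => Nat) ((Bool.rec (motive := fun _ => Nat) (nd683 i) (nd686 i) (Nat.ble 1238016 i))) ((Bool.rec (motive := fun _ => Nat) (nd689 i) (nd692 i) (Nat.ble 1250304 i))) (Nat.ble 1244160 i))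
noncomputable def nd698 (i : Nat) : Nat := (Bool.rec (motive := fun _ => Nat) (nl1229 i) (nl1230 i) (Nat.ble 1259520 i))
noncomputable def nd699 (i : Nat) : Nat := (Bool.rec (motive := fun _ => Nat) (nl1232 i) (nl1233 i) (Nat.ble 1262592 i))
noncomputable def nd697 (i : Nat) : Nat := (Bool.rec (motive := fun _ => Nat) ((Bool.rec (motive := fun _ => Nat) (nl1228 i) (nd698 i) (Nat.ble 1258496 i))) ((Bool.rec (motive := fun _ => Nat) (nl1231 i) (nd699 i) (Nat.ble 1261568 i))) (Nat.ble 1260544 i))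
noncomputable def nd701 (i : Nat) : Nat := (Bool.rec (motive := fun _ => Nat) (nl1235 i) (nl1236 i) (Nat.ble 1265664 i))
noncomputable def nd702 (i : Nat) : Nat := (Bool.rec (motive := fun _ => Nat) (nl1238 i) (nl1239 i) (Nat.ble 1268736 i))
noncomputable def nd700 (i : Nat) : Nat := (Bool.rec (motive := fun _ => Nat) ((Bool.rec (motive := fun _ => Nat) (nl1234 i) (nd701 i) (Nat.ble 1264640 i))) ((Bool.rec (motive := fun _ => Nat) (nl1237 i) (nd702 i) (Nat.ble 1267712 i))) (Nat.ble 1266688 i))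
noncomputable def nd704 (i : Nat) : Nat := (Bool.rec (motive := fun _ => Nat) (nl1241 i) (nl1242 i) (Nat.ble 1271808 i))
noncomputable def nd705 (i : Nat) : Nat := (Bool.rec (motive := fun _ => Nat) (nl1244 i) (nl1245 i) (Nat.ble 1274880 i))
noncomputable def nd703 (i : Nat) : Nat := (Bool.rec (motive := fun _ => Nat) ((Bool.rec (motive := fun _ => Nat) (nl1240 i) (nd704 i) (Nat.ble 1270784 i))) ((Bool.rec (motive := fun _ => Nat) (nl1243 i) (nd705 i) (Nat.ble 1273856 i))) (Nat.ble 1272832 i))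
noncomputable def nd707 (i : Nat) : Nat := (Bool.rec (motive := fun _ => Nat) (nl1247 i) (nl1248 i) (Nat.ble 1277952 i))
noncomputable def nd708 (i : Nat) : Nat := (Bool.rec (motive := fun _ => Nat) (nl1250 i) (nl1251 i) (Nat.ble 1281024 i))
noncomputable def nd706 (i : Nat) : Nat := (Bool.rec (motive := fun _ => Nat) ((Bool.rec (motive := fun _ => Nat) (nl1246 i) (nd707 i) (Nat.ble 1276928 i))) ((Bool.rec (motive := fun _ => Nat) (nl1249 i) (nd708 i) (Nat.ble 1280000 i))) (Nat.ble 1278976 i))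
noncomputable def nd696 (i : Nat) : Nat := (Bool.rec (motive := fun _ => Nat) ((Bool.rec (motive := fun _ => Nat) (nd697 i) (nd700 i) (Nat.ble 1263616 i))) ((Bool.rec (motive := fun _ => Nat) (nd703 i) (nd706 i) (Nat.ble 1275904 i))) (Nat.ble 1269760 i))
noncomputable def nd711 (i : Nat) : Nat := (Bool.rec (motive := fun _ => Nat) (nl1253 i) (nl1254 i) (Nat.ble 1284096 i))
noncomputable def nd712 (i : Nat) : Nat := (Bool.rec (motive := fun _ => Nat) (nl1256 i) (nl1257 i) (Nat.ble 1287168 i))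
noncomputable def nd710 (i : Nat) : Nat := (Bool.rec (motive := fun _ => Nat) ((Bool.rec (motive := fun _ => Nat) (nl1252 i) (nd711 i) (Nat.ble 1283072 i))) ((Bool.rec (motive := fun _ => Nat) (nl1255 i) (nd712 i) (Nat.ble 1286144 i))) (Nat.ble 1285120 i))
noncomputable def nd714 (i : Nat) : Nat := (Bool.rec (motive := fun _ => Nat) (nl1259 i) (nl1260 i) (Nat.ble 1290240 i))
noncomputable def nd715 (i : Nat) : Nat := (Bool.rec (motive := fun _ => Nat) (nl1262 i) (nl1263 i) (Nat.ble 1293312 i))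
noncomputable def nd713 (i : Nat) : Nat := (Bool.rec (motive := fun _ => Nat) ((Bool.rec (motive := fun _ => Nat) (nl1258 i) (nd714 i) (Nat.ble 1289216 i))) ((Bool.rec (motive := fun _ => Nat) (nl1261 i) (nd715 i) (Nat.ble 1292288 i))) (Nat.ble 1291264 i))
noncomputable def nd717 (i : Nat) : Nat := (Bool.rec (motive := fun _ => Nat) (nl1265 i) (nl1266 i) (Nat.ble 1296384 i))
noncomputable def nd718 (i : Nat) : Nat := (Bool.rec (motive := fun _ => Nat) (nl1268 i) (nl1269 i) (Nat.ble 1299456 i))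
noncomputable def nd716 (i : Nat) : Nat := (Bool.rec (motive := fun _ => Nat) ((Bool.rec (motive := fun _ => Nat) (nl1264 i) (nd717 i) (Nat.ble 1295360 i))) ((Bool.rec (motive := fun _ => Nat) (nl1267 i) (nd718 i) (Nat.ble 1298432 i))) (Nat.ble 1297408 i))
noncomputable def nd720 (i : Nat) : Nat := (Bool.rec (motive := fun _ => Nat) (nl1271 i) (nl1272 i) (Nat.ble 1302528 i))
noncomputable def nd721 (i : Nat) : Nat := (Bool.rec (motive := fun _ => Nat) (nl1273 i) (nl1274 i) (Nat.ble 1304576 i))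
noncomputable def nd722 (i : Nat) : Nat := (Bool.rec (motive := fun _ => Nat) (nl1275 i) (nl1276 i) (Nat.ble 1306624 i))
noncomputable def nd719 (i : Nat) : Nat := (Bool.rec (motive := fun _ => Nat) ((Bool.rec (motive := fun _ => Nat) (nl1270 i) (nd720 i) (Nat.ble 1301504 i))) ((Bool.rec (motive := fun _ => Nat) (nd721 i) (nd722 i) (Nat.ble 1305600 i))) (Nat.ble 1303552 i))
noncomputable def nd709 (i : Nat) : Nat := (Bool.rec (motive := fun _ => Nat) ((Bool.rec (motive := fun _ => Nat) (nd710 i) (nd713 i) (Nat.ble 1288192 i))) ((Bool.rec (motive := fun _ => Nat) (nd716 i) (nd719 i) (Nat.ble 1300480 i))) (Nat.ble 1294336 i))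
noncomputable def nd668 (i : Nat) : Nat := (Bool.rec (motive := fun _ => Nat) ((Bool.rec (motive := fun _ => Nat) (nd669 i) (nd682 i) (Nat.ble 1231872 i))) ((Bool.rec (motive := fun _ => Nat) (nd696 i) (nd709 i) (Nat.ble 1282048 i))) (Nat.ble 1257472 i))
noncomputable def nd726 (i : Nat) : Nat := (Bool.rec (motive := fun _ => Nat) (nl1278 i) (nl1279 i) (Nat.ble 1309696 i))
noncomputable def nd727 (i : Nat) : Nat := (Bool.rec (motive := fun _ => Nat) (nl1281 i) (nl1282 i) (Nat.ble 1312768 i))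
noncomputable def nd725 (i : Nat) : Nat := (Bool.rec (motive := fun _ => Nat) ((Bool.rec (motive := fun _ => Nat) (nl1277 i) (nd726 i) (Nat.ble 1308672 i))) ((Bool.rec (motive := fun _ => Nat) (nl1280 i) (nd727 i) (Nat.ble 1311744 i))) (Nat.ble 1310720 i))
noncomputable def nd729 (i : Nat) : Nat := (Bool.rec (motive := fun _ => Nat) (nl1284 i) (nl1285 i) (Nat.ble 1315840 i))
noncomputable def nd730 (i : Nat) : Nat := (Bool.rec (motive := fun _ => Nat) (nl1287 i) (nl1288 i) (Nat.ble 1318912 i))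
noncomputable def nd728 (i : Nat) : Nat := (Bool.rec (motive := fun _ => Nat) ((Bool.rec (motive := fun _ => Nat) (nl1283 i) (nd729 i) (Nat.ble 1314816 i))) ((Bool.rec (motive := fun _ => Nat) (nl1286 i) (nd730 i) (Nat.ble 1317888 i))) (Nat.ble 1316864 i))
noncomputable def nd732 (i : Nat) : Nat := (Bool.rec (motive := fun _ => Nat) (nl1290 i) (nl1291 i) (Nat.ble 1321984 i))
noncomputable def nd733 (i : Nat) : Nat := (Bool.rec (motive := fun _ => Nat) (nl1293 i) (nl1294 i) (Nat.ble 1325056 i))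
noncomputable def nd731 (i : Nat) : Nat := (Bool.rec (motive := fun _ => Nat) ((Bool.rec (motive := fun _ => Nat) (nl1289 i) (nd732 i) (Nat.ble 1320960 i))) ((Bool.rec (motive := fun _ => Nat) (nl1292 i) (nd733 i) (Nat.ble 1324032 i))) (Nat.ble 1323008 i))
noncomputable def nd735 (i : Nat) : Nat := (Bool.rec (motive := fun _ => Nat) (nl1296 i) (nl1297 i) (Nat.ble 1328128 i))
noncomputable def nd736 (i : Nat) : Nat := (Bool.rec (motive := fun _ => Nat) (nl1299 i) (nl1300 i) (Nat.ble 1331200 i))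
noncomputable def nd734 (i : Nat) : Nat := (Bool.rec (motive := fun _ => Nat) ((Bool.rec (motive := fun _ => Nat) (nl1295 i) (nd735 i) (Nat.ble 1327104 i))) ((Bool.rec (motive := fun _ => Nat) (nl1298 i) (nd736 i) (Nat.ble 1330176 i))) (Nat.ble 1329152 i))
noncomputable def nd724 (i : Nat) : Nat := (Bool.rec (motive := fun _ => Nat) ((Bool.rec (motive := fun _ => Nat) (nd725 i) (nd728 i) (Nat.ble 1313792 i))) ((Bool.rec (motive := fun _ => Nat) (nd731 i) (nd734 i) (Nat.ble 1326080 i))) (Nat.ble 1319936 i))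
noncomputable def nd739 (i : Nat) : Nat := (Bool.rec (motive := fun _ => Nat) (nl1302 i) (nl1303 i) (Nat.ble 1334272 i))
noncomputable def nd740 (i : Nat) : Nat := (Bool.rec (motive := fun _ => Nat) (nl1305 i) (nl1306 i) (Nat.ble 1337344 i))
noncomputable def nd738 (i : Nat) : Nat := (Bool.rec (motive := fun _ => Nat) ((Bool.rec (motive := fun _ => Nat) (nl1301 i) (nd739 i) (Nat.ble 1333248 i))) ((Bool.rec (motive := fun _ => Nat) (nl1304 i) (nd740 i) (Nat.ble 1336320 i))) (Nat.ble 1335296 i))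
noncomputable def nd742 (i : Nat) : Nat := (Bool.rec (motive := fun _ => Nat) (nl1308 i) (nl1309 i) (Nat.ble 1340416 i))
noncomputable def nd743 (i : Nat) : Nat := (Bool.rec (motive := fun _ => Nat) (nl1311 i) (nl1312 i) (Nat.ble 1343488 i))
noncomputable def nd741 (i : Nat) : Nat := (Bool.rec (motive := fun _ => Nat) ((Bool.rec (motive := fun _ => Nat) (nl1307 i) (nd742 i) (Nat.ble 1339392 i))) ((Bool.rec (motive := fun _ => Nat) (nl1310 i) (nd743 i) (Nat.ble 1342464 i))) (Nat.ble 1341440 i))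
noncomputable def nd745 (i : Nat) : Nat := (Bool.rec (motive := fun _ => Nat) (nl1314 i) (nl1315 i) (Nat.ble 1346560 i))
noncomputable def nd746 (i : Nat) : Nat := (Bool.rec (motive := fun _ => Nat) (nl1317 i) (nl1318 i) (Nat.ble 1349632 i))
noncomputable def nd744 (i : Nat) : Nat := (Bool.rec (motive := fun _ => Nat) ((Bool.rec (motive := fun _ => Nat) (nl1313 i) (nd745 i) (Nat.ble 1345536 i))) ((Bool.rec (motive := fun _ => Nat) (nl1316 i) (nd746 i) (Nat.ble 1348608 i))) (Nat.ble 1347584 i))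
noncomputable def nd748 (i : Nat) : Nat := (Bool.rec (motive := fun _ => Nat) (nl1320 i) (nl1321 i) (Nat.ble 1352704 i))
noncomputable def nd749 (i : Nat) : Nat := (Bool.rec (motive := fun _ => Nat) (nl1322 i) (nl1323 i) (Nat.ble 1354752 i))
noncomputable def nd750 (i : Nat) : Nat := (Bool.rec (motive := fun _ => Nat) (nl1324 i) (nl1325 i) (Nat.ble 1356800 i))
noncomputable def nd747 (i : Nat) : Nat := (Bool.rec (motive := fun _ => Nat) ((Bool.rec (motive := fun _ => Nat) (nl1319 i) (nd748 i) (Nat.ble 1351680 i))) ((Bool.rec (motive := fun _ => Nat) (nd749 i) (nd750 i) (Nat.ble 1355776 i))) (Nat.ble 1353728 i))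
noncomputable def nd737 (i : Nat) : Nat := (Bool.rec (motive := fun _ => Nat) ((Bool.rec (motive := fun _ => Nat) (nd738 i) (nd741 i) (Nat.ble 1338368 i))) ((Bool.rec (motive := fun _ => Nat) (nd744 i) (nd747 i) (Nat.ble 1350656 i))) (Nat.ble 1344512 i))
noncomputable def nd753 (i : Nat) : Nat := (Bool.rec (motive := fun _ => Nat) (nl1327 i) (nl1328 i) (Nat.ble 1359872 i))
noncomputable def nd754 (i : Nat) : Nat := (Bool.rec (motive := fun _ => Nat) (nl1330 i) (nl1331 i) (Nat.ble 1362944 i))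
noncomputable def nd752 (i : Nat) : Nat := (Bool.rec (motive := fun _ => Nat) ((Bool.rec (motive := fun _ => Nat) (nl1326 i) (nd753 i) (Nat.ble 1358848 i))) ((Bool.rec (motive := fun _ => Nat) (nl1329 i) (nd754 i) (Nat.ble 1361920 i))) (Nat.ble 1360896 i))
noncomputable def nd756 (i : Nat) : Nat := (Bool.rec (motive := fun _ => Nat) (nl1333 i) (nl1334 i) (Nat.ble 1366016 i))
noncomputable def nd757 (i : Nat) : Nat := (Bool.rec (motive := fun _ => Nat) (nl1336 i) (nl1337 i) (Nat.ble 1369088 i))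
noncomputable def nd755 (i : Nat) : Nat := (Bool.rec (motive := fun _ => Nat) ((Bool.rec (motive := fun _ => Nat) (nl1332 i) (nd756 i) (Nat.ble 1364992 i))) ((Bool.rec (motive := fun _ => Nat) (nl1335 i) (nd757 i) (Nat.ble 1368064 i))) (Nat.ble 1367040 i))
noncomputable def nd759 (i : Nat) : Nat := (Bool.rec (motive := fun _ => Nat) (nl1339 i) (nl1340 i) (Nat.ble 1372160 i))
noncomputable def nd760 (i : Nat) : Nat := (Bool.rec (motive := fun _ => Nat) (nl1342 i) (nl1343 i) (Nat.ble 1375232 i))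
noncomputable def nd758 (i : Nat) : Nat := (Bool.rec (motive := fun _ => Nat) ((Bool.rec (motive := fun _ => Nat) (nl1338 i) (nd759 i) (Nat.ble 1371136 i))) ((Bool.rec (motive := fun _ => Nat) (nl1341 i) (nd760 i) (Nat.ble 1374208 i))) (Nat.ble 1373184 i))
noncomputable def nd762 (i : Nat) : Nat := (Bool.rec (motive := fun _ => Nat) (nl1345 i) (nl1346 i) (Nat.ble 1378304 i))
noncomputable def nd763 (i : Nat) : Nat := (Bool.rec (motive := fun _ => Nat) (nl1347 i) (nl1348 i) (Nat.ble 1380352 i))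
noncomputable def nd764 (i : Nat) : Nat := (Bool.rec (motive := fun _ => Nat) (nl1349 i) (nl1350 i) (Nat.ble 1382400 i))
noncomputable def nd761 (i : Nat) : Nat := (Bool.rec (motive := fun _ => Nat) ((Bool.rec (motive := fun _ => Nat) (nl1344 i) (nd762 i) (Nat.ble 1377280 i))) ((Bool.rec (motive := fun _ => Nat) (nd763 i) (nd764 i) (Nat.ble 1381376 i))) (Nat.ble 1379328 i))
noncomputable def nd751 (i : Nat) : Nat := (Bool.rec (motive := fun _ => Nat) ((Bool.rec (motive := fun _ => Nat) (nd752 i) (nd755 i) (Nat.ble 1363968 i))) ((Bool.rec (motive := fun _ => Nat) (nd758 i) (nd761 i) (Nat.ble 1376256 i))) (Nat.ble 1370112 i))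
noncomputable def nd767 (i : Nat) : Nat := (Bool.rec (motive := fun _ => Nat) (nl1352 i) (nl1353 i) (Nat.ble 1385472 i))
noncomputable def nd768 (i : Nat) : Nat := (Bool.rec (motive := fun _ => Nat) (nl1355 i) (nl1356 i) (Nat.ble 1388544 i))
noncomputable def nd766 (i : Nat) : Nat := (Bool.rec (motive := fun _ => Nat) ((Bool.rec (motive := fun _ => Nat) (nl1351 i) (nd767 i) (Nat.ble 1384448 i))) ((Bool.rec (motive := fun _ => Nat) (nl1354 i) (nd768 i) (Nat.ble 1387520 i))) (Nat.ble 1386496 i))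
noncomputable def nd770 (i : Nat) : Nat := (Bool.rec (motive := fun _ => Nat) (nl1358 i) (nl1359 i) (Nat.ble 1391616 i))
noncomputable def nd771 (i : Nat) : Nat := (Bool.rec (motive := fun _ => Nat) (nl1361 i) (nl1362 i) (Nat.ble 1394688 i))
noncomputable def nd769 (i : Nat) : Nat := (Bool.rec (motive := fun _ => Nat) ((Bool.rec (motive := fun _ => Nat) (nl1357 i) (nd770 i) (Nat.ble 1390592 i))) ((Bool.rec (motive := fun _ => Nat) (nl1360 i) (nd771 i) (Nat.ble 1393664 i))) (Nat.ble 1392640 i))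
noncomputable def nd773 (i : Nat) : Nat := (Bool.rec (motive := fun _ => Nat) (nl1364 i) (nl1365 i) (Nat.ble 1397760 i))
noncomputable def nd774 (i : Nat) : Nat := (Bool.rec (motive := fun _ => Nat) (nl1367 i) (nl1368 i) (Nat.ble 1400832 i))
noncomputable def nd772 (i : Nat) : Nat := (Bool.rec (motive := fun _ => Nat) ((Bool.rec (motive := fun _ => Nat) (nl1363 i) (nd773 i) (Nat.ble 1396736 i))) ((Bool.rec (motive := fun _ => Nat) (nl1366 i) (nd774 i) (Nat.ble 1399808 i))) (Nat.ble 1398784 i))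
noncomputable def nd776 (i : Nat) : Nat := (Bool.rec (motive := fun _ => Nat) (nl1370 i) (nl1371 i) (Nat.ble 1403904 i))
noncomputable def nd777 (i : Nat) : Nat := (Bool.rec (motive := fun _ => Nat) (nl1372 i) (nl1373 i) (Nat.ble 1405952 i))
noncomputable def nd778 (i : Nat) : Nat := (Bool.rec (motive := fun _ => Nat) (nl1374 i) (nl1375 i) (Nat.ble 1408000 i))
noncomputable def nd775 (i : Nat) : Nat := (Bool.rec (motive := fun _ => Nat) ((Bool.rec (motive := fun _ => Nat) (nl1369 i) (nd776 i) (Nat.ble 1402880 i))) ((Bool.rec (motive := fun _ => Nat) (nd777 i) (nd778 i) (Nat.ble 1406976 i))) (Nat.ble 1404928 i))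
noncomputable def nd765 (i : Nat) : Nat := (Bool.rec (motive := fun _ => Nat) ((Bool.rec (motive := fun _ => Nat) (nd766 i) (nd769 i) (Nat.ble 1389568 i))) ((Bool.rec (motive := fun _ => Nat) (nd772 i) (nd775 i) (Nat.ble 1401856 i))) (Nat.ble 1395712 i))
noncomputable def nd723 (i : Nat) : Nat := (Bool.rec (motive := fun _ => Nat) ((Bool.rec (motive := fun _ => Nat) (nd724 i) (nd737 i) (Nat.ble 1332224 i))) ((Bool.rec (motive := fun _ => Nat) (nd751 i) (nd765 i) (Nat.ble 1383424 i))) (Nat.ble 1357824 i))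
noncomputable def nd782 (i : Nat) : Nat := (Bool.rec (motive := fun _ => Nat) (nl1377 i) (nl1378 i) (Nat.ble 1411072 i))
noncomputable def nd783 (i : Nat) : Nat := (Bool.rec (motive := fun _ => Nat) (nl1380 i) (nl1381 i) (Nat.ble 1414144 i))
noncomputable def nd781 (i : Nat) : Nat := (Bool.rec (motive := fun _ => Nat) ((Bool.rec (motive := fun _ => Nat) (nl1376 i) (nd782 i) (Nat.ble 1410048 i))) ((Bool.rec (motive := fun _ => Nat) (nl1379 i) (nd783 i) (Nat.ble 1413120 i))) (Nat.ble 1412096 i))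
noncomputable def nd785 (i : Nat) : Nat := (Bool.rec (motive := fun _ => Nat) (nl1383 i) (nl1384 i) (Nat.ble 1417216 i))
noncomputable def nd786 (i : Nat) : Nat := (Bool.rec (motive := fun _ => Nat) (nl1386 i) (nl1387 i) (Nat.ble 1420288 i))
noncomputable def nd784 (i : Nat) : Nat := (Bool.rec (motive := fun _ => Nat) ((Bool.rec (motive := fun _ => Nat) (nl1382 i) (nd785 i) (Nat.ble 1416192 i))) ((Bool.rec (motive := fun _ => Nat) (nl1385 i) (nd786 i) (Nat.ble 1419264 i))) (Nat.ble 1418240 i))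
noncomputable def nd788 (i : Nat) : Nat := (Bool.rec (motive := fun _ => Nat) (nl1389 i) (nl1390 i) (Nat.ble 1423360 i))
noncomputable def nd789 (i : Nat) : Nat := (Bool.rec (motive := fun _ => Nat) (nl1392 i) (nl1393 i) (Nat.ble 1426432 i))
noncomputable def nd787 (i : Nat) : Nat := (Bool.rec (motive := fun _ => Nat) ((Bool.rec (motive := fun _ => Nat) (nl1388 i) (nd788 i) (Nat.ble 1422336 i))) ((Bool.rec (motive := fun _ => Nat) (nl1391 i) (nd789 i) (Nat.ble 1425408 i))) (Nat.ble 1424384 i))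
noncomputable def nd791 (i : Nat) : Nat := (Bool.rec (motive := fun _ => Nat) (nl1395 i) (nl1396 i) (Nat.ble 1429504 i))
noncomputable def nd792 (i : Nat) : Nat := (Bool.rec (motive := fun _ => Nat) (nl1398 i) (nl1399 i) (Nat.ble 1432576 i))
noncomputable def nd790 (i : Nat) : Nat := (Bool.rec (motive := fun _ => Nat) ((Bool.rec (motive := fun _ => Nat) (nl1394 i) (nd791 i) (Nat.ble 1428480 i))) ((Bool.rec (motive := fun _ => Nat) (nl1397 i) (nd792 i) (Nat.ble 1431552 i))) (Nat.ble 1430528 i))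
noncomputable def nd780 (i : Nat) : Nat := (Bool.rec (motive := fun _ => Nat) ((Bool.rec (motive := fun _ => Nat) (nd781 i) (nd784 i) (Nat.ble 1415168 i))) ((Bool.rec (motive := fun _ => Nat) (nd787 i) (nd790 i) (Nat.ble 1427456 i))) (Nat.ble 1421312 i))
noncomputable def nd795 (i : Nat) : Nat := (Bool.rec (motive := fun _ => Nat) (nl1401 i) (nl1402 i) (Nat.ble 1435648 i))
noncomputable def nd796 (i : Nat) : Nat := (Bool.rec (motive := fun _ => Nat) (nl1404 i) (nl1405 i) (Nat.ble 1438720 i))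
noncomputable def nd794 (i : Nat) : Nat := (Bool.rec (motive := fun _ => Nat) ((Bool.rec (motive := fun _ => Nat) (nl1400 i) (nd795 i) (Nat.ble 1434624 i))) ((Bool.rec (motive := fun _ => Nat) (nl1403 i) (nd796 i) (Nat.ble 1437696 i))) (Nat.ble 1436672 i))
noncomputable def nd798 (i : Nat) : Nat := (Bool.rec (motive := fun _ => Nat) (nl1407 i) (nl1408 i) (Nat.ble 1441792 i))
noncomputable def nd799 (i : Nat) : Nat := (Bool.rec (motive := fun _ => Nat) (nl1410 i) (nl1411 i) (Nat.ble 1444864 i))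
noncomputable def nd797 (i : Nat) : Nat := (Bool.rec (motive := fun _ => Nat) ((Bool.rec (motive := fun _ => Nat) (nl1406 i) (nd798 i) (Nat.ble 1440768 i))) ((Bool.rec (motive := fun _ => Nat) (nl1409 i) (nd799 i) (Nat.ble 1443840 i))) (Nat.ble 1442816 i))
noncomputable def nd801 (i : Nat) : Nat := (Bool.rec (motive := fun _ => Nat) (nl1413 i) (nl1414 i) (Nat.ble 1447936 i))
noncomputable def nd802 (i : Nat) : Nat := (Bool.rec (motive := fun _ => Nat) (nl1416 i) (nl1417 i) (Nat.ble 1451008 i))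
noncomputable def nd800 (i : Nat) : Nat := (Bool.rec (motive := fun _ => Nat) ((Bool.rec (motive := fun _ => Nat) (nl1412 i) (nd801 i) (Nat.ble 1446912 i))) ((Bool.rec (motive := fun _ => Nat) (nl1415 i) (nd802 i) (Nat.ble 1449984 i))) (Nat.ble 1448960 i))
noncomputable def nd804 (i : Nat) : Nat := (Bool.rec (motive := fun _ => Nat) (nl1419 i) (nl1420 i) (Nat.ble 1454080 i))
noncomputable def nd805 (i : Nat) : Nat := (Bool.rec (motive := fun _ => Nat) (nl1421 i) (nl1422 i) (Nat.ble 1456128 i))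
noncomputable def nd806 (i : Nat) : Nat := (Bool.rec (motive := fun _ => Nat) (nl1423 i) (nl1424 i) (Nat.ble 1458176 i))
noncomputable def nd803 (i : Nat) : Nat := (Bool.rec (motive := fun _ => Nat) ((Bool.rec (motive := fun _ => Nat) (nl1418 i) (nd804 i) (Nat.ble 1453056 i))) ((Bool.rec (motive := fun _ => Nat) (nd805 i) (nd806 i) (Nat.ble 1457152 i))) (Nat.ble 1455104 i))
noncomputable def nd793 (i : Nat) : Nat := (Bool.rec (motive := fun _ => Nat) ((Bool.rec (motive := fun _ => Nat) (nd794 i) (nd797 i) (Nat.ble 1439744 i))) ((Bool.rec (motive := fun _ => Nat) (nd800 i) (nd803 i) (Nat.ble 1452032 i))) (Nat.ble 1445888 i))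
noncomputable def nd809 (i : Nat) : Nat := (Bool.rec (motive := fun _ => Nat) (nl1426 i) (nl1427 i) (Nat.ble 1461248 i))
noncomputable def nd810 (i : Nat) : Nat := (Bool.rec (motive := fun _ => Nat) (nl1429 i) (nl1430 i) (Nat.ble 1464320 i))
noncomputable def nd808 (i : Nat) : Nat := (Bool.rec (motive := fun _ => Nat) ((Bool.rec (motive := fun _ => Nat) (nl1425 i) (nd809 i) (Nat.ble 1460224 i))) ((Bool.rec (motive := fun _ => Nat) (nl1428 i) (nd810 i) (Nat.ble 1463296 i))) (Nat.ble 1462272 i))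
noncomputable def nd812 (i : Nat) : Nat := (Bool.rec (motive := fun _ => Nat) (nl1432 i) (nl1433 i) (Nat.ble 1467392 i))
noncomputable def nd813 (i : Nat) : Nat := (Bool.rec (motive := fun _ => Nat) (nl1435 i) (nl1436 i) (Nat.ble 1470464 i))
noncomputable def nd811 (i : Nat) : Nat := (Bool.rec (motive := fun _ => Nat) ((Bool.rec (motive := fun _ => Nat) (nl1431 i) (nd812 i) (Nat.ble 1466368 i))) ((Bool.rec (motive := fun _ => Nat) (nl1434 i) (nd813 i) (Nat.ble 1469440 i))) (Nat.ble 1468416 i))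
noncomputable def nd815 (i : Nat) : Nat := (Bool.rec (motive := fun _ => Nat) (nl1438 i) (nl1439 i) (Nat.ble 1473536 i))
noncomputable def nd816 (i : Nat) : Nat := (Bool.rec (motive := fun _ => Nat) (nl1441 i) (nl1442 i) (Nat.ble 1476608 i))
noncomputable def nd814 (i : Nat) : Nat := (Bool.rec (motive := fun _ => Nat) ((Bool.rec (motive := fun _ => Nat) (nl1437 i) (nd815 i) (Nat.ble 1472512 i))) ((Bool.rec (motive := fun _ => Nat) (nl1440 i) (nd816 i) (Nat.ble 1475584 i))) (Nat.ble 1474560 i))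
noncomputable def nd818 (i : Nat) : Nat := (Bool.rec (motive := fun _ => Nat) (nl1444 i) (nl1445 i) (Nat.ble 1479680 i))
noncomputable def nd819 (i : Nat) : Nat := (Bool.rec (motive := fun _ => Nat) (nl1447 i) (nl1448 i) (Nat.ble 1482752 i))
noncomputable def nd817 (i : Nat) : Nat := (Bool.rec (motive := fun _ => Nat) ((Bool.rec (motive := fun _ => Nat) (nl1443 i) (nd818 i) (Nat.ble 1478656 i))) ((Bool.rec (motive := fun _ => Nat) (nl1446 i) (nd819 i) (Nat.ble 1481728 i))) (Nat.ble 1480704 i))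
noncomputable def nd807 (i : Nat) : Nat := (Bool.rec (motive := fun _ => Nat) ((Bool.rec (motive := fun _ => Nat) (nd808 i) (nd811 i) (Nat.ble 1465344 i))) ((Bool.rec (motive := fun _ => Nat) (nd814 i) (nd817 i) (Nat.ble 1477632 i))) (Nat.ble 1471488 i))
noncomputable def nd822 (i : Nat) : Nat := (Bool.rec (motive := fun _ => Nat) (nl1450 i) (nl1451 i) (Nat.ble 1485824 i))
noncomputable def nd823 (i : Nat) : Nat := (Bool.rec (motive := fun _ => Nat) (nl1453 i) (nl1454 i) (Nat.ble 1488896 i))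
noncomputable def nd821 (i : Nat) : Nat := (Bool.rec (motive := fun _ => Nat) ((Bool.rec (motive := fun _ => Nat) (nl1449 i) (nd822 i) (Nat.ble 1484800 i))) ((Bool.rec (motive := fun _ => Nat) (nl1452 i) (nd823 i) (Nat.ble 1487872 i))) (Nat.ble 1486848 i))
noncomputable def nd825 (i : Nat) : Nat := (Bool.rec (motive := fun _ => Nat) (nl1456 i) (nl1457 i) (Nat.ble 1491968 i))
noncomputable def nd826 (i : Nat) : Nat := (Bool.rec (motive := fun _ => Nat) (nl1459 i) (nl1460 i) (Nat.ble 1495040 i))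
noncomputable def nd824 (i : Nat) : Nat := (Bool.rec (motive := fun _ => Nat) ((Bool.rec (motive := fun _ => Nat) (nl1455 i) (nd825 i) (Nat.ble 1490944 i))) ((Bool.rec (motive := fun _ => Nat) (nl1458 i) (nd826 i) (Nat.ble 1494016 i))) (Nat.ble 1492992 i))
noncomputable def nd828 (i : Nat) : Nat := (Bool.rec (motive := fun _ => Nat) (nl1462 i) (nl1463 i) (Nat.ble 1498112 i))
noncomputable def nd829 (i : Nat) : Nat := (Bool.rec (motive := fun _ => Nat) (nl1465 i) (nl1466 i) (Nat.ble 1501184 i))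
noncomputable def nd827 (i : Nat) : Nat := (Bool.rec (motive := fun _ => Nat) ((Bool.rec (motive := fun _ => Nat) (nl1461 i) (nd828 i) (Nat.ble 1497088 i))) ((Bool.rec (motive := fun _ => Nat) (nl1464 i) (nd829 i) (Nat.ble 1500160 i))) (Nat.ble 1499136 i))
noncomputable def nd831 (i : Nat) : Nat := (Bool.rec (motive := fun _ => Nat) (nl1468 i) (nl1469 i) (Nat.ble 1504256 i))
noncomputable def nd832 (i : Nat) : Nat := (Bool.rec (motive := fun _ => Nat) (nl1470 i) (nl1471 i) (Nat.ble 1506304 i))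
noncomputable def nd833 (i : Nat) : Nat := (Bool.rec (motive := fun _ => Nat) (nl1472 i) (nl1473 i) (Nat.ble 1508352 i))
noncomputable def nd830 (i : Nat) : Nat := (Bool.rec (motive := fun _ => Nat) ((Bool.rec (motive := fun _ => Nat) (nl1467 i) (nd831 i) (Nat.ble 1503232 i))) ((Bool.rec (motive := fun _ => Nat) (nd832 i) (nd833 i) (Nat.ble 1507328 i))) (Nat.ble 1505280 i))
noncomputable def nd820 (i : Nat) : Nat := (Bool.rec (motive := fun _ => Nat) ((Bool.rec (motive := fun _ => Nat) (nd821 i) (nd824 i) (Nat.ble 1489920 i))) ((Bool.rec (motive := fun _ => Nat) (nd827 i) (nd830 i) (Nat.ble 1502208 i))) (Nat.ble 1496064 i))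
noncomputable def nd779 (i : Nat) : Nat := (Bool.rec (motive := fun _ => Nat) ((Bool.rec (motive := fun _ => Nat) (nd780 i) (nd793 i) (Nat.ble 1433600 i))) ((Bool.rec (motive := fun _ => Nat) (nd807 i) (nd820 i) (Nat.ble 1483776 i))) (Nat.ble 1459200 i))
noncomputable def nd837 (i : Nat) : Nat := (Bool.rec (motive := fun _ => Nat) (nl1475 i) (nl1476 i) (Nat.ble 1511424 i))
noncomputable def nd838 (i : Nat) : Nat := (Bool.rec (motive := fun _ => Nat) (nl1478 i) (nl1479 i) (Nat.ble 1514496 i))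
noncomputable def nd836 (i : Nat) : Nat := (Bool.rec (motive := fun _ => Nat) ((Bool.rec (motive := fun _ => Nat) (nl1474 i) (nd837 i) (Nat.ble 1510400 i))) ((Bool.rec (motive := fun _ => Nat) (nl1477 i) (nd838 i) (Nat.ble 1513472 i))) (Nat.ble 1512448 i))
noncomputable def nd840 (i : Nat) : Nat := (Bool.rec (motive := fun _ => Nat) (nl1481 i) (nl1482 i) (Nat.ble 1517568 i))
noncomputable def nd841 (i : Nat) : Nat := (Bool.rec (motive := fun _ => Nat) (nl1484 i) (nl1485 i) (Nat.ble 1520640 i))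
noncomputable def nd839 (i : Nat) : Nat := (Bool.rec (motive := fun _ => Nat) ((Bool.rec (motive := fun _ => Nat) (nl1480 i) (nd840 i) (Nat.ble 1516544 i))) ((Bool.rec (motive := fun _ => Nat) (nl1483 i) (nd841 i) (Nat.ble 1519616 i))) (Nat.ble 1518592 i))
noncomputable def nd843 (i : Nat) : Nat := (Bool.rec (motive := fun _ => Nat) (nl1487 i) (nl1488 i) (Nat.ble 1523712 i))
noncomputable def nd844 (i : Nat) : Nat := (Bool.rec (motive := fun _ => Nat) (nl1490 i) (nl1491 i) (Nat.ble 1526784 i))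
noncomputable def nd842 (i : Nat) : Nat := (Bool.rec (motive := fun _ => Nat) ((Bool.rec (motive := fun _ => Nat) (nl1486 i) (nd843 i) (Nat.ble 1522688 i))) ((Bool.rec (motive := fun _ => Nat) (nl1489 i) (nd844 i) (Nat.ble 1525760 i))) (Nat.ble 1524736 i))
noncomputable def nd846 (i : Nat) : Nat := (Bool.rec (motive := fun _ => Nat) (nl1493 i) (nl1494 i) (Nat.ble 1529856 i))
noncomputable def nd847 (i : Nat) : Nat := (Bool.rec (motive := fun _ => Nat) (nl1496 i) (nl1497 i) (Nat.ble 1532928 i))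
noncomputable def nd845 (i : Nat) : Nat := (Bool.rec (motive := fun _ => Nat) ((Bool.rec (motive := fun _ => Nat) (nl1492 i) (nd846 i) (Nat.ble 1528832 i))) ((Bool.rec (motive := fun _ => Nat) (nl1495 i) (nd847 i) (Nat.ble 1531904 i))) (Nat.ble 1530880 i))
noncomputable def nd835 (i : Nat) : Nat := (Bool.rec (motive := fun _ => Nat) ((Bool.rec (motive := fun _ => Nat) (nd836 i) (nd839 i) (Nat.ble 1515520 i))) ((Bool.rec (motive := fun _ => Nat) (nd842 i) (nd845 i) (Nat.ble 1527808 i))) (Nat.ble 1521664 i))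
noncomputable def nd850 (i : Nat) : Nat := (Bool.rec (motive := fun _ => Nat) (nl1499 i) (nl1500 i) (Nat.ble 1536000 i))
noncomputable def nd851 (i : Nat) : Nat := (Bool.rec (motive := fun _ => Nat) (nl1502 i) (nl1503 i) (Nat.ble 1539072 i))
noncomputable def nd849 (i : Nat) : Nat := (Bool.rec (motive := fun _ => Nat) ((Bool.rec (motive := fun _ => Nat) (nl1498 i) (nd850 i) (Nat.ble 1534976 i))) ((Bool.rec (motive := fun _ => Nat) (nl1501 i) (nd851 i) (Nat.ble 1538048 i))) (Nat.ble 1537024 i))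
noncomputable def nd853 (i : Nat) : Nat := (Bool.rec (motive := fun _ => Nat) (nl1505 i) (nl1506 i) (Nat.ble 1542144 i))
noncomputable def nd854 (i : Nat) : Nat := (Bool.rec (motive := fun _ => Nat) (nl1508 i) (nl1509 i) (Nat.ble 1545216 i))
noncomputable def nd852 (i : Nat) : Nat := (Bool.rec (motive := fun _ => Nat) ((Bool.rec (motive := fun _ => Nat) (nl1504 i) (nd853 i) (Nat.ble 1541120 i))) ((Bool.rec (motive := fun _ => Nat) (nl1507 i) (nd854 i) (Nat.ble 1544192 i))) (Nat.ble 1543168 i))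
noncomputable def nd856 (i : Nat) : Nat := (Bool.rec (motive := fun _ => Nat) (nl1511 i) (nl1512 i) (Nat.ble 1548288 i))
noncomputable def nd857 (i : Nat) : Nat := (Bool.rec (motive := fun _ => Nat) (nl1514 i) (nl1515 i) (Nat.ble 1551360 i))
noncomputable def nd855 (i : Nat) : Nat := (Bool.rec (motive := fun _ => Nat) ((Bool.rec (motive := fun _ => Nat) (nl1510 i) (nd856 i) (Nat.ble 1547264 i))) ((Bool.rec (motive := fun _ => Nat) (nl1513 i) (nd857 i) (Nat.ble 1550336 i))) (Nat.ble 1549312 i))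
noncomputable def nd859 (i : Nat) : Nat := (Bool.rec (motive := fun _ => Nat) (nl1517 i) (nl1518 i) (Nat.ble 1554432 i))
noncomputable def nd860 (i : Nat) : Nat := (Bool.rec (motive := fun _ => Nat) (nl1519 i) (nl1520 i) (Nat.ble 1556480 i))
noncomputable def nd861 (i : Nat) : Nat := (Bool.rec (motive := fun _ => Nat) (nl1521 i) (nl1522 i) (Nat.ble 1558528 i))
noncomputable def nd858 (i : Nat) : Nat := (Bool.rec (motive := fun _ => Nat) ((Bool.rec (motive := fun _ => Nat) (nl1516 i) (nd859 i) (Nat.ble 1553408 i))) ((Bool.rec (motive := fun _ => Nat) (nd860 i) (nd861 i) (Nat.ble 1557504 i))) (Nat.ble 1555456 i))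
noncomputable def nd848 (i : Nat) : Nat := (Bool.rec (motive := fun _ => Nat) ((Bool.rec (motive := fun _ => Nat) (nd849 i) (nd852 i) (Nat.ble 1540096 i))) ((Bool.rec (motive := fun _ => Nat) (nd855 i) (nd858 i) (Nat.ble 1552384 i))) (Nat.ble 1546240 i))
noncomputable def nd864 (i : Nat) : Nat := (Bool.rec (motive := fun _ => Nat) (nl1524 i) (nl1525 i) (Nat.ble 1561600 i))
noncomputable def nd865 (i : Nat) : Nat := (Bool.rec (motive := fun _ => Nat) (nl1527 i) (nl1528 i) (Nat.ble 1564672 i))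
noncomputable def nd863 (i : Nat) : Nat := (Bool.rec (motive := fun _ => Nat) ((Bool.rec (motive := fun _ => Nat) (nl1523 i) (nd864 i) (Nat.ble 1560576 i))) ((Bool.rec (motive := fun _ => Nat) (nl1526 i) (nd865 i) (Nat.ble 1563648 i))) (Nat.ble 1562624 i))
noncomputable def nd867 (i : Nat) : Nat := (Bool.rec (motive := fun _ => Nat) (nl1530 i) (nl1531 i) (Nat.ble 1567744 i))
noncomputable def nd868 (i : Nat) : Nat := (Bool.rec (motive := fun _ => Nat) (nl1533 i) (nl1534 i) (Nat.ble 1570816 i))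
noncomputable def nd866 (i : Nat) : Nat := (Bool.rec (motive := fun _ => Nat) ((Bool.rec (motive := fun _ => Nat) (nl1529 i) (nd867 i) (Nat.ble 1566720 i))) ((Bool.rec (motive := fun _ => Nat) (nl1532 i) (nd868 i) (Nat.ble 1569792 i))) (Nat.ble 1568768 i))
noncomputable def nd870 (i : Nat) : Nat := (Bool.rec (motive := fun _ => Nat) (nl1536 i) (nl1537 i) (Nat.ble 1573888 i))
noncomputable def nd871 (i : Nat) : Nat := (Bool.rec (motive := fun _ => Nat) (nl1539 i) (nl1540 i) (Nat.ble 1576960 i))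
noncomputable def nd869 (i : Nat) : Nat := (Bool.rec (motive := fun _ => Nat) ((Bool.rec (motive := fun _ => Nat) (nl1535 i) (nd870 i) (Nat.ble 1572864 i))) ((Bool.rec (motive := fun _ => Nat) (nl1538 i) (nd871 i) (Nat.ble 1575936 i))) (Nat.ble 1574912 i))
noncomputable def nd873 (i : Nat) : Nat := (Bool.rec (motive := fun _ => Nat) (nl1542 i) (nl1543 i) (Nat.ble 1580032 i))
noncomputable def nd874 (i : Nat) : Nat := (Bool.rec (motive := fun _ => Nat) (nl1544 i) (nl1545 i) (Nat.ble 1582080 i))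
noncomputable def nd875 (i : Nat) : Nat := (Bool.rec (motive := fun _ => Nat) (nl1546 i) (nl1547 i) (Nat.ble 1584128 i))
noncomputable def nd872 (i : Nat) : Nat := (Bool.rec (motive := fun _ => Nat) ((Bool.rec (motive := fun _ => Nat) (nl1541 i) (nd873 i) (Nat.ble 1579008 i))) ((Bool.rec (motive := fun _ => Nat) (nd874 i) (nd875 i) (Nat.ble 1583104 i))) (Nat.ble 1581056 i))
noncomputable def nd862 (i : Nat) : Nat := (Bool.rec (motive := fun _ => Nat) ((Bool.rec (motive := fun _ => Nat) (nd863 i) (nd866 i) (Nat.ble 1565696 i))) ((Bool.rec (motive := fun _ => Nat) (nd869 i) (nd872 i) (Nat.ble 1577984 i))) (Nat.ble 1571840 i))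
noncomputable def nd878 (i : Nat) : Nat := (Bool.rec (motive := fun _ => Nat) (nl1549 i) (nl1550 i) (Nat.ble 1587200 i))
noncomputable def nd879 (i : Nat) : Nat := (Bool.rec (motive := fun _ => Nat) (nl1552 i) (nl1553 i) (Nat.ble 1590272 i))
noncomputable def nd877 (i : Nat) : Nat := (Bool.rec (motive := fun _ => Nat) ((Bool.rec (motive := fun _ => Nat) (nl1548 i) (nd878 i) (Nat.ble 1586176 i))) ((Bool.rec (motive := fun _ => Nat) (nl1551 i) (nd879 i) (Nat.ble 1589248 i))) (Nat.ble 1588224 i))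
noncomputable def nd881 (i : Nat) : Nat := (Bool.rec (motive := fun _ => Nat) (nl1555 i) (nl1556 i) (Nat.ble 1593344 i))
noncomputable def nd882 (i : Nat) : Nat := (Bool.rec (motive := fun _ => Nat) (nl1558 i) (nl1559 i) (Nat.ble 1596416 i))
noncomputable def nd880 (i : Nat) : Nat := (Bool.rec (motive := fun _ => Nat) ((Bool.rec (motive := fun _ => Nat) (nl1554 i) (nd881 i) (Nat.ble 1592320 i))) ((Bool.rec (motive := fun _ => Nat) (nl1557 i) (nd882 i) (Nat.ble 1595392 i))) (Nat.ble 1594368 i))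
noncomputable def nd884 (i : Nat) : Nat := (Bool.rec (motive := fun _ => Nat) (nl1561 i) (nl1562 i) (Nat.ble 1599488 i))
noncomputable def nd885 (i : Nat) : Nat := (Bool.rec (motive := fun _ => Nat) (nl1564 i) (nl1565 i) (Nat.ble 1602560 i))
noncomputable def nd883 (i : Nat) : Nat := (Bool.rec (motive := fun _ => Nat) ((Bool.rec (motive := fun _ => Nat) (nl1560 i) (nd884 i) (Nat.ble 1598464 i))) ((Bool.rec (motive := fun _ => Nat) (nl1563 i) (nd885 i) (Nat.ble 1601536 i))) (Nat.ble 1600512 i))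
noncomputable def nd887 (i : Nat) : Nat := (Bool.rec (motive := fun _ => Nat) (nl1567 i) (nl1568 i) (Nat.ble 1605632 i))
noncomputable def nd888 (i : Nat) : Nat := (Bool.rec (motive := fun _ => Nat) (nl1569 i) (nl1570 i) (Nat.ble 1607680 i))
noncomputable def nd889 (i : Nat) : Nat := (Bool.rec (motive := fun _ => Nat) (nl1571 i) (nl1572 i) (Nat.ble 1609728 i))
noncomputable def nd886 (i : Nat) : Nat := (Bool.rec (motive := fun _ => Nat) ((Bool.rec (motive := fun _ => Nat) (nl1566 i) (nd887 i) (Nat.ble 1604608 i))) ((Bool.rec (motive := fun _ => Nat) (nd888 i) (nd889 i) (Nat.ble 1608704 i))) (Nat.ble 1606656 i))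
noncomputable def nd876 (i : Nat) : Nat := (Bool.rec (motive := fun _ => Nat) ((Bool.rec (motive := fun _ => Nat) (nd877 i) (nd880 i) (Nat.ble 1591296 i))) ((Bool.rec (motive := fun _ => Nat) (nd883 i) (nd886 i) (Nat.ble 1603584 i))) (Nat.ble 1597440 i))
noncomputable def nd834 (i : Nat) : Nat := (Bool.rec (motive := fun _ => Nat) ((Bool.rec (motive := fun _ => Nat) (nd835 i) (nd848 i) (Nat.ble 1533952 i))) ((Bool.rec (motive := fun _ => Nat) (nd862 i) (nd876 i) (Nat.ble 1585152 i))) (Nat.ble 1559552 i))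
noncomputable def nd667 (i : Nat) : Nat := (Bool.rec (motive := fun _ => Nat) ((Bool.rec (motive := fun _ => Nat) (nd668 i) (nd723 i) (Nat.ble 1307648 i))) ((Bool.rec (motive := fun _ => Nat) (nd779 i) (nd834 i) (Nat.ble 1509376 i))) (Nat.ble 1409024 i))
noncomputable def nd0 (i : Nat) : Nat := (Bool.rec (motive := fun _ => Nat) ((Bool.rec (motive := fun _ => Nat) (nd1 i) (nd223 i) (Nat.ble 402432 i))) ((Bool.rec (motive := fun _ => Nat) (nd445 i) (nd667 i) (Nat.ble 1207296 i))) (Nat.ble 804864 i))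
noncomputable def nd893 (i : Nat) : Nat := (Bool.rec (motive := fun _ => Nat) ((Bool.rec (motive := fun _ => Nat) (nl1573 i) (nl1574 i) (Nat.ble 1024 i))) ((Bool.rec (motive := fun _ => Nat) (nl1575 i) (nl1576 i) (Nat.ble 3072 i))) (Nat.ble 2048 i))
noncomputable def nd894 (i : Nat) : Nat := (Bool.rec (motive := fun _ => Nat) ((Bool.rec (motive := fun _ => Nat) (nl1577 i) (nl1578 i) (Nat.ble 5120 i))) ((Bool.rec (motive := fun _ => Nat) (nl1579 i) (nl1580 i) (Nat.ble 7168 i))) (Nat.ble 6144 i))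
noncomputable def nd895 (i : Nat) : Nat := (Bool.rec (motive := fun _ => Nat) ((Bool.rec (motive := fun _ => Nat) (nl1581 i) (nl1582 i) (Nat.ble 9216 i))) ((Bool.rec (motive := fun _ => Nat) (nl1583 i) (nl1584 i) (Nat.ble 11264 i))) (Nat.ble 10240 i))
noncomputable def nd896 (i : Nat) : Nat := (Bool.rec (motive := fun _ => Nat) ((Bool.rec (motive := fun _ => Nat) (nl1585 i) (nl1586 i) (Nat.ble 13312 i))) ((Bool.rec (motive := fun _ => Nat) (nl1587 i) (nl1588 i) (Nat.ble 15360 i))) (Nat.ble 14336 i))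
noncomputable def nd892 (i : Nat) : Nat := (Bool.rec (motive := fun _ => Nat) ((Bool.rec (motive := fun _ => Nat) (nd893 i) (nd894 i) (Nat.ble 4096 i))) ((Bool.rec (motive := fun _ => Nat) (nd895 i) (nd896 i) (Nat.ble 12288 i))) (Nat.ble 8192 i))
noncomputable def nd898 (i : Nat) : Nat := (Bool.rec (motive := fun _ => Nat) ((Bool.rec (motive := fun _ => Nat) (nl1589 i) (nl1590 i) (Nat.ble 17408 i))) ((Bool.rec (motive := fun _ => Nat) (nl1591 i) (nl1592 i) (Nat.ble 19456 i))) (Nat.ble 18432 i))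
noncomputable def nd899 (i : Nat) : Nat := (Bool.rec (motive := fun _ => Nat) ((Bool.rec (motive := fun _ => Nat) (nl1593 i) (nl1594 i) (Nat.ble 21504 i))) ((Bool.rec (motive := fun _ => Nat) (nl1595 i) (nl1596 i) (Nat.ble 23552 i))) (Nat.ble 22528 i))
noncomputable def nd900 (i : Nat) : Nat := (Bool.rec (motive := fun _ => Nat) ((Bool.rec (motive := fun _ => Nat) (nl1597 i) (nl1598 i) (Nat.ble 25600 i))) ((Bool.rec (motive := fun _ => Nat) (nl1599 i) (nl1600 i) (Nat.ble 27648 i))) (Nat.ble 26624 i))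
noncomputable def nd901 (i : Nat) : Nat := (Bool.rec (motive := fun _ => Nat) ((Bool.rec (motive := fun _ => Nat) (nl1601 i) (nl1602 i) (Nat.ble 29696 i))) ((Bool.rec (motive := fun _ => Nat) (nl1603 i) (nl1604 i) (Nat.ble 31744 i))) (Nat.ble 30720 i))
noncomputable def nd897 (i : Nat) : Nat := (Bool.rec (motive := fun _ => Nat) ((Bool.rec (motive := fun _ => Nat) (nd898 i) (nd899 i) (Nat.ble 20480 i))) ((Bool.rec (motive := fun _ => Nat) (nd900 i) (nd901 i) (Nat.ble 28672 i))) (Nat.ble 24576 i))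
noncomputable def nd903 (i : Nat) : Nat := (Bool.rec (motive := fun _ => Nat) ((Bool.rec (motive := fun _ => Nat) (nl1605 i) (nl1606 i) (Nat.ble 33792 i))) ((Bool.rec (motive := fun _ => Nat) (nl1607 i) (nl1608 i) (Nat.ble 35840 i))) (Nat.ble 34816 i))
noncomputable def nd904 (i : Nat) : Nat := (Bool.rec (motive := fun _ => Nat) ((Bool.rec (motive := fun _ => Nat) (nl1609 i) (nl1610 i) (Nat.ble 37888 i))) ((Bool.rec (motive := fun _ => Nat) (nl1611 i) (nl1612 i) (Nat.ble 39936 i))) (Nat.ble 38912 i))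
noncomputable def nd905 (i : Nat) : Nat := (Bool.rec (motive := fun _ => Nat) ((Bool.rec (motive := fun _ => Nat) (nl1613 i) (nl1614 i) (Nat.ble 41984 i))) ((Bool.rec (motive := fun _ => Nat) (nl1615 i) (nl1616 i) (Nat.ble 44032 i))) (Nat.ble 43008 i))
noncomputable def nd906 (i : Nat) : Nat := (Bool.rec (motive := fun _ => Nat) ((Bool.rec (motive := fun _ => Nat) (nl1617 i) (nl1618 i) (Nat.ble 46080 i))) ((Bool.rec (motive := fun _ => Nat) (nl1619 i) (nl1620 i) (Nat.ble 48128 i))) (Nat.ble 47104 i))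
noncomputable def nd902 (i : Nat) : Nat := (Bool.rec (motive := fun _ => Nat) ((Bool.rec (motive := fun _ => Nat) (nd903 i) (nd904 i) (Nat.ble 36864 i))) ((Bool.rec (motive := fun _ => Nat) (nd905 i) (nd906 i) (Nat.ble 45056 i))) (Nat.ble 40960 i))
noncomputable def nd908 (i : Nat) : Nat := (Bool.rec (motive := fun _ => Nat) ((Bool.rec (motive := fun _ => Nat) (nl1621 i) (nl1622 i) (Nat.ble 50176 i))) ((Bool.rec (motive := fun _ => Nat) (nl1623 i) (nl1624 i) (Nat.ble 52224 i))) (Nat.ble 51200 i))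
noncomputable def nd909 (i : Nat) : Nat := (Bool.rec (motive := fun _ => Nat) ((Bool.rec (motive := fun _ => Nat) (nl1625 i) (nl1626 i) (Nat.ble 54272 i))) ((Bool.rec (motive := fun _ => Nat) (nl1627 i) (nl1628 i) (Nat.ble 56320 i))) (Nat.ble 55296 i))
noncomputable def nd910 (i : Nat) : Nat := (Bool.rec (motive := fun _ => Nat) ((Bool.rec (motive := fun _ => Nat) (nl1629 i) (nl1630 i) (Nat.ble 58368 i))) ((Bool.rec (motive := fun _ => Nat) (nl1631 i) (nl1632 i) (Nat.ble 60416 i))) (Nat.ble 59392 i))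
noncomputable def nd912 (i : Nat) : Nat := (Bool.rec (motive := fun _ => Nat) (nl1636 i) (nl1637 i) (Nat.ble 65536 i))
noncomputable def nd911 (i : Nat) : Nat := (Bool.rec (motive := fun _ => Nat) ((Bool.rec (motive := fun _ => Nat) (nl1633 i) (nl1634 i) (Nat.ble 62464 i))) ((Bool.rec (motive := fun _ => Nat) (nl1635 i) (nd912 i) (Nat.ble 64512 i))) (Nat.ble 63488 i))
noncomputable def nd907 (i : Nat) : Nat := (Bool.rec (motive := fun _ => Nat) ((Bool.rec (motive := fun _ => Nat) (nd908 i) (nd909 i) (Nat.ble 53248 i))) ((Bool.rec (motive := fun _ => Nat) (nd910 i) (nd911 i) (Nat.ble 61440 i))) (Nat.ble 57344 i))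
noncomputable def nd891 (i : Nat) : Nat := (Bool.rec (motive := fun _ => Nat) ((Bool.rec (motive := fun _ => Nat) (nd892 i) (nd897 i) (Nat.ble 16384 i))) ((Bool.rec (motive := fun _ => Nat) (nd902 i) (nd907 i) (Nat.ble 49152 i))) (Nat.ble 32768 i))
noncomputable def nd915 (i : Nat) : Nat := (Bool.rec (motive := fun _ => Nat) ((Bool.rec (motive := fun _ => Nat) (nl1638 i) (nl1639 i) (Nat.ble 67584 i))) ((Bool.rec (motive := fun _ => Nat) (nl1640 i) (nl1641 i) (Nat.ble 69632 i))) (Nat.ble 68608 i))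
noncomputable def nd916 (i : Nat) : Nat := (Bool.rec (motive := fun _ => Nat) ((Bool.rec (motive := fun _ => Nat) (nl1642 i) (nl1643 i) (Nat.ble 71680 i))) ((Bool.rec (motive := fun _ => Nat) (nl1644 i) (nl1645 i) (Nat.ble 73728 i))) (Nat.ble 72704 i))
noncomputable def nd917 (i : Nat) : Nat := (Bool.rec (motive := fun _ => Nat) ((Bool.rec (motive := fun _ => Nat) (nl1646 i) (nl1647 i) (Nat.ble 75776 i))) ((Bool.rec (motive := fun _ => Nat) (nl1648 i) (nl1649 i) (Nat.ble 77824 i))) (Nat.ble 76800 i))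
noncomputable def nd918 (i : Nat) : Nat := (Bool.rec (motive := fun _ => Nat) ((Bool.rec (motive := fun _ => Nat) (nl1650 i) (nl1651 i) (Nat.ble 79872 i))) ((Bool.rec (motive := fun _ => Nat) (nl1652 i) (nl1653 i) (Nat.ble 81920 i))) (Nat.ble 80896 i))
noncomputable def nd914 (i : Nat) : Nat := (Bool.rec (motive := fun _ => Nat) ((Bool.rec (motive := fun _ => Nat) (nd915 i) (nd916 i) (Nat.ble 70656 i))) ((Bool.rec (motive := fun _ => Nat) (nd917 i) (nd918 i) (Nat.ble 78848 i))) (Nat.ble 74752 i))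
noncomputable def nd920 (i : Nat) : Nat := (Bool.rec (motive := fun _ => Nat) ((Bool.rec (motive := fun _ => Nat) (nl1654 i) (nl1655 i) (Nat.ble 83968 i))) ((Bool.rec (motive := fun _ => Nat) (nl1656 i) (nl1657 i) (Nat.ble 86016 i))) (Nat.ble 84992 i))
noncomputable def nd921 (i : Nat) : Nat := (Bool.rec (motive := fun _ => Nat) ((Bool.rec (motive := fun _ => Nat) (nl1658 i) (nl1659 i) (Nat.ble 88064 i))) ((Bool.rec (motive := fun _ => Nat) (nl1660 i) (nl1661 i) (Nat.ble 90112 i))) (Nat.ble 89088 i))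
noncomputable def nd922 (i : Nat) : Nat := (Bool.rec (motive := fun _ => Nat) ((Bool.rec (motive := fun _ => Nat) (nl1662 i) (nl1663 i) (Nat.ble 92160 i))) ((Bool.rec (motive := fun _ => Nat) (nl1664 i) (nl1665 i) (Nat.ble 94208 i))) (Nat.ble 93184 i))
noncomputable def nd924 (i : Nat) : Nat := (Bool.rec (motive := fun _ => Nat) (nl1669 i) (nl1670 i) (Nat.ble 99328 i))
noncomputable def nd923 (i : Nat) : Nat := (Bool.rec (motive := fun _ => Nat) ((Bool.rec (motive := fun _ => Nat) (nl1666 i) (nl1667 i) (Nat.ble 96256 i))) ((Bool.rec (motive := fun _ => Nat) (nl1668 i) (nd924 i) (Nat.ble 98304 i))) (Nat.ble 97280 i))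
noncomputable def nd919 (i : Nat) : Nat := (Bool.rec (motive := fun _ => Nat) ((Bool.rec (motive := fun _ => Nat) (nd920 i) (nd921 i) (Nat.ble 87040 i))) ((Bool.rec (motive := fun _ => Nat) (nd922 i) (nd923 i) (Nat.ble 95232 i))) (Nat.ble 91136 i))
noncomputable def nd926 (i : Nat) : Nat := (Bool.rec (motive := fun _ => Nat) ((Bool.rec (motive := fun _ => Nat) (nl1671 i) (nl1672 i) (Nat.ble 101376 i))) ((Bool.rec (motive := fun _ => Nat) (nl1673 i) (nl1674 i) (Nat.ble 103424 i))) (Nat.ble 102400 i))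
noncomputable def nd927 (i : Nat) : Nat := (Bool.rec (motive := fun _ => Nat) ((Bool.rec (motive := fun _ => Nat) (nl1675 i) (nl1676 i) (Nat.ble 105472 i))) ((Bool.rec (motive := fun _ => Nat) (nl1677 i) (nl1678 i) (Nat.ble 107520 i))) (Nat.ble 106496 i))
noncomputable def nd928 (i : Nat) : Nat := (Bool.rec (motive := fun _ => Nat) ((Bool.rec (motive := fun _ => Nat) (nl1679 i) (nl1680 i) (Nat.ble 109568 i))) ((Bool.rec (motive := fun _ => Nat) (nl1681 i) (nl1682 i) (Nat.ble 111616 i))) (Nat.ble 110592 i))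
noncomputable def nd929 (i : Nat) : Nat := (Bool.rec (motive := fun _ => Nat) ((Bool.rec (motive := fun _ => Nat) (nl1683 i) (nl1684 i) (Nat.ble 113664 i))) ((Bool.rec (motive := fun _ => Nat) (nl1685 i) (nl1686 i) (Nat.ble 115712 i))) (Nat.ble 114688 i))
noncomputable def nd925 (i : Nat) : Nat := (Bool.rec (motive := fun _ => Nat) ((Bool.rec (motive := fun _ => Nat) (nd926 i) (nd927 i) (Nat.ble 104448 i))) ((Bool.rec (motive := fun _ => Nat) (nd928 i) (nd929 i) (Nat.ble 112640 i))) (Nat.ble 108544 i))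
noncomputable def nd931 (i : Nat) : Nat := (Bool.rec (motive := fun _ => Nat) ((Bool.rec (motive := fun _ => Nat) (nl1687 i) (nl1688 i) (Nat.ble 117760 i))) ((Bool.rec (motive := fun _ => Nat) (nl1689 i) (nl1690 i) (Nat.ble 119808 i))) (Nat.ble 118784 i))
noncomputable def nd932 (i : Nat) : Nat := (Bool.rec (motive := fun _ => Nat) ((Bool.rec (motive := fun _ => Nat) (nl1691 i) (nl1692 i) (Nat.ble 121856 i))) ((Bool.rec (motive := fun _ => Nat) (nl1693 i) (nl1694 i) (Nat.ble 123904 i))) (Nat.ble 122880 i))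
noncomputable def nd933 (i : Nat) : Nat := (Bool.rec (motive := fun _ => Nat) ((Bool.rec (motive := fun _ => Nat) (nl1695 i) (nl1696 i) (Nat.ble 125952 i))) ((Bool.rec (motive := fun _ => Nat) (nl1697 i) (nl1698 i) (Nat.ble 128000 i))) (Nat.ble 126976 i))
noncomputable def nd935 (i : Nat) : Nat := (Bool.rec (motive := fun _ => Nat) (nl1702 i) (nl1703 i) (Nat.ble 133120 i))
noncomputable def nd934 (i : Nat) : Nat := (Bool.rec (motive := fun _ => Nat) ((Bool.rec (motive := fun _ => Nat) (nl1699 i) (nl1700 i) (Nat.ble 130048 i))) ((Bool.rec (motive := fun _ => Nat) (nl1701 i) (nd935 i) (Nat.ble 132096 i))) (Nat.ble 131072 i))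
noncomputable def nd930 (i : Nat) : Nat := (Bool.rec (motive := fun _ => Nat) ((Bool.rec (motive := fun _ => Nat) (nd931 i) (nd932 i) (Nat.ble 120832 i))) ((Bool.rec (motive := fun _ => Nat) (nd933 i) (nd934 i) (Nat.ble 129024 i))) (Nat.ble 124928 i))
noncomputable def nd913 (i : Nat) : Nat := (Bool.rec (motive := fun _ => Nat) ((Bool.rec (motive := fun _ => Nat) (nd914 i) (nd919 i) (Nat.ble 82944 i))) ((Bool.rec (motive := fun _ => Nat) (nd925 i) (nd930 i) (Nat.ble 116736 i))) (Nat.ble 100352 i))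
noncomputable def nd938 (i : Nat) : Nat := (Bool.rec (motive := fun _ => Nat) ((Bool.rec (motive := fun _ => Nat) (nl1704 i) (nl1705 i) (Nat.ble 135168 i))) ((Bool.rec (motive := fun _ => Nat) (nl1706 i) (nl1707 i) (Nat.ble 137216 i))) (Nat.ble 136192 i))
noncomputable def nd939 (i : Nat) : Nat := (Bool.rec (motive := fun _ => Nat) ((Bool.rec (motive := fun _ => Nat) (nl1708 i) (nl1709 i) (Nat.ble 139264 i))) ((Bool.rec (motive := fun _ => Nat) (nl1710 i) (nl1711 i) (Nat.ble 141312 i))) (Nat.ble 140288 i))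
noncomputable def nd940 (i : Nat) : Nat := (Bool.rec (motive := fun _ => Nat) ((Bool.rec (motive := fun _ => Nat) (nl1712 i) (nl1713 i) (Nat.ble 143360 i))) ((Bool.rec (motive := fun _ => Nat) (nl1714 i) (nl1715 i) (Nat.ble 145408 i))) (Nat.ble 144384 i))
noncomputable def nd941 (i : Nat) : Nat := (Bool.rec (motive := fun _ => Nat) ((Bool.rec (motive := fun _ => Nat) (nl1716 i) (nl1717 i) (Nat.ble 147456 i))) ((Bool.rec (motive := fun _ => Nat) (nl1718 i) (nl1719 i) (Nat.ble 149504 i))) (Nat.ble 148480 i))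
noncomputable def nd937 (i : Nat) : Nat := (Bool.rec (motive := fun _ => Nat) ((Bool.rec (motive := fun _ => Nat) (nd938 i) (nd939 i) (Nat.ble 138240 i))) ((Bool.rec (motive := fun _ => Nat) (nd940 i) (nd941 i) (Nat.ble 146432 i))) (Nat.ble 142336 i))
noncomputable def nd943 (i : Nat) : Nat := (Bool.rec (motive := fun _ => Nat) ((Bool.rec (motive := fun _ => Nat) (nl1720 i) (nl1721 i) (Nat.ble 151552 i))) ((Bool.rec (motive := fun _ => Nat) (nl1722 i) (nl1723 i) (Nat.ble 153600 i))) (Nat.ble 152576 i))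
noncomputable def nd944 (i : Nat) : Nat := (Bool.rec (motive := fun _ => Nat) ((Bool.rec (motive := fun _ => Nat) (nl1724 i) (nl1725 i) (Nat.ble 155648 i))) ((Bool.rec (motive := fun _ => Nat) (nl1726 i) (nl1727 i) (Nat.ble 157696 i))) (Nat.ble 156672 i))
noncomputable def nd945 (i : Nat) : Nat := (Bool.rec (motive := fun _ => Nat) ((Bool.rec (motive := fun _ => Nat) (nl1728 i) (nl1729 i) (Nat.ble 159744 i))) ((Bool.rec (motive := fun _ => Nat) (nl1730 i) (nl1731 i) (Nat.ble 161792 i))) (Nat.ble 160768 i))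
noncomputable def nd947 (i : Nat) : Nat := (Bool.rec (motive := fun _ => Nat) (nl1735 i) (nl1736 i) (Nat.ble 166912 i))
noncomputable def nd946 (i : Nat) : Nat := (Bool.rec (motive := fun _ => Nat) ((Bool.rec (motive := fun _ => Nat) (nl1732 i) (nl1733 i) (Nat.ble 163840 i))) ((Bool.rec (motive := fun _ => Nat) (nl1734 i) (nd947 i) (Nat.ble 165888 i))) (Nat.ble 164864 i))
noncomputable def nd942 (i : Nat) : Nat := (Bool.rec (motive := fun _ => Nat) ((Bool.rec (motive := fun _ => Nat) (nd943 i) (nd944 i) (Nat.ble 154624 i))) ((Bool.rec (motive := fun _ => Nat) (nd945 i) (nd946 i) (Nat.ble 162816 i))) (Nat.ble 158720 i))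
noncomputable def nd949 (i : Nat) : Nat := (Bool.rec (motive := fun _ => Nat) ((Bool.rec (motive := fun _ => Nat) (nl1737 i) (nl1738 i) (Nat.ble 168960 i))) ((Bool.rec (motive := fun _ => Nat) (nl1739 i) (nl1740 i) (Nat.ble 171008 i))) (Nat.ble 169984 i))
noncomputable def nd950 (i : Nat) : Nat := (Bool.rec (motive := fun _ => Nat) ((Bool.rec (motive := fun _ => Nat) (nl1741 i) (nl1742 i) (Nat.ble 173056 i))) ((Bool.rec (motive := fun _ => Nat) (nl1743 i) (nl1744 i) (Nat.ble 175104 i))) (Nat.ble 174080 i))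
noncomputable def nd951 (i : Nat) : Nat := (Bool.rec (motive := fun _ => Nat) ((Bool.rec (motive := fun _ => Nat) (nl1745 i) (nl1746 i) (Nat.ble 177152 i))) ((Bool.rec (motive := fun _ => Nat) (nl1747 i) (nl1748 i) (Nat.ble 179200 i))) (Nat.ble 178176 i))
noncomputable def nd952 (i : Nat) : Nat := (Bool.rec (motive := fun _ => Nat) ((Bool.rec (motive := fun _ => Nat) (nl1749 i) (nl1750 i) (Nat.ble 181248 i))) ((Bool.rec (motive := fun _ => Nat) (nl1751 i) (nl1752 i) (Nat.ble 183296 i))) (Nat.ble 182272 i))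
noncomputable def nd948 (i : Nat) : Nat := (Bool.rec (motive := fun _ => Nat) ((Bool.rec (motive := fun _ => Nat) (nd949 i) (nd950 i) (Nat.ble 172032 i))) ((Bool.rec (motive := fun _ => Nat) (nd951 i) (nd952 i) (Nat.ble 180224 i))) (Nat.ble 176128 i))
noncomputable def nd954 (i : Nat) : Nat := (Bool.rec (motive := fun _ => Nat) ((Bool.rec (motive := fun _ => Nat) (nl1753 i) (nl1754 i) (Nat.ble 185344 i))) ((Bool.rec (motive := fun _ => Nat) (nl1755 i) (nl1756 i) (Nat.ble 187392 i))) (Nat.ble 186368 i))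
noncomputable def nd955 (i : Nat) : Nat := (Bool.rec (motive := fun _ => Nat) ((Bool.rec (motive := fun _ => Nat) (nl1757 i) (nl1758 i) (Nat.ble 189440 i))) ((Bool.rec (motive := fun _ => Nat) (nl1759 i) (nl1760 i) (Nat.ble 191488 i))) (Nat.ble 190464 i))
noncomputable def nd956 (i : Nat) : Nat := (Bool.rec (motive := fun _ => Nat) ((Bool.rec (motive := fun _ => Nat) (nl1761 i) (nl1762 i) (Nat.ble 193536 i))) ((Bool.rec (motive := fun _ => Nat) (nl1763 i) (nl1764 i) (Nat.ble 195584 i))) (Nat.ble 194560 i))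
noncomputable def nd958 (i : Nat) : Nat := (Bool.rec (motive := fun _ => Nat) (nl1768 i) (nl1769 i) (Nat.ble 200704 i))
noncomputable def nd957 (i : Nat) : Nat := (Bool.rec (motive := fun _ => Nat) ((Bool.rec (motive := fun _ => Nat) (nl1765 i) (nl1766 i) (Nat.ble 197632 i))) ((Bool.rec (motive := fun _ => Nat) (nl1767 i) (nd958 i) (Nat.ble 199680 i))) (Nat.ble 198656 i))
noncomputable def nd953 (i : Nat) : Nat := (Bool.rec (motive := fun _ => Nat) ((Bool.rec (motive := fun _ => Nat) (nd954 i) (nd955 i) (Nat.ble 188416 i))) ((Bool.rec (motive := fun _ => Nat) (nd956 i) (nd957 i) (Nat.ble 196608 i))) (Nat.ble 192512 i))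
noncomputable def nd936 (i : Nat) : Nat := (Bool.rec (motive := fun _ => Nat) ((Bool.rec (motive := fun _ => Nat) (nd937 i) (nd942 i) (Nat.ble 150528 i))) ((Bool.rec (motive := fun _ => Nat) (nd948 i) (nd953 i) (Nat.ble 184320 i))) (Nat.ble 167936 i))
noncomputable def nd961 (i : Nat) : Nat := (Bool.rec (motive := fun _ => Nat) ((Bool.rec (motive := fun _ => Nat) (nl1770 i) (nl1771 i) (Nat.ble 202752 i))) ((Bool.rec (motive := fun _ => Nat) (nl1772 i) (nl1773 i) (Nat.ble 204800 i))) (Nat.ble 203776 i))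
noncomputable def nd962 (i : Nat) : Nat := (Bool.rec (motive := fun _ => Nat) ((Bool.rec (motive := fun _ => Nat) (nl1774 i) (nl1775 i) (Nat.ble 206848 i))) ((Bool.rec (motive := fun _ => Nat) (nl1776 i) (nl1777 i) (Nat.ble 208896 i))) (Nat.ble 207872 i))
noncomputable def nd963 (i : Nat) : Nat := (Bool.rec (motive := fun _ => Nat) ((Bool.rec (motive := fun _ => Nat) (nl1778 i) (nl1779 i) (Nat.ble 210944 i))) ((Bool.rec (motive := fun _ => Nat) (nl1780 i) (nl1781 i) (Nat.ble 212992 i))) (Nat.ble 211968 i))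
noncomputable def nd964 (i : Nat) : Nat := (Bool.rec (motive := fun _ => Nat) ((Bool.rec (motive := fun _ => Nat) (nl1782 i) (nl1783 i) (Nat.ble 215040 i))) ((Bool.rec (motive := fun _ => Nat) (nl1784 i) (nl1785 i) (Nat.ble 217088 i))) (Nat.ble 216064 i))
noncomputable def nd960 (i : Nat) : Nat := (Bool.rec (motive := fun _ => Nat) ((Bool.rec (motive := fun _ => Nat) (nd961 i) (nd962 i) (Nat.ble 205824 i))) ((Bool.rec (motive := fun _ => Nat) (nd963 i) (nd964 i) (Nat.ble 214016 i))) (Nat.ble 209920 i))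
noncomputable def nd966 (i : Nat) : Nat := (Bool.rec (motive := fun _ => Nat) ((Bool.rec (motive := fun _ => Nat) (nl1786 i) (nl1787 i) (Nat.ble 219136 i))) ((Bool.rec (motive := fun _ => Nat) (nl1788 i) (nl1789 i) (Nat.ble 221184 i))) (Nat.ble 220160 i))
noncomputable def nd967 (i : Nat) : Nat := (Bool.rec (motive := fun _ => Nat) ((Bool.rec (motive := fun _ => Nat) (nl1790 i) (nl1791 i) (Nat.ble 223232 i))) ((Bool.rec (motive := fun _ => Nat) (nl1792 i) (nl1793 i) (Nat.ble 225280 i))) (Nat.ble 224256 i))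
noncomputable def nd968 (i : Nat) : Nat := (Bool.rec (motive := fun _ => Nat) ((Bool.rec (motive := fun _ => Nat) (nl1794 i) (nl1795 i) (Nat.ble 227328 i))) ((Bool.rec (motive := fun _ => Nat) (nl1796 i) (nl1797 i) (Nat.ble 229376 i))) (Nat.ble 228352 i))
noncomputable def nd970 (i : Nat) : Nat := (Bool.rec (motive := fun _ => Nat) (nl1801 i) (nl1802 i) (Nat.ble 234496 i))
noncomputable def nd969 (i : Nat) : Nat := (Bool.rec (motive := fun _ => Nat) ((Bool.rec (motive := fun _ => Nat) (nl1798 i) (nl1799 i) (Nat.ble 231424 i))) ((Bool.rec (motive := fun _ => Nat) (nl1800 i) (nd970 i) (Nat.ble 233472 i))) (Nat.ble 232448 i))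
noncomputable def nd965 (i : Nat) : Nat := (Bool.rec (motive := fun _ => Nat) ((Bool.rec (motive := fun _ => Nat) (nd966 i) (nd967 i) (Nat.ble 222208 i))) ((Bool.rec (motive := fun _ => Nat) (nd968 i) (nd969 i) (Nat.ble 230400 i))) (Nat.ble 226304 i))
noncomputable def nd972 (i : Nat) : Nat := (Bool.rec (motive := fun _ => Nat) ((Bool.rec (motive := fun _ => Nat) (nl1803 i) (nl1804 i) (Nat.ble 236544 i))) ((Bool.rec (motive := fun _ => Nat) (nl1805 i) (nl1806 i) (Nat.ble 238592 i))) (Nat.ble 237568 i))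
noncomputable def nd973 (i : Nat) : Nat := (Bool.rec (motive := fun _ => Nat) ((Bool.rec (motive := fun _ => Nat) (nl1807 i) (nl1808 i) (Nat.ble 240640 i))) ((Bool.rec (motive := fun _ => Nat) (nl1809 i) (nl1810 i) (Nat.ble 242688 i))) (Nat.ble 241664 i))
noncomputable def nd974 (i : Nat) : Nat := (Bool.rec (motive := fun _ => Nat) ((Bool.rec (motive := fun _ => Nat) (nl1811 i) (nl1812 i) (Nat.ble 244736 i))) ((Bool.rec (motive := fun _ => Nat) (nl1813 i) (nl1814 i) (Nat.ble 246784 i))) (Nat.ble 245760 i))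
noncomputable def nd975 (i : Nat) : Nat := (Bool.rec (motive := fun _ => Nat) ((Bool.rec (motive := fun _ => Nat) (nl1815 i) (nl1816 i) (Nat.ble 248832 i))) ((Bool.rec (motive := fun _ => Nat) (nl1817 i) (nl1818 i) (Nat.ble 250880 i))) (Nat.ble 249856 i))
noncomputable def nd971 (i : Nat) : Nat := (Bool.rec (motive := fun _ => Nat) ((Bool.rec (motive := fun _ => Nat) (nd972 i) (nd973 i) (Nat.ble 239616 i))) ((Bool.rec (motive := fun _ => Nat) (nd974 i) (nd975 i) (Nat.ble 247808 i))) (Nat.ble 243712 i))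
noncomputable def nd977 (i : Nat) : Nat := (Bool.rec (motive := fun _ => Nat) ((Bool.rec (motive := fun _ => Nat) (nl1819 i) (nl1820 i) (Nat.ble 252928 i))) ((Bool.rec (motive := fun _ => Nat) (nl1821 i) (nl1822 i) (Nat.ble 254976 i))) (Nat.ble 253952 i))
noncomputable def nd978 (i : Nat) : Nat := (Bool.rec (motive := fun _ => Nat) ((Bool.rec (motive := fun _ => Nat) (nl1823 i) (nl1824 i) (Nat.ble 257024 i))) ((Bool.rec (motive := fun _ => Nat) (nl1825 i) (nl1826 i) (Nat.ble 259072 i))) (Nat.ble 258048 i))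
noncomputable def nd979 (i : Nat) : Nat := (Bool.rec (motive := fun _ => Nat) ((Bool.rec (motive := fun _ => Nat) (nl1827 i) (nl1828 i) (Nat.ble 261120 i))) ((Bool.rec (motive := fun _ => Nat) (nl1829 i) (nl1830 i) (Nat.ble 263168 i))) (Nat.ble 262144 i))
noncomputable def nd981 (i : Nat) : Nat := (Bool.rec (motive := fun _ => Nat) (nl1834 i) (nl1835 i) (Nat.ble 268288 i))
noncomputable def nd980 (i : Nat) : Nat := (Bool.rec (motive := fun _ => Nat) ((Bool.rec (motive := fun _ => Nat) (nl1831 i) (nl1832 i) (Nat.ble 265216 i))) ((Bool.rec (motive := fun _ => Nat) (nl1833 i) (nd981 i) (Nat.ble 267264 i))) (Nat.ble 266240 i))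
noncomputable def nd976 (i : Nat) : Nat := (Bool.rec (motive := fun _ => Nat) ((Bool.rec (motive := fun _ => Nat) (nd977 i) (nd978 i) (Nat.ble 256000 i))) ((Bool.rec (motive := fun _ => Nat) (nd979 i) (nd980 i) (Nat.ble 264192 i))) (Nat.ble 260096 i))
noncomputable def nd959 (i : Nat) : Nat := (Bool.rec (motive := fun _ => Nat) ((Bool.rec (motive := fun _ => Nat) (nd960 i) (nd965 i) (Nat.ble 218112 i))) ((Bool.rec (motive := fun _ => Nat) (nd971 i) (nd976 i) (Nat.ble 251904 i))) (Nat.ble 235520 i))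
noncomputable def nd890 (i : Nat) : Nat := (Bool.rec (motive := fun _ => Nat) ((Bool.rec (motive := fun _ => Nat) (nd891 i) (nd913 i) (Nat.ble 66560 i))) ((Bool.rec (motive := fun _ => Nat) (nd936 i) (nd959 i) (Nat.ble 201728 i))) (Nat.ble 134144 i))
noncomputable def nd987 (i : Nat) : Nat := (Bool.rec (motive := fun _ => Nat) (nl1836 i) ((Bool.rec (motive := fun _ => Nat) (nl1837 i) (nl1838 i) (Nat.ble 2048 i))) (Nat.ble 1024 i))
noncomputable def nd988 (i : Nat) : Nat := (Bool.rec (motive := fun _ => Nat) ((Bool.rec (motive := fun _ => Nat) (nl1839 i) (nl1840 i) (Nat.ble 4096 i))) ((Bool.rec (motive := fun _ => Nat) (nl1841 i) (nl1842 i) (Nat.ble 6144 i))) (Nat.ble 5120 i))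
noncomputable def nd989 (i : Nat) : Nat := (Bool.rec (motive := fun _ => Nat) (nl1843 i) ((Bool.rec (motive := fun _ => Nat) (nl1844 i) (nl1845 i) (Nat.ble 9216 i))) (Nat.ble 8192 i))
noncomputable def nd990 (i : Nat) : Nat := (Bool.rec (motive := fun _ => Nat) ((Bool.rec (motive := fun _ => Nat) (nl1846 i) (nl1847 i) (Nat.ble 11264 i))) ((Bool.rec (motive := fun _ => Nat) (nl1848 i) (nl1849 i) (Nat.ble 13312 i))) (Nat.ble 12288 i))
noncomputable def nd986 (i : Nat) : Nat := (Bool.rec (motive := fun _ => Nat) ((Bool.rec (motive := fun _ => Nat) (nd987 i) (nd988 i) (Nat.ble 3072 i))) ((Bool.rec (motive := fun _ => Nat) (nd989 i) (nd990 i) (Nat.ble 10240 i))) (Nat.ble 7168 i))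
noncomputable def nd992 (i : Nat) : Nat := (Bool.rec (motive := fun _ => Nat) (nl1850 i) ((Bool.rec (motive := fun _ => Nat) (nl1851 i) (nl1852 i) (Nat.ble 16384 i))) (Nat.ble 15360 i))
noncomputable def nd993 (i : Nat) : Nat := (Bool.rec (motive := fun _ => Nat) ((Bool.rec (motive := fun _ => Nat) (nl1853 i) (nl1854 i) (Nat.ble 18432 i))) ((Bool.rec (motive := fun _ => Nat) (nl1855 i) (nl1856 i) (Nat.ble 20480 i))) (Nat.ble 19456 i))
noncomputable def nd994 (i : Nat) : Nat := (Bool.rec (motive := fun _ => Nat) (nl1857 i) ((Bool.rec (motive := fun _ => Nat) (nl1858 i) (nl1859 i) (Nat.ble 23552 i))) (Nat.ble 22528 i))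
noncomputable def nd995 (i : Nat) : Nat := (Bool.rec (motive := fun _ => Nat) ((Bool.rec (motive := fun _ => Nat) (nl1860 i) (nl1861 i) (Nat.ble 25600 i))) ((Bool.rec (motive := fun _ => Nat) (nl1862 i) (nl1863 i) (Nat.ble 27648 i))) (Nat.ble 26624 i))
noncomputable def nd991 (i : Nat) : Nat := (Bool.rec (motive := fun _ => Nat) ((Bool.rec (motive := fun _ => Nat) (nd992 i) (nd993 i) (Nat.ble 17408 i))) ((Bool.rec (motive := fun _ => Nat) (nd994 i) (nd995 i) (Nat.ble 24576 i))) (Nat.ble 21504 i))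
noncomputable def nd997 (i : Nat) : Nat := (Bool.rec (motive := fun _ => Nat) (nl1864 i) ((Bool.rec (motive := fun _ => Nat) (nl1865 i) (nl1866 i) (Nat.ble 30720 i))) (Nat.ble 29696 i))
noncomputable def nd998 (i : Nat) : Nat := (Bool.rec (motive := fun _ => Nat) ((Bool.rec (motive := fun _ => Nat) (nl1867 i) (nl1868 i) (Nat.ble 32768 i))) ((Bool.rec (motive := fun _ => Nat) (nl1869 i) (nl1870 i) (Nat.ble 34816 i))) (Nat.ble 33792 i))
noncomputable def nd999 (i : Nat) : Nat := (Bool.rec (motive := fun _ => Nat) (nl1871 i) ((Bool.rec (motive := fun _ => Nat) (nl1872 i) (nl1873 i) (Nat.ble 37888 i))) (Nat.ble 36864 i))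
noncomputable def nd1000 (i : Nat) : Nat := (Bool.rec (motive := fun _ => Nat) ((Bool.rec (motive := fun _ => Nat) (nl1874 i) (nl1875 i) (Nat.ble 39936 i))) ((Bool.rec (motive := fun _ => Nat) (nl1876 i) (nl1877 i) (Nat.ble 41984 i))) (Nat.ble 40960 i))
noncomputable def nd996 (i : Nat) : Nat := (Bool.rec (motive := fun _ => Nat) ((Bool.rec (motive := fun _ => Nat) (nd997 i) (nd998 i) (Nat.ble 31744 i))) ((Bool.rec (motive := fun _ => Nat) (nd999 i) (nd1000 i) (Nat.ble 38912 i))) (Nat.ble 35840 i))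
noncomputable def nd1002 (i : Nat) : Nat := (Bool.rec (motive := fun _ => Nat) (nl1878 i) ((Bool.rec (motive := fun _ => Nat) (nl1879 i) (nl1880 i) (Nat.ble 45056 i))) (Nat.ble 44032 i))
noncomputable def nd1003 (i : Nat) : Nat := (Bool.rec (motive := fun _ => Nat) ((Bool.rec (motive := fun _ => Nat) (nl1881 i) (nl1882 i) (Nat.ble 47104 i))) ((Bool.rec (motive := fun _ => Nat) (nl1883 i) (nl1884 i) (Nat.ble 49152 i))) (Nat.ble 48128 i))
noncomputable def nd1004 (i : Nat) : Nat := (Bool.rec (motive := fun _ => Nat) (nl1885 i) ((Bool.rec (motive := fun _ => Nat) (nl1886 i) (nl1887 i) (Nat.ble 52224 i))) (Nat.ble 51200 i))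
noncomputable def nd1005 (i : Nat) : Nat := (Bool.rec (motive := fun _ => Nat) ((Bool.rec (motive := fun _ => Nat) (nl1888 i) (nl1889 i) (Nat.ble 54272 i))) ((Bool.rec (motive := fun _ => Nat) (nl1890 i) (nl1891 i) (Nat.ble 56320 i))) (Nat.ble 55296 i))
noncomputable def nd1001 (i : Nat) : Nat := (Bool.rec (motive := fun _ => Nat) ((Bool.rec (motive := fun _ => Nat) (nd1002 i) (nd1003 i) (Nat.ble 46080 i))) ((Bool.rec (motive := fun _ => Nat) (nd1004 i) (nd1005 i) (Nat.ble 53248 i))) (Nat.ble 50176 i))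
noncomputable def nd985 (i : Nat) : Nat := (Bool.rec (motive := fun _ => Nat) ((Bool.rec (motive := fun _ => Nat) (nd986 i) (nd991 i) (Nat.ble 14336 i))) ((Bool.rec (motive := fun _ => Nat) (nd996 i) (nd1001 i) (Nat.ble 43008 i))) (Nat.ble 28672 i))
noncomputable def nd1008 (i : Nat) : Nat := (Bool.rec (motive := fun _ => Nat) (nl1892 i) ((Bool.rec (motive := fun _ => Nat) (nl1893 i) (nl1894 i) (Nat.ble 59392 i))) (Nat.ble 58368 i))
noncomputable def nd1009 (i : Nat) : Nat := (Bool.rec (motive := fun _ => Nat) ((Bool.rec (motive := fun _ => Nat) (nl1895 i) (nl1896 i) (Nat.ble 61440 i))) ((Bool.rec (motive := fun _ => Nat) (nl1897 i) (nl1898 i) (Nat.ble 63488 i))) (Nat.ble 62464 i))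
noncomputable def nd1010 (i : Nat) : Nat := (Bool.rec (motive := fun _ => Nat) (nl1899 i) ((Bool.rec (motive := fun _ => Nat) (nl1900 i) (nl1901 i) (Nat.ble 66560 i))) (Nat.ble 65536 i))
noncomputable def nd1011 (i : Nat) : Nat := (Bool.rec (motive := fun _ => Nat) ((Bool.rec (motive := fun _ => Nat) (nl1902 i) (nl1903 i) (Nat.ble 68608 i))) ((Bool.rec (motive := fun _ => Nat) (nl1904 i) (nl1905 i) (Nat.ble 70656 i))) (Nat.ble 69632 i))
noncomputable def nd1007 (i : Nat) : Nat := (Bool.rec (motive := fun _ => Nat) ((Bool.rec (motive := fun _ => Nat) (nd1008 i) (nd1009 i) (Nat.ble 60416 i))) ((Bool.rec (motive := fun _ => Nat) (nd1010 i) (nd1011 i) (Nat.ble 67584 i))) (Nat.ble 64512 i))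
noncomputable def nd1013 (i : Nat) : Nat := (Bool.rec (motive := fun _ => Nat) (nl1906 i) ((Bool.rec (motive := fun _ => Nat) (nl1907 i) (nl1908 i) (Nat.ble 73728 i))) (Nat.ble 72704 i))
noncomputable def nd1014 (i : Nat) : Nat := (Bool.rec (motive := fun _ => Nat) ((Bool.rec (motive := fun _ => Nat) (nl1909 i) (nl1910 i) (Nat.ble 75776 i))) ((Bool.rec (motive := fun _ => Nat) (nl1911 i) (nl1912 i) (Nat.ble 77824 i))) (Nat.ble 76800 i))
noncomputable def nd1015 (i : Nat) : Nat := (Bool.rec (motive := fun _ => Nat) (nl1913 i) ((Bool.rec (motive := fun _ => Nat) (nl1914 i) (nl1915 i) (Nat.ble 80896 i))) (Nat.ble 79872 i))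
noncomputable def nd1016 (i : Nat) : Nat := (Bool.rec (motive := fun _ => Nat) ((Bool.rec (motive := fun _ => Nat) (nl1916 i) (nl1917 i) (Nat.ble 82944 i))) ((Bool.rec (motive := fun _ => Nat) (nl1918 i) (nl1919 i) (Nat.ble 84992 i))) (Nat.ble 83968 i))
noncomputable def nd1012 (i : Nat) : Nat := (Bool.rec (motive := fun _ => Nat) ((Bool.rec (motive := fun _ => Nat) (nd1013 i) (nd1014 i) (Nat.ble 74752 i))) ((Bool.rec (motive := fun _ => Nat) (nd1015 i) (nd1016 i) (Nat.ble 81920 i))) (Nat.ble 78848 i))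
noncomputable def nd1018 (i : Nat) : Nat := (Bool.rec (motive := fun _ => Nat) (nl1920 i) ((Bool.rec (motive := fun _ => Nat) (nl1921 i) (nl1922 i) (Nat.ble 88064 i))) (Nat.ble 87040 i))
noncomputable def nd1019 (i : Nat) : Nat := (Bool.rec (motive := fun _ => Nat) ((Bool.rec (motive := fun _ => Nat) (nl1923 i) (nl1924 i) (Nat.ble 90112 i))) ((Bool.rec (motive := fun _ => Nat) (nl1925 i) (nl1926 i) (Nat.ble 92160 i))) (Nat.ble 91136 i))
noncomputable def nd1020 (i : Nat) : Nat := (Bool.rec (motive := fun _ => Nat) (nl1927 i) ((Bool.rec (motive := fun _ => Nat) (nl1928 i) (nl1929 i) (Nat.ble 95232 i))) (Nat.ble 94208 i))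
noncomputable def nd1021 (i : Nat) : Nat := (Bool.rec (motive := fun _ => Nat) ((Bool.rec (motive := fun _ => Nat) (nl1930 i) (nl1931 i) (Nat.ble 97280 i))) ((Bool.rec (motive := fun _ => Nat) (nl1932 i) (nl1933 i) (Nat.ble 99328 i))) (Nat.ble 98304 i))
noncomputable def nd1017 (i : Nat) : Nat := (Bool.rec (motive := fun _ => Nat) ((Bool.rec (motive := fun _ => Nat) (nd1018 i) (nd1019 i) (Nat.ble 89088 i))) ((Bool.rec (motive := fun _ => Nat) (nd1020 i) (nd1021 i) (Nat.ble 96256 i))) (Nat.ble 93184 i))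
noncomputable def nd1023 (i : Nat) : Nat := (Bool.rec (motive := fun _ => Nat) (nl1934 i) ((Bool.rec (motive := fun _ => Nat) (nl1935 i) (nl1936 i) (Nat.ble 102400 i))) (Nat.ble 101376 i))
noncomputable def nd1024 (i : Nat) : Nat := (Bool.rec (motive := fun _ => Nat) ((Bool.rec (motive := fun _ => Nat) (nl1937 i) (nl1938 i) (Nat.ble 104448 i))) ((Bool.rec (motive := fun _ => Nat) (nl1939 i) (nl1940 i) (Nat.ble 106496 i))) (Nat.ble 105472 i))
noncomputable def nd1025 (i : Nat) : Nat := (Bool.rec (motive := fun _ => Nat) ((Bool.rec (motive := fun _ => Nat) (nl1941 i) (nl1942 i) (Nat.ble 108544 i))) ((Bool.rec (motive := fun _ => Nat) (nl1943 i) (nl1944 i) (Nat.ble 110592 i))) (Nat.ble 109568 i))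
noncomputable def nd1026 (i : Nat) : Nat := (Bool.rec (motive := fun _ => Nat) ((Bool.rec (motive := fun _ => Nat) (nl1945 i) (nl1946 i) (Nat.ble 112640 i))) ((Bool.rec (motive := fun _ => Nat) (nl1947 i) (nl1948 i) (Nat.ble 114688 i))) (Nat.ble 113664 i))
noncomputable def nd1022 (i : Nat) : Nat := (Bool.rec (motive := fun _ => Nat) ((Bool.rec (motive := fun _ => Nat) (nd1023 i) (nd1024 i) (Nat.ble 103424 i))) ((Bool.rec (motive := fun _ => Nat) (nd1025 i) (nd1026 i) (Nat.ble 111616 i))) (Nat.ble 107520 i))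
noncomputable def nd1006 (i : Nat) : Nat := (Bool.rec (motive := fun _ => Nat) ((Bool.rec (motive := fun _ => Nat) (nd1007 i) (nd1012 i) (Nat.ble 71680 i))) ((Bool.rec (motive := fun _ => Nat) (nd1017 i) (nd1022 i) (Nat.ble 100352 i))) (Nat.ble 86016 i))
noncomputable def nd1029 (i : Nat) : Nat := (Bool.rec (motive := fun _ => Nat) (nl1949 i) ((Bool.rec (motive := fun _ => Nat) (nl1950 i) (nl1951 i) (Nat.ble 117760 i))) (Nat.ble 116736 i))
noncomputable def nd1030 (i : Nat) : Nat := (Bool.rec (motive := fun _ => Nat) ((Bool.rec (motive := fun _ => Nat) (nl1952 i) (nl1953 i) (Nat.ble 119808 i))) ((Bool.rec (motive := fun _ => Nat) (nl1954 i) (nl1955 i) (Nat.ble 121856 i))) (Nat.ble 120832 i))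
noncomputable def nd1031 (i : Nat) : Nat := (Bool.rec (motive := fun _ => Nat) (nl1956 i) ((Bool.rec (motive := fun _ => Nat) (nl1957 i) (nl1958 i) (Nat.ble 124928 i))) (Nat.ble 123904 i))
noncomputable def nd1032 (i : Nat) : Nat := (Bool.rec (motive := fun _ => Nat) ((Bool.rec (motive := fun _ => Nat) (nl1959 i) (nl1960 i) (Nat.ble 126976 i))) ((Bool.rec (motive := fun _ => Nat) (nl1961 i) (nl1962 i) (Nat.ble 129024 i))) (Nat.ble 128000 i))
noncomputable def nd1028 (i : Nat) : Nat := (Bool.rec (motive := fun _ => Nat) ((Bool.rec (motive := fun _ => Nat) (nd1029 i) (nd1030 i) (Nat.ble 118784 i))) ((Bool.rec (motive := fun _ => Nat) (nd1031 i) (nd1032 i) (Nat.ble 125952 i))) (Nat.ble 122880 i))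
noncomputable def nd1034 (i : Nat) : Nat := (Bool.rec (motive := fun _ => Nat) (nl1963 i) ((Bool.rec (motive := fun _ => Nat) (nl1964 i) (nl1965 i) (Nat.ble 132096 i))) (Nat.ble 131072 i))
noncomputable def nd1035 (i : Nat) : Nat := (Bool.rec (motive := fun _ => Nat) ((Bool.rec (motive := fun _ => Nat) (nl1966 i) (nl1967 i) (Nat.ble 134144 i))) ((Bool.rec (motive := fun _ => Nat) (nl1968 i) (nl1969 i) (Nat.ble 136192 i))) (Nat.ble 135168 i))
noncomputable def nd1036 (i : Nat) : Nat := (Bool.rec (motive := fun _ => Nat) (nl1970 i) ((Bool.rec (motive := fun _ => Nat) (nl1971 i) (nl1972 i) (Nat.ble 139264 i))) (Nat.ble 138240 i))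
noncomputable def nd1037 (i : Nat) : Nat := (Bool.rec (motive := fun _ => Nat) ((Bool.rec (motive := fun _ => Nat) (nl1973 i) (nl1974 i) (Nat.ble 141312 i))) ((Bool.rec (motive := fun _ => Nat) (nl1975 i) (nl1976 i) (Nat.ble 143360 i))) (Nat.ble 142336 i))
noncomputable def nd1033 (i : Nat) : Nat := (Bool.rec (motive := fun _ => Nat) ((Bool.rec (motive := fun _ => Nat) (nd1034 i) (nd1035 i) (Nat.ble 133120 i))) ((Bool.rec (motive := fun _ => Nat) (nd1036 i) (nd1037 i) (Nat.ble 140288 i))) (Nat.ble 137216 i))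
noncomputable def nd1039 (i : Nat) : Nat := (Bool.rec (motive := fun _ => Nat) (nl1977 i) ((Bool.rec (motive := fun _ => Nat) (nl1978 i) (nl1979 i) (Nat.ble 146432 i))) (Nat.ble 145408 i))
noncomputable def nd1040 (i : Nat) : Nat := (Bool.rec (motive := fun _ => Nat) ((Bool.rec (motive := fun _ => Nat) (nl1980 i) (nl1981 i) (Nat.ble 148480 i))) ((Bool.rec (motive := fun _ => Nat) (nl1982 i) (nl1983 i) (Nat.ble 150528 i))) (Nat.ble 149504 i))
noncomputable def nd1041 (i : Nat) : Nat := (Bool.rec (motive := fun _ => Nat) (nl1984 i) ((Bool.rec (motive := fun _ => Nat) (nl1985 i) (nl1986 i) (Nat.ble 153600 i))) (Nat.ble 152576 i))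
noncomputable def nd1042 (i : Nat) : Nat := (Bool.rec (motive := fun _ => Nat) ((Bool.rec (motive := fun _ => Nat) (nl1987 i) (nl1988 i) (Nat.ble 155648 i))) ((Bool.rec (motive := fun _ => Nat) (nl1989 i) (nl1990 i) (Nat.ble 157696 i))) (Nat.ble 156672 i))
noncomputable def nd1038 (i : Nat) : Nat := (Bool.rec (motive := fun _ => Nat) ((Bool.rec (motive := fun _ => Nat) (nd1039 i) (nd1040 i) (Nat.ble 147456 i))) ((Bool.rec (motive := fun _ => Nat) (nd1041 i) (nd1042 i) (Nat.ble 154624 i))) (Nat.ble 151552 i))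
noncomputable def nd1044 (i : Nat) : Nat := (Bool.rec (motive := fun _ => Nat) (nl1991 i) ((Bool.rec (motive := fun _ => Nat) (nl1992 i) (nl1993 i) (Nat.ble 160768 i))) (Nat.ble 159744 i))
noncomputable def nd1045 (i : Nat) : Nat := (Bool.rec (motive := fun _ => Nat) ((Bool.rec (motive := fun _ => Nat) (nl1994 i) (nl1995 i) (Nat.ble 162816 i))) ((Bool.rec (motive := fun _ => Nat) (nl1996 i) (nl1997 i) (Nat.ble 164864 i))) (Nat.ble 163840 i))
noncomputable def nd1046 (i : Nat) : Nat := (Bool.rec (motive := fun _ => Nat) ((Bool.rec (motive := fun _ => Nat) (nl1998 i) (nl1999 i) (Nat.ble 166912 i))) ((Bool.rec (motive := fun _ => Nat) (nl2000 i) (nl2001 i) (Nat.ble 168960 i))) (Nat.ble 167936 i))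
noncomputable def nd1047 (i : Nat) : Nat := (Bool.rec (motive := fun _ => Nat) ((Bool.rec (motive := fun _ => Nat) (nl2002 i) (nl2003 i) (Nat.ble 171008 i))) ((Bool.rec (motive := fun _ => Nat) (nl2004 i) (nl2005 i) (Nat.ble 173056 i))) (Nat.ble 172032 i))
noncomputable def nd1043 (i : Nat) : Nat := (Bool.rec (motive := fun _ => Nat) ((Bool.rec (motive := fun _ => Nat) (nd1044 i) (nd1045 i) (Nat.ble 161792 i))) ((Bool.rec (motive := fun _ => Nat) (nd1046 i) (nd1047 i) (Nat.ble 169984 i))) (Nat.ble 165888 i))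
noncomputable def nd1027 (i : Nat) : Nat := (Bool.rec (motive := fun _ => Nat) ((Bool.rec (motive := fun _ => Nat) (nd1028 i) (nd1033 i) (Nat.ble 130048 i))) ((Bool.rec (motive := fun _ => Nat) (nd1038 i) (nd1043 i) (Nat.ble 158720 i))) (Nat.ble 144384 i))
noncomputable def nd1050 (i : Nat) : Nat := (Bool.rec (motive := fun _ => Nat) (nl2006 i) ((Bool.rec (motive := fun _ => Nat) (nl2007 i) (nl2008 i) (Nat.ble 176128 i))) (Nat.ble 175104 i))
noncomputable def nd1051 (i : Nat) : Nat := (Bool.rec (motive := fun _ => Nat) ((Bool.rec (motive := fun _ => Nat) (nl2009 i) (nl2010 i) (Nat.ble 178176 i))) ((Bool.rec (motive := fun _ => Nat) (nl2011 i) (nl2012 i) (Nat.ble 180224 i))) (Nat.ble 179200 i))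
noncomputable def nd1052 (i : Nat) : Nat := (Bool.rec (motive := fun _ => Nat) (nl2013 i) ((Bool.rec (motive := fun _ => Nat) (nl2014 i) (nl2015 i) (Nat.ble 183296 i))) (Nat.ble 182272 i))
noncomputable def nd1053 (i : Nat) : Nat := (Bool.rec (motive := fun _ => Nat) ((Bool.rec (motive := fun _ => Nat) (nl2016 i) (nl2017 i) (Nat.ble 185344 i))) ((Bool.rec (motive := fun _ => Nat) (nl2018 i) (nl2019 i) (Nat.ble 187392 i))) (Nat.ble 186368 i))
noncomputable def nd1049 (i : Nat) : Nat := (Bool.rec (motive := fun _ => Nat) ((Bool.rec (motive := fun _ => Nat) (nd1050 i) (nd1051 i) (Nat.ble 177152 i))) ((Bool.rec (motive := fun _ => Nat) (nd1052 i) (nd1053 i) (Nat.ble 184320 i))) (Nat.ble 181248 i))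
noncomputable def nd1055 (i : Nat) : Nat := (Bool.rec (motive := fun _ => Nat) (nl2020 i) ((Bool.rec (motive := fun _ => Nat) (nl2021 i) (nl2022 i) (Nat.ble 190464 i))) (Nat.ble 189440 i))
noncomputable def nd1056 (i : Nat) : Nat := (Bool.rec (motive := fun _ => Nat) ((Bool.rec (motive := fun _ => Nat) (nl2023 i) (nl2024 i) (Nat.ble 192512 i))) ((Bool.rec (motive := fun _ => Nat) (nl2025 i) (nl2026 i) (Nat.ble 194560 i))) (Nat.ble 193536 i))
noncomputable def nd1057 (i : Nat) : Nat := (Bool.rec (motive := fun _ => Nat) (nl2027 i) ((Bool.rec (motive := fun _ => Nat) (nl2028 i) (nl2029 i) (Nat.ble 197632 i))) (Nat.ble 196608 i))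
noncomputable def nd1058 (i : Nat) : Nat := (Bool.rec (motive := fun _ => Nat) ((Bool.rec (motive := fun _ => Nat) (nl2030 i) (nl2031 i) (Nat.ble 199680 i))) ((Bool.rec (motive := fun _ => Nat) (nl2032 i) (nl2033 i) (Nat.ble 201728 i))) (Nat.ble 200704 i))
noncomputable def nd1054 (i : Nat) : Nat := (Bool.rec (motive := fun _ => Nat) ((Bool.rec (motive := fun _ => Nat) (nd1055 i) (nd1056 i) (Nat.ble 191488 i))) ((Bool.rec (motive := fun _ => Nat) (nd1057 i) (nd1058 i) (Nat.ble 198656 i))) (Nat.ble 195584 i))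
noncomputable def nd1060 (i : Nat) : Nat := (Bool.rec (motive := fun _ => Nat) (nl2034 i) ((Bool.rec (motive := fun _ => Nat) (nl2035 i) (nl2036 i) (Nat.ble 204800 i))) (Nat.ble 203776 i))
noncomputable def nd1061 (i : Nat) : Nat := (Bool.rec (motive := fun _ => Nat) ((Bool.rec (motive := fun _ => Nat) (nl2037 i) (nl2038 i) (Nat.ble 206848 i))) ((Bool.rec (motive := fun _ => Nat) (nl2039 i) (nl2040 i) (Nat.ble 208896 i))) (Nat.ble 207872 i))
noncomputable def nd1062 (i : Nat) : Nat := (Bool.rec (motive := fun _ => Nat) (nl2041 i) ((Bool.rec (motive := fun _ => Nat) (nl2042 i) (nl2043 i) (Nat.ble 211968 i))) (Nat.ble 210944 i))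
noncomputable def nd1063 (i : Nat) : Nat := (Bool.rec (motive := fun _ => Nat) ((Bool.rec (motive := fun _ => Nat) (nl2044 i) (nl2045 i) (Nat.ble 214016 i))) ((Bool.rec (motive := fun _ => Nat) (nl2046 i) (nl2047 i) (Nat.ble 216064 i))) (Nat.ble 215040 i))
noncomputable def nd1059 (i : Nat) : Nat := (Bool.rec (motive := fun _ => Nat) ((Bool.rec (motive := fun _ => Nat) (nd1060 i) (nd1061 i) (Nat.ble 205824 i))) ((Bool.rec (motive := fun _ => Nat) (nd1062 i) (nd1063 i) (Nat.ble 212992 i))) (Nat.ble 209920 i))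
noncomputable def nd1065 (i : Nat) : Nat := (Bool.rec (motive := fun _ => Nat) (nl2048 i) ((Bool.rec (motive := fun _ => Nat) (nl2049 i) (nl2050 i) (Nat.ble 219136 i))) (Nat.ble 218112 i))
noncomputable def nd1066 (i : Nat) : Nat := (Bool.rec (motive := fun _ => Nat) ((Bool.rec (motive := fun _ => Nat) (nl2051 i) (nl2052 i) (Nat.ble 221184 i))) ((Bool.rec (motive := fun _ => Nat) (nl2053 i) (nl2054 i) (Nat.ble 223232 i))) (Nat.ble 222208 i))
noncomputable def nd1067 (i : Nat) : Nat := (Bool.rec (motive := fun _ => Nat) ((Bool.rec (motive := fun _ => Nat) (nl2055 i) (nl2056 i) (Nat.ble 225280 i))) ((Bool.rec (motive := fun _ => Nat) (nl2057 i) (nl2058 i) (Nat.ble 227328 i))) (Nat.ble 226304 i))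
noncomputable def nd1068 (i : Nat) : Nat := (Bool.rec (motive := fun _ => Nat) ((Bool.rec (motive := fun _ => Nat) (nl2059 i) (nl2060 i) (Nat.ble 229376 i))) ((Bool.rec (motive := fun _ => Nat) (nl2061 i) (nl2062 i) (Nat.ble 231424 i))) (Nat.ble 230400 i))
noncomputable def nd1064 (i : Nat) : Nat := (Bool.rec (motive := fun _ => Nat) ((Bool.rec (motive := fun _ => Nat) (nd1065 i) (nd1066 i) (Nat.ble 220160 i))) ((Bool.rec (motive := fun _ => Nat) (nd1067 i) (nd1068 i) (Nat.ble 228352 i))) (Nat.ble 224256 i))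
noncomputable def nd1048 (i : Nat) : Nat := (Bool.rec (motive := fun _ => Nat) ((Bool.rec (motive := fun _ => Nat) (nd1049 i) (nd1054 i) (Nat.ble 188416 i))) ((Bool.rec (motive := fun _ => Nat) (nd1059 i) (nd1064 i) (Nat.ble 217088 i))) (Nat.ble 202752 i))
noncomputable def nd984 (i : Nat) : Nat := (Bool.rec (motive := fun _ => Nat) ((Bool.rec (motive := fun _ => Nat) (nd985 i) (nd1006 i) (Nat.ble 57344 i))) ((Bool.rec (motive := fun _ => Nat) (nd1027 i) (nd1048 i) (Nat.ble 174080 i))) (Nat.ble 115712 i))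
noncomputable def nd1072 (i : Nat) : Nat := (Bool.rec (motive := fun _ => Nat) (nl2063 i) ((Bool.rec (motive := fun _ => Nat) (nl2064 i) (nl2065 i) (Nat.ble 234496 i))) (Nat.ble 233472 i))
noncomputable def nd1073 (i : Nat) : Nat := (Bool.rec (motive := fun _ => Nat) ((Bool.rec (motive := fun _ => Nat) (nl2066 i) (nl2067 i) (Nat.ble 236544 i))) ((Bool.rec (motive := fun _ => Nat) (nl2068 i) (nl2069 i) (Nat.ble 238592 i))) (Nat.ble 237568 i))
noncomputable def nd1074 (i : Nat) : Nat := (Bool.rec (motive := fun _ => Nat) (nl2070 i) ((Bool.rec (motive := fun _ => Nat) (nl2071 i) (nl2072 i) (Nat.ble 241664 i))) (Nat.ble 240640 i))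
noncomputable def nd1075 (i : Nat) : Nat := (Bool.rec (motive := fun _ => Nat) ((Bool.rec (motive := fun _ => Nat) (nl2073 i) (nl2074 i) (Nat.ble 243712 i))) ((Bool.rec (motive := fun _ => Nat) (nl2075 i) (nl2076 i) (Nat.ble 245760 i))) (Nat.ble 244736 i))
noncomputable def nd1071 (i : Nat) : Nat := (Bool.rec (motive := fun _ => Nat) ((Bool.rec (motive := fun _ => Nat) (nd1072 i) (nd1073 i) (Nat.ble 235520 i))) ((Bool.rec (motive := fun _ => Nat) (nd1074 i) (nd1075 i) (Nat.ble 242688 i))) (Nat.ble 239616 i))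
noncomputable def nd1077 (i : Nat) : Nat := (Bool.rec (motive := fun _ => Nat) (nl2077 i) ((Bool.rec (motive := fun _ => Nat) (nl2078 i) (nl2079 i) (Nat.ble 248832 i))) (Nat.ble 247808 i))
noncomputable def nd1078 (i : Nat) : Nat := (Bool.rec (motive := fun _ => Nat) ((Bool.rec (motive := fun _ => Nat) (nl2080 i) (nl2081 i) (Nat.ble 250880 i))) ((Bool.rec (motive := fun _ => Nat) (nl2082 i) (nl2083 i) (Nat.ble 252928 i))) (Nat.ble 251904 i))
noncomputable def nd1079 (i : Nat) : Nat := (Bool.rec (motive := fun _ => Nat) (nl2084 i) ((Bool.rec (motive := fun _ => Nat) (nl2085 i) (nl2086 i) (Nat.ble 256000 i))) (Nat.ble 254976 i))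
noncomputable def nd1080 (i : Nat) : Nat := (Bool.rec (motive := fun _ => Nat) ((Bool.rec (motive := fun _ => Nat) (nl2087 i) (nl2088 i) (Nat.ble 258048 i))) ((Bool.rec (motive := fun _ => Nat) (nl2089 i) (nl2090 i) (Nat.ble 260096 i))) (Nat.ble 259072 i))
noncomputable def nd1076 (i : Nat) : Nat := (Bool.rec (motive := fun _ => Nat) ((Bool.rec (motive := fun _ => Nat) (nd1077 i) (nd1078 i) (Nat.ble 249856 i))) ((Bool.rec (motive := fun _ => Nat) (nd1079 i) (nd1080 i) (Nat.ble 257024 i))) (Nat.ble 253952 i))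
noncomputable def nd1082 (i : Nat) : Nat := (Bool.rec (motive := fun _ => Nat) (nl2091 i) ((Bool.rec (motive := fun _ => Nat) (nl2092 i) (nl2093 i) (Nat.ble 263168 i))) (Nat.ble 262144 i))
noncomputable def nd1083 (i : Nat) : Nat := (Bool.rec (motive := fun _ => Nat) ((Bool.rec (motive := fun _ => Nat) (nl2094 i) (nl2095 i) (Nat.ble 265216 i))) ((Bool.rec (motive := fun _ => Nat) (nl2096 i) (nl2097 i) (Nat.ble 267264 i))) (Nat.ble 266240 i))
noncomputable def nd1084 (i : Nat) : Nat := (Bool.rec (motive := fun _ => Nat) (nl2098 i) ((Bool.rec (motive := fun _ => Nat) (nl2099 i) (nl2100 i) (Nat.ble 270336 i))) (Nat.ble 269312 i))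
noncomputable def nd1085 (i : Nat) : Nat := (Bool.rec (motive := fun _ => Nat) ((Bool.rec (motive := fun _ => Nat) (nl2101 i) (nl2102 i) (Nat.ble 272384 i))) ((Bool.rec (motive := fun _ => Nat) (nl2103 i) (nl2104 i) (Nat.ble 274432 i))) (Nat.ble 273408 i))
noncomputable def nd1081 (i : Nat) : Nat := (Bool.rec (motive := fun _ => Nat) ((Bool.rec (motive := fun _ => Nat) (nd1082 i) (nd1083 i) (Nat.ble 264192 i))) ((Bool.rec (motive := fun _ => Nat) (nd1084 i) (nd1085 i) (Nat.ble 271360 i))) (Nat.ble 268288 i))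
noncomputable def nd1087 (i : Nat) : Nat := (Bool.rec (motive := fun _ => Nat) (nl2105 i) ((Bool.rec (motive := fun _ => Nat) (nl2106 i) (nl2107 i) (Nat.ble 277504 i))) (Nat.ble 276480 i))
noncomputable def nd1088 (i : Nat) : Nat := (Bool.rec (motive := fun _ => Nat) ((Bool.rec (motive := fun _ => Nat) (nl2108 i) (nl2109 i) (Nat.ble 279552 i))) ((Bool.rec (motive := fun _ => Nat) (nl2110 i) (nl2111 i) (Nat.ble 281600 i))) (Nat.ble 280576 i))
noncomputable def nd1089 (i : Nat) : Nat := (Bool.rec (motive := fun _ => Nat) ((Bool.rec (motive := fun _ => Nat) (nl2112 i) (nl2113 i) (Nat.ble 283648 i))) ((Bool.rec (motive := fun _ => Nat) (nl2114 i) (nl2115 i) (Nat.ble 285696 i))) (Nat.ble 284672 i))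
noncomputable def nd1090 (i : Nat) : Nat := (Bool.rec (motive := fun _ => Nat) ((Bool.rec (motive := fun _ => Nat) (nl2116 i) (nl2117 i) (Nat.ble 287744 i))) ((Bool.rec (motive := fun _ => Nat) (nl2118 i) (nl2119 i) (Nat.ble 289792 i))) (Nat.ble 288768 i))
noncomputable def nd1086 (i : Nat) : Nat := (Bool.rec (motive := fun _ => Nat) ((Bool.rec (motive := fun _ => Nat) (nd1087 i) (nd1088 i) (Nat.ble 278528 i))) ((Bool.rec (motive := fun _ => Nat) (nd1089 i) (nd1090 i) (Nat.ble 286720 i))) (Nat.ble 282624 i))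
noncomputable def nd1070 (i : Nat) : Nat := (Bool.rec (motive := fun _ => Nat) ((Bool.rec (motive := fun _ => Nat) (nd1071 i) (nd1076 i) (Nat.ble 246784 i))) ((Bool.rec (motive := fun _ => Nat) (nd1081 i) (nd1086 i) (Nat.ble 275456 i))) (Nat.ble 261120 i))
noncomputable def nd1093 (i : Nat) : Nat := (Bool.rec (motive := fun _ => Nat) (nl2120 i) ((Bool.rec (motive := fun _ => Nat) (nl2121 i) (nl2122 i) (Nat.ble 292864 i))) (Nat.ble 291840 i))
noncomputable def nd1094 (i : Nat) : Nat := (Bool.rec (motive := fun _ => Nat) ((Bool.rec (motive := fun _ => Nat) (nl2123 i) (nl2124 i) (Nat.ble 294912 i))) ((Bool.rec (motive := fun _ => Nat) (nl2125 i) (nl2126 i) (Nat.ble 296960 i))) (Nat.ble 295936 i))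
noncomputable def nd1095 (i : Nat) : Nat := (Bool.rec (motive := fun _ => Nat) (nl2127 i) ((Bool.rec (motive := fun _ => Nat) (nl2128 i) (nl2129 i) (Nat.ble 300032 i))) (Nat.ble 299008 i))
noncomputable def nd1096 (i : Nat) : Nat := (Bool.rec (motive := fun _ => Nat) ((Bool.rec (motive := fun _ => Nat) (nl2130 i) (nl2131 i) (Nat.ble 302080 i))) ((Bool.rec (motive := fun _ => Nat) (nl2132 i) (nl2133 i) (Nat.ble 304128 i))) (Nat.ble 303104 i))
noncomputable def nd1092 (i : Nat) : Nat := (Bool.rec (motive := fun _ => Nat) ((Bool.rec (motive := fun _ => Nat) (nd1093 i) (nd1094 i) (Nat.ble 293888 i))) ((Bool.rec (motive := fun _ => Nat) (nd1095 i) (nd1096 i) (Nat.ble 301056 i))) (Nat.ble 297984 i))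
noncomputable def nd1098 (i : Nat) : Nat := (Bool.rec (motive := fun _ => Nat) (nl2134 i) ((Bool.rec (motive := fun _ => Nat) (nl2135 i) (nl2136 i) (Nat.ble 307200 i))) (Nat.ble 306176 i))
noncomputable def nd1099 (i : Nat) : Nat := (Bool.rec (motive := fun _ => Nat) ((Bool.rec (motive := fun _ => Nat) (nl2137 i) (nl2138 i) (Nat.ble 309248 i))) ((Bool.rec (motive := fun _ => Nat) (nl2139 i) (nl2140 i) (Nat.ble 311296 i))) (Nat.ble 310272 i))
noncomputable def nd1100 (i : Nat) : Nat := (Bool.rec (motive := fun _ => Nat) (nl2141 i) ((Bool.rec (motive := fun _ => Nat) (nl2142 i) (nl2143 i) (Nat.ble 314368 i))) (Nat.ble 313344 i))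
noncomputable def nd1101 (i : Nat) : Nat := (Bool.rec (motive := fun _ => Nat) ((Bool.rec (motive := fun _ => Nat) (nl2144 i) (nl2145 i) (Nat.ble 316416 i))) ((Bool.rec (motive := fun _ => Nat) (nl2146 i) (nl2147 i) (Nat.ble 318464 i))) (Nat.ble 317440 i))
noncomputable def nd1097 (i : Nat) : Nat := (Bool.rec (motive := fun _ => Nat) ((Bool.rec (motive := fun _ => Nat) (nd1098 i) (nd1099 i) (Nat.ble 308224 i))) ((Bool.rec (motive := fun _ => Nat) (nd1100 i) (nd1101 i) (Nat.ble 315392 i))) (Nat.ble 312320 i))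
noncomputable def nd1103 (i : Nat) : Nat := (Bool.rec (motive := fun _ => Nat) (nl2148 i) ((Bool.rec (motive := fun _ => Nat) (nl2149 i) (nl2150 i) (Nat.ble 321536 i))) (Nat.ble 320512 i))
noncomputable def nd1104 (i : Nat) : Nat := (Bool.rec (motive := fun _ => Nat) ((Bool.rec (motive := fun _ => Nat) (nl2151 i) (nl2152 i) (Nat.ble 323584 i))) ((Bool.rec (motive := fun _ => Nat) (nl2153 i) (nl2154 i) (Nat.ble 325632 i))) (Nat.ble 324608 i))
noncomputable def nd1105 (i : Nat) : Nat := (Bool.rec (motive := fun _ => Nat) (nl2155 i) ((Bool.rec (motive := fun _ => Nat) (nl2156 i) (nl2157 i) (Nat.ble 328704 i))) (Nat.ble 327680 i))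
noncomputable def nd1106 (i : Nat) : Nat := (Bool.rec (motive := fun _ => Nat) ((Bool.rec (motive := fun _ => Nat) (nl2158 i) (nl2159 i) (Nat.ble 330752 i))) ((Bool.rec (motive := fun _ => Nat) (nl2160 i) (nl2161 i) (Nat.ble 332800 i))) (Nat.ble 331776 i))
noncomputable def nd1102 (i : Nat) : Nat := (Bool.rec (motive := fun _ => Nat) ((Bool.rec (motive := fun _ => Nat) (nd1103 i) (nd1104 i) (Nat.ble 322560 i))) ((Bool.rec (motive := fun _ => Nat) (nd1105 i) (nd1106 i) (Nat.ble 329728 i))) (Nat.ble 326656 i))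
noncomputable def nd1108 (i : Nat) : Nat := (Bool.rec (motive := fun _ => Nat) (nl2162 i) ((Bool.rec (motive := fun _ => Nat) (nl2163 i) (nl2164 i) (Nat.ble 335872 i))) (Nat.ble 334848 i))
noncomputable def nd1109 (i : Nat) : Nat := (Bool.rec (motive := fun _ => Nat) ((Bool.rec (motive := fun _ => Nat) (nl2165 i) (nl2166 i) (Nat.ble 337920 i))) ((Bool.rec (motive := fun _ => Nat) (nl2167 i) (nl2168 i) (Nat.ble 339968 i))) (Nat.ble 338944 i))
noncomputable def nd1110 (i : Nat) : Nat := (Bool.rec (motive := fun _ => Nat) ((Bool.rec (motive := fun _ => Nat) (nl2169 i) (nl2170 i) (Nat.ble 342016 i))) ((Bool.rec (motive := fun _ => Nat) (nl2171 i) (nl2172 i) (Nat.ble 344064 i))) (Nat.ble 343040 i))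
noncomputable def nd1111 (i : Nat) : Nat := (Bool.rec (motive := fun _ => Nat) ((Bool.rec (motive := fun _ => Nat) (nl2173 i) (nl2174 i) (Nat.ble 346112 i))) ((Bool.rec (motive := fun _ => Nat) (nl2175 i) (nl2176 i) (Nat.ble 348160 i))) (Nat.ble 347136 i))
noncomputable def nd1107 (i : Nat) : Nat := (Bool.rec (motive := fun _ => Nat) ((Bool.rec (motive := fun _ => Nat) (nd1108 i) (nd1109 i) (Nat.ble 336896 i))) ((Bool.rec (motive := fun _ => Nat) (nd1110 i) (nd1111 i) (Nat.ble 345088 i))) (Nat.ble 340992 i))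
noncomputable def nd1091 (i : Nat) : Nat := (Bool.rec (motive := fun _ => Nat) ((Bool.rec (motive := fun _ => Nat) (nd1092 i) (nd1097 i) (Nat.ble 305152 i))) ((Bool.rec (motive := fun _ => Nat) (nd1102 i) (nd1107 i) (Nat.ble 333824 i))) (Nat.ble 319488 i))
noncomputable def nd1114 (i : Nat) : Nat := (Bool.rec (motive := fun _ => Nat) (nl2177 i) ((Bool.rec (motive := fun _ => Nat) (nl2178 i) (nl2179 i) (Nat.ble 351232 i))) (Nat.ble 350208 i))
noncomputable def nd1115 (i : Nat) : Nat := (Bool.rec (motive := fun _ => Nat) ((Bool.rec (motive := fun _ => Nat) (nl2180 i) (nl2181 i) (Nat.ble 353280 i))) ((Bool.rec (motive := fun _ => Nat) (nl2182 i) (nl2183 i) (Nat.ble 355328 i))) (Nat.ble 354304 i))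
noncomputable def nd1116 (i : Nat) : Nat := (Bool.rec (motive := fun _ => Nat) (nl2184 i) ((Bool.rec (motive := fun _ => Nat) (nl2185 i) (nl2186 i) (Nat.ble 358400 i))) (Nat.ble 357376 i))
noncomputable def nd1117 (i : Nat) : Nat := (Bool.rec (motive := fun _ => Nat) ((Bool.rec (motive := fun _ => Nat) (nl2187 i) (nl2188 i) (Nat.ble 360448 i))) ((Bool.rec (motive := fun _ => Nat) (nl2189 i) (nl2190 i) (Nat.ble 362496 i))) (Nat.ble 361472 i))
noncomputable def nd1113 (i : Nat) : Nat := (Bool.rec (motive := fun _ => Nat) ((Bool.rec (motive := fun _ => Nat) (nd1114 i) (nd1115 i) (Nat.ble 352256 i))) ((Bool.rec (motive := fun _ => Nat) (nd1116 i) (nd1117 i) (Nat.ble 359424 i))) (Nat.ble 356352 i))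
noncomputable def nd1119 (i : Nat) : Nat := (Bool.rec (motive := fun _ => Nat) (nl2191 i) ((Bool.rec (motive := fun _ => Nat) (nl2192 i) (nl2193 i) (Nat.ble 365568 i))) (Nat.ble 364544 i))
noncomputable def nd1120 (i : Nat) : Nat := (Bool.rec (motive := fun _ => Nat) ((Bool.rec (motive := fun _ => Nat) (nl2194 i) (nl2195 i) (Nat.ble 367616 i))) ((Bool.rec (motive := fun _ => Nat) (nl2196 i) (nl2197 i) (Nat.ble 369664 i))) (Nat.ble 368640 i))
noncomputable def nd1121 (i : Nat) : Nat := (Bool.rec (motive := fun _ => Nat) (nl2198 i) ((Bool.rec (motive := fun _ => Nat) (nl2199 i) (nl2200 i) (Nat.ble 372736 i))) (Nat.ble 371712 i))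
noncomputable def nd1122 (i : Nat) : Nat := (Bool.rec (motive := fun _ => Nat) ((Bool.rec (motive := fun _ => Nat) (nl2201 i) (nl2202 i) (Nat.ble 374784 i))) ((Bool.rec (motive := fun _ => Nat) (nl2203 i) (nl2204 i) (Nat.ble 376832 i))) (Nat.ble 375808 i))
noncomputable def nd1118 (i : Nat) : Nat := (Bool.rec (motive := fun _ => Nat) ((Bool.rec (motive := fun _ => Nat) (nd1119 i) (nd1120 i) (Nat.ble 366592 i))) ((Bool.rec (motive := fun _ => Nat) (nd1121 i) (nd1122 i) (Nat.ble 373760 i))) (Nat.ble 370688 i))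
noncomputable def nd1124 (i : Nat) : Nat := (Bool.rec (motive := fun _ => Nat) (nl2205 i) ((Bool.rec (motive := fun _ => Nat) (nl2206 i) (nl2207 i) (Nat.ble 379904 i))) (Nat.ble 378880 i))
noncomputable def nd1125 (i : Nat) : Nat := (Bool.rec (motive := fun _ => Nat) ((Bool.rec (motive := fun _ => Nat) (nl2208 i) (nl2209 i) (Nat.ble 381952 i))) ((Bool.rec (motive := fun _ => Nat) (nl2210 i) (nl2211 i) (Nat.ble 384000 i))) (Nat.ble 382976 i))
noncomputable def nd1126 (i : Nat) : Nat := (Bool.rec (motive := fun _ => Nat) (nl2212 i) ((Bool.rec (motive := fun _ => Nat) (nl2213 i) (nl2214 i) (Nat.ble 387072 i))) (Nat.ble 386048 i))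
noncomputable def nd1127 (i : Nat) : Nat := (Bool.rec (motive := fun _ => Nat) ((Bool.rec (motive := fun _ => Nat) (nl2215 i) (nl2216 i) (Nat.ble 389120 i))) ((Bool.rec (motive := fun _ => Nat) (nl2217 i) (nl2218 i) (Nat.ble 391168 i))) (Nat.ble 390144 i))
noncomputable def nd1123 (i : Nat) : Nat := (Bool.rec (motive := fun _ => Nat) ((Bool.rec (motive := fun _ => Nat) (nd1124 i) (nd1125 i) (Nat.ble 380928 i))) ((Bool.rec (motive := fun _ => Nat) (nd1126 i) (nd1127 i) (Nat.ble 388096 i))) (Nat.ble 385024 i))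
noncomputable def nd1129 (i : Nat) : Nat := (Bool.rec (motive := fun _ => Nat) (nl2219 i) ((Bool.rec (motive := fun _ => Nat) (nl2220 i) (nl2221 i) (Nat.ble 394240 i))) (Nat.ble 393216 i))
noncomputable def nd1130 (i : Nat) : Nat := (Bool.rec (motive := fun _ => Nat) ((Bool.rec (motive := fun _ => Nat) (nl2222 i) (nl2223 i) (Nat.ble 396288 i))) ((Bool.rec (motive := fun _ => Nat) (nl2224 i) (nl2225 i) (Nat.ble 398336 i))) (Nat.ble 397312 i))
noncomputable def nd1131 (i : Nat) : Nat := (Bool.rec (motive := fun _ => Nat) ((Bool.rec (motive := fun _ => Nat) (nl2226 i) (nl2227 i) (Nat.ble 400384 i))) ((Bool.rec (motive := fun _ => Nat) (nl2228 i) (nl2229 i) (Nat.ble 402432 i))) (Nat.ble 401408 i))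
noncomputable def nd1132 (i : Nat) : Nat := (Bool.rec (motive := fun _ => Nat) ((Bool.rec (motive := fun _ => Nat) (nl2230 i) (nl2231 i) (Nat.ble 404480 i))) ((Bool.rec (motive := fun _ => Nat) (nl2232 i) (nl2233 i) (Nat.ble 406528 i))) (Nat.ble 405504 i))
noncomputable def nd1128 (i : Nat) : Nat := (Bool.rec (motive := fun _ => Nat) ((Bool.rec (motive := fun _ => Nat) (nd1129 i) (nd1130 i) (Nat.ble 395264 i))) ((Bool.rec (motive := fun _ => Nat) (nd1131 i) (nd1132 i) (Nat.ble 403456 i))) (Nat.ble 399360 i))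
noncomputable def nd1112 (i : Nat) : Nat := (Bool.rec (motive := fun _ => Nat) ((Bool.rec (motive := fun _ => Nat) (nd1113 i) (nd1118 i) (Nat.ble 363520 i))) ((Bool.rec (motive := fun _ => Nat) (nd1123 i) (nd1128 i) (Nat.ble 392192 i))) (Nat.ble 377856 i))
noncomputable def nd1135 (i : Nat) : Nat := (Bool.rec (motive := fun _ => Nat) (nl2234 i) ((Bool.rec (motive := fun _ => Nat) (nl2235 i) (nl2236 i) (Nat.ble 409600 i))) (Nat.ble 408576 i))
noncomputable def nd1136 (i : Nat) : Nat := (Bool.rec (motive := fun _ => Nat) ((Bool.rec (motive := fun _ => Nat) (nl2237 i) (nl2238 i) (Nat.ble 411648 i))) ((Bool.rec (motive := fun _ => Nat) (nl2239 i) (nl2240 i) (Nat.ble 413696 i))) (Nat.ble 412672 i))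
noncomputable def nd1137 (i : Nat) : Nat := (Bool.rec (motive := fun _ => Nat) (nl2241 i) ((Bool.rec (motive := fun _ => Nat) (nl2242 i) (nl2243 i) (Nat.ble 416768 i))) (Nat.ble 415744 i))
noncomputable def nd1138 (i : Nat) : Nat := (Bool.rec (motive := fun _ => Nat) ((Bool.rec (motive := fun _ => Nat) (nl2244 i) (nl2245 i) (Nat.ble 418816 i))) ((Bool.rec (motive := fun _ => Nat) (nl2246 i) (nl2247 i) (Nat.ble 420864 i))) (Nat.ble 419840 i))
noncomputable def nd1134 (i : Nat) : Nat := (Bool.rec (motive := fun _ => Nat) ((Bool.rec (motive := fun _ => Nat) (nd1135 i) (nd1136 i) (Nat.ble 410624 i))) ((Bool.rec (motive := fun _ => Nat) (nd1137 i) (nd1138 i) (Nat.ble 417792 i))) (Nat.ble 414720 i))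
noncomputable def nd1140 (i : Nat) : Nat := (Bool.rec (motive := fun _ => Nat) (nl2248 i) ((Bool.rec (motive := fun _ => Nat) (nl2249 i) (nl2250 i) (Nat.ble 423936 i))) (Nat.ble 422912 i))
noncomputable def nd1141 (i : Nat) : Nat := (Bool.rec (motive := fun _ => Nat) ((Bool.rec (motive := fun _ => Nat) (nl2251 i) (nl2252 i) (Nat.ble 425984 i))) ((Bool.rec (motive := fun _ => Nat) (nl2253 i) (nl2254 i) (Nat.ble 428032 i))) (Nat.ble 427008 i))
noncomputable def nd1142 (i : Nat) : Nat := (Bool.rec (motive := fun _ => Nat) (nl2255 i) ((Bool.rec (motive := fun _ => Nat) (nl2256 i) (nl2257 i) (Nat.ble 431104 i))) (Nat.ble 430080 i))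
noncomputable def nd1143 (i : Nat) : Nat := (Bool.rec (motive := fun _ => Nat) ((Bool.rec (motive := fun _ => Nat) (nl2258 i) (nl2259 i) (Nat.ble 433152 i))) ((Bool.rec (motive := fun _ => Nat) (nl2260 i) (nl2261 i) (Nat.ble 435200 i))) (Nat.ble 434176 i))
noncomputable def nd1139 (i : Nat) : Nat := (Bool.rec (motive := fun _ => Nat) ((Bool.rec (motive := fun _ => Nat) (nd1140 i) (nd1141 i) (Nat.ble 424960 i))) ((Bool.rec (motive := fun _ => Nat) (nd1142 i) (nd1143 i) (Nat.ble 432128 i))) (Nat.ble 429056 i))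
noncomputable def nd1145 (i : Nat) : Nat := (Bool.rec (motive := fun _ => Nat) (nl2262 i) ((Bool.rec (motive := fun _ => Nat) (nl2263 i) (nl2264 i) (Nat.ble 438272 i))) (Nat.ble 437248 i))
noncomputable def nd1146 (i : Nat) : Nat := (Bool.rec (motive := fun _ => Nat) ((Bool.rec (motive := fun _ => Nat) (nl2265 i) (nl2266 i) (Nat.ble 440320 i))) ((Bool.rec (motive := fun _ => Nat) (nl2267 i) (nl2268 i) (Nat.ble 442368 i))) (Nat.ble 441344 i))
noncomputable def nd1147 (i : Nat) : Nat := (Bool.rec (motive := fun _ => Nat) (nl2269 i) ((Bool.rec (motive := fun _ => Nat) (nl2270 i) (nl2271 i) (Nat.ble 445440 i))) (Nat.ble 444416 i))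
noncomputable def nd1148 (i : Nat) : Nat := (Bool.rec (motive := fun _ => Nat) ((Bool.rec (motive := fun _ => Nat) (nl2272 i) (nl2273 i) (Nat.ble 447488 i))) ((Bool.rec (motive := fun _ => Nat) (nl2274 i) (nl2275 i) (Nat.ble 449536 i))) (Nat.ble 448512 i))
noncomputable def nd1144 (i : Nat) : Nat := (Bool.rec (motive := fun _ => Nat) ((Bool.rec (motive := fun _ => Nat) (nd1145 i) (nd1146 i) (Nat.ble 439296 i))) ((Bool.rec (motive := fun _ => Nat) (nd1147 i) (nd1148 i) (Nat.ble 446464 i))) (Nat.ble 443392 i))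
noncomputable def nd1150 (i : Nat) : Nat := (Bool.rec (motive := fun _ => Nat) (nl2276 i) ((Bool.rec (motive := fun _ => Nat) (nl2277 i) (nl2278 i) (Nat.ble 452608 i))) (Nat.ble 451584 i))
noncomputable def nd1151 (i : Nat) : Nat := (Bool.rec (motive := fun _ => Nat) ((Bool.rec (motive := fun _ => Nat) (nl2279 i) (nl2280 i) (Nat.ble 454656 i))) ((Bool.rec (motive := fun _ => Nat) (nl2281 i) (nl2282 i) (Nat.ble 456704 i))) (Nat.ble 455680 i))
noncomputable def nd1152 (i : Nat) : Nat := (Bool.rec (motive := fun _ => Nat) ((Bool.rec (motive := fun _ => Nat) (nl2283 i) (nl2284 i) (Nat.ble 458752 i))) ((Bool.rec (motive := fun _ => Nat) (nl2285 i) (nl2286 i) (Nat.ble 460800 i))) (Nat.ble 459776 i))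
noncomputable def nd1153 (i : Nat) : Nat := (Bool.rec (motive := fun _ => Nat) ((Bool.rec (motive := fun _ => Nat) (nl2287 i) (nl2288 i) (Nat.ble 462848 i))) ((Bool.rec (motive := fun _ => Nat) (nl2289 i) (nl2290 i) (Nat.ble 464896 i))) (Nat.ble 463872 i))
noncomputable def nd1149 (i : Nat) : Nat := (Bool.rec (motive := fun _ => Nat) ((Bool.rec (motive := fun _ => Nat) (nd1150 i) (nd1151 i) (Nat.ble 453632 i))) ((Bool.rec (motive := fun _ => Nat) (nd1152 i) (nd1153 i) (Nat.ble 461824 i))) (Nat.ble 457728 i))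
noncomputable def nd1133 (i : Nat) : Nat := (Bool.rec (motive := fun _ => Nat) ((Bool.rec (motive := fun _ => Nat) (nd1134 i) (nd1139 i) (Nat.ble 421888 i))) ((Bool.rec (motive := fun _ => Nat) (nd1144 i) (nd1149 i) (Nat.ble 450560 i))) (Nat.ble 436224 i))
noncomputable def nd1069 (i : Nat) : Nat := (Bool.rec (motive := fun _ => Nat) ((Bool.rec (motive := fun _ => Nat) (nd1070 i) (nd1091 i) (Nat.ble 290816 i))) ((Bool.rec (motive := fun _ => Nat) (nd1112 i) (nd1133 i) (Nat.ble 407552 i))) (Nat.ble 349184 i))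
noncomputable def nd1157 (i : Nat) : Nat := (Bool.rec (motive := fun _ => Nat) (nl2291 i) ((Bool.rec (motive := fun _ => Nat) (nl2292 i) (nl2293 i) (Nat.ble 467968 i))) (Nat.ble 466944 i))
noncomputable def nd1158 (i : Nat) : Nat := (Bool.rec (motive := fun _ => Nat) ((Bool.rec (motive := fun _ => Nat) (nl2294 i) (nl2295 i) (Nat.ble 470016 i))) ((Bool.rec (motive := fun _ => Nat) (nl2296 i) (nl2297 i) (Nat.ble 472064 i))) (Nat.ble 471040 i))
noncomputable def nd1159 (i : Nat) : Nat := (Bool.rec (motive := fun _ => Nat) (nl2298 i) ((Bool.rec (motive := fun _ => Nat) (nl2299 i) (nl2300 i) (Nat.ble 475136 i))) (Nat.ble 474112 i))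
noncomputable def nd1160 (i : Nat) : Nat := (Bool.rec (motive := fun _ => Nat) ((Bool.rec (motive := fun _ => Nat) (nl2301 i) (nl2302 i) (Nat.ble 477184 i))) ((Bool.rec (motive := fun _ => Nat) (nl2303 i) (nl2304 i) (Nat.ble 479232 i))) (Nat.ble 478208 i))
noncomputable def nd1156 (i : Nat) : Nat := (Bool.rec (motive := fun _ => Nat) ((Bool.rec (motive := fun _ => Nat) (nd1157 i) (nd1158 i) (Nat.ble 468992 i))) ((Bool.rec (motive := fun _ => Nat) (nd1159 i) (nd1160 i) (Nat.ble 476160 i))) (Nat.ble 473088 i))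
noncomputable def nd1162 (i : Nat) : Nat := (Bool.rec (motive := fun _ => Nat) (nl2305 i) ((Bool.rec (motive := fun _ => Nat) (nl2306 i) (nl2307 i) (Nat.ble 482304 i))) (Nat.ble 481280 i))
noncomputable def nd1163 (i : Nat) : Nat := (Bool.rec (motive := fun _ => Nat) ((Bool.rec (motive := fun _ => Nat) (nl2308 i) (nl2309 i) (Nat.ble 484352 i))) ((Bool.rec (motive := fun _ => Nat) (nl2310 i) (nl2311 i) (Nat.ble 486400 i))) (Nat.ble 485376 i))
noncomputable def nd1164 (i : Nat) : Nat := (Bool.rec (motive := fun _ => Nat) (nl2312 i) ((Bool.rec (motive := fun _ => Nat) (nl2313 i) (nl2314 i) (Nat.ble 489472 i))) (Nat.ble 488448 i))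
noncomputable def nd1165 (i : Nat) : Nat := (Bool.rec (motive := fun _ => Nat) ((Bool.rec (motive := fun _ => Nat) (nl2315 i) (nl2316 i) (Nat.ble 491520 i))) ((Bool.rec (motive := fun _ => Nat) (nl2317 i) (nl2318 i) (Nat.ble 493568 i))) (Nat.ble 492544 i))
noncomputable def nd1161 (i : Nat) : Nat := (Bool.rec (motive := fun _ => Nat) ((Bool.rec (motive := fun _ => Nat) (nd1162 i) (nd1163 i) (Nat.ble 483328 i))) ((Bool.rec (motive := fun _ => Nat) (nd1164 i) (nd1165 i) (Nat.ble 490496 i))) (Nat.ble 487424 i))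
noncomputable def nd1167 (i : Nat) : Nat := (Bool.rec (motive := fun _ => Nat) (nl2319 i) ((Bool.rec (motive := fun _ => Nat) (nl2320 i) (nl2321 i) (Nat.ble 496640 i))) (Nat.ble 495616 i))
noncomputable def nd1168 (i : Nat) : Nat := (Bool.rec (motive := fun _ => Nat) ((Bool.rec (motive := fun _ => Nat) (nl2322 i) (nl2323 i) (Nat.ble 498688 i))) ((Bool.rec (motive := fun _ => Nat) (nl2324 i) (nl2325 i) (Nat.ble 500736 i))) (Nat.ble 499712 i))
noncomputable def nd1169 (i : Nat) : Nat := (Bool.rec (motive := fun _ => Nat) (nl2326 i) ((Bool.rec (motive := fun _ => Nat) (nl2327 i) (nl2328 i) (Nat.ble 503808 i))) (Nat.ble 502784 i))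
noncomputable def nd1170 (i : Nat) : Nat := (Bool.rec (motive := fun _ => Nat) ((Bool.rec (motive := fun _ => Nat) (nl2329 i) (nl2330 i) (Nat.ble 505856 i))) ((Bool.rec (motive := fun _ => Nat) (nl2331 i) (nl2332 i) (Nat.ble 507904 i))) (Nat.ble 506880 i))
noncomputable def nd1166 (i : Nat) : Nat := (Bool.rec (motive := fun _ => Nat) ((Bool.rec (motive := fun _ => Nat) (nd1167 i) (nd1168 i) (Nat.ble 497664 i))) ((Bool.rec (motive := fun _ => Nat) (nd1169 i) (nd1170 i) (Nat.ble 504832 i))) (Nat.ble 501760 i))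
noncomputable def nd1172 (i : Nat) : Nat := (Bool.rec (motive := fun _ => Nat) (nl2333 i) ((Bool.rec (motive := fun _ => Nat) (nl2334 i) (nl2335 i) (Nat.ble 510976 i))) (Nat.ble 509952 i))
noncomputable def nd1173 (i : Nat) : Nat := (Bool.rec (motive := fun _ => Nat) ((Bool.rec (motive := fun _ => Nat) (nl2336 i) (nl2337 i) (Nat.ble 513024 i))) ((Bool.rec (motive := fun _ => Nat) (nl2338 i) (nl2339 i) (Nat.ble 515072 i))) (Nat.ble 514048 i))
noncomputable def nd1174 (i : Nat) : Nat := (Bool.rec (motive := fun _ => Nat) ((Bool.rec (motive := fun _ => Nat) (nl2340 i) (nl2341 i) (Nat.ble 517120 i))) ((Bool.rec (motive := fun _ => Nat) (nl2342 i) (nl2343 i) (Nat.ble 519168 i))) (Nat.ble 518144 i))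
noncomputable def nd1175 (i : Nat) : Nat := (Bool.rec (motive := fun _ => Nat) ((Bool.rec (motive := fun _ => Nat) (nl2344 i) (nl2345 i) (Nat.ble 521216 i))) ((Bool.rec (motive := fun _ => Nat) (nl2346 i) (nl2347 i) (Nat.ble 523264 i))) (Nat.ble 522240 i))
noncomputable def nd1171 (i : Nat) : Nat := (Bool.rec (motive := fun _ => Nat) ((Bool.rec (motive := fun _ => Nat) (nd1172 i) (nd1173 i) (Nat.ble 512000 i))) ((Bool.rec (motive := fun _ => Nat) (nd1174 i) (nd1175 i) (Nat.ble 520192 i))) (Nat.ble 516096 i))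
noncomputable def nd1155 (i : Nat) : Nat := (Bool.rec (motive := fun _ => Nat) ((Bool.rec (motive := fun _ => Nat) (nd1156 i) (nd1161 i) (Nat.ble 480256 i))) ((Bool.rec (motive := fun _ => Nat) (nd1166 i) (nd1171 i) (Nat.ble 508928 i))) (Nat.ble 494592 i))
noncomputable def nd1178 (i : Nat) : Nat := (Bool.rec (motive := fun _ => Nat) (nl2348 i) ((Bool.rec (motive := fun _ => Nat) (nl2349 i) (nl2350 i) (Nat.ble 526336 i))) (Nat.ble 525312 i))
noncomputable def nd1179 (i : Nat) : Nat := (Bool.rec (motive := fun _ => Nat) ((Bool.rec (motive := fun _ => Nat) (nl2351 i) (nl2352 i) (Nat.ble 528384 i))) ((Bool.rec (motive := fun _ => Nat) (nl2353 i) (nl2354 i) (Nat.ble 530432 i))) (Nat.ble 529408 i))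
noncomputable def nd1180 (i : Nat) : Nat := (Bool.rec (motive := fun _ => Nat) (nl2355 i) ((Bool.rec (motive := fun _ => Nat) (nl2356 i) (nl2357 i) (Nat.ble 533504 i))) (Nat.ble 532480 i))
noncomputable def nd1181 (i : Nat) : Nat := (Bool.rec (motive := fun _ => Nat) ((Bool.rec (motive := fun _ => Nat) (nl2358 i) (nl2359 i) (Nat.ble 535552 i))) ((Bool.rec (motive := fun _ => Nat) (nl2360 i) (nl2361 i) (Nat.ble 537600 i))) (Nat.ble 536576 i))
noncomputable def nd1177 (i : Nat) : Nat := (Bool.rec (motive := fun _ => Nat) ((Bool.rec (motive := fun _ => Nat) (nd1178 i) (nd1179 i) (Nat.ble 527360 i))) ((Bool.rec (motive := fun _ => Nat) (nd1180 i) (nd1181 i) (Nat.ble 534528 i))) (Nat.ble 531456 i))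
noncomputable def nd1183 (i : Nat) : Nat := (Bool.rec (motive := fun _ => Nat) (nl2362 i) ((Bool.rec (motive := fun _ => Nat) (nl2363 i) (nl2364 i) (Nat.ble 540672 i))) (Nat.ble 539648 i))
noncomputable def nd1184 (i : Nat) : Nat := (Bool.rec (motive := fun _ => Nat) ((Bool.rec (motive := fun _ => Nat) (nl2365 i) (nl2366 i) (Nat.ble 542720 i))) ((Bool.rec (motive := fun _ => Nat) (nl2367 i) (nl2368 i) (Nat.ble 544768 i))) (Nat.ble 543744 i))
noncomputable def nd1185 (i : Nat) : Nat := (Bool.rec (motive := fun _ => Nat) (nl2369 i) ((Bool.rec (motive := fun _ => Nat) (nl2370 i) (nl2371 i) (Nat.ble 547840 i))) (Nat.ble 546816 i))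
noncomputable def nd1186 (i : Nat) : Nat := (Bool.rec (motive := fun _ => Nat) ((Bool.rec (motive := fun _ => Nat) (nl2372 i) (nl2373 i) (Nat.ble 549888 i))) ((Bool.rec (motive := fun _ => Nat) (nl2374 i) (nl2375 i) (Nat.ble 551936 i))) (Nat.ble 550912 i))
noncomputable def nd1182 (i : Nat) : Nat := (Bool.rec (motive := fun _ => Nat) ((Bool.rec (motive := fun _ => Nat) (nd1183 i) (nd1184 i) (Nat.ble 541696 i))) ((Bool.rec (motive := fun _ => Nat) (nd1185 i) (nd1186 i) (Nat.ble 548864 i))) (Nat.ble 545792 i))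
noncomputable def nd1188 (i : Nat) : Nat := (Bool.rec (motive := fun _ => Nat) (nl2376 i) ((Bool.rec (motive := fun _ => Nat) (nl2377 i) (nl2378 i) (Nat.ble 555008 i))) (Nat.ble 553984 i))
noncomputable def nd1189 (i : Nat) : Nat := (Bool.rec (motive := fun _ => Nat) ((Bool.rec (motive := fun _ => Nat) (nl2379 i) (nl2380 i) (Nat.ble 557056 i))) ((Bool.rec (motive := fun _ => Nat) (nl2381 i) (nl2382 i) (Nat.ble 559104 i))) (Nat.ble 558080 i))
noncomputable def nd1190 (i : Nat) : Nat := (Bool.rec (motive := fun _ => Nat) (nl2383 i) ((Bool.rec (motive := fun _ => Nat) (nl2384 i) (nl2385 i) (Nat.ble 562176 i))) (Nat.ble 561152 i))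
noncomputable def nd1191 (i : Nat) : Nat := (Bool.rec (motive := fun _ => Nat) ((Bool.rec (motive := fun _ => Nat) (nl2386 i) (nl2387 i) (Nat.ble 564224 i))) ((Bool.rec (motive := fun _ => Nat) (nl2388 i) (nl2389 i) (Nat.ble 566272 i))) (Nat.ble 565248 i))
noncomputable def nd1187 (i : Nat) : Nat := (Bool.rec (motive := fun _ => Nat) ((Bool.rec (motive := fun _ => Nat) (nd1188 i) (nd1189 i) (Nat.ble 556032 i))) ((Bool.rec (motive := fun _ => Nat) (nd1190 i) (nd1191 i) (Nat.ble 563200 i))) (Nat.ble 560128 i))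
noncomputable def nd1193 (i : Nat) : Nat := (Bool.rec (motive := fun _ => Nat) (nl2390 i) ((Bool.rec (motive := fun _ => Nat) (nl2391 i) (nl2392 i) (Nat.ble 569344 i))) (Nat.ble 568320 i))
noncomputable def nd1194 (i : Nat) : Nat := (Bool.rec (motive := fun _ => Nat) ((Bool.rec (motive := fun _ => Nat) (nl2393 i) (nl2394 i) (Nat.ble 571392 i))) ((Bool.rec (motive := fun _ => Nat) (nl2395 i) (nl2396 i) (Nat.ble 573440 i))) (Nat.ble 572416 i))
noncomputable def nd1195 (i : Nat) : Nat := (Bool.rec (motive := fun _ => Nat) ((Bool.rec (motive := fun _ => Nat) (nl2397 i) (nl2398 i) (Nat.ble 575488 i))) ((Bool.rec (motive := fun _ => Nat) (nl2399 i) (nl2400 i) (Nat.ble 577536 i))) (Nat.ble 576512 i))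
noncomputable def nd1196 (i : Nat) : Nat := (Bool.rec (motive := fun _ => Nat) ((Bool.rec (motive := fun _ => Nat) (nl2401 i) (nl2402 i) (Nat.ble 579584 i))) ((Bool.rec (motive := fun _ => Nat) (nl2403 i) (nl2404 i) (Nat.ble 581632 i))) (Nat.ble 580608 i))
noncomputable def nd1192 (i : Nat) : Nat := (Bool.rec (motive := fun _ => Nat) ((Bool.rec (motive := fun _ => Nat) (nd1193 i) (nd1194 i) (Nat.ble 570368 i))) ((Bool.rec (motive := fun _ => Nat) (nd1195 i) (nd1196 i) (Nat.ble 578560 i))) (Nat.ble 574464 i))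
noncomputable def nd1176 (i : Nat) : Nat := (Bool.rec (motive := fun _ => Nat) ((Bool.rec (motive := fun _ => Nat) (nd1177 i) (nd1182 i) (Nat.ble 538624 i))) ((Bool.rec (motive := fun _ => Nat) (nd1187 i) (nd1192 i) (Nat.ble 567296 i))) (Nat.ble 552960 i))
noncomputable def nd1199 (i : Nat) : Nat := (Bool.rec (motive := fun _ => Nat) (nl2405 i) ((Bool.rec (motive := fun _ => Nat) (nl2406 i) (nl2407 i) (Nat.ble 584704 i))) (Nat.ble 583680 i))
noncomputable def nd1200 (i : Nat) : Nat := (Bool.rec (motive := fun _ => Nat) ((Bool.rec (motive := fun _ => Nat) (nl2408 i) (nl2409 i) (Nat.ble 586752 i))) ((Bool.rec (motive := fun _ => Nat) (nl2410 i) (nl2411 i) (Nat.ble 588800 i))) (Nat.ble 587776 i))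
noncomputable def nd1201 (i : Nat) : Nat := (Bool.rec (motive := fun _ => Nat) (nl2412 i) ((Bool.rec (motive := fun _ => Nat) (nl2413 i) (nl2414 i) (Nat.ble 591872 i))) (Nat.ble 590848 i))
noncomputable def nd1202 (i : Nat) : Nat := (Bool.rec (motive := fun _ => Nat) ((Bool.rec (motive := fun _ => Nat) (nl2415 i) (nl2416 i) (Nat.ble 593920 i))) ((Bool.rec (motive := fun _ => Nat) (nl2417 i) (nl2418 i) (Nat.ble 595968 i))) (Nat.ble 594944 i))
noncomputable def nd1198 (i : Nat) : Nat := (Bool.rec (motive := fun _ => Nat) ((Bool.rec (motive := fun _ => Nat) (nd1199 i) (nd1200 i) (Nat.ble 585728 i))) ((Bool.rec (motive := fun _ => Nat) (nd1201 i) (nd1202 i) (Nat.ble 592896 i))) (Nat.ble 589824 i))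
noncomputable def nd1204 (i : Nat) : Nat := (Bool.rec (motive := fun _ => Nat) (nl2419 i) ((Bool.rec (motive := fun _ => Nat) (nl2420 i) (nl2421 i) (Nat.ble 599040 i))) (Nat.ble 598016 i))
noncomputable def nd1205 (i : Nat) : Nat := (Bool.rec (motive := fun _ => Nat) ((Bool.rec (motive := fun _ => Nat) (nl2422 i) (nl2423 i) (Nat.ble 601088 i))) ((Bool.rec (motive := fun _ => Nat) (nl2424 i) (nl2425 i) (Nat.ble 603136 i))) (Nat.ble 602112 i))
noncomputable def nd1206 (i : Nat) : Nat := (Bool.rec (motive := fun _ => Nat) (nl2426 i) ((Bool.rec (motive := fun _ => Nat) (nl2427 i) (nl2428 i) (Nat.ble 606208 i))) (Nat.ble 605184 i))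
noncomputable def nd1207 (i : Nat) : Nat := (Bool.rec (motive := fun _ => Nat) ((Bool.rec (motive := fun _ => Nat) (nl2429 i) (nl2430 i) (Nat.ble 608256 i))) ((Bool.rec (motive := fun _ => Nat) (nl2431 i) (nl2432 i) (Nat.ble 610304 i))) (Nat.ble 609280 i))
noncomputable def nd1203 (i : Nat) : Nat := (Bool.rec (motive := fun _ => Nat) ((Bool.rec (motive := fun _ => Nat) (nd1204 i) (nd1205 i) (Nat.ble 600064 i))) ((Bool.rec (motive := fun _ => Nat) (nd1206 i) (nd1207 i) (Nat.ble 607232 i))) (Nat.ble 604160 i))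
noncomputable def nd1209 (i : Nat) : Nat := (Bool.rec (motive := fun _ => Nat) (nl2433 i) ((Bool.rec (motive := fun _ => Nat) (nl2434 i) (nl2435 i) (Nat.ble 613376 i))) (Nat.ble 612352 i))
noncomputable def nd1210 (i : Nat) : Nat := (Bool.rec (motive := fun _ => Nat) ((Bool.rec (motive := fun _ => Nat) (nl2436 i) (nl2437 i) (Nat.ble 615424 i))) ((Bool.rec (motive := fun _ => Nat) (nl2438 i) (nl2439 i) (Nat.ble 617472 i))) (Nat.ble 616448 i))
noncomputable def nd1211 (i : Nat) : Nat := (Bool.rec (motive := fun _ => Nat) (nl2440 i) ((Bool.rec (motive := fun _ => Nat) (nl2441 i) (nl2442 i) (Nat.ble 620544 i))) (Nat.ble 619520 i))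
noncomputable def nd1212 (i : Nat) : Nat := (Bool.rec (motive := fun _ => Nat) ((Bool.rec (motive := fun _ => Nat) (nl2443 i) (nl2444 i) (Nat.ble 622592 i))) ((Bool.rec (motive := fun _ => Nat) (nl2445 i) (nl2446 i) (Nat.ble 624640 i))) (Nat.ble 623616 i))
noncomputable def nd1208 (i : Nat) : Nat := (Bool.rec (motive := fun _ => Nat) ((Bool.rec (motive := fun _ => Nat) (nd1209 i) (nd1210 i) (Nat.ble 614400 i))) ((Bool.rec (motive := fun _ => Nat) (nd1211 i) (nd1212 i) (Nat.ble 621568 i))) (Nat.ble 618496 i))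
noncomputable def nd1214 (i : Nat) : Nat := (Bool.rec (motive := fun _ => Nat) (nl2447 i) ((Bool.rec (motive := fun _ => Nat) (nl2448 i) (nl2449 i) (Nat.ble 627712 i))) (Nat.ble 626688 i))
noncomputable def nd1215 (i : Nat) : Nat := (Bool.rec (motive := fun _ => Nat) ((Bool.rec (motive := fun _ => Nat) (nl2450 i) (nl2451 i) (Nat.ble 629760 i))) ((Bool.rec (motive := fun _ => Nat) (nl2452 i) (nl2453 i) (Nat.ble 631808 i))) (Nat.ble 630784 i))
noncomputable def nd1216 (i : Nat) : Nat := (Bool.rec (motive := fun _ => Nat) ((Bool.rec (motive := fun _ => Nat) (nl2454 i) (nl2455 i) (Nat.ble 633856 i))) ((Bool.rec (motive := fun _ => Nat) (nl2456 i) (nl2457 i) (Nat.ble 635904 i))) (Nat.ble 634880 i))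
noncomputable def nd1217 (i : Nat) : Nat := (Bool.rec (motive := fun _ => Nat) ((Bool.rec (motive := fun _ => Nat) (nl2458 i) (nl2459 i) (Nat.ble 637952 i))) ((Bool.rec (motive := fun _ => Nat) (nl2460 i) (nl2461 i) (Nat.ble 640000 i))) (Nat.ble 638976 i))
noncomputable def nd1213 (i : Nat) : Nat := (Bool.rec (motive := fun _ => Nat) ((Bool.rec (motive := fun _ => Nat) (nd1214 i) (nd1215 i) (Nat.ble 628736 i))) ((Bool.rec (motive := fun _ => Nat) (nd1216 i) (nd1217 i) (Nat.ble 636928 i))) (Nat.ble 632832 i))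
noncomputable def nd1197 (i : Nat) : Nat := (Bool.rec (motive := fun _ => Nat) ((Bool.rec (motive := fun _ => Nat) (nd1198 i) (nd1203 i) (Nat.ble 596992 i))) ((Bool.rec (motive := fun _ => Nat) (nd1208 i) (nd1213 i) (Nat.ble 625664 i))) (Nat.ble 611328 i))
noncomputable def nd1220 (i : Nat) : Nat := (Bool.rec (motive := fun _ => Nat) (nl2462 i) ((Bool.rec (motive := fun _ => Nat) (nl2463 i) (nl2464 i) (Nat.ble 643072 i))) (Nat.ble 642048 i))
noncomputable def nd1221 (i : Nat) : Nat := (Bool.rec (motive := fun _ => Nat) ((Bool.rec (motive := fun _ => Nat) (nl2465 i) (nl2466 i) (Nat.ble 645120 i))) ((Bool.rec (motive := fun _ => Nat) (nl2467 i) (nl2468 i) (Nat.ble 647168 i))) (Nat.ble 646144 i))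
noncomputable def nd1222 (i : Nat) : Nat := (Bool.rec (motive := fun _ => Nat) (nl2469 i) ((Bool.rec (motive := fun _ => Nat) (nl2470 i) (nl2471 i) (Nat.ble 650240 i))) (Nat.ble 649216 i))
noncomputable def nd1223 (i : Nat) : Nat := (Bool.rec (motive := fun _ => Nat) ((Bool.rec (motive := fun _ => Nat) (nl2472 i) (nl2473 i) (Nat.ble 652288 i))) ((Bool.rec (motive := fun _ => Nat) (nl2474 i) (nl2475 i) (Nat.ble 654336 i))) (Nat.ble 653312 i))
noncomputable def nd1219 (i : Nat) : Nat := (Bool.rec (motive := fun _ => Nat) ((Bool.rec (motive := fun _ => Nat) (nd1220 i) (nd1221 i) (Nat.ble 644096 i))) ((Bool.rec (motive := fun _ => Nat) (nd1222 i) (nd1223 i) (Nat.ble 651264 i))) (Nat.ble 648192 i))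
noncomputable def nd1225 (i : Nat) : Nat := (Bool.rec (motive := fun _ => Nat) (nl2476 i) ((Bool.rec (motive := fun _ => Nat) (nl2477 i) (nl2478 i) (Nat.ble 657408 i))) (Nat.ble 656384 i))
noncomputable def nd1226 (i : Nat) : Nat := (Bool.rec (motive := fun _ => Nat) ((Bool.rec (motive := fun _ => Nat) (nl2479 i) (nl2480 i) (Nat.ble 659456 i))) ((Bool.rec (motive := fun _ => Nat) (nl2481 i) (nl2482 i) (Nat.ble 661504 i))) (Nat.ble 660480 i))
noncomputable def nd1227 (i : Nat) : Nat := (Bool.rec (motive := fun _ => Nat) (nl2483 i) ((Bool.rec (motive := fun _ => Nat) (nl2484 i) (nl2485 i) (Nat.ble 664576 i))) (Nat.ble 663552 i))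
noncomputable def nd1228 (i : Nat) : Nat := (Bool.rec (motive := fun _ => Nat) ((Bool.rec (motive := fun _ => Nat) (nl2486 i) (nl2487 i) (Nat.ble 666624 i))) ((Bool.rec (motive := fun _ => Nat) (nl2488 i) (nl2489 i) (Nat.ble 668672 i))) (Nat.ble 667648 i))
noncomputable def nd1224 (i : Nat) : Nat := (Bool.rec (motive := fun _ => Nat) ((Bool.rec (motive := fun _ => Nat) (nd1225 i) (nd1226 i) (Nat.ble 658432 i))) ((Bool.rec (motive := fun _ => Nat) (nd1227 i) (nd1228 i) (Nat.ble 665600 i))) (Nat.ble 662528 i))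
noncomputable def nd1230 (i : Nat) : Nat := (Bool.rec (motive := fun _ => Nat) (nl2490 i) ((Bool.rec (motive := fun _ => Nat) (nl2491 i) (nl2492 i) (Nat.ble 671744 i))) (Nat.ble 670720 i))
noncomputable def nd1231 (i : Nat) : Nat := (Bool.rec (motive := fun _ => Nat) ((Bool.rec (motive := fun _ => Nat) (nl2493 i) (nl2494 i) (Nat.ble 673792 i))) ((Bool.rec (motive := fun _ => Nat) (nl2495 i) (nl2496 i) (Nat.ble 675840 i))) (Nat.ble 674816 i))
noncomputable def nd1232 (i : Nat) : Nat := (Bool.rec (motive := fun _ => Nat) (nl2497 i) ((Bool.rec (motive := fun _ => Nat) (nl2498 i) (nl2499 i) (Nat.ble 678912 i))) (Nat.ble 677888 i))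
noncomputable def nd1233 (i : Nat) : Nat := (Bool.rec (motive := fun _ => Nat) ((Bool.rec (motive := fun _ => Nat) (nl2500 i) (nl2501 i) (Nat.ble 680960 i))) ((Bool.rec (motive := fun _ => Nat) (nl2502 i) (nl2503 i) (Nat.ble 683008 i))) (Nat.ble 681984 i))
noncomputable def nd1229 (i : Nat) : Nat := (Bool.rec (motive := fun _ => Nat) ((Bool.rec (motive := fun _ => Nat) (nd1230 i) (nd1231 i) (Nat.ble 672768 i))) ((Bool.rec (motive := fun _ => Nat) (nd1232 i) (nd1233 i) (Nat.ble 679936 i))) (Nat.ble 676864 i))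
noncomputable def nd1235 (i : Nat) : Nat := (Bool.rec (motive := fun _ => Nat) (nl2504 i) ((Bool.rec (motive := fun _ => Nat) (nl2505 i) (nl2506 i) (Nat.ble 686080 i))) (Nat.ble 685056 i))
noncomputable def nd1236 (i : Nat) : Nat := (Bool.rec (motive := fun _ => Nat) ((Bool.rec (motive := fun _ => Nat) (nl2507 i) (nl2508 i) (Nat.ble 688128 i))) ((Bool.rec (motive := fun _ => Nat) (nl2509 i) (nl2510 i) (Nat.ble 690176 i))) (Nat.ble 689152 i))
noncomputable def nd1237 (i : Nat) : Nat := (Bool.rec (motive := fun _ => Nat) ((Bool.rec (motive := fun _ => Nat) (nl2511 i) (nl2512 i) (Nat.ble 692224 i))) ((Bool.rec (motive := fun _ => Nat) (nl2513 i) (nl2514 i) (Nat.ble 694272 i))) (Nat.ble 693248 i))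
noncomputable def nd1238 (i : Nat) : Nat := (Bool.rec (motive := fun _ => Nat) ((Bool.rec (motive := fun _ => Nat) (nl2515 i) (nl2516 i) (Nat.ble 696320 i))) ((Bool.rec (motive := fun _ => Nat) (nl2517 i) (nl2518 i) (Nat.ble 698368 i))) (Nat.ble 697344 i))
noncomputable def nd1234 (i : Nat) : Nat := (Bool.rec (motive := fun _ => Nat) ((Bool.rec (motive := fun _ => Nat) (nd1235 i) (nd1236 i) (Nat.ble 687104 i))) ((Bool.rec (motive := fun _ => Nat) (nd1237 i) (nd1238 i) (Nat.ble 695296 i))) (Nat.ble 691200 i))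
noncomputable def nd1218 (i : Nat) : Nat := (Bool.rec (motive := fun _ => Nat) ((Bool.rec (motive := fun _ => Nat) (nd1219 i) (nd1224 i) (Nat.ble 655360 i))) ((Bool.rec (motive := fun _ => Nat) (nd1229 i) (nd1234 i) (Nat.ble 684032 i))) (Nat.ble 669696 i))
noncomputable def nd1154 (i : Nat) : Nat := (Bool.rec (motive := fun _ => Nat) ((Bool.rec (motive := fun _ => Nat) (nd1155 i) (nd1176 i) (Nat.ble 524288 i))) ((Bool.rec (motive := fun _ => Nat) (nd1197 i) (nd1218 i) (Nat.ble 641024 i))) (Nat.ble 582656 i))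
noncomputable def nd1242 (i : Nat) : Nat := (Bool.rec (motive := fun _ => Nat) (nl2519 i) ((Bool.rec (motive := fun _ => Nat) (nl2520 i) (nl2521 i) (Nat.ble 701440 i))) (Nat.ble 700416 i))
noncomputable def nd1243 (i : Nat) : Nat := (Bool.rec (motive := fun _ => Nat) ((Bool.rec (motive := fun _ => Nat) (nl2522 i) (nl2523 i) (Nat.ble 703488 i))) ((Bool.rec (motive := fun _ => Nat) (nl2524 i) (nl2525 i) (Nat.ble 705536 i))) (Nat.ble 704512 i))
noncomputable def nd1244 (i : Nat) : Nat := (Bool.rec (motive := fun _ => Nat) (nl2526 i) ((Bool.rec (motive := fun _ => Nat) (nl2527 i) (nl2528 i) (Nat.ble 708608 i))) (Nat.ble 707584 i))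
noncomputable def nd1245 (i : Nat) : Nat := (Bool.rec (motive := fun _ => Nat) ((Bool.rec (motive := fun _ => Nat) (nl2529 i) (nl2530 i) (Nat.ble 710656 i))) ((Bool.rec (motive := fun _ => Nat) (nl2531 i) (nl2532 i) (Nat.ble 712704 i))) (Nat.ble 711680 i))
noncomputable def nd1241 (i : Nat) : Nat := (Bool.rec (motive := fun _ => Nat) ((Bool.rec (motive := fun _ => Nat) (nd1242 i) (nd1243 i) (Nat.ble 702464 i))) ((Bool.rec (motive := fun _ => Nat) (nd1244 i) (nd1245 i) (Nat.ble 709632 i))) (Nat.ble 706560 i))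
noncomputable def nd1247 (i : Nat) : Nat := (Bool.rec (motive := fun _ => Nat) (nl2533 i) ((Bool.rec (motive := fun _ => Nat) (nl2534 i) (nl2535 i) (Nat.ble 715776 i))) (Nat.ble 714752 i))
noncomputable def nd1248 (i : Nat) : Nat := (Bool.rec (motive := fun _ => Nat) ((Bool.rec (motive := fun _ => Nat) (nl2536 i) (nl2537 i) (Nat.ble 717824 i))) ((Bool.rec (motive := fun _ => Nat) (nl2538 i) (nl2539 i) (Nat.ble 719872 i))) (Nat.ble 718848 i))
noncomputable def nd1249 (i : Nat) : Nat := (Bool.rec (motive := fun _ => Nat) (nl2540 i) ((Bool.rec (motive := fun _ => Nat) (nl2541 i) (nl2542 i) (Nat.ble 722944 i))) (Nat.ble 721920 i))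
noncomputable def nd1250 (i : Nat) : Nat := (Bool.rec (motive := fun _ => Nat) ((Bool.rec (motive := fun _ => Nat) (nl2543 i) (nl2544 i) (Nat.ble 724992 i))) ((Bool.rec (motive := fun _ => Nat) (nl2545 i) (nl2546 i) (Nat.ble 727040 i))) (Nat.ble 726016 i))
noncomputable def nd1246 (i : Nat) : Nat := (Bool.rec (motive := fun _ => Nat) ((Bool.rec (motive := fun _ => Nat) (nd1247 i) (nd1248 i) (Nat.ble 716800 i))) ((Bool.rec (motive := fun _ => Nat) (nd1249 i) (nd1250 i) (Nat.ble 723968 i))) (Nat.ble 720896 i))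
noncomputable def nd1252 (i : Nat) : Nat := (Bool.rec (motive := fun _ => Nat) (nl2547 i) ((Bool.rec (motive := fun _ => Nat) (nl2548 i) (nl2549 i) (Nat.ble 730112 i))) (Nat.ble 729088 i))
noncomputable def nd1253 (i : Nat) : Nat := (Bool.rec (motive := fun _ => Nat) ((Bool.rec (motive := fun _ => Nat) (nl2550 i) (nl2551 i) (Nat.ble 732160 i))) ((Bool.rec (motive := fun _ => Nat) (nl2552 i) (nl2553 i) (Nat.ble 734208 i))) (Nat.ble 733184 i))
noncomputable def nd1254 (i : Nat) : Nat := (Bool.rec (motive := fun _ => Nat) (nl2554 i) ((Bool.rec (motive := fun _ => Nat) (nl2555 i) (nl2556 i) (Nat.ble 737280 i))) (Nat.ble 736256 i))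
noncomputable def nd1255 (i : Nat) : Nat := (Bool.rec (motive := fun _ => Nat) ((Bool.rec (motive := fun _ => Nat) (nl2557 i) (nl2558 i) (Nat.ble 739328 i))) ((Bool.rec (motive := fun _ => Nat) (nl2559 i) (nl2560 i) (Nat.ble 741376 i))) (Nat.ble 740352 i))
noncomputable def nd1251 (i : Nat) : Nat := (Bool.rec (motive := fun _ => Nat) ((Bool.rec (motive := fun _ => Nat) (nd1252 i) (nd1253 i) (Nat.ble 731136 i))) ((Bool.rec (motive := fun _ => Nat) (nd1254 i) (nd1255 i) (Nat.ble 738304 i))) (Nat.ble 735232 i))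
noncomputable def nd1257 (i : Nat) : Nat := (Bool.rec (motive := fun _ => Nat) (nl2561 i) ((Bool.rec (motive := fun _ => Nat) (nl2562 i) (nl2563 i) (Nat.ble 744448 i))) (Nat.ble 743424 i))
noncomputable def nd1258 (i : Nat) : Nat := (Bool.rec (motive := fun _ => Nat) ((Bool.rec (motive := fun _ => Nat) (nl2564 i) (nl2565 i) (Nat.ble 746496 i))) ((Bool.rec (motive := fun _ => Nat) (nl2566 i) (nl2567 i) (Nat.ble 748544 i))) (Nat.ble 747520 i))
noncomputable def nd1259 (i : Nat) : Nat := (Bool.rec (motive := fun _ => Nat) ((Bool.rec (motive := fun _ => Nat) (nl2568 i) (nl2569 i) (Nat.ble 750592 i))) ((Bool.rec (motive := fun _ => Nat) (nl2570 i) (nl2571 i) (Nat.ble 752640 i))) (Nat.ble 751616 i))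
noncomputable def nd1260 (i : Nat) : Nat := (Bool.rec (motive := fun _ => Nat) ((Bool.rec (motive := fun _ => Nat) (nl2572 i) (nl2573 i) (Nat.ble 754688 i))) ((Bool.rec (motive := fun _ => Nat) (nl2574 i) (nl2575 i) (Nat.ble 756736 i))) (Nat.ble 755712 i))
noncomputable def nd1256 (i : Nat) : Nat := (Bool.rec (motive := fun _ => Nat) ((Bool.rec (motive := fun _ => Nat) (nd1257 i) (nd1258 i) (Nat.ble 745472 i))) ((Bool.rec (motive := fun _ => Nat) (nd1259 i) (nd1260 i) (Nat.ble 753664 i))) (Nat.ble 749568 i))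
noncomputable def nd1240 (i : Nat) : Nat := (Bool.rec (motive := fun _ => Nat) ((Bool.rec (motive := fun _ => Nat) (nd1241 i) (nd1246 i) (Nat.ble 713728 i))) ((Bool.rec (motive := fun _ => Nat) (nd1251 i) (nd1256 i) (Nat.ble 742400 i))) (Nat.ble 728064 i))
noncomputable def nd1263 (i : Nat) : Nat := (Bool.rec (motive := fun _ => Nat) (nl2576 i) ((Bool.rec (motive := fun _ => Nat) (nl2577 i) (nl2578 i) (Nat.ble 759808 i))) (Nat.ble 758784 i))
noncomputable def nd1264 (i : Nat) : Nat := (Bool.rec (motive := fun _ => Nat) ((Bool.rec (motive := fun _ => Nat) (nl2579 i) (nl2580 i) (Nat.ble 761856 i))) ((Bool.rec (motive := fun _ => Nat) (nl2581 i) (nl2582 i) (Nat.ble 763904 i))) (Nat.ble 762880 i))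
noncomputable def nd1265 (i : Nat) : Nat := (Bool.rec (motive := fun _ => Nat) (nl2583 i) ((Bool.rec (motive := fun _ => Nat) (nl2584 i) (nl2585 i) (Nat.ble 766976 i))) (Nat.ble 765952 i))
noncomputable def nd1266 (i : Nat) : Nat := (Bool.rec (motive := fun _ => Nat) ((Bool.rec (motive := fun _ => Nat) (nl2586 i) (nl2587 i) (Nat.ble 769024 i))) ((Bool.rec (motive := fun _ => Nat) (nl2588 i) (nl2589 i) (Nat.ble 771072 i))) (Nat.ble 770048 i))
noncomputable def nd1262 (i : Nat) : Nat := (Bool.rec (motive := fun _ => Nat) ((Bool.rec (motive := fun _ => Nat) (nd1263 i) (nd1264 i) (Nat.ble 760832 i))) ((Bool.rec (motive := fun _ => Nat) (nd1265 i) (nd1266 i) (Nat.ble 768000 i))) (Nat.ble 764928 i))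
noncomputable def nd1268 (i : Nat) : Nat := (Bool.rec (motive := fun _ => Nat) (nl2590 i) ((Bool.rec (motive := fun _ => Nat) (nl2591 i) (nl2592 i) (Nat.ble 774144 i))) (Nat.ble 773120 i))
noncomputable def nd1269 (i : Nat) : Nat := (Bool.rec (motive := fun _ => Nat) ((Bool.rec (motive := fun _ => Nat) (nl2593 i) (nl2594 i) (Nat.ble 776192 i))) ((Bool.rec (motive := fun _ => Nat) (nl2595 i) (nl2596 i) (Nat.ble 778240 i))) (Nat.ble 777216 i))
noncomputable def nd1270 (i : Nat) : Nat := (Bool.rec (motive := fun _ => Nat) (nl2597 i) ((Bool.rec (motive := fun _ => Nat) (nl2598 i) (nl2599 i) (Nat.ble 781312 i))) (Nat.ble 780288 i))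
noncomputable def nd1271 (i : Nat) : Nat := (Bool.rec (motive := fun _ => Nat) ((Bool.rec (motive := fun _ => Nat) (nl2600 i) (nl2601 i) (Nat.ble 783360 i))) ((Bool.rec (motive := fun _ => Nat) (nl2602 i) (nl2603 i) (Nat.ble 785408 i))) (Nat.ble 784384 i))
noncomputable def nd1267 (i : Nat) : Nat := (Bool.rec (motive := fun _ => Nat) ((Bool.rec (motive := fun _ => Nat) (nd1268 i) (nd1269 i) (Nat.ble 775168 i))) ((Bool.rec (motive := fun _ => Nat) (nd1270 i) (nd1271 i) (Nat.ble 782336 i))) (Nat.ble 779264 i))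
noncomputable def nd1273 (i : Nat) : Nat := (Bool.rec (motive := fun _ => Nat) (nl2604 i) ((Bool.rec (motive := fun _ => Nat) (nl2605 i) (nl2606 i) (Nat.ble 788480 i))) (Nat.ble 787456 i))
noncomputable def nd1274 (i : Nat) : Nat := (Bool.rec (motive := fun _ => Nat) ((Bool.rec (motive := fun _ => Nat) (nl2607 i) (nl2608 i) (Nat.ble 790528 i))) ((Bool.rec (motive := fun _ => Nat) (nl2609 i) (nl2610 i) (Nat.ble 792576 i))) (Nat.ble 791552 i))
noncomputable def nd1275 (i : Nat) : Nat := (Bool.rec (motive := fun _ => Nat) (nl2611 i) ((Bool.rec (motive := fun _ => Nat) (nl2612 i) (nl2613 i) (Nat.ble 795648 i))) (Nat.ble 794624 i))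
noncomputable def nd1276 (i : Nat) : Nat := (Bool.rec (motive := fun _ => Nat) ((Bool.rec (motive := fun _ => Nat) (nl2614 i) (nl2615 i) (Nat.ble 797696 i))) ((Bool.rec (motive := fun _ => Nat) (nl2616 i) (nl2617 i) (Nat.ble 799744 i))) (Nat.ble 798720 i))
noncomputable def nd1272 (i : Nat) : Nat := (Bool.rec (motive := fun _ => Nat) ((Bool.rec (motive := fun _ => Nat) (nd1273 i) (nd1274 i) (Nat.ble 789504 i))) ((Bool.rec (motive := fun _ => Nat) (nd1275 i) (nd1276 i) (Nat.ble 796672 i))) (Nat.ble 793600 i))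
noncomputable def nd1278 (i : Nat) : Nat := (Bool.rec (motive := fun _ => Nat) (nl2618 i) ((Bool.rec (motive := fun _ => Nat) (nl2619 i) (nl2620 i) (Nat.ble 802816 i))) (Nat.ble 801792 i))
noncomputable def nd1279 (i : Nat) : Nat := (Bool.rec (motive := fun _ => Nat) ((Bool.rec (motive := fun _ => Nat) (nl2621 i) (nl2622 i) (Nat.ble 804864 i))) ((Bool.rec (motive := fun _ => Nat) (nl2623 i) (nl2624 i) (Nat.ble 806912 i))) (Nat.ble 805888 i))
noncomputable def nd1280 (i : Nat) : Nat := (Bool.rec (motive := fun _ => Nat) ((Bool.rec (motive := fun _ => Nat) (nl2625 i) (nl2626 i) (Nat.ble 808960 i))) ((Bool.rec (motive := fun _ => Nat) (nl2627 i) (nl2628 i) (Nat.ble 811008 i))) (Nat.ble 809984 i))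
noncomputable def nd1281 (i : Nat) : Nat := (Bool.rec (motive := fun _ => Nat) ((Bool.rec (motive := fun _ => Nat) (nl2629 i) (nl2630 i) (Nat.ble 813056 i))) ((Bool.rec (motive := fun _ => Nat) (nl2631 i) (nl2632 i) (Nat.ble 815104 i))) (Nat.ble 814080 i))
noncomputable def nd1277 (i : Nat) : Nat := (Bool.rec (motive := fun _ => Nat) ((Bool.rec (motive := fun _ => Nat) (nd1278 i) (nd1279 i) (Nat.ble 803840 i))) ((Bool.rec (motive := fun _ => Nat) (nd1280 i) (nd1281 i) (Nat.ble 812032 i))) (Nat.ble 807936 i))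
noncomputable def nd1261 (i : Nat) : Nat := (Bool.rec (motive := fun _ => Nat) ((Bool.rec (motive := fun _ => Nat) (nd1262 i) (nd1267 i) (Nat.ble 772096 i))) ((Bool.rec (motive := fun _ => Nat) (nd1272 i) (nd1277 i) (Nat.ble 800768 i))) (Nat.ble 786432 i))
noncomputable def nd1284 (i : Nat) : Nat := (Bool.rec (motive := fun _ => Nat) (nl2633 i) ((Bool.rec (motive := fun _ => Nat) (nl2634 i) (nl2635 i) (Nat.ble 818176 i))) (Nat.ble 817152 i))
noncomputable def nd1285 (i : Nat) : Nat := (Bool.rec (motive := fun _ => Nat) ((Bool.rec (motive := fun _ => Nat) (nl2636 i) (nl2637 i) (Nat.ble 820224 i))) ((Bool.rec (motive := fun _ => Nat) (nl2638 i) (nl2639 i) (Nat.ble 822272 i))) (Nat.ble 821248 i))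
noncomputable def nd1286 (i : Nat) : Nat := (Bool.rec (motive := fun _ => Nat) (nl2640 i) ((Bool.rec (motive := fun _ => Nat) (nl2641 i) (nl2642 i) (Nat.ble 825344 i))) (Nat.ble 824320 i))
noncomputable def nd1287 (i : Nat) : Nat := (Bool.rec (motive := fun _ => Nat) ((Bool.rec (motive := fun _ => Nat) (nl2643 i) (nl2644 i) (Nat.ble 827392 i))) ((Bool.rec (motive := fun _ => Nat) (nl2645 i) (nl2646 i) (Nat.ble 829440 i))) (Nat.ble 828416 i))
noncomputable def nd1283 (i : Nat) : Nat := (Bool.rec (motive := fun _ => Nat) ((Bool.rec (motive := fun _ => Nat) (nd1284 i) (nd1285 i) (Nat.ble 819200 i))) ((Bool.rec (motive := fun _ => Nat) (nd1286 i) (nd1287 i) (Nat.ble 826368 i))) (Nat.ble 823296 i))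
noncomputable def nd1289 (i : Nat) : Nat := (Bool.rec (motive := fun _ => Nat) (nl2647 i) ((Bool.rec (motive := fun _ => Nat) (nl2648 i) (nl2649 i) (Nat.ble 832512 i))) (Nat.ble 831488 i))
noncomputable def nd1290 (i : Nat) : Nat := (Bool.rec (motive := fun _ => Nat) ((Bool.rec (motive := fun _ => Nat) (nl2650 i) (nl2651 i) (Nat.ble 834560 i))) ((Bool.rec (motive := fun _ => Nat) (nl2652 i) (nl2653 i) (Nat.ble 836608 i))) (Nat.ble 835584 i))
noncomputable def nd1291 (i : Nat) : Nat := (Bool.rec (motive := fun _ => Nat) (nl2654 i) ((Bool.rec (motive := fun _ => Nat) (nl2655 i) (nl2656 i) (Nat.ble 839680 i))) (Nat.ble 838656 i))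
noncomputable def nd1292 (i : Nat) : Nat := (Bool.rec (motive := fun _ => Nat) ((Bool.rec (motive := fun _ => Nat) (nl2657 i) (nl2658 i) (Nat.ble 841728 i))) ((Bool.rec (motive := fun _ => Nat) (nl2659 i) (nl2660 i) (Nat.ble 843776 i))) (Nat.ble 842752 i))
noncomputable def nd1288 (i : Nat) : Nat := (Bool.rec (motive := fun _ => Nat) ((Bool.rec (motive := fun _ => Nat) (nd1289 i) (nd1290 i) (Nat.ble 833536 i))) ((Bool.rec (motive := fun _ => Nat) (nd1291 i) (nd1292 i) (Nat.ble 840704 i))) (Nat.ble 837632 i))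
noncomputable def nd1294 (i : Nat) : Nat := (Bool.rec (motive := fun _ => Nat) (nl2661 i) ((Bool.rec (motive := fun _ => Nat) (nl2662 i) (nl2663 i) (Nat.ble 846848 i))) (Nat.ble 845824 i))
noncomputable def nd1295 (i : Nat) : Nat := (Bool.rec (motive := fun _ => Nat) ((Bool.rec (motive := fun _ => Nat) (nl2664 i) (nl2665 i) (Nat.ble 848896 i))) ((Bool.rec (motive := fun _ => Nat) (nl2666 i) (nl2667 i) (Nat.ble 850944 i))) (Nat.ble 849920 i))
noncomputable def nd1296 (i : Nat) : Nat := (Bool.rec (motive := fun _ => Nat) (nl2668 i) ((Bool.rec (motive := fun _ => Nat) (nl2669 i) (nl2670 i) (Nat.ble 854016 i))) (Nat.ble 852992 i))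
noncomputable def nd1297 (i : Nat) : Nat := (Bool.rec (motive := fun _ => Nat) ((Bool.rec (motive := fun _ => Nat) (nl2671 i) (nl2672 i) (Nat.ble 856064 i))) ((Bool.rec (motive := fun _ => Nat) (nl2673 i) (nl2674 i) (Nat.ble 858112 i))) (Nat.ble 857088 i))
noncomputable def nd1293 (i : Nat) : Nat := (Bool.rec (motive := fun _ => Nat) ((Bool.rec (motive := fun _ => Nat) (nd1294 i) (nd1295 i) (Nat.ble 847872 i))) ((Bool.rec (motive := fun _ => Nat) (nd1296 i) (nd1297 i) (Nat.ble 855040 i))) (Nat.ble 851968 i))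
noncomputable def nd1299 (i : Nat) : Nat := (Bool.rec (motive := fun _ => Nat) (nl2675 i) ((Bool.rec (motive := fun _ => Nat) (nl2676 i) (nl2677 i) (Nat.ble 861184 i))) (Nat.ble 860160 i))
noncomputable def nd1300 (i : Nat) : Nat := (Bool.rec (motive := fun _ => Nat) ((Bool.rec (motive := fun _ => Nat) (nl2678 i) (nl2679 i) (Nat.ble 863232 i))) ((Bool.rec (motive := fun _ => Nat) (nl2680 i) (nl2681 i) (Nat.ble 865280 i))) (Nat.ble 864256 i))
noncomputable def nd1301 (i : Nat) : Nat := (Bool.rec (motive := fun _ => Nat) ((Bool.rec (motive := fun _ => Nat) (nl2682 i) (nl2683 i) (Nat.ble 867328 i))) ((Bool.rec (motive := fun _ => Nat) (nl2684 i) (nl2685 i) (Nat.ble 869376 i))) (Nat.ble 868352 i))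
noncomputable def nd1302 (i : Nat) : Nat := (Bool.rec (motive := fun _ => Nat) ((Bool.rec (motive := fun _ => Nat) (nl2686 i) (nl2687 i) (Nat.ble 871424 i))) ((Bool.rec (motive := fun _ => Nat) (nl2688 i) (nl2689 i) (Nat.ble 873472 i))) (Nat.ble 872448 i))
noncomputable def nd1298 (i : Nat) : Nat := (Bool.rec (motive := fun _ => Nat) ((Bool.rec (motive := fun _ => Nat) (nd1299 i) (nd1300 i) (Nat.ble 862208 i))) ((Bool.rec (motive := fun _ => Nat) (nd1301 i) (nd1302 i) (Nat.ble 870400 i))) (Nat.ble 866304 i))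
noncomputable def nd1282 (i : Nat) : Nat := (Bool.rec (motive := fun _ => Nat) ((Bool.rec (motive := fun _ => Nat) (nd1283 i) (nd1288 i) (Nat.ble 830464 i))) ((Bool.rec (motive := fun _ => Nat) (nd1293 i) (nd1298 i) (Nat.ble 859136 i))) (Nat.ble 844800 i))
noncomputable def nd1305 (i : Nat) : Nat := (Bool.rec (motive := fun _ => Nat) (nl2690 i) ((Bool.rec (motive := fun _ => Nat) (nl2691 i) (nl2692 i) (Nat.ble 876544 i))) (Nat.ble 875520 i))
noncomputable def nd1306 (i : Nat) : Nat := (Bool.rec (motive := fun _ => Nat) ((Bool.rec (motive := fun _ => Nat) (nl2693 i) (nl2694 i) (Nat.ble 878592 i))) ((Bool.rec (motive := fun _ => Nat) (nl2695 i) (nl2696 i) (Nat.ble 880640 i))) (Nat.ble 879616 i))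
noncomputable def nd1307 (i : Nat) : Nat := (Bool.rec (motive := fun _ => Nat) (nl2697 i) ((Bool.rec (motive := fun _ => Nat) (nl2698 i) (nl2699 i) (Nat.ble 883712 i))) (Nat.ble 882688 i))
noncomputable def nd1308 (i : Nat) : Nat := (Bool.rec (motive := fun _ => Nat) ((Bool.rec (motive := fun _ => Nat) (nl2700 i) (nl2701 i) (Nat.ble 885760 i))) ((Bool.rec (motive := fun _ => Nat) (nl2702 i) (nl2703 i) (Nat.ble 887808 i))) (Nat.ble 886784 i))
noncomputable def nd1304 (i : Nat) : Nat := (Bool.rec (motive := fun _ => Nat) ((Bool.rec (motive := fun _ => Nat) (nd1305 i) (nd1306 i) (Nat.ble 877568 i))) ((Bool.rec (motive := fun _ => Nat) (nd1307 i) (nd1308 i) (Nat.ble 884736 i))) (Nat.ble 881664 i))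
noncomputable def nd1310 (i : Nat) : Nat := (Bool.rec (motive := fun _ => Nat) (nl2704 i) ((Bool.rec (motive := fun _ => Nat) (nl2705 i) (nl2706 i) (Nat.ble 890880 i))) (Nat.ble 889856 i))
noncomputable def nd1311 (i : Nat) : Nat := (Bool.rec (motive := fun _ => Nat) ((Bool.rec (motive := fun _ => Nat) (nl2707 i) (nl2708 i) (Nat.ble 892928 i))) ((Bool.rec (motive := fun _ => Nat) (nl2709 i) (nl2710 i) (Nat.ble 894976 i))) (Nat.ble 893952 i))
noncomputable def nd1312 (i : Nat) : Nat := (Bool.rec (motive := fun _ => Nat) (nl2711 i) ((Bool.rec (motive := fun _ => Nat) (nl2712 i) (nl2713 i) (Nat.ble 898048 i))) (Nat.ble 897024 i))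
noncomputable def nd1313 (i : Nat) : Nat := (Bool.rec (motive := fun _ => Nat) ((Bool.rec (motive := fun _ => Nat) (nl2714 i) (nl2715 i) (Nat.ble 900096 i))) ((Bool.rec (motive := fun _ => Nat) (nl2716 i) (nl2717 i) (Nat.ble 902144 i))) (Nat.ble 901120 i))
noncomputable def nd1309 (i : Nat) : Nat := (Bool.rec (motive := fun _ => Nat) ((Bool.rec (motive := fun _ => Nat) (nd1310 i) (nd1311 i) (Nat.ble 891904 i))) ((Bool.rec (motive := fun _ => Nat) (nd1312 i) (nd1313 i) (Nat.ble 899072 i))) (Nat.ble 896000 i))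
noncomputable def nd1315 (i : Nat) : Nat := (Bool.rec (motive := fun _ => Nat) (nl2718 i) ((Bool.rec (motive := fun _ => Nat) (nl2719 i) (nl2720 i) (Nat.ble 905216 i))) (Nat.ble 904192 i))
noncomputable def nd1316 (i : Nat) : Nat := (Bool.rec (motive := fun _ => Nat) ((Bool.rec (motive := fun _ => Nat) (nl2721 i) (nl2722 i) (Nat.ble 907264 i))) ((Bool.rec (motive := fun _ => Nat) (nl2723 i) (nl2724 i) (Nat.ble 909312 i))) (Nat.ble 908288 i))
noncomputable def nd1317 (i : Nat) : Nat := (Bool.rec (motive := fun _ => Nat) (nl2725 i) ((Bool.rec (motive := fun _ => Nat) (nl2726 i) (nl2727 i) (Nat.ble 912384 i))) (Nat.ble 911360 i))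
noncomputable def nd1318 (i : Nat) : Nat := (Bool.rec (motive := fun _ => Nat) ((Bool.rec (motive := fun _ => Nat) (nl2728 i) (nl2729 i) (Nat.ble 914432 i))) ((Bool.rec (motive := fun _ => Nat) (nl2730 i) (nl2731 i) (Nat.ble 916480 i))) (Nat.ble 915456 i))
noncomputable def nd1314 (i : Nat) : Nat := (Bool.rec (motive := fun _ => Nat) ((Bool.rec (motive := fun _ => Nat) (nd1315 i) (nd1316 i) (Nat.ble 906240 i))) ((Bool.rec (motive := fun _ => Nat) (nd1317 i) (nd1318 i) (Nat.ble 913408 i))) (Nat.ble 910336 i))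
noncomputable def nd1320 (i : Nat) : Nat := (Bool.rec (motive := fun _ => Nat) (nl2732 i) ((Bool.rec (motive := fun _ => Nat) (nl2733 i) (nl2734 i) (Nat.ble 919552 i))) (Nat.ble 918528 i))
noncomputable def nd1321 (i : Nat) : Nat := (Bool.rec (motive := fun _ => Nat) ((Bool.rec (motive := fun _ => Nat) (nl2735 i) (nl2736 i) (Nat.ble 921600 i))) ((Bool.rec (motive := fun _ => Nat) (nl2737 i) (nl2738 i) (Nat.ble 923648 i))) (Nat.ble 922624 i))
noncomputable def nd1322 (i : Nat) : Nat := (Bool.rec (motive := fun _ => Nat) ((Bool.rec (motive := fun _ => Nat) (nl2739 i) (nl2740 i) (Nat.ble 925696 i))) ((Bool.rec (motive := fun _ => Nat) (nl2741 i) (nl2742 i) (Nat.ble 927744 i))) (Nat.ble 926720 i))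
noncomputable def nd1323 (i : Nat) : Nat := (Bool.rec (motive := fun _ => Nat) ((Bool.rec (motive := fun _ => Nat) (nl2743 i) (nl2744 i) (Nat.ble 929792 i))) ((Bool.rec (motive := fun _ => Nat) (nl2745 i) (nl2746 i) (Nat.ble 931840 i))) (Nat.ble 930816 i))
noncomputable def nd1319 (i : Nat) : Nat := (Bool.rec (motive := fun _ => Nat) ((Bool.rec (motive := fun _ => Nat) (nd1320 i) (nd1321 i) (Nat.ble 920576 i))) ((Bool.rec (motive := fun _ => Nat) (nd1322 i) (nd1323 i) (Nat.ble 928768 i))) (Nat.ble 924672 i))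
noncomputable def nd1303 (i : Nat) : Nat := (Bool.rec (motive := fun _ => Nat) ((Bool.rec (motive := fun _ => Nat) (nd1304 i) (nd1309 i) (Nat.ble 888832 i))) ((Bool.rec (motive := fun _ => Nat) (nd1314 i) (nd1319 i) (Nat.ble 917504 i))) (Nat.ble 903168 i))
noncomputable def nd1239 (i : Nat) : Nat := (Bool.rec (motive := fun _ => Nat) ((Bool.rec (motive := fun _ => Nat) (nd1240 i) (nd1261 i) (Nat.ble 757760 i))) ((Bool.rec (motive := fun _ => Nat) (nd1282 i) (nd1303 i) (Nat.ble 874496 i))) (Nat.ble 816128 i))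
noncomputable def nd983 (i : Nat) : Nat := (Bool.rec (motive := fun _ => Nat) ((Bool.rec (motive := fun _ => Nat) (nd984 i) (nd1069 i) (Nat.ble 232448 i))) ((Bool.rec (motive := fun _ => Nat) (nd1154 i) (nd1239 i) (Nat.ble 699392 i))) (Nat.ble 465920 i))
noncomputable def nd1328 (i : Nat) : Nat := (Bool.rec (motive := fun _ => Nat) (nl2747 i) ((Bool.rec (motive := fun _ => Nat) (nl2748 i) (nl2749 i) (Nat.ble 934912 i))) (Nat.ble 933888 i))
noncomputable def nd1329 (i : Nat) : Nat := (Bool.rec (motive := fun _ => Nat) ((Bool.rec (motive := fun _ => Nat) (nl2750 i) (nl2751 i) (Nat.ble 936960 i))) ((Bool.rec (motive := fun _ => Nat) (nl2752 i) (nl2753 i) (Nat.ble 939008 i))) (Nat.ble 937984 i))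
noncomputable def nd1330 (i : Nat) : Nat := (Bool.rec (motive := fun _ => Nat) (nl2754 i) ((Bool.rec (motive := fun _ => Nat) (nl2755 i) (nl2756 i) (Nat.ble 942080 i))) (Nat.ble 941056 i))
noncomputable def nd1331 (i : Nat) : Nat := (Bool.rec (motive := fun _ => Nat) ((Bool.rec (motive := fun _ => Nat) (nl2757 i) (nl2758 i) (Nat.ble 944128 i))) ((Bool.rec (motive := fun _ => Nat) (nl2759 i) (nl2760 i) (Nat.ble 946176 i))) (Nat.ble 945152 i))
noncomputable def nd1327 (i : Nat) : Nat := (Bool.rec (motive := fun _ => Nat) ((Bool.rec (motive := fun _ => Nat) (nd1328 i) (nd1329 i) (Nat.ble 935936 i))) ((Bool.rec (motive := fun _ => Nat) (nd1330 i) (nd1331 i) (Nat.ble 943104 i))) (Nat.ble 940032 i))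
noncomputable def nd1333 (i : Nat) : Nat := (Bool.rec (motive := fun _ => Nat) (nl2761 i) ((Bool.rec (motive := fun _ => Nat) (nl2762 i) (nl2763 i) (Nat.ble 949248 i))) (Nat.ble 948224 i))
noncomputable def nd1334 (i : Nat) : Nat := (Bool.rec (motive := fun _ => Nat) ((Bool.rec (motive := fun _ => Nat) (nl2764 i) (nl2765 i) (Nat.ble 951296 i))) ((Bool.rec (motive := fun _ => Nat) (nl2766 i) (nl2767 i) (Nat.ble 953344 i))) (Nat.ble 952320 i))
noncomputable def nd1335 (i : Nat) : Nat := (Bool.rec (motive := fun _ => Nat) (nl2768 i) ((Bool.rec (motive := fun _ => Nat) (nl2769 i) (nl2770 i) (Nat.ble 956416 i))) (Nat.ble 955392 i))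
noncomputable def nd1336 (i : Nat) : Nat := (Bool.rec (motive := fun _ => Nat) ((Bool.rec (motive := fun _ => Nat) (nl2771 i) (nl2772 i) (Nat.ble 958464 i))) ((Bool.rec (motive := fun _ => Nat) (nl2773 i) (nl2774 i) (Nat.ble 960512 i))) (Nat.ble 959488 i))
noncomputable def nd1332 (i : Nat) : Nat := (Bool.rec (motive := fun _ => Nat) ((Bool.rec (motive := fun _ => Nat) (nd1333 i) (nd1334 i) (Nat.ble 950272 i))) ((Bool.rec (motive := fun _ => Nat) (nd1335 i) (nd1336 i) (Nat.ble 957440 i))) (Nat.ble 954368 i))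
noncomputable def nd1338 (i : Nat) : Nat := (Bool.rec (motive := fun _ => Nat) (nl2775 i) ((Bool.rec (motive := fun _ => Nat) (nl2776 i) (nl2777 i) (Nat.ble 963584 i))) (Nat.ble 962560 i))
noncomputable def nd1339 (i : Nat) : Nat := (Bool.rec (motive := fun _ => Nat) ((Bool.rec (motive := fun _ => Nat) (nl2778 i) (nl2779 i) (Nat.ble 965632 i))) ((Bool.rec (motive := fun _ => Nat) (nl2780 i) (nl2781 i) (Nat.ble 967680 i))) (Nat.ble 966656 i))
noncomputable def nd1340 (i : Nat) : Nat := (Bool.rec (motive := fun _ => Nat) (nl2782 i) ((Bool.rec (motive := fun _ => Nat) (nl2783 i) (nl2784 i) (Nat.ble 970752 i))) (Nat.ble 969728 i))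
noncomputable def nd1341 (i : Nat) : Nat := (Bool.rec (motive := fun _ => Nat) ((Bool.rec (motive := fun _ => Nat) (nl2785 i) (nl2786 i) (Nat.ble 972800 i))) ((Bool.rec (motive := fun _ => Nat) (nl2787 i) (nl2788 i) (Nat.ble 974848 i))) (Nat.ble 973824 i))
noncomputable def nd1337 (i : Nat) : Nat := (Bool.rec (motive := fun _ => Nat) ((Bool.rec (motive := fun _ => Nat) (nd1338 i) (nd1339 i) (Nat.ble 964608 i))) ((Bool.rec (motive := fun _ => Nat) (nd1340 i) (nd1341 i) (Nat.ble 971776 i))) (Nat.ble 968704 i))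
noncomputable def nd1343 (i : Nat) : Nat := (Bool.rec (motive := fun _ => Nat) (nl2789 i) ((Bool.rec (motive := fun _ => Nat) (nl2790 i) (nl2791 i) (Nat.ble 977920 i))) (Nat.ble 976896 i))
noncomputable def nd1344 (i : Nat) : Nat := (Bool.rec (motive := fun _ => Nat) ((Bool.rec (motive := fun _ => Nat) (nl2792 i) (nl2793 i) (Nat.ble 979968 i))) ((Bool.rec (motive := fun _ => Nat) (nl2794 i) (nl2795 i) (Nat.ble 982016 i))) (Nat.ble 980992 i))
noncomputable def nd1345 (i : Nat) : Nat := (Bool.rec (motive := fun _ => Nat) (nl2796 i) ((Bool.rec (motive := fun _ => Nat) (nl2797 i) (nl2798 i) (Nat.ble 985088 i))) (Nat.ble 984064 i))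
noncomputable def nd1346 (i : Nat) : Nat := (Bool.rec (motive := fun _ => Nat) ((Bool.rec (motive := fun _ => Nat) (nl2799 i) (nl2800 i) (Nat.ble 987136 i))) ((Bool.rec (motive := fun _ => Nat) (nl2801 i) (nl2802 i) (Nat.ble 989184 i))) (Nat.ble 988160 i))
noncomputable def nd1342 (i : Nat) : Nat := (Bool.rec (motive := fun _ => Nat) ((Bool.rec (motive := fun _ => Nat) (nd1343 i) (nd1344 i) (Nat.ble 978944 i))) ((Bool.rec (motive := fun _ => Nat) (nd1345 i) (nd1346 i) (Nat.ble 986112 i))) (Nat.ble 983040 i))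
noncomputable def nd1326 (i : Nat) : Nat := (Bool.rec (motive := fun _ => Nat) ((Bool.rec (motive := fun _ => Nat) (nd1327 i) (nd1332 i) (Nat.ble 947200 i))) ((Bool.rec (motive := fun _ => Nat) (nd1337 i) (nd1342 i) (Nat.ble 975872 i))) (Nat.ble 961536 i))
noncomputable def nd1349 (i : Nat) : Nat := (Bool.rec (motive := fun _ => Nat) (nl2803 i) ((Bool.rec (motive := fun _ => Nat) (nl2804 i) (nl2805 i) (Nat.ble 992256 i))) (Nat.ble 991232 i))
noncomputable def nd1350 (i : Nat) : Nat := (Bool.rec (motive := fun _ => Nat) ((Bool.rec (motive := fun _ => Nat) (nl2806 i) (nl2807 i) (Nat.ble 994304 i))) ((Bool.rec (motive := fun _ => Nat) (nl2808 i) (nl2809 i) (Nat.ble 996352 i))) (Nat.ble 995328 i))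
noncomputable def nd1351 (i : Nat) : Nat := (Bool.rec (motive := fun _ => Nat) (nl2810 i) ((Bool.rec (motive := fun _ => Nat) (nl2811 i) (nl2812 i) (Nat.ble 999424 i))) (Nat.ble 998400 i))
noncomputable def nd1352 (i : Nat) : Nat := (Bool.rec (motive := fun _ => Nat) ((Bool.rec (motive := fun _ => Nat) (nl2813 i) (nl2814 i) (Nat.ble 1001472 i))) ((Bool.rec (motive := fun _ => Nat) (nl2815 i) (nl2816 i) (Nat.ble 1003520 i))) (Nat.ble 1002496 i))
noncomputable def nd1348 (i : Nat) : Nat := (Bool.rec (motive := fun _ => Nat) ((Bool.rec (motive := fun _ => Nat) (nd1349 i) (nd1350 i) (Nat.ble 993280 i))) ((Bool.rec (motive := fun _ => Nat) (nd1351 i) (nd1352 i) (Nat.ble 1000448 i))) (Nat.ble 997376 i))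
noncomputable def nd1354 (i : Nat) : Nat := (Bool.rec (motive := fun _ => Nat) (nl2817 i) ((Bool.rec (motive := fun _ => Nat) (nl2818 i) (nl2819 i) (Nat.ble 1006592 i))) (Nat.ble 1005568 i))
noncomputable def nd1355 (i : Nat) : Nat := (Bool.rec (motive := fun _ => Nat) ((Bool.rec (motive := fun _ => Nat) (nl2820 i) (nl2821 i) (Nat.ble 1008640 i))) ((Bool.rec (motive := fun _ => Nat) (nl2822 i) (nl2823 i) (Nat.ble 1010688 i))) (Nat.ble 1009664 i))
noncomputable def nd1356 (i : Nat) : Nat := (Bool.rec (motive := fun _ => Nat) (nl2824 i) ((Bool.rec (motive := fun _ => Nat) (nl2825 i) (nl2826 i) (Nat.ble 1013760 i))) (Nat.ble 1012736 i))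
noncomputable def nd1357 (i : Nat) : Nat := (Bool.rec (motive := fun _ => Nat) ((Bool.rec (motive := fun _ => Nat) (nl2827 i) (nl2828 i) (Nat.ble 1015808 i))) ((Bool.rec (motive := fun _ => Nat) (nl2829 i) (nl2830 i) (Nat.ble 1017856 i))) (Nat.ble 1016832 i))
noncomputable def nd1353 (i : Nat) : Nat := (Bool.rec (motive := fun _ => Nat) ((Bool.rec (motive := fun _ => Nat) (nd1354 i) (nd1355 i) (Nat.ble 1007616 i))) ((Bool.rec (motive := fun _ => Nat) (nd1356 i) (nd1357 i) (Nat.ble 1014784 i))) (Nat.ble 1011712 i))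
noncomputable def nd1359 (i : Nat) : Nat := (Bool.rec (motive := fun _ => Nat) (nl2831 i) ((Bool.rec (motive := fun _ => Nat) (nl2832 i) (nl2833 i) (Nat.ble 1020928 i))) (Nat.ble 1019904 i))
noncomputable def nd1360 (i : Nat) : Nat := (Bool.rec (motive := fun _ => Nat) ((Bool.rec (motive := fun _ => Nat) (nl2834 i) (nl2835 i) (Nat.ble 1022976 i))) ((Bool.rec (motive := fun _ => Nat) (nl2836 i) (nl2837 i) (Nat.ble 1025024 i))) (Nat.ble 1024000 i))
noncomputable def nd1361 (i : Nat) : Nat := (Bool.rec (motive := fun _ => Nat) (nl2838 i) ((Bool.rec (motive := fun _ => Nat) (nl2839 i) (nl2840 i) (Nat.ble 1028096 i))) (Nat.ble 1027072 i))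
noncomputable def nd1362 (i : Nat) : Nat := (Bool.rec (motive := fun _ => Nat) ((Bool.rec (motive := fun _ => Nat) (nl2841 i) (nl2842 i) (Nat.ble 1030144 i))) ((Bool.rec (motive := fun _ => Nat) (nl2843 i) (nl2844 i) (Nat.ble 1032192 i))) (Nat.ble 1031168 i))
noncomputable def nd1358 (i : Nat) : Nat := (Bool.rec (motive := fun _ => Nat) ((Bool.rec (motive := fun _ => Nat) (nd1359 i) (nd1360 i) (Nat.ble 1021952 i))) ((Bool.rec (motive := fun _ => Nat) (nd1361 i) (nd1362 i) (Nat.ble 1029120 i))) (Nat.ble 1026048 i))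
noncomputable def nd1364 (i : Nat) : Nat := (Bool.rec (motive := fun _ => Nat) (nl2845 i) ((Bool.rec (motive := fun _ => Nat) (nl2846 i) (nl2847 i) (Nat.ble 1035264 i))) (Nat.ble 1034240 i))
noncomputable def nd1365 (i : Nat) : Nat := (Bool.rec (motive := fun _ => Nat) ((Bool.rec (motive := fun _ => Nat) (nl2848 i) (nl2849 i) (Nat.ble 1037312 i))) ((Bool.rec (motive := fun _ => Nat) (nl2850 i) (nl2851 i) (Nat.ble 1039360 i))) (Nat.ble 1038336 i))
noncomputable def nd1366 (i : Nat) : Nat := (Bool.rec (motive := fun _ => Nat) ((Bool.rec (motive := fun _ => Nat) (nl2852 i) (nl2853 i) (Nat.ble 1041408 i))) ((Bool.rec (motive := fun _ => Nat) (nl2854 i) (nl2855 i) (Nat.ble 1043456 i))) (Nat.ble 1042432 i))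
noncomputable def nd1367 (i : Nat) : Nat := (Bool.rec (motive := fun _ => Nat) ((Bool.rec (motive := fun _ => Nat) (nl2856 i) (nl2857 i) (Nat.ble 1045504 i))) ((Bool.rec (motive := fun _ => Nat) (nl2858 i) (nl2859 i) (Nat.ble 1047552 i))) (Nat.ble 1046528 i))
noncomputable def nd1363 (i : Nat) : Nat := (Bool.rec (motive := fun _ => Nat) ((Bool.rec (motive := fun _ => Nat) (nd1364 i) (nd1365 i) (Nat.ble 1036288 i))) ((Bool.rec (motive := fun _ => Nat) (nd1366 i) (nd1367 i) (Nat.ble 1044480 i))) (Nat.ble 1040384 i))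
noncomputable def nd1347 (i : Nat) : Nat := (Bool.rec (motive := fun _ => Nat) ((Bool.rec (motive := fun _ => Nat) (nd1348 i) (nd1353 i) (Nat.ble 1004544 i))) ((Bool.rec (motive := fun _ => Nat) (nd1358 i) (nd1363 i) (Nat.ble 1033216 i))) (Nat.ble 1018880 i))
noncomputable def nd1370 (i : Nat) : Nat := (Bool.rec (motive := fun _ => Nat) (nl2860 i) ((Bool.rec (motive := fun _ => Nat) (nl2861 i) (nl2862 i) (Nat.ble 1050624 i))) (Nat.ble 1049600 i))
noncomputable def nd1371 (i : Nat) : Nat := (Bool.rec (motive := fun _ => Nat) ((Bool.rec (motive := fun _ => Nat) (nl2863 i) (nl2864 i) (Nat.ble 1052672 i))) ((Bool.rec (motive := fun _ => Nat) (nl2865 i) (nl2866 i) (Nat.ble 1054720 i))) (Nat.ble 1053696 i))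
noncomputable def nd1372 (i : Nat) : Nat := (Bool.rec (motive := fun _ => Nat) (nl2867 i) ((Bool.rec (motive := fun _ => Nat) (nl2868 i) (nl2869 i) (Nat.ble 1057792 i))) (Nat.ble 1056768 i))
noncomputable def nd1373 (i : Nat) : Nat := (Bool.rec (motive := fun _ => Nat) ((Bool.rec (motive := fun _ => Nat) (nl2870 i) (nl2871 i) (Nat.ble 1059840 i))) ((Bool.rec (motive := fun _ => Nat) (nl2872 i) (nl2873 i) (Nat.ble 1061888 i))) (Nat.ble 1060864 i))
noncomputable def nd1369 (i : Nat) : Nat := (Bool.rec (motive := fun _ => Nat) ((Bool.rec (motive := fun _ => Nat) (nd1370 i) (nd1371 i) (Nat.ble 1051648 i))) ((Bool.rec (motive := fun _ => Nat) (nd1372 i) (nd1373 i) (Nat.ble 1058816 i))) (Nat.ble 1055744 i))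
noncomputable def nd1375 (i : Nat) : Nat := (Bool.rec (motive := fun _ => Nat) (nl2874 i) ((Bool.rec (motive := fun _ => Nat) (nl2875 i) (nl2876 i) (Nat.ble 1064960 i))) (Nat.ble 1063936 i))
noncomputable def nd1376 (i : Nat) : Nat := (Bool.rec (motive := fun _ => Nat) ((Bool.rec (motive := fun _ => Nat) (nl2877 i) (nl2878 i) (Nat.ble 1067008 i))) ((Bool.rec (motive := fun _ => Nat) (nl2879 i) (nl2880 i) (Nat.ble 1069056 i))) (Nat.ble 1068032 i))
noncomputable def nd1377 (i : Nat) : Nat := (Bool.rec (motive := fun _ => Nat) (nl2881 i) ((Bool.rec (motive := fun _ => Nat) (nl2882 i) (nl2883 i) (Nat.ble 1072128 i))) (Nat.ble 1071104 i))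
noncomputable def nd1378 (i : Nat) : Nat := (Bool.rec (motive := fun _ => Nat) ((Bool.rec (motive := fun _ => Nat) (nl2884 i) (nl2885 i) (Nat.ble 1074176 i))) ((Bool.rec (motive := fun _ => Nat) (nl2886 i) (nl2887 i) (Nat.ble 1076224 i))) (Nat.ble 1075200 i))
noncomputable def nd1374 (i : Nat) : Nat := (Bool.rec (motive := fun _ => Nat) ((Bool.rec (motive := fun _ => Nat) (nd1375 i) (nd1376 i) (Nat.ble 1065984 i))) ((Bool.rec (motive := fun _ => Nat) (nd1377 i) (nd1378 i) (Nat.ble 1073152 i))) (Nat.ble 1070080 i))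
noncomputable def nd1380 (i : Nat) : Nat := (Bool.rec (motive := fun _ => Nat) (nl2888 i) ((Bool.rec (motive := fun _ => Nat) (nl2889 i) (nl2890 i) (Nat.ble 1079296 i))) (Nat.ble 1078272 i))
noncomputable def nd1381 (i : Nat) : Nat := (Bool.rec (motive := fun _ => Nat) ((Bool.rec (motive := fun _ => Nat) (nl2891 i) (nl2892 i) (Nat.ble 1081344 i))) ((Bool.rec (motive := fun _ => Nat) (nl2893 i) (nl2894 i) (Nat.ble 1083392 i))) (Nat.ble 1082368 i))
noncomputable def nd1382 (i : Nat) : Nat := (Bool.rec (motive := fun _ => Nat) (nl2895 i) ((Bool.rec (motive := fun _ => Nat) (nl2896 i) (nl2897 i) (Nat.ble 1086464 i))) (Nat.ble 1085440 i))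
noncomputable def nd1383 (i : Nat) : Nat := (Bool.rec (motive := fun _ => Nat) ((Bool.rec (motive := fun _ => Nat) (nl2898 i) (nl2899 i) (Nat.ble 1088512 i))) ((Bool.rec (motive := fun _ => Nat) (nl2900 i) (nl2901 i) (Nat.ble 1090560 i))) (Nat.ble 1089536 i))
noncomputable def nd1379 (i : Nat) : Nat := (Bool.rec (motive := fun _ => Nat) ((Bool.rec (motive := fun _ => Nat) (nd1380 i) (nd1381 i) (Nat.ble 1080320 i))) ((Bool.rec (motive := fun _ => Nat) (nd1382 i) (nd1383 i) (Nat.ble 1087488 i))) (Nat.ble 1084416 i))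
noncomputable def nd1385 (i : Nat) : Nat := (Bool.rec (motive := fun _ => Nat) (nl2902 i) ((Bool.rec (motive := fun _ => Nat) (nl2903 i) (nl2904 i) (Nat.ble 1093632 i))) (Nat.ble 1092608 i))
noncomputable def nd1386 (i : Nat) : Nat := (Bool.rec (motive := fun _ => Nat) ((Bool.rec (motive := fun _ => Nat) (nl2905 i) (nl2906 i) (Nat.ble 1095680 i))) ((Bool.rec (motive := fun _ => Nat) (nl2907 i) (nl2908 i) (Nat.ble 1097728 i))) (Nat.ble 1096704 i))
noncomputable def nd1387 (i : Nat) : Nat := (Bool.rec (motive := fun _ => Nat) ((Bool.rec (motive := fun _ => Nat) (nl2909 i) (nl2910 i) (Nat.ble 1099776 i))) ((Bool.rec (motive := fun _ => Nat) (nl2911 i) (nl2912 i) (Nat.ble 1101824 i))) (Nat.ble 1100800 i))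
noncomputable def nd1388 (i : Nat) : Nat := (Bool.rec (motive := fun _ => Nat) ((Bool.rec (motive := fun _ => Nat) (nl2913 i) (nl2914 i) (Nat.ble 1103872 i))) ((Bool.rec (motive := fun _ => Nat) (nl2915 i) (nl2916 i) (Nat.ble 1105920 i))) (Nat.ble 1104896 i))
noncomputable def nd1384 (i : Nat) : Nat := (Bool.rec (motive := fun _ => Nat) ((Bool.rec (motive := fun _ => Nat) (nd1385 i) (nd1386 i) (Nat.ble 1094656 i))) ((Bool.rec (motive := fun _ => Nat) (nd1387 i) (nd1388 i) (Nat.ble 1102848 i))) (Nat.ble 1098752 i))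
noncomputable def nd1368 (i : Nat) : Nat := (Bool.rec (motive := fun _ => Nat) ((Bool.rec (motive := fun _ => Nat) (nd1369 i) (nd1374 i) (Nat.ble 1062912 i))) ((Bool.rec (motive := fun _ => Nat) (nd1379 i) (nd1384 i) (Nat.ble 1091584 i))) (Nat.ble 1077248 i))
noncomputable def nd1391 (i : Nat) : Nat := (Bool.rec (motive := fun _ => Nat) (nl2917 i) ((Bool.rec (motive := fun _ => Nat) (nl2918 i) (nl2919 i) (Nat.ble 1108992 i))) (Nat.ble 1107968 i))
noncomputable def nd1392 (i : Nat) : Nat := (Bool.rec (motive := fun _ => Nat) ((Bool.rec (motive := fun _ => Nat) (nl2920 i) (nl2921 i) (Nat.ble 1111040 i))) ((Bool.rec (motive := fun _ => Nat) (nl2922 i) (nl2923 i) (Nat.ble 1113088 i))) (Nat.ble 1112064 i))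
noncomputable def nd1393 (i : Nat) : Nat := (Bool.rec (motive := fun _ => Nat) (nl2924 i) ((Bool.rec (motive := fun _ => Nat) (nl2925 i) (nl2926 i) (Nat.ble 1116160 i))) (Nat.ble 1115136 i))
noncomputable def nd1394 (i : Nat) : Nat := (Bool.rec (motive := fun _ => Nat) ((Bool.rec (motive := fun _ => Nat) (nl2927 i) (nl2928 i) (Nat.ble 1118208 i))) ((Bool.rec (motive := fun _ => Nat) (nl2929 i) (nl2930 i) (Nat.ble 1120256 i))) (Nat.ble 1119232 i))
noncomputable def nd1390 (i : Nat) : Nat := (Bool.rec (motive := fun _ => Nat) ((Bool.rec (motive := fun _ => Nat) (nd1391 i) (nd1392 i) (Nat.ble 1110016 i))) ((Bool.rec (motive := fun _ => Nat) (nd1393 i) (nd1394 i) (Nat.ble 1117184 i))) (Nat.ble 1114112 i))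
noncomputable def nd1396 (i : Nat) : Nat := (Bool.rec (motive := fun _ => Nat) (nl2931 i) ((Bool.rec (motive := fun _ => Nat) (nl2932 i) (nl2933 i) (Nat.ble 1123328 i))) (Nat.ble 1122304 i))
noncomputable def nd1397 (i : Nat) : Nat := (Bool.rec (motive := fun _ => Nat) ((Bool.rec (motive := fun _ => Nat) (nl2934 i) (nl2935 i) (Nat.ble 1125376 i))) ((Bool.rec (motive := fun _ => Nat) (nl2936 i) (nl2937 i) (Nat.ble 1127424 i))) (Nat.ble 1126400 i))
noncomputable def nd1398 (i : Nat) : Nat := (Bool.rec (motive := fun _ => Nat) (nl2938 i) ((Bool.rec (motive := fun _ => Nat) (nl2939 i) (nl2940 i) (Nat.ble 1130496 i))) (Nat.ble 1129472 i))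
noncomputable def nd1399 (i : Nat) : Nat := (Bool.rec (motive := fun _ => Nat) ((Bool.rec (motive := fun _ => Nat) (nl2941 i) (nl2942 i) (Nat.ble 1132544 i))) ((Bool.rec (motive := fun _ => Nat) (nl2943 i) (nl2944 i) (Nat.ble 1134592 i))) (Nat.ble 1133568 i))
noncomputable def nd1395 (i : Nat) : Nat := (Bool.rec (motive := fun _ => Nat) ((Bool.rec (motive := fun _ => Nat) (nd1396 i) (nd1397 i) (Nat.ble 1124352 i))) ((Bool.rec (motive := fun _ => Nat) (nd1398 i) (nd1399 i) (Nat.ble 1131520 i))) (Nat.ble 1128448 i))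
noncomputable def nd1401 (i : Nat) : Nat := (Bool.rec (motive := fun _ => Nat) (nl2945 i) ((Bool.rec (motive := fun _ => Nat) (nl2946 i) (nl2947 i) (Nat.ble 1137664 i))) (Nat.ble 1136640 i))
noncomputable def nd1402 (i : Nat) : Nat := (Bool.rec (motive := fun _ => Nat) ((Bool.rec (motive := fun _ => Nat) (nl2948 i) (nl2949 i) (Nat.ble 1139712 i))) ((Bool.rec (motive := fun _ => Nat) (nl2950 i) (nl2951 i) (Nat.ble 1141760 i))) (Nat.ble 1140736 i))
noncomputable def nd1403 (i : Nat) : Nat := (Bool.rec (motive := fun _ => Nat) (nl2952 i) ((Bool.rec (motive := fun _ => Nat) (nl2953 i) (nl2954 i) (Nat.ble 1144832 i))) (Nat.ble 1143808 i))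
noncomputable def nd1404 (i : Nat) : Nat := (Bool.rec (motive := fun _ => Nat) ((Bool.rec (motive := fun _ => Nat) (nl2955 i) (nl2956 i) (Nat.ble 1146880 i))) ((Bool.rec (motive := fun _ => Nat) (nl2957 i) (nl2958 i) (Nat.ble 1148928 i))) (Nat.ble 1147904 i))
noncomputable def nd1400 (i : Nat) : Nat := (Bool.rec (motive := fun _ => Nat) ((Bool.rec (motive := fun _ => Nat) (nd1401 i) (nd1402 i) (Nat.ble 1138688 i))) ((Bool.rec (motive := fun _ => Nat) (nd1403 i) (nd1404 i) (Nat.ble 1145856 i))) (Nat.ble 1142784 i))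
noncomputable def nd1406 (i : Nat) : Nat := (Bool.rec (motive := fun _ => Nat) (nl2959 i) ((Bool.rec (motive := fun _ => Nat) (nl2960 i) (nl2961 i) (Nat.ble 1152000 i))) (Nat.ble 1150976 i))
noncomputable def nd1407 (i : Nat) : Nat := (Bool.rec (motive := fun _ => Nat) ((Bool.rec (motive := fun _ => Nat) (nl2962 i) (nl2963 i) (Nat.ble 1154048 i))) ((Bool.rec (motive := fun _ => Nat) (nl2964 i) (nl2965 i) (Nat.ble 1156096 i))) (Nat.ble 1155072 i))
noncomputable def nd1408 (i : Nat) : Nat := (Bool.rec (motive := fun _ => Nat) ((Bool.rec (motive := fun _ => Nat) (nl2966 i) (nl2967 i) (Nat.ble 1158144 i))) ((Bool.rec (motive := fun _ => Nat) (nl2968 i) (nl2969 i) (Nat.ble 1160192 i))) (Nat.ble 1159168 i))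
noncomputable def nd1409 (i : Nat) : Nat := (Bool.rec (motive := fun _ => Nat) ((Bool.rec (motive := fun _ => Nat) (nl2970 i) (nl2971 i) (Nat.ble 1162240 i))) ((Bool.rec (motive := fun _ => Nat) (nl2972 i) (nl2973 i) (Nat.ble 1164288 i))) (Nat.ble 1163264 i))
noncomputable def nd1405 (i : Nat) : Nat := (Bool.rec (motive := fun _ => Nat) ((Bool.rec (motive := fun _ => Nat) (nd1406 i) (nd1407 i) (Nat.ble 1153024 i))) ((Bool.rec (motive := fun _ => Nat) (nd1408 i) (nd1409 i) (Nat.ble 1161216 i))) (Nat.ble 1157120 i))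
noncomputable def nd1389 (i : Nat) : Nat := (Bool.rec (motive := fun _ => Nat) ((Bool.rec (motive := fun _ => Nat) (nd1390 i) (nd1395 i) (Nat.ble 1121280 i))) ((Bool.rec (motive := fun _ => Nat) (nd1400 i) (nd1405 i) (Nat.ble 1149952 i))) (Nat.ble 1135616 i))
noncomputable def nd1325 (i : Nat) : Nat := (Bool.rec (motive := fun _ => Nat) ((Bool.rec (motive := fun _ => Nat) (nd1326 i) (nd1347 i) (Nat.ble 990208 i))) ((Bool.rec (motive := fun _ => Nat) (nd1368 i) (nd1389 i) (Nat.ble 1106944 i))) (Nat.ble 1048576 i))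
noncomputable def nd1413 (i : Nat) : Nat := (Bool.rec (motive := fun _ => Nat) (nl2974 i) ((Bool.rec (motive := fun _ => Nat) (nl2975 i) (nl2976 i) (Nat.ble 1167360 i))) (Nat.ble 1166336 i))
noncomputable def nd1414 (i : Nat) : Nat := (Bool.rec (motive := fun _ => Nat) ((Bool.rec (motive := fun _ => Nat) (nl2977 i) (nl2978 i) (Nat.ble 1169408 i))) ((Bool.rec (motive := fun _ => Nat) (nl2979 i) (nl2980 i) (Nat.ble 1171456 i))) (Nat.ble 1170432 i))
noncomputable def nd1415 (i : Nat) : Nat := (Bool.rec (motive := fun _ => Nat) (nl2981 i) ((Bool.rec (motive := fun _ => Nat) (nl2982 i) (nl2983 i) (Nat.ble 1174528 i))) (Nat.ble 1173504 i))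
noncomputable def nd1416 (i : Nat) : Nat := (Bool.rec (motive := fun _ => Nat) ((Bool.rec (motive := fun _ => Nat) (nl2984 i) (nl2985 i) (Nat.ble 1176576 i))) ((Bool.rec (motive := fun _ => Nat) (nl2986 i) (nl2987 i) (Nat.ble 1178624 i))) (Nat.ble 1177600 i))
noncomputable def nd1412 (i : Nat) : Nat := (Bool.rec (motive := fun _ => Nat) ((Bool.rec (motive := fun _ => Nat) (nd1413 i) (nd1414 i) (Nat.ble 1168384 i))) ((Bool.rec (motive := fun _ => Nat) (nd1415 i) (nd1416 i) (Nat.ble 1175552 i))) (Nat.ble 1172480 i))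
noncomputable def nd1418 (i : Nat) : Nat := (Bool.rec (motive := fun _ => Nat) (nl2988 i) ((Bool.rec (motive := fun _ => Nat) (nl2989 i) (nl2990 i) (Nat.ble 1181696 i))) (Nat.ble 1180672 i))
noncomputable def nd1419 (i : Nat) : Nat := (Bool.rec (motive := fun _ => Nat) ((Bool.rec (motive := fun _ => Nat) (nl2991 i) (nl2992 i) (Nat.ble 1183744 i))) ((Bool.rec (motive := fun _ => Nat) (nl2993 i) (nl2994 i) (Nat.ble 1185792 i))) (Nat.ble 1184768 i))
noncomputable def nd1420 (i : Nat) : Nat := (Bool.rec (motive := fun _ => Nat) (nl2995 i) ((Bool.rec (motive := fun _ => Nat) (nl2996 i) (nl2997 i) (Nat.ble 1188864 i))) (Nat.ble 1187840 i))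
noncomputable def nd1421 (i : Nat) : Nat := (Bool.rec (motive := fun _ => Nat) ((Bool.rec (motive := fun _ => Nat) (nl2998 i) (nl2999 i) (Nat.ble 1190912 i))) ((Bool.rec (motive := fun _ => Nat) (nl3000 i) (nl3001 i) (Nat.ble 1192960 i))) (Nat.ble 1191936 i))
noncomputable def nd1417 (i : Nat) : Nat := (Bool.rec (motive := fun _ => Nat) ((Bool.rec (motive := fun _ => Nat) (nd1418 i) (nd1419 i) (Nat.ble 1182720 i))) ((Bool.rec (motive := fun _ => Nat) (nd1420 i) (nd1421 i) (Nat.ble 1189888 i))) (Nat.ble 1186816 i))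
noncomputable def nd1423 (i : Nat) : Nat := (Bool.rec (motive := fun _ => Nat) (nl3002 i) ((Bool.rec (motive := fun _ => Nat) (nl3003 i) (nl3004 i) (Nat.ble 1196032 i))) (Nat.ble 1195008 i))
noncomputable def nd1424 (i : Nat) : Nat := (Bool.rec (motive := fun _ => Nat) ((Bool.rec (motive := fun _ => Nat) (nl3005 i) (nl3006 i) (Nat.ble 1198080 i))) ((Bool.rec (motive := fun _ => Nat) (nl3007 i) (nl3008 i) (Nat.ble 1200128 i))) (Nat.ble 1199104 i))
noncomputable def nd1425 (i : Nat) : Nat := (Bool.rec (motive := fun _ => Nat) (nl3009 i) ((Bool.rec (motive := fun _ => Nat) (nl3010 i) (nl3011 i) (Nat.ble 1203200 i))) (Nat.ble 1202176 i))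
noncomputable def nd1426 (i : Nat) : Nat := (Bool.rec (motive := fun _ => Nat) ((Bool.rec (motive := fun _ => Nat) (nl3012 i) (nl3013 i) (Nat.ble 1205248 i))) ((Bool.rec (motive := fun _ => Nat) (nl3014 i) (nl3015 i) (Nat.ble 1207296 i))) (Nat.ble 1206272 i))
noncomputable def nd1422 (i : Nat) : Nat := (Bool.rec (motive := fun _ => Nat) ((Bool.rec (motive := fun _ => Nat) (nd1423 i) (nd1424 i) (Nat.ble 1197056 i))) ((Bool.rec (motive := fun _ => Nat) (nd1425 i) (nd1426 i) (Nat.ble 1204224 i))) (Nat.ble 1201152 i))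
noncomputable def nd1428 (i : Nat) : Nat := (Bool.rec (motive := fun _ => Nat) (nl3016 i) ((Bool.rec (motive := fun _ => Nat) (nl3017 i) (nl3018 i) (Nat.ble 1210368 i))) (Nat.ble 1209344 i))
noncomputable def nd1429 (i : Nat) : Nat := (Bool.rec (motive := fun _ => Nat) ((Bool.rec (motive := fun _ => Nat) (nl3019 i) (nl3020 i) (Nat.ble 1212416 i))) ((Bool.rec (motive := fun _ => Nat) (nl3021 i) (nl3022 i) (Nat.ble 1214464 i))) (Nat.ble 1213440 i))
noncomputable def nd1430 (i : Nat) : Nat := (Bool.rec (motive := fun _ => Nat) ((Bool.rec (motive := fun _ => Nat) (nl3023 i) (nl3024 i) (Nat.ble 1216512 i))) ((Bool.rec (motive := fun _ => Nat) (nl3025 i) (nl3026 i) (Nat.ble 1218560 i))) (Nat.ble 1217536 i))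
noncomputable def nd1431 (i : Nat) : Nat := (Bool.rec (motive := fun _ => Nat) ((Bool.rec (motive := fun _ => Nat) (nl3027 i) (nl3028 i) (Nat.ble 1220608 i))) ((Bool.rec (motive := fun _ => Nat) (nl3029 i) (nl3030 i) (Nat.ble 1222656 i))) (Nat.ble 1221632 i))
noncomputable def nd1427 (i : Nat) : Nat := (Bool.rec (motive := fun _ => Nat) ((Bool.rec (motive := fun _ => Nat) (nd1428 i) (nd1429 i) (Nat.ble 1211392 i))) ((Bool.rec (motive := fun _ => Nat) (nd1430 i) (nd1431 i) (Nat.ble 1219584 i))) (Nat.ble 1215488 i))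
noncomputable def nd1411 (i : Nat) : Nat := (Bool.rec (motive := fun _ => Nat) ((Bool.rec (motive := fun _ => Nat) (nd1412 i) (nd1417 i) (Nat.ble 1179648 i))) ((Bool.rec (motive := fun _ => Nat) (nd1422 i) (nd1427 i) (Nat.ble 1208320 i))) (Nat.ble 1193984 i))
noncomputable def nd1434 (i : Nat) : Nat := (Bool.rec (motive := fun _ => Nat) (nl3031 i) ((Bool.rec (motive := fun _ => Nat) (nl3032 i) (nl3033 i) (Nat.ble 1225728 i))) (Nat.ble 1224704 i))
noncomputable def nd1435 (i : Nat) : Nat := (Bool.rec (motive := fun _ => Nat) ((Bool.rec (motive := fun _ => Nat) (nl3034 i) (nl3035 i) (Nat.ble 1227776 i))) ((Bool.rec (motive := fun _ => Nat) (nl3036 i) (nl3037 i) (Nat.ble 1229824 i))) (Nat.ble 1228800 i))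
noncomputable def nd1436 (i : Nat) : Nat := (Bool.rec (motive := fun _ => Nat) (nl3038 i) ((Bool.rec (motive := fun _ => Nat) (nl3039 i) (nl3040 i) (Nat.ble 1232896 i))) (Nat.ble 1231872 i))
noncomputable def nd1437 (i : Nat) : Nat := (Bool.rec (motive := fun _ => Nat) ((Bool.rec (motive := fun _ => Nat) (nl3041 i) (nl3042 i) (Nat.ble 1234944 i))) ((Bool.rec (motive := fun _ => Nat) (nl3043 i) (nl3044 i) (Nat.ble 1236992 i))) (Nat.ble 1235968 i))
noncomputable def nd1433 (i : Nat) : Nat := (Bool.rec (motive := fun _ => Nat) ((Bool.rec (motive := fun _ => Nat) (nd1434 i) (nd1435 i) (Nat.ble 1226752 i))) ((Bool.rec (motive := fun _ => Nat) (nd1436 i) (nd1437 i) (Nat.ble 1233920 i))) (Nat.ble 1230848 i))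
noncomputable def nd1439 (i : Nat) : Nat := (Bool.rec (motive := fun _ => Nat) (nl3045 i) ((Bool.rec (motive := fun _ => Nat) (nl3046 i) (nl3047 i) (Nat.ble 1240064 i))) (Nat.ble 1239040 i))
noncomputable def nd1440 (i : Nat) : Nat := (Bool.rec (motive := fun _ => Nat) ((Bool.rec (motive := fun _ => Nat) (nl3048 i) (nl3049 i) (Nat.ble 1242112 i))) ((Bool.rec (motive := fun _ => Nat) (nl3050 i) (nl3051 i) (Nat.ble 1244160 i))) (Nat.ble 1243136 i))
noncomputable def nd1441 (i : Nat) : Nat := (Bool.rec (motive := fun _ => Nat) (nl3052 i) ((Bool.rec (motive := fun _ => Nat) (nl3053 i) (nl3054 i) (Nat.ble 1247232 i))) (Nat.ble 1246208 i))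
noncomputable def nd1442 (i : Nat) : Nat := (Bool.rec (motive := fun _ => Nat) ((Bool.rec (motive := fun _ => Nat) (nl3055 i) (nl3056 i) (Nat.ble 1249280 i))) ((Bool.rec (motive := fun _ => Nat) (nl3057 i) (nl3058 i) (Nat.ble 1251328 i))) (Nat.ble 1250304 i))
noncomputable def nd1438 (i : Nat) : Nat := (Bool.rec (motive := fun _ => Nat) ((Bool.rec (motive := fun _ => Nat) (nd1439 i) (nd1440 i) (Nat.ble 1241088 i))) ((Bool.rec (motive := fun _ => Nat) (nd1441 i) (nd1442 i) (Nat.ble 1248256 i))) (Nat.ble 1245184 i))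
noncomputable def nd1444 (i : Nat) : Nat := (Bool.rec (motive := fun _ => Nat) (nl3059 i) ((Bool.rec (motive := fun _ => Nat) (nl3060 i) (nl3061 i) (Nat.ble 1254400 i))) (Nat.ble 1253376 i))
noncomputable def nd1445 (i : Nat) : Nat := (Bool.rec (motive := fun _ => Nat) ((Bool.rec (motive := fun _ => Nat) (nl3062 i) (nl3063 i) (Nat.ble 1256448 i))) ((Bool.rec (motive := fun _ => Nat) (nl3064 i) (nl3065 i) (Nat.ble 1258496 i))) (Nat.ble 1257472 i))
noncomputable def nd1446 (i : Nat) : Nat := (Bool.rec (motive := fun _ => Nat) (nl3066 i) ((Bool.rec (motive := fun _ => Nat) (nl3067 i) (nl3068 i) (Nat.ble 1261568 i))) (Nat.ble 1260544 i))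
noncomputable def nd1447 (i : Nat) : Nat := (Bool.rec (motive := fun _ => Nat) ((Bool.rec (motive := fun _ => Nat) (nl3069 i) (nl3070 i) (Nat.ble 1263616 i))) ((Bool.rec (motive := fun _ => Nat) (nl3071 i) (nl3072 i) (Nat.ble 1265664 i))) (Nat.ble 1264640 i))
noncomputable def nd1443 (i : Nat) : Nat := (Bool.rec (motive := fun _ => Nat) ((Bool.rec (motive := fun _ => Nat) (nd1444 i) (nd1445 i) (Nat.ble 1255424 i))) ((Bool.rec (motive := fun _ => Nat) (nd1446 i) (nd1447 i) (Nat.ble 1262592 i))) (Nat.ble 1259520 i))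
noncomputable def nd1449 (i : Nat) : Nat := (Bool.rec (motive := fun _ => Nat) (nl3073 i) ((Bool.rec (motive := fun _ => Nat) (nl3074 i) (nl3075 i) (Nat.ble 1268736 i))) (Nat.ble 1267712 i))
noncomputable def nd1450 (i : Nat) : Nat := (Bool.rec (motive := fun _ => Nat) ((Bool.rec (motive := fun _ => Nat) (nl3076 i) (nl3077 i) (Nat.ble 1270784 i))) ((Bool.rec (motive := fun _ => Nat) (nl3078 i) (nl3079 i) (Nat.ble 1272832 i))) (Nat.ble 1271808 i))
noncomputable def nd1451 (i : Nat) : Nat := (Bool.rec (motive := fun _ => Nat) ((Bool.rec (motive := fun _ => Nat) (nl3080 i) (nl3081 i) (Nat.ble 1274880 i))) ((Bool.rec (motive := fun _ => Nat) (nl3082 i) (nl3083 i) (Nat.ble 1276928 i))) (Nat.ble 1275904 i))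
noncomputable def nd1452 (i : Nat) : Nat := (Bool.rec (motive := fun _ => Nat) ((Bool.rec (motive := fun _ => Nat) (nl3084 i) (nl3085 i) (Nat.ble 1278976 i))) ((Bool.rec (motive := fun _ => Nat) (nl3086 i) (nl3087 i) (Nat.ble 1281024 i))) (Nat.ble 1280000 i))
noncomputable def nd1448 (i : Nat) : Nat := (Bool.rec (motive := fun _ => Nat) ((Bool.rec (motive := fun _ => Nat) (nd1449 i) (nd1450 i) (Nat.ble 1269760 i))) ((Bool.rec (motive := fun _ => Nat) (nd1451 i) (nd1452 i) (Nat.ble 1277952 i))) (Nat.ble 1273856 i))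
noncomputable def nd1432 (i : Nat) : Nat := (Bool.rec (motive := fun _ => Nat) ((Bool.rec (motive := fun _ => Nat) (nd1433 i) (nd1438 i) (Nat.ble 1238016 i))) ((Bool.rec (motive := fun _ => Nat) (nd1443 i) (nd1448 i) (Nat.ble 1266688 i))) (Nat.ble 1252352 i))
noncomputable def nd1455 (i : Nat) : Nat := (Bool.rec (motive := fun _ => Nat) (nl3088 i) ((Bool.rec (motive := fun _ => Nat) (nl3089 i) (nl3090 i) (Nat.ble 1284096 i))) (Nat.ble 1283072 i))
noncomputable def nd1456 (i : Nat) : Nat := (Bool.rec (motive := fun _ => Nat) ((Bool.rec (motive := fun _ => Nat) (nl3091 i) (nl3092 i) (Nat.ble 1286144 i))) ((Bool.rec (motive := fun _ => Nat) (nl3093 i) (nl3094 i) (Nat.ble 1288192 i))) (Nat.ble 1287168 i))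
noncomputable def nd1457 (i : Nat) : Nat := (Bool.rec (motive := fun _ => Nat) (nl3095 i) ((Bool.rec (motive := fun _ => Nat) (nl3096 i) (nl3097 i) (Nat.ble 1291264 i))) (Nat.ble 1290240 i))
noncomputable def nd1458 (i : Nat) : Nat := (Bool.rec (motive := fun _ => Nat) ((Bool.rec (motive := fun _ => Nat) (nl3098 i) (nl3099 i) (Nat.ble 1293312 i))) ((Bool.rec (motive := fun _ => Nat) (nl3100 i) (nl3101 i) (Nat.ble 1295360 i))) (Nat.ble 1294336 i))
noncomputable def nd1454 (i : Nat) : Nat := (Bool.rec (motive := fun _ => Nat) ((Bool.rec (motive := fun _ => Nat) (nd1455 i) (nd1456 i) (Nat.ble 1285120 i))) ((Bool.rec (motive := fun _ => Nat) (nd1457 i) (nd1458 i) (Nat.ble 1292288 i))) (Nat.ble 1289216 i))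
noncomputable def nd1460 (i : Nat) : Nat := (Bool.rec (motive := fun _ => Nat) (nl3102 i) ((Bool.rec (motive := fun _ => Nat) (nl3103 i) (nl3104 i) (Nat.ble 1298432 i))) (Nat.ble 1297408 i))
noncomputable def nd1461 (i : Nat) : Nat := (Bool.rec (motive := fun _ => Nat) ((Bool.rec (motive := fun _ => Nat) (nl3105 i) (nl3106 i) (Nat.ble 1300480 i))) ((Bool.rec (motive := fun _ => Nat) (nl3107 i) (nl3108 i) (Nat.ble 1302528 i))) (Nat.ble 1301504 i))
noncomputable def nd1462 (i : Nat) : Nat := (Bool.rec (motive := fun _ => Nat) (nl3109 i) ((Bool.rec (motive := fun _ => Nat) (nl3110 i) (nl3111 i) (Nat.ble 1305600 i))) (Nat.ble 1304576 i))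
noncomputable def nd1463 (i : Nat) : Nat := (Bool.rec (motive := fun _ => Nat) ((Bool.rec (motive := fun _ => Nat) (nl3112 i) (nl3113 i) (Nat.ble 1307648 i))) ((Bool.rec (motive := fun _ => Nat) (nl3114 i) (nl3115 i) (Nat.ble 1309696 i))) (Nat.ble 1308672 i))
noncomputable def nd1459 (i : Nat) : Nat := (Bool.rec (motive := fun _ => Nat) ((Bool.rec (motive := fun _ => Nat) (nd1460 i) (nd1461 i) (Nat.ble 1299456 i))) ((Bool.rec (motive := fun _ => Nat) (nd1462 i) (nd1463 i) (Nat.ble 1306624 i))) (Nat.ble 1303552 i))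
noncomputable def nd1465 (i : Nat) : Nat := (Bool.rec (motive := fun _ => Nat) (nl3116 i) ((Bool.rec (motive := fun _ => Nat) (nl3117 i) (nl3118 i) (Nat.ble 1312768 i))) (Nat.ble 1311744 i))
noncomputable def nd1466 (i : Nat) : Nat := (Bool.rec (motive := fun _ => Nat) ((Bool.rec (motive := fun _ => Nat) (nl3119 i) (nl3120 i) (Nat.ble 1314816 i))) ((Bool.rec (motive := fun _ => Nat) (nl3121 i) (nl3122 i) (Nat.ble 1316864 i))) (Nat.ble 1315840 i))
noncomputable def nd1467 (i : Nat) : Nat := (Bool.rec (motive := fun _ => Nat) (nl3123 i) ((Bool.rec (motive := fun _ => Nat) (nl3124 i) (nl3125 i) (Nat.ble 1319936 i))) (Nat.ble 1318912 i))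
noncomputable def nd1468 (i : Nat) : Nat := (Bool.rec (motive := fun _ => Nat) ((Bool.rec (motive := fun _ => Nat) (nl3126 i) (nl3127 i) (Nat.ble 1321984 i))) ((Bool.rec (motive := fun _ => Nat) (nl3128 i) (nl3129 i) (Nat.ble 1324032 i))) (Nat.ble 1323008 i))
noncomputable def nd1464 (i : Nat) : Nat := (Bool.rec (motive := fun _ => Nat) ((Bool.rec (motive := fun _ => Nat) (nd1465 i) (nd1466 i) (Nat.ble 1313792 i))) ((Bool.rec (motive := fun _ => Nat) (nd1467 i) (nd1468 i) (Nat.ble 1320960 i))) (Nat.ble 1317888 i))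
noncomputable def nd1470 (i : Nat) : Nat := (Bool.rec (motive := fun _ => Nat) (nl3130 i) ((Bool.rec (motive := fun _ => Nat) (nl3131 i) (nl3132 i) (Nat.ble 1327104 i))) (Nat.ble 1326080 i))
noncomputable def nd1471 (i : Nat) : Nat := (Bool.rec (motive := fun _ => Nat) ((Bool.rec (motive := fun _ => Nat) (nl3133 i) (nl3134 i) (Nat.ble 1329152 i))) ((Bool.rec (motive := fun _ => Nat) (nl3135 i) (nl3136 i) (Nat.ble 1331200 i))) (Nat.ble 1330176 i))
noncomputable def nd1472 (i : Nat) : Nat := (Bool.rec (motive := fun _ => Nat) ((Bool.rec (motive := fun _ => Nat) (nl3137 i) (nl3138 i) (Nat.ble 1333248 i))) ((Bool.rec (motive := fun _ => Nat) (nl3139 i) (nl3140 i) (Nat.ble 1335296 i))) (Nat.ble 1334272 i))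
noncomputable def nd1473 (i : Nat) : Nat := (Bool.rec (motive := fun _ => Nat) ((Bool.rec (motive := fun _ => Nat) (nl3141 i) (nl3142 i) (Nat.ble 1337344 i))) ((Bool.rec (motive := fun _ => Nat) (nl3143 i) (nl3144 i) (Nat.ble 1339392 i))) (Nat.ble 1338368 i))
noncomputable def nd1469 (i : Nat) : Nat := (Bool.rec (motive := fun _ => Nat) ((Bool.rec (motive := fun _ => Nat) (nd1470 i) (nd1471 i) (Nat.ble 1328128 i))) ((Bool.rec (motive := fun _ => Nat) (nd1472 i) (nd1473 i) (Nat.ble 1336320 i))) (Nat.ble 1332224 i))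
noncomputable def nd1453 (i : Nat) : Nat := (Bool.rec (motive := fun _ => Nat) ((Bool.rec (motive := fun _ => Nat) (nd1454 i) (nd1459 i) (Nat.ble 1296384 i))) ((Bool.rec (motive := fun _ => Nat) (nd1464 i) (nd1469 i) (Nat.ble 1325056 i))) (Nat.ble 1310720 i))
noncomputable def nd1476 (i : Nat) : Nat := (Bool.rec (motive := fun _ => Nat) (nl3145 i) ((Bool.rec (motive := fun _ => Nat) (nl3146 i) (nl3147 i) (Nat.ble 1342464 i))) (Nat.ble 1341440 i))
noncomputable def nd1477 (i : Nat) : Nat := (Bool.rec (motive := fun _ => Nat) ((Bool.rec (motive := fun _ => Nat) (nl3148 i) (nl3149 i) (Nat.ble 1344512 i))) ((Bool.rec (motive := fun _ => Nat) (nl3150 i) (nl3151 i) (Nat.ble 1346560 i))) (Nat.ble 1345536 i))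
noncomputable def nd1478 (i : Nat) : Nat := (Bool.rec (motive := fun _ => Nat) (nl3152 i) ((Bool.rec (motive := fun _ => Nat) (nl3153 i) (nl3154 i) (Nat.ble 1349632 i))) (Nat.ble 1348608 i))
noncomputable def nd1479 (i : Nat) : Nat := (Bool.rec (motive := fun _ => Nat) ((Bool.rec (motive := fun _ => Nat) (nl3155 i) (nl3156 i) (Nat.ble 1351680 i))) ((Bool.rec (motive := fun _ => Nat) (nl3157 i) (nl3158 i) (Nat.ble 1353728 i))) (Nat.ble 1352704 i))
noncomputable def nd1475 (i : Nat) : Nat := (Bool.rec (motive := fun _ => Nat) ((Bool.rec (motive := fun _ => Nat) (nd1476 i) (nd1477 i) (Nat.ble 1343488 i))) ((Bool.rec (motive := fun _ => Nat) (nd1478 i) (nd1479 i) (Nat.ble 1350656 i))) (Nat.ble 1347584 i))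
noncomputable def nd1481 (i : Nat) : Nat := (Bool.rec (motive := fun _ => Nat) (nl3159 i) ((Bool.rec (motive := fun _ => Nat) (nl3160 i) (nl3161 i) (Nat.ble 1356800 i))) (Nat.ble 1355776 i))
noncomputable def nd1482 (i : Nat) : Nat := (Bool.rec (motive := fun _ => Nat) ((Bool.rec (motive := fun _ => Nat) (nl3162 i) (nl3163 i) (Nat.ble 1358848 i))) ((Bool.rec (motive := fun _ => Nat) (nl3164 i) (nl3165 i) (Nat.ble 1360896 i))) (Nat.ble 1359872 i))
noncomputable def nd1483 (i : Nat) : Nat := (Bool.rec (motive := fun _ => Nat) (nl3166 i) ((Bool.rec (motive := fun _ => Nat) (nl3167 i) (nl3168 i) (Nat.ble 1363968 i))) (Nat.ble 1362944 i))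
noncomputable def nd1484 (i : Nat) : Nat := (Bool.rec (motive := fun _ => Nat) ((Bool.rec (motive := fun _ => Nat) (nl3169 i) (nl3170 i) (Nat.ble 1366016 i))) ((Bool.rec (motive := fun _ => Nat) (nl3171 i) (nl3172 i) (Nat.ble 1368064 i))) (Nat.ble 1367040 i))
noncomputable def nd1480 (i : Nat) : Nat := (Bool.rec (motive := fun _ => Nat) ((Bool.rec (motive := fun _ => Nat) (nd1481 i) (nd1482 i) (Nat.ble 1357824 i))) ((Bool.rec (motive := fun _ => Nat) (nd1483 i) (nd1484 i) (Nat.ble 1364992 i))) (Nat.ble 1361920 i))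
noncomputable def nd1486 (i : Nat) : Nat := (Bool.rec (motive := fun _ => Nat) (nl3173 i) ((Bool.rec (motive := fun _ => Nat) (nl3174 i) (nl3175 i) (Nat.ble 1371136 i))) (Nat.ble 1370112 i))
noncomputable def nd1487 (i : Nat) : Nat := (Bool.rec (motive := fun _ => Nat) ((Bool.rec (motive := fun _ => Nat) (nl3176 i) (nl3177 i) (Nat.ble 1373184 i))) ((Bool.rec (motive := fun _ => Nat) (nl3178 i) (nl3179 i) (Nat.ble 1375232 i))) (Nat.ble 1374208 i))
noncomputable def nd1488 (i : Nat) : Nat := (Bool.rec (motive := fun _ => Nat) (nl3180 i) ((Bool.rec (motive := fun _ => Nat) (nl3181 i) (nl3182 i) (Nat.ble 1378304 i))) (Nat.ble 1377280 i))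
noncomputable def nd1489 (i : Nat) : Nat := (Bool.rec (motive := fun _ => Nat) ((Bool.rec (motive := fun _ => Nat) (nl3183 i) (nl3184 i) (Nat.ble 1380352 i))) ((Bool.rec (motive := fun _ => Nat) (nl3185 i) (nl3186 i) (Nat.ble 1382400 i))) (Nat.ble 1381376 i))
noncomputable def nd1485 (i : Nat) : Nat := (Bool.rec (motive := fun _ => Nat) ((Bool.rec (motive := fun _ => Nat) (nd1486 i) (nd1487 i) (Nat.ble 1372160 i))) ((Bool.rec (motive := fun _ => Nat) (nd1488 i) (nd1489 i) (Nat.ble 1379328 i))) (Nat.ble 1376256 i))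
noncomputable def nd1491 (i : Nat) : Nat := (Bool.rec (motive := fun _ => Nat) (nl3187 i) ((Bool.rec (motive := fun _ => Nat) (nl3188 i) (nl3189 i) (Nat.ble 1385472 i))) (Nat.ble 1384448 i))
noncomputable def nd1492 (i : Nat) : Nat := (Bool.rec (motive := fun _ => Nat) ((Bool.rec (motive := fun _ => Nat) (nl3190 i) (nl3191 i) (Nat.ble 1387520 i))) ((Bool.rec (motive := fun _ => Nat) (nl3192 i) (nl3193 i) (Nat.ble 1389568 i))) (Nat.ble 1388544 i))
noncomputable def nd1493 (i : Nat) : Nat := (Bool.rec (motive := fun _ => Nat) ((Bool.rec (motive := fun _ => Nat) (nl3194 i) (nl3195 i) (Nat.ble 1391616 i))) ((Bool.rec (motive := fun _ => Nat) (nl3196 i) (nl3197 i) (Nat.ble 1393664 i))) (Nat.ble 1392640 i))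
noncomputable def nd1494 (i : Nat) : Nat := (Bool.rec (motive := fun _ => Nat) ((Bool.rec (motive := fun _ => Nat) (nl3198 i) (nl3199 i) (Nat.ble 1395712 i))) ((Bool.rec (motive := fun _ => Nat) (nl3200 i) (nl3201 i) (Nat.ble 1397760 i))) (Nat.ble 1396736 i))
noncomputable def nd1490 (i : Nat) : Nat := (Bool.rec (motive := fun _ => Nat) ((Bool.rec (motive := fun _ => Nat) (nd1491 i) (nd1492 i) (Nat.ble 1386496 i))) ((Bool.rec (motive := fun _ => Nat) (nd1493 i) (nd1494 i) (Nat.ble 1394688 i))) (Nat.ble 1390592 i))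
noncomputable def nd1474 (i : Nat) : Nat := (Bool.rec (motive := fun _ => Nat) ((Bool.rec (motive := fun _ => Nat) (nd1475 i) (nd1480 i) (Nat.ble 1354752 i))) ((Bool.rec (motive := fun _ => Nat) (nd1485 i) (nd1490 i) (Nat.ble 1383424 i))) (Nat.ble 1369088 i))
noncomputable def nd1410 (i : Nat) : Nat := (Bool.rec (motive := fun _ => Nat) ((Bool.rec (motive := fun _ => Nat) (nd1411 i) (nd1432 i) (Nat.ble 1223680 i))) ((Bool.rec (motive := fun _ => Nat) (nd1453 i) (nd1474 i) (Nat.ble 1340416 i))) (Nat.ble 1282048 i))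
noncomputable def nd1498 (i : Nat) : Nat := (Bool.rec (motive := fun _ => Nat) (nl3202 i) ((Bool.rec (motive := fun _ => Nat) (nl3203 i) (nl3204 i) (Nat.ble 1400832 i))) (Nat.ble 1399808 i))
noncomputable def nd1499 (i : Nat) : Nat := (Bool.rec (motive := fun _ => Nat) ((Bool.rec (motive := fun _ => Nat) (nl3205 i) (nl3206 i) (Nat.ble 1402880 i))) ((Bool.rec (motive := fun _ => Nat) (nl3207 i) (nl3208 i) (Nat.ble 1404928 i))) (Nat.ble 1403904 i))
noncomputable def nd1500 (i : Nat) : Nat := (Bool.rec (motive := fun _ => Nat) (nl3209 i) ((Bool.rec (motive := fun _ => Nat) (nl3210 i) (nl3211 i) (Nat.ble 1408000 i))) (Nat.ble 1406976 i))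
noncomputable def nd1501 (i : Nat) : Nat := (Bool.rec (motive := fun _ => Nat) ((Bool.rec (motive := fun _ => Nat) (nl3212 i) (nl3213 i) (Nat.ble 1410048 i))) ((Bool.rec (motive := fun _ => Nat) (nl3214 i) (nl3215 i) (Nat.ble 1412096 i))) (Nat.ble 1411072 i))
noncomputable def nd1497 (i : Nat) : Nat := (Bool.rec (motive := fun _ => Nat) ((Bool.rec (motive := fun _ => Nat) (nd1498 i) (nd1499 i) (Nat.ble 1401856 i))) ((Bool.rec (motive := fun _ => Nat) (nd1500 i) (nd1501 i) (Nat.ble 1409024 i))) (Nat.ble 1405952 i))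
noncomputable def nd1503 (i : Nat) : Nat := (Bool.rec (motive := fun _ => Nat) (nl3216 i) ((Bool.rec (motive := fun _ => Nat) (nl3217 i) (nl3218 i) (Nat.ble 1415168 i))) (Nat.ble 1414144 i))
noncomputable def nd1504 (i : Nat) : Nat := (Bool.rec (motive := fun _ => Nat) ((Bool.rec (motive := fun _ => Nat) (nl3219 i) (nl3220 i) (Nat.ble 1417216 i))) ((Bool.rec (motive := fun _ => Nat) (nl3221 i) (nl3222 i) (Nat.ble 1419264 i))) (Nat.ble 1418240 i))
noncomputable def nd1505 (i : Nat) : Nat := (Bool.rec (motive := fun _ => Nat) (nl3223 i) ((Bool.rec (motive := fun _ => Nat) (nl3224 i) (nl3225 i) (Nat.ble 1422336 i))) (Nat.ble 1421312 i))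
noncomputable def nd1506 (i : Nat) : Nat := (Bool.rec (motive := fun _ => Nat) ((Bool.rec (motive := fun _ => Nat) (nl3226 i) (nl3227 i) (Nat.ble 1424384 i))) ((Bool.rec (motive := fun _ => Nat) (nl3228 i) (nl3229 i) (Nat.ble 1426432 i))) (Nat.ble 1425408 i))
noncomputable def nd1502 (i : Nat) : Nat := (Bool.rec (motive := fun _ => Nat) ((Bool.rec (motive := fun _ => Nat) (nd1503 i) (nd1504 i) (Nat.ble 1416192 i))) ((Bool.rec (motive := fun _ => Nat) (nd1505 i) (nd1506 i) (Nat.ble 1423360 i))) (Nat.ble 1420288 i))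
noncomputable def nd1508 (i : Nat) : Nat := (Bool.rec (motive := fun _ => Nat) (nl3230 i) ((Bool.rec (motive := fun _ => Nat) (nl3231 i) (nl3232 i) (Nat.ble 1429504 i))) (Nat.ble 1428480 i))
noncomputable def nd1509 (i : Nat) : Nat := (Bool.rec (motive := fun _ => Nat) ((Bool.rec (motive := fun _ => Nat) (nl3233 i) (nl3234 i) (Nat.ble 1431552 i))) ((Bool.rec (motive := fun _ => Nat) (nl3235 i) (nl3236 i) (Nat.ble 1433600 i))) (Nat.ble 1432576 i))
noncomputable def nd1510 (i : Nat) : Nat := (Bool.rec (motive := fun _ => Nat) (nl3237 i) ((Bool.rec (motive := fun _ => Nat) (nl3238 i) (nl3239 i) (Nat.ble 1436672 i))) (Nat.ble 1435648 i))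
noncomputable def nd1511 (i : Nat) : Nat := (Bool.rec (motive := fun _ => Nat) ((Bool.rec (motive := fun _ => Nat) (nl3240 i) (nl3241 i) (Nat.ble 1438720 i))) ((Bool.rec (motive := fun _ => Nat) (nl3242 i) (nl3243 i) (Nat.ble 1440768 i))) (Nat.ble 1439744 i))
noncomputable def nd1507 (i : Nat) : Nat := (Bool.rec (motive := fun _ => Nat) ((Bool.rec (motive := fun _ => Nat) (nd1508 i) (nd1509 i) (Nat.ble 1430528 i))) ((Bool.rec (motive := fun _ => Nat) (nd1510 i) (nd1511 i) (Nat.ble 1437696 i))) (Nat.ble 1434624 i))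
noncomputable def nd1513 (i : Nat) : Nat := (Bool.rec (motive := fun _ => Nat) (nl3244 i) ((Bool.rec (motive := fun _ => Nat) (nl3245 i) (nl3246 i) (Nat.ble 1443840 i))) (Nat.ble 1442816 i))
noncomputable def nd1514 (i : Nat) : Nat := (Bool.rec (motive := fun _ => Nat) ((Bool.rec (motive := fun _ => Nat) (nl3247 i) (nl3248 i) (Nat.ble 1445888 i))) ((Bool.rec (motive := fun _ => Nat) (nl3249 i) (nl3250 i) (Nat.ble 1447936 i))) (Nat.ble 1446912 i))
noncomputable def nd1515 (i : Nat) : Nat := (Bool.rec (motive := fun _ => Nat) ((Bool.rec (motive := fun _ => Nat) (nl3251 i) (nl3252 i) (Nat.ble 1449984 i))) ((Bool.rec (motive := fun _ => Nat) (nl3253 i) (nl3254 i) (Nat.ble 1452032 i))) (Nat.ble 1451008 i))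
noncomputable def nd1516 (i : Nat) : Nat := (Bool.rec (motive := fun _ => Nat) ((Bool.rec (motive := fun _ => Nat) (nl3255 i) (nl3256 i) (Nat.ble 1454080 i))) ((Bool.rec (motive := fun _ => Nat) (nl3257 i) (nl3258 i) (Nat.ble 1456128 i))) (Nat.ble 1455104 i))
noncomputable def nd1512 (i : Nat) : Nat := (Bool.rec (motive := fun _ => Nat) ((Bool.rec (motive := fun _ => Nat) (nd1513 i) (nd1514 i) (Nat.ble 1444864 i))) ((Bool.rec (motive := fun _ => Nat) (nd1515 i) (nd1516 i) (Nat.ble 1453056 i))) (Nat.ble 1448960 i))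
noncomputable def nd1496 (i : Nat) : Nat := (Bool.rec (motive := fun _ => Nat) ((Bool.rec (motive := fun _ => Nat) (nd1497 i) (nd1502 i) (Nat.ble 1413120 i))) ((Bool.rec (motive := fun _ => Nat) (nd1507 i) (nd1512 i) (Nat.ble 1441792 i))) (Nat.ble 1427456 i))
noncomputable def nd1519 (i : Nat) : Nat := (Bool.rec (motive := fun _ => Nat) (nl3259 i) ((Bool.rec (motive := fun _ => Nat) (nl3260 i) (nl3261 i) (Nat.ble 1459200 i))) (Nat.ble 1458176 i))
noncomputable def nd1520 (i : Nat) : Nat := (Bool.rec (motive := fun _ => Nat) ((Bool.rec (motive := fun _ => Nat) (nl3262 i) (nl3263 i) (Nat.ble 1461248 i))) ((Bool.rec (motive := fun _ => Nat) (nl3264 i) (nl3265 i) (Nat.ble 1463296 i))) (Nat.ble 1462272 i))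
noncomputable def nd1521 (i : Nat) : Nat := (Bool.rec (motive := fun _ => Nat) (nl3266 i) ((Bool.rec (motive := fun _ => Nat) (nl3267 i) (nl3268 i) (Nat.ble 1466368 i))) (Nat.ble 1465344 i))
noncomputable def nd1522 (i : Nat) : Nat := (Bool.rec (motive := fun _ => Nat) ((Bool.rec (motive := fun _ => Nat) (nl3269 i) (nl3270 i) (Nat.ble 1468416 i))) ((Bool.rec (motive := fun _ => Nat) (nl3271 i) (nl3272 i) (Nat.ble 1470464 i))) (Nat.ble 1469440 i))
noncomputable def nd1518 (i : Nat) : Nat := (Bool.rec (motive := fun _ => Nat) ((Bool.rec (motive := fun _ => Nat) (nd1519 i) (nd1520 i) (Nat.ble 1460224 i))) ((Bool.rec (motive := fun _ => Nat) (nd1521 i) (nd1522 i) (Nat.ble 1467392 i))) (Nat.ble 1464320 i))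
noncomputable def nd1524 (i : Nat) : Nat := (Bool.rec (motive := fun _ => Nat) (nl3273 i) ((Bool.rec (motive := fun _ => Nat) (nl3274 i) (nl3275 i) (Nat.ble 1473536 i))) (Nat.ble 1472512 i))
noncomputable def nd1525 (i : Nat) : Nat := (Bool.rec (motive := fun _ => Nat) ((Bool.rec (motive := fun _ => Nat) (nl3276 i) (nl3277 i) (Nat.ble 1475584 i))) ((Bool.rec (motive := fun _ => Nat) (nl3278 i) (nl3279 i) (Nat.ble 1477632 i))) (Nat.ble 1476608 i))
noncomputable def nd1526 (i : Nat) : Nat := (Bool.rec (motive := fun _ => Nat) (nl3280 i) ((Bool.rec (motive := fun _ => Nat) (nl3281 i) (nl3282 i) (Nat.ble 1480704 i))) (Nat.ble 1479680 i))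
noncomputable def nd1527 (i : Nat) : Nat := (Bool.rec (motive := fun _ => Nat) ((Bool.rec (motive := fun _ => Nat) (nl3283 i) (nl3284 i) (Nat.ble 1482752 i))) ((Bool.rec (motive := fun _ => Nat) (nl3285 i) (nl3286 i) (Nat.ble 1484800 i))) (Nat.ble 1483776 i))
noncomputable def nd1523 (i : Nat) : Nat := (Bool.rec (motive := fun _ => Nat) ((Bool.rec (motive := fun _ => Nat) (nd1524 i) (nd1525 i) (Nat.ble 1474560 i))) ((Bool.rec (motive := fun _ => Nat) (nd1526 i) (nd1527 i) (Nat.ble 1481728 i))) (Nat.ble 1478656 i))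
noncomputable def nd1529 (i : Nat) : Nat := (Bool.rec (motive := fun _ => Nat) (nl3287 i) ((Bool.rec (motive := fun _ => Nat) (nl3288 i) (nl3289 i) (Nat.ble 1487872 i))) (Nat.ble 1486848 i))
noncomputable def nd1530 (i : Nat) : Nat := (Bool.rec (motive := fun _ => Nat) ((Bool.rec (motive := fun _ => Nat) (nl3290 i) (nl3291 i) (Nat.ble 1489920 i))) ((Bool.rec (motive := fun _ => Nat) (nl3292 i) (nl3293 i) (Nat.ble 1491968 i))) (Nat.ble 1490944 i))
noncomputable def nd1531 (i : Nat) : Nat := (Bool.rec (motive := fun _ => Nat) (nl3294 i) ((Bool.rec (motive := fun _ => Nat) (nl3295 i) (nl3296 i) (Nat.ble 1495040 i))) (Nat.ble 1494016 i))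
noncomputable def nd1532 (i : Nat) : Nat := (Bool.rec (motive := fun _ => Nat) ((Bool.rec (motive := fun _ => Nat) (nl3297 i) (nl3298 i) (Nat.ble 1497088 i))) ((Bool.rec (motive := fun _ => Nat) (nl3299 i) (nl3300 i) (Nat.ble 1499136 i))) (Nat.ble 1498112 i))
noncomputable def nd1528 (i : Nat) : Nat := (Bool.rec (motive := fun _ => Nat) ((Bool.rec (motive := fun _ => Nat) (nd1529 i) (nd1530 i) (Nat.ble 1488896 i))) ((Bool.rec (motive := fun _ => Nat) (nd1531 i) (nd1532 i) (Nat.ble 1496064 i))) (Nat.ble 1492992 i))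
noncomputable def nd1534 (i : Nat) : Nat := (Bool.rec (motive := fun _ => Nat) (nl3301 i) ((Bool.rec (motive := fun _ => Nat) (nl3302 i) (nl3303 i) (Nat.ble 1502208 i))) (Nat.ble 1501184 i))
noncomputable def nd1535 (i : Nat) : Nat := (Bool.rec (motive := fun _ => Nat) ((Bool.rec (motive := fun _ => Nat) (nl3304 i) (nl3305 i) (Nat.ble 1504256 i))) ((Bool.rec (motive := fun _ => Nat) (nl3306 i) (nl3307 i) (Nat.ble 1506304 i))) (Nat.ble 1505280 i))
noncomputable def nd1536 (i : Nat) : Nat := (Bool.rec (motive := fun _ => Nat) ((Bool.rec (motive := fun _ => Nat) (nl3308 i) (nl3309 i) (Nat.ble 1508352 i))) ((Bool.rec (motive := fun _ => Nat) (nl3310 i) (nl3311 i) (Nat.ble 1510400 i))) (Nat.ble 1509376 i))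
noncomputable def nd1537 (i : Nat) : Nat := (Bool.rec (motive := fun _ => Nat) ((Bool.rec (motive := fun _ => Nat) (nl3312 i) (nl3313 i) (Nat.ble 1512448 i))) ((Bool.rec (motive := fun _ => Nat) (nl3314 i) (nl3315 i) (Nat.ble 1514496 i))) (Nat.ble 1513472 i))
noncomputable def nd1533 (i : Nat) : Nat := (Bool.rec (motive := fun _ => Nat) ((Bool.rec (motive := fun _ => Nat) (nd1534 i) (nd1535 i) (Nat.ble 1503232 i))) ((Bool.rec (motive := fun _ => Nat) (nd1536 i) (nd1537 i) (Nat.ble 1511424 i))) (Nat.ble 1507328 i))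
noncomputable def nd1517 (i : Nat) : Nat := (Bool.rec (motive := fun _ => Nat) ((Bool.rec (motive := fun _ => Nat) (nd1518 i) (nd1523 i) (Nat.ble 1471488 i))) ((Bool.rec (motive := fun _ => Nat) (nd1528 i) (nd1533 i) (Nat.ble 1500160 i))) (Nat.ble 1485824 i))
noncomputable def nd1540 (i : Nat) : Nat := (Bool.rec (motive := fun _ => Nat) (nl3316 i) ((Bool.rec (motive := fun _ => Nat) (nl3317 i) (nl3318 i) (Nat.ble 1517568 i))) (Nat.ble 1516544 i))
noncomputable def nd1541 (i : Nat) : Nat := (Bool.rec (motive := fun _ => Nat) ((Bool.rec (motive := fun _ => Nat) (nl3319 i) (nl3320 i) (Nat.ble 1519616 i))) ((Bool.rec (motive := fun _ => Nat) (nl3321 i) (nl3322 i) (Nat.ble 1521664 i))) (Nat.ble 1520640 i))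
noncomputable def nd1542 (i : Nat) : Nat := (Bool.rec (motive := fun _ => Nat) (nl3323 i) ((Bool.rec (motive := fun _ => Nat) (nl3324 i) (nl3325 i) (Nat.ble 1524736 i))) (Nat.ble 1523712 i))
noncomputable def nd1543 (i : Nat) : Nat := (Bool.rec (motive := fun _ => Nat) ((Bool.rec (motive := fun _ => Nat) (nl3326 i) (nl3327 i) (Nat.ble 1526784 i))) ((Bool.rec (motive := fun _ => Nat) (nl3328 i) (nl3329 i) (Nat.ble 1528832 i))) (Nat.ble 1527808 i))
noncomputable def nd1539 (i : Nat) : Nat := (Bool.rec (motive := fun _ => Nat) ((Bool.rec (motive := fun _ => Nat) (nd1540 i) (nd1541 i) (Nat.ble 1518592 i))) ((Bool.rec (motive := fun _ => Nat) (nd1542 i) (nd1543 i) (Nat.ble 1525760 i))) (Nat.ble 1522688 i))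
noncomputable def nd1545 (i : Nat) : Nat := (Bool.rec (motive := fun _ => Nat) (nl3330 i) ((Bool.rec (motive := fun _ => Nat) (nl3331 i) (nl3332 i) (Nat.ble 1531904 i))) (Nat.ble 1530880 i))
noncomputable def nd1546 (i : Nat) : Nat := (Bool.rec (motive := fun _ => Nat) ((Bool.rec (motive := fun _ => Nat) (nl3333 i) (nl3334 i) (Nat.ble 1533952 i))) ((Bool.rec (motive := fun _ => Nat) (nl3335 i) (nl3336 i) (Nat.ble 1536000 i))) (Nat.ble 1534976 i))
noncomputable def nd1547 (i : Nat) : Nat := (Bool.rec (motive := fun _ => Nat) (nl3337 i) ((Bool.rec (motive := fun _ => Nat) (nl3338 i) (nl3339 i) (Nat.ble 1539072 i))) (Nat.ble 1538048 i))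
noncomputable def nd1548 (i : Nat) : Nat := (Bool.rec (motive := fun _ => Nat) ((Bool.rec (motive := fun _ => Nat) (nl3340 i) (nl3341 i) (Nat.ble 1541120 i))) ((Bool.rec (motive := fun _ => Nat) (nl3342 i) (nl3343 i) (Nat.ble 1543168 i))) (Nat.ble 1542144 i))
noncomputable def nd1544 (i : Nat) : Nat := (Bool.rec (motive := fun _ => Nat) ((Bool.rec (motive := fun _ => Nat) (nd1545 i) (nd1546 i) (Nat.ble 1532928 i))) ((Bool.rec (motive := fun _ => Nat) (nd1547 i) (nd1548 i) (Nat.ble 1540096 i))) (Nat.ble 1537024 i))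
noncomputable def nd1550 (i : Nat) : Nat := (Bool.rec (motive := fun _ => Nat) (nl3344 i) ((Bool.rec (motive := fun _ => Nat) (nl3345 i) (nl3346 i) (Nat.ble 1546240 i))) (Nat.ble 1545216 i))
noncomputable def nd1551 (i : Nat) : Nat := (Bool.rec (motive := fun _ => Nat) ((Bool.rec (motive := fun _ => Nat) (nl3347 i) (nl3348 i) (Nat.ble 1548288 i))) ((Bool.rec (motive := fun _ => Nat) (nl3349 i) (nl3350 i) (Nat.ble 1550336 i))) (Nat.ble 1549312 i))
noncomputable def nd1552 (i : Nat) : Nat := (Bool.rec (motive := fun _ => Nat) (nl3351 i) ((Bool.rec (motive := fun _ => Nat) (nl3352 i) (nl3353 i) (Nat.ble 1553408 i))) (Nat.ble 1552384 i))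
noncomputable def nd1553 (i : Nat) : Nat := (Bool.rec (motive := fun _ => Nat) ((Bool.rec (motive := fun _ => Nat) (nl3354 i) (nl3355 i) (Nat.ble 1555456 i))) ((Bool.rec (motive := fun _ => Nat) (nl3356 i) (nl3357 i) (Nat.ble 1557504 i))) (Nat.ble 1556480 i))
noncomputable def nd1549 (i : Nat) : Nat := (Bool.rec (motive := fun _ => Nat) ((Bool.rec (motive := fun _ => Nat) (nd1550 i) (nd1551 i) (Nat.ble 1547264 i))) ((Bool.rec (motive := fun _ => Nat) (nd1552 i) (nd1553 i) (Nat.ble 1554432 i))) (Nat.ble 1551360 i))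
noncomputable def nd1555 (i : Nat) : Nat := (Bool.rec (motive := fun _ => Nat) (nl3358 i) ((Bool.rec (motive := fun _ => Nat) (nl3359 i) (nl3360 i) (Nat.ble 1560576 i))) (Nat.ble 1559552 i))
noncomputable def nd1556 (i : Nat) : Nat := (Bool.rec (motive := fun _ => Nat) ((Bool.rec (motive := fun _ => Nat) (nl3361 i) (nl3362 i) (Nat.ble 1562624 i))) ((Bool.rec (motive := fun _ => Nat) (nl3363 i) (nl3364 i) (Nat.ble 1564672 i))) (Nat.ble 1563648 i))
noncomputable def nd1557 (i : Nat) : Nat := (Bool.rec (motive := fun _ => Nat) ((Bool.rec (motive := fun _ => Nat) (nl3365 i) (nl3366 i) (Nat.ble 1566720 i))) ((Bool.rec (motive := fun _ => Nat) (nl3367 i) (nl3368 i) (Nat.ble 1568768 i))) (Nat.ble 1567744 i))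
noncomputable def nd1558 (i : Nat) : Nat := (Bool.rec (motive := fun _ => Nat) ((Bool.rec (motive := fun _ => Nat) (nl3369 i) (nl3370 i) (Nat.ble 1570816 i))) ((Bool.rec (motive := fun _ => Nat) (nl3371 i) (nl3372 i) (Nat.ble 1572864 i))) (Nat.ble 1571840 i))
noncomputable def nd1554 (i : Nat) : Nat := (Bool.rec (motive := fun _ => Nat) ((Bool.rec (motive := fun _ => Nat) (nd1555 i) (nd1556 i) (Nat.ble 1561600 i))) ((Bool.rec (motive := fun _ => Nat) (nd1557 i) (nd1558 i) (Nat.ble 1569792 i))) (Nat.ble 1565696 i))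
noncomputable def nd1538 (i : Nat) : Nat := (Bool.rec (motive := fun _ => Nat) ((Bool.rec (motive := fun _ => Nat) (nd1539 i) (nd1544 i) (Nat.ble 1529856 i))) ((Bool.rec (motive := fun _ => Nat) (nd1549 i) (nd1554 i) (Nat.ble 1558528 i))) (Nat.ble 1544192 i))
noncomputable def nd1561 (i : Nat) : Nat := (Bool.rec (motive := fun _ => Nat) (nl3373 i) ((Bool.rec (motive := fun _ => Nat) (nl3374 i) (nl3375 i) (Nat.ble 1575936 i))) (Nat.ble 1574912 i))
noncomputable def nd1562 (i : Nat) : Nat := (Bool.rec (motive := fun _ => Nat) ((Bool.rec (motive := fun _ => Nat) (nl3376 i) (nl3377 i) (Nat.ble 1577984 i))) ((Bool.rec (motive := fun _ => Nat) (nl3378 i) (nl3379 i) (Nat.ble 1580032 i))) (Nat.ble 1579008 i))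
noncomputable def nd1563 (i : Nat) : Nat := (Bool.rec (motive := fun _ => Nat) (nl3380 i) ((Bool.rec (motive := fun _ => Nat) (nl3381 i) (nl3382 i) (Nat.ble 1583104 i))) (Nat.ble 1582080 i))
noncomputable def nd1564 (i : Nat) : Nat := (Bool.rec (motive := fun _ => Nat) ((Bool.rec (motive := fun _ => Nat) (nl3383 i) (nl3384 i) (Nat.ble 1585152 i))) ((Bool.rec (motive := fun _ => Nat) (nl3385 i) (nl3386 i) (Nat.ble 1587200 i))) (Nat.ble 1586176 i))
noncomputable def nd1560 (i : Nat) : Nat := (Bool.rec (motive := fun _ => Nat) ((Bool.rec (motive := fun _ => Nat) (nd1561 i) (nd1562 i) (Nat.ble 1576960 i))) ((Bool.rec (motive := fun _ => Nat) (nd1563 i) (nd1564 i) (Nat.ble 1584128 i))) (Nat.ble 1581056 i))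
noncomputable def nd1566 (i : Nat) : Nat := (Bool.rec (motive := fun _ => Nat) (nl3387 i) ((Bool.rec (motive := fun _ => Nat) (nl3388 i) (nl3389 i) (Nat.ble 1590272 i))) (Nat.ble 1589248 i))
noncomputable def nd1567 (i : Nat) : Nat := (Bool.rec (motive := fun _ => Nat) ((Bool.rec (motive := fun _ => Nat) (nl3390 i) (nl3391 i) (Nat.ble 1592320 i))) ((Bool.rec (motive := fun _ => Nat) (nl3392 i) (nl3393 i) (Nat.ble 1594368 i))) (Nat.ble 1593344 i))
noncomputable def nd1568 (i : Nat) : Nat := (Bool.rec (motive := fun _ => Nat) (nl3394 i) ((Bool.rec (motive := fun _ => Nat) (nl3395 i) (nl3396 i) (Nat.ble 1597440 i))) (Nat.ble 1596416 i))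
noncomputable def nd1569 (i : Nat) : Nat := (Bool.rec (motive := fun _ => Nat) ((Bool.rec (motive := fun _ => Nat) (nl3397 i) (nl3398 i) (Nat.ble 1599488 i))) ((Bool.rec (motive := fun _ => Nat) (nl3399 i) (nl3400 i) (Nat.ble 1601536 i))) (Nat.ble 1600512 i))
noncomputable def nd1565 (i : Nat) : Nat := (Bool.rec (motive := fun _ => Nat) ((Bool.rec (motive := fun _ => Nat) (nd1566 i) (nd1567 i) (Nat.ble 1591296 i))) ((Bool.rec (motive := fun _ => Nat) (nd1568 i) (nd1569 i) (Nat.ble 1598464 i))) (Nat.ble 1595392 i))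
noncomputable def nd1571 (i : Nat) : Nat := (Bool.rec (motive := fun _ => Nat) (nl3401 i) ((Bool.rec (motive := fun _ => Nat) (nl3402 i) (nl3403 i) (Nat.ble 1604608 i))) (Nat.ble 1603584 i))
noncomputable def nd1572 (i : Nat) : Nat := (Bool.rec (motive := fun _ => Nat) ((Bool.rec (motive := fun _ => Nat) (nl3404 i) (nl3405 i) (Nat.ble 1606656 i))) ((Bool.rec (motive := fun _ => Nat) (nl3406 i) (nl3407 i) (Nat.ble 1608704 i))) (Nat.ble 1607680 i))
noncomputable def nd1573 (i : Nat) : Nat := (Bool.rec (motive := fun _ => Nat) (nl3408 i) ((Bool.rec (motive := fun _ => Nat) (nl3409 i) (nl3410 i) (Nat.ble 1611776 i))) (Nat.ble 1610752 i))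
noncomputable def nd1574 (i : Nat) : Nat := (Bool.rec (motive := fun _ => Nat) ((Bool.rec (motive := fun _ => Nat) (nl3411 i) (nl3412 i) (Nat.ble 1613824 i))) ((Bool.rec (motive := fun _ => Nat) (nl3413 i) (nl3414 i) (Nat.ble 1615872 i))) (Nat.ble 1614848 i))
noncomputable def nd1570 (i : Nat) : Nat := (Bool.rec (motive := fun _ => Nat) ((Bool.rec (motive := fun _ => Nat) (nd1571 i) (nd1572 i) (Nat.ble 1605632 i))) ((Bool.rec (motive := fun _ => Nat) (nd1573 i) (nd1574 i) (Nat.ble 1612800 i))) (Nat.ble 1609728 i))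
noncomputable def nd1576 (i : Nat) : Nat := (Bool.rec (motive := fun _ => Nat) (nl3415 i) ((Bool.rec (motive := fun _ => Nat) (nl3416 i) (nl3417 i) (Nat.ble 1618944 i))) (Nat.ble 1617920 i))
noncomputable def nd1577 (i : Nat) : Nat := (Bool.rec (motive := fun _ => Nat) ((Bool.rec (motive := fun _ => Nat) (nl3418 i) (nl3419 i) (Nat.ble 1620992 i))) ((Bool.rec (motive := fun _ => Nat) (nl3420 i) (nl3421 i) (Nat.ble 1623040 i))) (Nat.ble 1622016 i))
noncomputable def nd1578 (i : Nat) : Nat := (Bool.rec (motive := fun _ => Nat) ((Bool.rec (motive := fun _ => Nat) (nl3422 i) (nl3423 i) (Nat.ble 1625088 i))) ((Bool.rec (motive := fun _ => Nat) (nl3424 i) (nl3425 i) (Nat.ble 1627136 i))) (Nat.ble 1626112 i))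
noncomputable def nd1579 (i : Nat) : Nat := (Bool.rec (motive := fun _ => Nat) ((Bool.rec (motive := fun _ => Nat) (nl3426 i) (nl3427 i) (Nat.ble 1629184 i))) ((Bool.rec (motive := fun _ => Nat) (nl3428 i) (nl3429 i) (Nat.ble 1631232 i))) (Nat.ble 1630208 i))
noncomputable def nd1575 (i : Nat) : Nat := (Bool.rec (motive := fun _ => Nat) ((Bool.rec (motive := fun _ => Nat) (nd1576 i) (nd1577 i) (Nat.ble 1619968 i))) ((Bool.rec (motive := fun _ => Nat) (nd1578 i) (nd1579 i) (Nat.ble 1628160 i))) (Nat.ble 1624064 i))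
noncomputable def nd1559 (i : Nat) : Nat := (Bool.rec (motive := fun _ => Nat) ((Bool.rec (motive := fun _ => Nat) (nd1560 i) (nd1565 i) (Nat.ble 1588224 i))) ((Bool.rec (motive := fun _ => Nat) (nd1570 i) (nd1575 i) (Nat.ble 1616896 i))) (Nat.ble 1602560 i))
noncomputable def nd1495 (i : Nat) : Nat := (Bool.rec (motive := fun _ => Nat) ((Bool.rec (motive := fun _ => Nat) (nd1496 i) (nd1517 i) (Nat.ble 1457152 i))) ((Bool.rec (motive := fun _ => Nat) (nd1538 i) (nd1559 i) (Nat.ble 1573888 i))) (Nat.ble 1515520 i))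
noncomputable def nd1583 (i : Nat) : Nat := (Bool.rec (motive := fun _ => Nat) (nl3430 i) ((Bool.rec (motive := fun _ => Nat) (nl3431 i) (nl3432 i) (Nat.ble 1634304 i))) (Nat.ble 1633280 i))
noncomputable def nd1584 (i : Nat) : Nat := (Bool.rec (motive := fun _ => Nat) ((Bool.rec (motive := fun _ => Nat) (nl3433 i) (nl3434 i) (Nat.ble 1636352 i))) ((Bool.rec (motive := fun _ => Nat) (nl3435 i) (nl3436 i) (Nat.ble 1638400 i))) (Nat.ble 1637376 i))
noncomputable def nd1585 (i : Nat) : Nat := (Bool.rec (motive := fun _ => Nat) (nl3437 i) ((Bool.rec (motive := fun _ => Nat) (nl3438 i) (nl3439 i) (Nat.ble 1641472 i))) (Nat.ble 1640448 i))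
noncomputable def nd1586 (i : Nat) : Nat := (Bool.rec (motive := fun _ => Nat) ((Bool.rec (motive := fun _ => Nat) (nl3440 i) (nl3441 i) (Nat.ble 1643520 i))) ((Bool.rec (motive := fun _ => Nat) (nl3442 i) (nl3443 i) (Nat.ble 1645568 i))) (Nat.ble 1644544 i))
noncomputable def nd1582 (i : Nat) : Nat := (Bool.rec (motive := fun _ => Nat) ((Bool.rec (motive := fun _ => Nat) (nd1583 i) (nd1584 i) (Nat.ble 1635328 i))) ((Bool.rec (motive := fun _ => Nat) (nd1585 i) (nd1586 i) (Nat.ble 1642496 i))) (Nat.ble 1639424 i))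
noncomputable def nd1588 (i : Nat) : Nat := (Bool.rec (motive := fun _ => Nat) (nl3444 i) ((Bool.rec (motive := fun _ => Nat) (nl3445 i) (nl3446 i) (Nat.ble 1648640 i))) (Nat.ble 1647616 i))
noncomputable def nd1589 (i : Nat) : Nat := (Bool.rec (motive := fun _ => Nat) ((Bool.rec (motive := fun _ => Nat) (nl3447 i) (nl3448 i) (Nat.ble 1650688 i))) ((Bool.rec (motive := fun _ => Nat) (nl3449 i) (nl3450 i) (Nat.ble 1652736 i))) (Nat.ble 1651712 i))
noncomputable def nd1590 (i : Nat) : Nat := (Bool.rec (motive := fun _ => Nat) (nl3451 i) ((Bool.rec (motive := fun _ => Nat) (nl3452 i) (nl3453 i) (Nat.ble 1655808 i))) (Nat.ble 1654784 i))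
noncomputable def nd1591 (i : Nat) : Nat := (Bool.rec (motive := fun _ => Nat) ((Bool.rec (motive := fun _ => Nat) (nl3454 i) (nl3455 i) (Nat.ble 1657856 i))) ((Bool.rec (motive := fun _ => Nat) (nl3456 i) (nl3457 i) (Nat.ble 1659904 i))) (Nat.ble 1658880 i))
noncomputable def nd1587 (i : Nat) : Nat := (Bool.rec (motive := fun _ => Nat) ((Bool.rec (motive := fun _ => Nat) (nd1588 i) (nd1589 i) (Nat.ble 1649664 i))) ((Bool.rec (motive := fun _ => Nat) (nd1590 i) (nd1591 i) (Nat.ble 1656832 i))) (Nat.ble 1653760 i))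
noncomputable def nd1593 (i : Nat) : Nat := (Bool.rec (motive := fun _ => Nat) (nl3458 i) ((Bool.rec (motive := fun _ => Nat) (nl3459 i) (nl3460 i) (Nat.ble 1662976 i))) (Nat.ble 1661952 i))
noncomputable def nd1594 (i : Nat) : Nat := (Bool.rec (motive := fun _ => Nat) ((Bool.rec (motive := fun _ => Nat) (nl3461 i) (nl3462 i) (Nat.ble 1665024 i))) ((Bool.rec (motive := fun _ => Nat) (nl3463 i) (nl3464 i) (Nat.ble 1667072 i))) (Nat.ble 1666048 i))
noncomputable def nd1595 (i : Nat) : Nat := (Bool.rec (motive := fun _ => Nat) (nl3465 i) ((Bool.rec (motive := fun _ => Nat) (nl3466 i) (nl3467 i) (Nat.ble 1670144 i))) (Nat.ble 1669120 i))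
noncomputable def nd1596 (i : Nat) : Nat := (Bool.rec (motive := fun _ => Nat) ((Bool.rec (motive := fun _ => Nat) (nl3468 i) (nl3469 i) (Nat.ble 1672192 i))) ((Bool.rec (motive := fun _ => Nat) (nl3470 i) (nl3471 i) (Nat.ble 1674240 i))) (Nat.ble 1673216 i))
noncomputable def nd1592 (i : Nat) : Nat := (Bool.rec (motive := fun _ => Nat) ((Bool.rec (motive := fun _ => Nat) (nd1593 i) (nd1594 i) (Nat.ble 1664000 i))) ((Bool.rec (motive := fun _ => Nat) (nd1595 i) (nd1596 i) (Nat.ble 1671168 i))) (Nat.ble 1668096 i))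
noncomputable def nd1598 (i : Nat) : Nat := (Bool.rec (motive := fun _ => Nat) (nl3472 i) ((Bool.rec (motive := fun _ => Nat) (nl3473 i) (nl3474 i) (Nat.ble 1677312 i))) (Nat.ble 1676288 i))
noncomputable def nd1599 (i : Nat) : Nat := (Bool.rec (motive := fun _ => Nat) ((Bool.rec (motive := fun _ => Nat) (nl3475 i) (nl3476 i) (Nat.ble 1679360 i))) ((Bool.rec (motive := fun _ => Nat) (nl3477 i) (nl3478 i) (Nat.ble 1681408 i))) (Nat.ble 1680384 i))
noncomputable def nd1600 (i : Nat) : Nat := (Bool.rec (motive := fun _ => Nat) ((Bool.rec (motive := fun _ => Nat) (nl3479 i) (nl3480 i) (Nat.ble 1683456 i))) ((Bool.rec (motive := fun _ => Nat) (nl3481 i) (nl3482 i) (Nat.ble 1685504 i))) (Nat.ble 1684480 i))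
noncomputable def nd1601 (i : Nat) : Nat := (Bool.rec (motive := fun _ => Nat) ((Bool.rec (motive := fun _ => Nat) (nl3483 i) (nl3484 i) (Nat.ble 1687552 i))) ((Bool.rec (motive := fun _ => Nat) (nl3485 i) (nl3486 i) (Nat.ble 1689600 i))) (Nat.ble 1688576 i))
noncomputable def nd1597 (i : Nat) : Nat := (Bool.rec (motive := fun _ => Nat) ((Bool.rec (motive := fun _ => Nat) (nd1598 i) (nd1599 i) (Nat.ble 1678336 i))) ((Bool.rec (motive := fun _ => Nat) (nd1600 i) (nd1601 i) (Nat.ble 1686528 i))) (Nat.ble 1682432 i))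
noncomputable def nd1581 (i : Nat) : Nat := (Bool.rec (motive := fun _ => Nat) ((Bool.rec (motive := fun _ => Nat) (nd1582 i) (nd1587 i) (Nat.ble 1646592 i))) ((Bool.rec (motive := fun _ => Nat) (nd1592 i) (nd1597 i) (Nat.ble 1675264 i))) (Nat.ble 1660928 i))
noncomputable def nd1604 (i : Nat) : Nat := (Bool.rec (motive := fun _ => Nat) (nl3487 i) ((Bool.rec (motive := fun _ => Nat) (nl3488 i) (nl3489 i) (Nat.ble 1692672 i))) (Nat.ble 1691648 i))
noncomputable def nd1605 (i : Nat) : Nat := (Bool.rec (motive := fun _ => Nat) ((Bool.rec (motive := fun _ => Nat) (nl3490 i) (nl3491 i) (Nat.ble 1694720 i))) ((Bool.rec (motive := fun _ => Nat) (nl3492 i) (nl3493 i) (Nat.ble 1696768 i))) (Nat.ble 1695744 i))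
noncomputable def nd1606 (i : Nat) : Nat := (Bool.rec (motive := fun _ => Nat) (nl3494 i) ((Bool.rec (motive := fun _ => Nat) (nl3495 i) (nl3496 i) (Nat.ble 1699840 i))) (Nat.ble 1698816 i))
noncomputable def nd1607 (i : Nat) : Nat := (Bool.rec (motive := fun _ => Nat) ((Bool.rec (motive := fun _ => Nat) (nl3497 i) (nl3498 i) (Nat.ble 1701888 i))) ((Bool.rec (motive := fun _ => Nat) (nl3499 i) (nl3500 i) (Nat.ble 1703936 i))) (Nat.ble 1702912 i))
noncomputable def nd1603 (i : Nat) : Nat := (Bool.rec (motive := fun _ => Nat) ((Bool.rec (motive := fun _ => Nat) (nd1604 i) (nd1605 i) (Nat.ble 1693696 i))) ((Bool.rec (motive := fun _ => Nat) (nd1606 i) (nd1607 i) (Nat.ble 1700864 i))) (Nat.ble 1697792 i))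
noncomputable def nd1609 (i : Nat) : Nat := (Bool.rec (motive := fun _ => Nat) (nl3501 i) ((Bool.rec (motive := fun _ => Nat) (nl3502 i) (nl3503 i) (Nat.ble 1707008 i))) (Nat.ble 1705984 i))
noncomputable def nd1610 (i : Nat) : Nat := (Bool.rec (motive := fun _ => Nat) ((Bool.rec (motive := fun _ => Nat) (nl3504 i) (nl3505 i) (Nat.ble 1709056 i))) ((Bool.rec (motive := fun _ => Nat) (nl3506 i) (nl3507 i) (Nat.ble 1711104 i))) (Nat.ble 1710080 i))
noncomputable def nd1611 (i : Nat) : Nat := (Bool.rec (motive := fun _ => Nat) (nl3508 i) ((Bool.rec (motive := fun _ => Nat) (nl3509 i) (nl3510 i) (Nat.ble 1714176 i))) (Nat.ble 1713152 i))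
noncomputable def nd1612 (i : Nat) : Nat := (Bool.rec (motive := fun _ => Nat) ((Bool.rec (motive := fun _ => Nat) (nl3511 i) (nl3512 i) (Nat.ble 1716224 i))) ((Bool.rec (motive := fun _ => Nat) (nl3513 i) (nl3514 i) (Nat.ble 1718272 i))) (Nat.ble 1717248 i))
noncomputable def nd1608 (i : Nat) : Nat := (Bool.rec (motive := fun _ => Nat) ((Bool.rec (motive := fun _ => Nat) (nd1609 i) (nd1610 i) (Nat.ble 1708032 i))) ((Bool.rec (motive := fun _ => Nat) (nd1611 i) (nd1612 i) (Nat.ble 1715200 i))) (Nat.ble 1712128 i))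
noncomputable def nd1614 (i : Nat) : Nat := (Bool.rec (motive := fun _ => Nat) (nl3515 i) ((Bool.rec (motive := fun _ => Nat) (nl3516 i) (nl3517 i) (Nat.ble 1721344 i))) (Nat.ble 1720320 i))
noncomputable def nd1615 (i : Nat) : Nat := (Bool.rec (motive := fun _ => Nat) ((Bool.rec (motive := fun _ => Nat) (nl3518 i) (nl3519 i) (Nat.ble 1723392 i))) ((Bool.rec (motive := fun _ => Nat) (nl3520 i) (nl3521 i) (Nat.ble 1725440 i))) (Nat.ble 1724416 i))
noncomputable def nd1616 (i : Nat) : Nat := (Bool.rec (motive := fun _ => Nat) (nl3522 i) ((Bool.rec (motive := fun _ => Nat) (nl3523 i) (nl3524 i) (Nat.ble 1728512 i))) (Nat.ble 1727488 i))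
noncomputable def nd1617 (i : Nat) : Nat := (Bool.rec (motive := fun _ => Nat) ((Bool.rec (motive := fun _ => Nat) (nl3525 i) (nl3526 i) (Nat.ble 1730560 i))) ((Bool.rec (motive := fun _ => Nat) (nl3527 i) (nl3528 i) (Nat.ble 1732608 i))) (Nat.ble 1731584 i))
noncomputable def nd1613 (i : Nat) : Nat := (Bool.rec (motive := fun _ => Nat) ((Bool.rec (motive := fun _ => Nat) (nd1614 i) (nd1615 i) (Nat.ble 1722368 i))) ((Bool.rec (motive := fun _ => Nat) (nd1616 i) (nd1617 i) (Nat.ble 1729536 i))) (Nat.ble 1726464 i))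
noncomputable def nd1619 (i : Nat) : Nat := (Bool.rec (motive := fun _ => Nat) (nl3529 i) ((Bool.rec (motive := fun _ => Nat) (nl3530 i) (nl3531 i) (Nat.ble 1735680 i))) (Nat.ble 1734656 i))
noncomputable def nd1620 (i : Nat) : Nat := (Bool.rec (motive := fun _ => Nat) ((Bool.rec (motive := fun _ => Nat) (nl3532 i) (nl3533 i) (Nat.ble 1737728 i))) ((Bool.rec (motive := fun _ => Nat) (nl3534 i) (nl3535 i) (Nat.ble 1739776 i))) (Nat.ble 1738752 i))
noncomputable def nd1621 (i : Nat) : Nat := (Bool.rec (motive := fun _ => Nat) ((Bool.rec (motive := fun _ => Nat) (nl3536 i) (nl3537 i) (Nat.ble 1741824 i))) ((Bool.rec (motive := fun _ => Nat) (nl3538 i) (nl3539 i) (Nat.ble 1743872 i))) (Nat.ble 1742848 i))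
noncomputable def nd1622 (i : Nat) : Nat := (Bool.rec (motive := fun _ => Nat) ((Bool.rec (motive := fun _ => Nat) (nl3540 i) (nl3541 i) (Nat.ble 1745920 i))) ((Bool.rec (motive := fun _ => Nat) (nl3542 i) (nl3543 i) (Nat.ble 1747968 i))) (Nat.ble 1746944 i))
noncomputable def nd1618 (i : Nat) : Nat := (Bool.rec (motive := fun _ => Nat) ((Bool.rec (motive := fun _ => Nat) (nd1619 i) (nd1620 i) (Nat.ble 1736704 i))) ((Bool.rec (motive := fun _ => Nat) (nd1621 i) (nd1622 i) (Nat.ble 1744896 i))) (Nat.ble 1740800 i))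
noncomputable def nd1602 (i : Nat) : Nat := (Bool.rec (motive := fun _ => Nat) ((Bool.rec (motive := fun _ => Nat) (nd1603 i) (nd1608 i) (Nat.ble 1704960 i))) ((Bool.rec (motive := fun _ => Nat) (nd1613 i) (nd1618 i) (Nat.ble 1733632 i))) (Nat.ble 1719296 i))
noncomputable def nd1625 (i : Nat) : Nat := (Bool.rec (motive := fun _ => Nat) (nl3544 i) ((Bool.rec (motive := fun _ => Nat) (nl3545 i) (nl3546 i) (Nat.ble 1751040 i))) (Nat.ble 1750016 i))
noncomputable def nd1626 (i : Nat) : Nat := (Bool.rec (motive := fun _ => Nat) ((Bool.rec (motive := fun _ => Nat) (nl3547 i) (nl3548 i) (Nat.ble 1753088 i))) ((Bool.rec (motive := fun _ => Nat) (nl3549 i) (nl3550 i) (Nat.ble 1755136 i))) (Nat.ble 1754112 i))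
noncomputable def nd1627 (i : Nat) : Nat := (Bool.rec (motive := fun _ => Nat) (nl3551 i) ((Bool.rec (motive := fun _ => Nat) (nl3552 i) (nl3553 i) (Nat.ble 1758208 i))) (Nat.ble 1757184 i))
noncomputable def nd1628 (i : Nat) : Nat := (Bool.rec (motive := fun _ => Nat) ((Bool.rec (motive := fun _ => Nat) (nl3554 i) (nl3555 i) (Nat.ble 1760256 i))) ((Bool.rec (motive := fun _ => Nat) (nl3556 i) (nl3557 i) (Nat.ble 1762304 i))) (Nat.ble 1761280 i))
noncomputable def nd1624 (i : Nat) : Nat := (Bool.rec (motive := fun _ => Nat) ((Bool.rec (motive := fun _ => Nat) (nd1625 i) (nd1626 i) (Nat.ble 1752064 i))) ((Bool.rec (motive := fun _ => Nat) (nd1627 i) (nd1628 i) (Nat.ble 1759232 i))) (Nat.ble 1756160 i))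
noncomputable def nd1630 (i : Nat) : Nat := (Bool.rec (motive := fun _ => Nat) (nl3558 i) ((Bool.rec (motive := fun _ => Nat) (nl3559 i) (nl3560 i) (Nat.ble 1765376 i))) (Nat.ble 1764352 i))
noncomputable def nd1631 (i : Nat) : Nat := (Bool.rec (motive := fun _ => Nat) ((Bool.rec (motive := fun _ => Nat) (nl3561 i) (nl3562 i) (Nat.ble 1767424 i))) ((Bool.rec (motive := fun _ => Nat) (nl3563 i) (nl3564 i) (Nat.ble 1769472 i))) (Nat.ble 1768448 i))
noncomputable def nd1632 (i : Nat) : Nat := (Bool.rec (motive := fun _ => Nat) (nl3565 i) ((Bool.rec (motive := fun _ => Nat) (nl3566 i) (nl3567 i) (Nat.ble 1772544 i))) (Nat.ble 1771520 i))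
noncomputable def nd1633 (i : Nat) : Nat := (Bool.rec (motive := fun _ => Nat) ((Bool.rec (motive := fun _ => Nat) (nl3568 i) (nl3569 i) (Nat.ble 1774592 i))) ((Bool.rec (motive := fun _ => Nat) (nl3570 i) (nl3571 i) (Nat.ble 1776640 i))) (Nat.ble 1775616 i))
noncomputable def nd1629 (i : Nat) : Nat := (Bool.rec (motive := fun _ => Nat) ((Bool.rec (motive := fun _ => Nat) (nd1630 i) (nd1631 i) (Nat.ble 1766400 i))) ((Bool.rec (motive := fun _ => Nat) (nd1632 i) (nd1633 i) (Nat.ble 1773568 i))) (Nat.ble 1770496 i))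
noncomputable def nd1635 (i : Nat) : Nat := (Bool.rec (motive := fun _ => Nat) (nl3572 i) ((Bool.rec (motive := fun _ => Nat) (nl3573 i) (nl3574 i) (Nat.ble 1779712 i))) (Nat.ble 1778688 i))
noncomputable def nd1636 (i : Nat) : Nat := (Bool.rec (motive := fun _ => Nat) ((Bool.rec (motive := fun _ => Nat) (nl3575 i) (nl3576 i) (Nat.ble 1781760 i))) ((Bool.rec (motive := fun _ => Nat) (nl3577 i) (nl3578 i) (Nat.ble 1783808 i))) (Nat.ble 1782784 i))
noncomputable def nd1637 (i : Nat) : Nat := (Bool.rec (motive := fun _ => Nat) (nl3579 i) ((Bool.rec (motive := fun _ => Nat) (nl3580 i) (nl3581 i) (Nat.ble 1786880 i))) (Nat.ble 1785856 i))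
noncomputable def nd1638 (i : Nat) : Nat := (Bool.rec (motive := fun _ => Nat) ((Bool.rec (motive := fun _ => Nat) (nl3582 i) (nl3583 i) (Nat.ble 1788928 i))) ((Bool.rec (motive := fun _ => Nat) (nl3584 i) (nl3585 i) (Nat.ble 1790976 i))) (Nat.ble 1789952 i))
noncomputable def nd1634 (i : Nat) : Nat := (Bool.rec (motive := fun _ => Nat) ((Bool.rec (motive := fun _ => Nat) (nd1635 i) (nd1636 i) (Nat.ble 1780736 i))) ((Bool.rec (motive := fun _ => Nat) (nd1637 i) (nd1638 i) (Nat.ble 1787904 i))) (Nat.ble 1784832 i))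
noncomputable def nd1640 (i : Nat) : Nat := (Bool.rec (motive := fun _ => Nat) (nl3586 i) ((Bool.rec (motive := fun _ => Nat) (nl3587 i) (nl3588 i) (Nat.ble 1794048 i))) (Nat.ble 1793024 i))
noncomputable def nd1641 (i : Nat) : Nat := (Bool.rec (motive := fun _ => Nat) ((Bool.rec (motive := fun _ => Nat) (nl3589 i) (nl3590 i) (Nat.ble 1796096 i))) ((Bool.rec (motive := fun _ => Nat) (nl3591 i) (nl3592 i) (Nat.ble 1798144 i))) (Nat.ble 1797120 i))
noncomputable def nd1642 (i : Nat) : Nat := (Bool.rec (motive := fun _ => Nat) ((Bool.rec (motive := fun _ => Nat) (nl3593 i) (nl3594 i) (Nat.ble 1800192 i))) ((Bool.rec (motive := fun _ => Nat) (nl3595 i) (nl3596 i) (Nat.ble 1802240 i))) (Nat.ble 1801216 i))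
noncomputable def nd1643 (i : Nat) : Nat := (Bool.rec (motive := fun _ => Nat) ((Bool.rec (motive := fun _ => Nat) (nl3597 i) (nl3598 i) (Nat.ble 1804288 i))) ((Bool.rec (motive := fun _ => Nat) (nl3599 i) (nl3600 i) (Nat.ble 1806336 i))) (Nat.ble 1805312 i))
noncomputable def nd1639 (i : Nat) : Nat := (Bool.rec (motive := fun _ => Nat) ((Bool.rec (motive := fun _ => Nat) (nd1640 i) (nd1641 i) (Nat.ble 1795072 i))) ((Bool.rec (motive := fun _ => Nat) (nd1642 i) (nd1643 i) (Nat.ble 1803264 i))) (Nat.ble 1799168 i))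
noncomputable def nd1623 (i : Nat) : Nat := (Bool.rec (motive := fun _ => Nat) ((Bool.rec (motive := fun _ => Nat) (nd1624 i) (nd1629 i) (Nat.ble 1763328 i))) ((Bool.rec (motive := fun _ => Nat) (nd1634 i) (nd1639 i) (Nat.ble 1792000 i))) (Nat.ble 1777664 i))
noncomputable def nd1646 (i : Nat) : Nat := (Bool.rec (motive := fun _ => Nat) (nl3601 i) ((Bool.rec (motive := fun _ => Nat) (nl3602 i) (nl3603 i) (Nat.ble 1809408 i))) (Nat.ble 1808384 i))
noncomputable def nd1647 (i : Nat) : Nat := (Bool.rec (motive := fun _ => Nat) ((Bool.rec (motive := fun _ => Nat) (nl3604 i) (nl3605 i) (Nat.ble 1811456 i))) ((Bool.rec (motive := fun _ => Nat) (nl3606 i) (nl3607 i) (Nat.ble 1813504 i))) (Nat.ble 1812480 i))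
noncomputable def nd1648 (i : Nat) : Nat := (Bool.rec (motive := fun _ => Nat) (nl3608 i) ((Bool.rec (motive := fun _ => Nat) (nl3609 i) (nl3610 i) (Nat.ble 1816576 i))) (Nat.ble 1815552 i))
noncomputable def nd1649 (i : Nat) : Nat := (Bool.rec (motive := fun _ => Nat) ((Bool.rec (motive := fun _ => Nat) (nl3611 i) (nl3612 i) (Nat.ble 1818624 i))) ((Bool.rec (motive := fun _ => Nat) (nl3613 i) (nl3614 i) (Nat.ble 1820672 i))) (Nat.ble 1819648 i))
noncomputable def nd1645 (i : Nat) : Nat := (Bool.rec (motive := fun _ => Nat) ((Bool.rec (motive := fun _ => Nat) (nd1646 i) (nd1647 i) (Nat.ble 1810432 i))) ((Bool.rec (motive := fun _ => Nat) (nd1648 i) (nd1649 i) (Nat.ble 1817600 i))) (Nat.ble 1814528 i))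
noncomputable def nd1651 (i : Nat) : Nat := (Bool.rec (motive := fun _ => Nat) (nl3615 i) ((Bool.rec (motive := fun _ => Nat) (nl3616 i) (nl3617 i) (Nat.ble 1823744 i))) (Nat.ble 1822720 i))
noncomputable def nd1652 (i : Nat) : Nat := (Bool.rec (motive := fun _ => Nat) ((Bool.rec (motive := fun _ => Nat) (nl3618 i) (nl3619 i) (Nat.ble 1825792 i))) ((Bool.rec (motive := fun _ => Nat) (nl3620 i) (nl3621 i) (Nat.ble 1827840 i))) (Nat.ble 1826816 i))
noncomputable def nd1653 (i : Nat) : Nat := (Bool.rec (motive := fun _ => Nat) (nl3622 i) ((Bool.rec (motive := fun _ => Nat) (nl3623 i) (nl3624 i) (Nat.ble 1830912 i))) (Nat.ble 1829888 i))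
noncomputable def nd1654 (i : Nat) : Nat := (Bool.rec (motive := fun _ => Nat) ((Bool.rec (motive := fun _ => Nat) (nl3625 i) (nl3626 i) (Nat.ble 1832960 i))) ((Bool.rec (motive := fun _ => Nat) (nl3627 i) (nl3628 i) (Nat.ble 1835008 i))) (Nat.ble 1833984 i))
noncomputable def nd1650 (i : Nat) : Nat := (Bool.rec (motive := fun _ => Nat) ((Bool.rec (motive := fun _ => Nat) (nd1651 i) (nd1652 i) (Nat.ble 1824768 i))) ((Bool.rec (motive := fun _ => Nat) (nd1653 i) (nd1654 i) (Nat.ble 1831936 i))) (Nat.ble 1828864 i))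
noncomputable def nd1656 (i : Nat) : Nat := (Bool.rec (motive := fun _ => Nat) (nl3629 i) ((Bool.rec (motive := fun _ => Nat) (nl3630 i) (nl3631 i) (Nat.ble 1838080 i))) (Nat.ble 1837056 i))
noncomputable def nd1657 (i : Nat) : Nat := (Bool.rec (motive := fun _ => Nat) ((Bool.rec (motive := fun _ => Nat) (nl3632 i) (nl3633 i) (Nat.ble 1840128 i))) ((Bool.rec (motive := fun _ => Nat) (nl3634 i) (nl3635 i) (Nat.ble 1842176 i))) (Nat.ble 1841152 i))
noncomputable def nd1658 (i : Nat) : Nat := (Bool.rec (motive := fun _ => Nat) (nl3636 i) ((Bool.rec (motive := fun _ => Nat) (nl3637 i) (nl3638 i) (Nat.ble 1845248 i))) (Nat.ble 1844224 i))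
noncomputable def nd1659 (i : Nat) : Nat := (Bool.rec (motive := fun _ => Nat) ((Bool.rec (motive := fun _ => Nat) (nl3639 i) (nl3640 i) (Nat.ble 1847296 i))) ((Bool.rec (motive := fun _ => Nat) (nl3641 i) (nl3642 i) (Nat.ble 1849344 i))) (Nat.ble 1848320 i))
noncomputable def nd1655 (i : Nat) : Nat := (Bool.rec (motive := fun _ => Nat) ((Bool.rec (motive := fun _ => Nat) (nd1656 i) (nd1657 i) (Nat.ble 1839104 i))) ((Bool.rec (motive := fun _ => Nat) (nd1658 i) (nd1659 i) (Nat.ble 1846272 i))) (Nat.ble 1843200 i))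
noncomputable def nd1661 (i : Nat) : Nat := (Bool.rec (motive := fun _ => Nat) (nl3643 i) ((Bool.rec (motive := fun _ => Nat) (nl3644 i) (nl3645 i) (Nat.ble 1852416 i))) (Nat.ble 1851392 i))
noncomputable def nd1662 (i : Nat) : Nat := (Bool.rec (motive := fun _ => Nat) ((Bool.rec (motive := fun _ => Nat) (nl3646 i) (nl3647 i) (Nat.ble 1854464 i))) ((Bool.rec (motive := fun _ => Nat) (nl3648 i) (nl3649 i) (Nat.ble 1856512 i))) (Nat.ble 1855488 i))
noncomputable def nd1663 (i : Nat) : Nat := (Bool.rec (motive := fun _ => Nat) ((Bool.rec (motive := fun _ => Nat) (nl3650 i) (nl3651 i) (Nat.ble 1858560 i))) ((Bool.rec (motive := fun _ => Nat) (nl3652 i) (nl3653 i) (Nat.ble 1860608 i))) (Nat.ble 1859584 i))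
noncomputable def nd1664 (i : Nat) : Nat := (Bool.rec (motive := fun _ => Nat) ((Bool.rec (motive := fun _ => Nat) (nl3654 i) (nl3655 i) (Nat.ble 1862656 i))) ((Bool.rec (motive := fun _ => Nat) (nl3656 i) (nl3657 i) (Nat.ble 1864704 i))) (Nat.ble 1863680 i))
noncomputable def nd1660 (i : Nat) : Nat := (Bool.rec (motive := fun _ => Nat) ((Bool.rec (motive := fun _ => Nat) (nd1661 i) (nd1662 i) (Nat.ble 1853440 i))) ((Bool.rec (motive := fun _ => Nat) (nd1663 i) (nd1664 i) (Nat.ble 1861632 i))) (Nat.ble 1857536 i))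
noncomputable def nd1644 (i : Nat) : Nat := (Bool.rec (motive := fun _ => Nat) ((Bool.rec (motive := fun _ => Nat) (nd1645 i) (nd1650 i) (Nat.ble 1821696 i))) ((Bool.rec (motive := fun _ => Nat) (nd1655 i) (nd1660 i) (Nat.ble 1850368 i))) (Nat.ble 1836032 i))
noncomputable def nd1580 (i : Nat) : Nat := (Bool.rec (motive := fun _ => Nat) ((Bool.rec (motive := fun _ => Nat) (nd1581 i) (nd1602 i) (Nat.ble 1690624 i))) ((Bool.rec (motive := fun _ => Nat) (nd1623 i) (nd1644 i) (Nat.ble 1807360 i))) (Nat.ble 1748992 i))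
noncomputable def nd1324 (i : Nat) : Nat := (Bool.rec (motive := fun _ => Nat) ((Bool.rec (motive := fun _ => Nat) (nd1325 i) (nd1410 i) (Nat.ble 1165312 i))) ((Bool.rec (motive := fun _ => Nat) (nd1495 i) (nd1580 i) (Nat.ble 1632256 i))) (Nat.ble 1398784 i))
noncomputable def nd1669 (i : Nat) : Nat := (Bool.rec (motive := fun _ => Nat) (nl3658 i) ((Bool.rec (motive := fun _ => Nat) (nl3659 i) (nl3660 i) (Nat.ble 1867776 i))) (Nat.ble 1866752 i))
noncomputable def nd1670 (i : Nat) : Nat := (Bool.rec (motive := fun _ => Nat) ((Bool.rec (motive := fun _ => Nat) (nl3661 i) (nl3662 i) (Nat.ble 1869824 i))) ((Bool.rec (motive := fun _ => Nat) (nl3663 i) (nl3664 i) (Nat.ble 1871872 i))) (Nat.ble 1870848 i))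
noncomputable def nd1671 (i : Nat) : Nat := (Bool.rec (motive := fun _ => Nat) (nl3665 i) ((Bool.rec (motive := fun _ => Nat) (nl3666 i) (nl3667 i) (Nat.ble 1874944 i))) (Nat.ble 1873920 i))
noncomputable def nd1672 (i : Nat) : Nat := (Bool.rec (motive := fun _ => Nat) ((Bool.rec (motive := fun _ => Nat) (nl3668 i) (nl3669 i) (Nat.ble 1876992 i))) ((Bool.rec (motive := fun _ => Nat) (nl3670 i) (nl3671 i) (Nat.ble 1879040 i))) (Nat.ble 1878016 i))
noncomputable def nd1668 (i : Nat) : Nat := (Bool.rec (motive := fun _ => Nat) ((Bool.rec (motive := fun _ => Nat) (nd1669 i) (nd1670 i) (Nat.ble 1868800 i))) ((Bool.rec (motive := fun _ => Nat) (nd1671 i) (nd1672 i) (Nat.ble 1875968 i))) (Nat.ble 1872896 i))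
noncomputable def nd1674 (i : Nat) : Nat := (Bool.rec (motive := fun _ => Nat) (nl3672 i) ((Bool.rec (motive := fun _ => Nat) (nl3673 i) (nl3674 i) (Nat.ble 1882112 i))) (Nat.ble 1881088 i))
noncomputable def nd1675 (i : Nat) : Nat := (Bool.rec (motive := fun _ => Nat) ((Bool.rec (motive := fun _ => Nat) (nl3675 i) (nl3676 i) (Nat.ble 1884160 i))) ((Bool.rec (motive := fun _ => Nat) (nl3677 i) (nl3678 i) (Nat.ble 1886208 i))) (Nat.ble 1885184 i))
noncomputable def nd1676 (i : Nat) : Nat := (Bool.rec (motive := fun _ => Nat) (nl3679 i) ((Bool.rec (motive := fun _ => Nat) (nl3680 i) (nl3681 i) (Nat.ble 1889280 i))) (Nat.ble 1888256 i))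
noncomputable def nd1677 (i : Nat) : Nat := (Bool.rec (motive := fun _ => Nat) ((Bool.rec (motive := fun _ => Nat) (nl3682 i) (nl3683 i) (Nat.ble 1891328 i))) ((Bool.rec (motive := fun _ => Nat) (nl3684 i) (nl3685 i) (Nat.ble 1893376 i))) (Nat.ble 1892352 i))
noncomputable def nd1673 (i : Nat) : Nat := (Bool.rec (motive := fun _ => Nat) ((Bool.rec (motive := fun _ => Nat) (nd1674 i) (nd1675 i) (Nat.ble 1883136 i))) ((Bool.rec (motive := fun _ => Nat) (nd1676 i) (nd1677 i) (Nat.ble 1890304 i))) (Nat.ble 1887232 i))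
noncomputable def nd1679 (i : Nat) : Nat := (Bool.rec (motive := fun _ => Nat) (nl3686 i) ((Bool.rec (motive := fun _ => Nat) (nl3687 i) (nl3688 i) (Nat.ble 1896448 i))) (Nat.ble 1895424 i))
noncomputable def nd1680 (i : Nat) : Nat := (Bool.rec (motive := fun _ => Nat) ((Bool.rec (motive := fun _ => Nat) (nl3689 i) (nl3690 i) (Nat.ble 1898496 i))) ((Bool.rec (motive := fun _ => Nat) (nl3691 i) (nl3692 i) (Nat.ble 1900544 i))) (Nat.ble 1899520 i))
noncomputable def nd1681 (i : Nat) : Nat := (Bool.rec (motive := fun _ => Nat) (nl3693 i) ((Bool.rec (motive := fun _ => Nat) (nl3694 i) (nl3695 i) (Nat.ble 1903616 i))) (Nat.ble 1902592 i))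
noncomputable def nd1682 (i : Nat) : Nat := (Bool.rec (motive := fun _ => Nat) ((Bool.rec (motive := fun _ => Nat) (nl3696 i) (nl3697 i) (Nat.ble 1905664 i))) ((Bool.rec (motive := fun _ => Nat) (nl3698 i) (nl3699 i) (Nat.ble 1907712 i))) (Nat.ble 1906688 i))
noncomputable def nd1678 (i : Nat) : Nat := (Bool.rec (motive := fun _ => Nat) ((Bool.rec (motive := fun _ => Nat) (nd1679 i) (nd1680 i) (Nat.ble 1897472 i))) ((Bool.rec (motive := fun _ => Nat) (nd1681 i) (nd1682 i) (Nat.ble 1904640 i))) (Nat.ble 1901568 i))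
noncomputable def nd1684 (i : Nat) : Nat := (Bool.rec (motive := fun _ => Nat) (nl3700 i) ((Bool.rec (motive := fun _ => Nat) (nl3701 i) (nl3702 i) (Nat.ble 1910784 i))) (Nat.ble 1909760 i))
noncomputable def nd1685 (i : Nat) : Nat := (Bool.rec (motive := fun _ => Nat) ((Bool.rec (motive := fun _ => Nat) (nl3703 i) (nl3704 i) (Nat.ble 1912832 i))) ((Bool.rec (motive := fun _ => Nat) (nl3705 i) (nl3706 i) (Nat.ble 1914880 i))) (Nat.ble 1913856 i))
noncomputable def nd1686 (i : Nat) : Nat := (Bool.rec (motive := fun _ => Nat) (nl3707 i) ((Bool.rec (motive := fun _ => Nat) (nl3708 i) (nl3709 i) (Nat.ble 1917952 i))) (Nat.ble 1916928 i))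
noncomputable def nd1687 (i : Nat) : Nat := (Bool.rec (motive := fun _ => Nat) ((Bool.rec (motive := fun _ => Nat) (nl3710 i) (nl3711 i) (Nat.ble 1920000 i))) ((Bool.rec (motive := fun _ => Nat) (nl3712 i) (nl3713 i) (Nat.ble 1922048 i))) (Nat.ble 1921024 i))
noncomputable def nd1683 (i : Nat) : Nat := (Bool.rec (motive := fun _ => Nat) ((Bool.rec (motive := fun _ => Nat) (nd1684 i) (nd1685 i) (Nat.ble 1911808 i))) ((Bool.rec (motive := fun _ => Nat) (nd1686 i) (nd1687 i) (Nat.ble 1918976 i))) (Nat.ble 1915904 i))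
noncomputable def nd1667 (i : Nat) : Nat := (Bool.rec (motive := fun _ => Nat) ((Bool.rec (motive := fun _ => Nat) (nd1668 i) (nd1673 i) (Nat.ble 1880064 i))) ((Bool.rec (motive := fun _ => Nat) (nd1678 i) (nd1683 i) (Nat.ble 1908736 i))) (Nat.ble 1894400 i))
noncomputable def nd1690 (i : Nat) : Nat := (Bool.rec (motive := fun _ => Nat) (nl3714 i) ((Bool.rec (motive := fun _ => Nat) (nl3715 i) (nl3716 i) (Nat.ble 1925120 i))) (Nat.ble 1924096 i))
noncomputable def nd1691 (i : Nat) : Nat := (Bool.rec (motive := fun _ => Nat) ((Bool.rec (motive := fun _ => Nat) (nl3717 i) (nl3718 i) (Nat.ble 1927168 i))) ((Bool.rec (motive := fun _ => Nat) (nl3719 i) (nl3720 i) (Nat.ble 1929216 i))) (Nat.ble 1928192 i))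
noncomputable def nd1692 (i : Nat) : Nat := (Bool.rec (motive := fun _ => Nat) (nl3721 i) ((Bool.rec (motive := fun _ => Nat) (nl3722 i) (nl3723 i) (Nat.ble 1932288 i))) (Nat.ble 1931264 i))
noncomputable def nd1693 (i : Nat) : Nat := (Bool.rec (motive := fun _ => Nat) ((Bool.rec (motive := fun _ => Nat) (nl3724 i) (nl3725 i) (Nat.ble 1934336 i))) ((Bool.rec (motive := fun _ => Nat) (nl3726 i) (nl3727 i) (Nat.ble 1936384 i))) (Nat.ble 1935360 i))
noncomputable def nd1689 (i : Nat) : Nat := (Bool.rec (motive := fun _ => Nat) ((Bool.rec (motive := fun _ => Nat) (nd1690 i) (nd1691 i) (Nat.ble 1926144 i))) ((Bool.rec (motive := fun _ => Nat) (nd1692 i) (nd1693 i) (Nat.ble 1933312 i))) (Nat.ble 1930240 i))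
noncomputable def nd1695 (i : Nat) : Nat := (Bool.rec (motive := fun _ => Nat) (nl3728 i) ((Bool.rec (motive := fun _ => Nat) (nl3729 i) (nl3730 i) (Nat.ble 1939456 i))) (Nat.ble 1938432 i))
noncomputable def nd1696 (i : Nat) : Nat := (Bool.rec (motive := fun _ => Nat) ((Bool.rec (motive := fun _ => Nat) (nl3731 i) (nl3732 i) (Nat.ble 1941504 i))) ((Bool.rec (motive := fun _ => Nat) (nl3733 i) (nl3734 i) (Nat.ble 1943552 i))) (Nat.ble 1942528 i))
noncomputable def nd1697 (i : Nat) : Nat := (Bool.rec (motive := fun _ => Nat) (nl3735 i) ((Bool.rec (motive := fun _ => Nat) (nl3736 i) (nl3737 i) (Nat.ble 1946624 i))) (Nat.ble 1945600 i))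
noncomputable def nd1698 (i : Nat) : Nat := (Bool.rec (motive := fun _ => Nat) ((Bool.rec (motive := fun _ => Nat) (nl3738 i) (nl3739 i) (Nat.ble 1948672 i))) ((Bool.rec (motive := fun _ => Nat) (nl3740 i) (nl3741 i) (Nat.ble 1950720 i))) (Nat.ble 1949696 i))
noncomputable def nd1694 (i : Nat) : Nat := (Bool.rec (motive := fun _ => Nat) ((Bool.rec (motive := fun _ => Nat) (nd1695 i) (nd1696 i) (Nat.ble 1940480 i))) ((Bool.rec (motive := fun _ => Nat) (nd1697 i) (nd1698 i) (Nat.ble 1947648 i))) (Nat.ble 1944576 i))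
noncomputable def nd1700 (i : Nat) : Nat := (Bool.rec (motive := fun _ => Nat) (nl3742 i) ((Bool.rec (motive := fun _ => Nat) (nl3743 i) (nl3744 i) (Nat.ble 1953792 i))) (Nat.ble 1952768 i))
noncomputable def nd1701 (i : Nat) : Nat := (Bool.rec (motive := fun _ => Nat) ((Bool.rec (motive := fun _ => Nat) (nl3745 i) (nl3746 i) (Nat.ble 1955840 i))) ((Bool.rec (motive := fun _ => Nat) (nl3747 i) (nl3748 i) (Nat.ble 1957888 i))) (Nat.ble 1956864 i))
noncomputable def nd1702 (i : Nat) : Nat := (Bool.rec (motive := fun _ => Nat) (nl3749 i) ((Bool.rec (motive := fun _ => Nat) (nl3750 i) (nl3751 i) (Nat.ble 1960960 i))) (Nat.ble 1959936 i))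
noncomputable def nd1703 (i : Nat) : Nat := (Bool.rec (motive := fun _ => Nat) ((Bool.rec (motive := fun _ => Nat) (nl3752 i) (nl3753 i) (Nat.ble 1963008 i))) ((Bool.rec (motive := fun _ => Nat) (nl3754 i) (nl3755 i) (Nat.ble 1965056 i))) (Nat.ble 1964032 i))
noncomputable def nd1699 (i : Nat) : Nat := (Bool.rec (motive := fun _ => Nat) ((Bool.rec (motive := fun _ => Nat) (nd1700 i) (nd1701 i) (Nat.ble 1954816 i))) ((Bool.rec (motive := fun _ => Nat) (nd1702 i) (nd1703 i) (Nat.ble 1961984 i))) (Nat.ble 1958912 i))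
noncomputable def nd1705 (i : Nat) : Nat := (Bool.rec (motive := fun _ => Nat) (nl3756 i) ((Bool.rec (motive := fun _ => Nat) (nl3757 i) (nl3758 i) (Nat.ble 1968128 i))) (Nat.ble 1967104 i))
noncomputable def nd1706 (i : Nat) : Nat := (Bool.rec (motive := fun _ => Nat) ((Bool.rec (motive := fun _ => Nat) (nl3759 i) (nl3760 i) (Nat.ble 1970176 i))) ((Bool.rec (motive := fun _ => Nat) (nl3761 i) (nl3762 i) (Nat.ble 1972224 i))) (Nat.ble 1971200 i))
noncomputable def nd1707 (i : Nat) : Nat := (Bool.rec (motive := fun _ => Nat) ((Bool.rec (motive := fun _ => Nat) (nl3763 i) (nl3764 i) (Nat.ble 1974272 i))) ((Bool.rec (motive := fun _ => Nat) (nl3765 i) (nl3766 i) (Nat.ble 1976320 i))) (Nat.ble 1975296 i))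
noncomputable def nd1708 (i : Nat) : Nat := (Bool.rec (motive := fun _ => Nat) ((Bool.rec (motive := fun _ => Nat) (nl3767 i) (nl3768 i) (Nat.ble 1978368 i))) ((Bool.rec (motive := fun _ => Nat) (nl3769 i) (nl3770 i) (Nat.ble 1980416 i))) (Nat.ble 1979392 i))
noncomputable def nd1704 (i : Nat) : Nat := (Bool.rec (motive := fun _ => Nat) ((Bool.rec (motive := fun _ => Nat) (nd1705 i) (nd1706 i) (Nat.ble 1969152 i))) ((Bool.rec (motive := fun _ => Nat) (nd1707 i) (nd1708 i) (Nat.ble 1977344 i))) (Nat.ble 1973248 i))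
noncomputable def nd1688 (i : Nat) : Nat := (Bool.rec (motive := fun _ => Nat) ((Bool.rec (motive := fun _ => Nat) (nd1689 i) (nd1694 i) (Nat.ble 1937408 i))) ((Bool.rec (motive := fun _ => Nat) (nd1699 i) (nd1704 i) (Nat.ble 1966080 i))) (Nat.ble 1951744 i))
noncomputable def nd1711 (i : Nat) : Nat := (Bool.rec (motive := fun _ => Nat) (nl3771 i) ((Bool.rec (motive := fun _ => Nat) (nl3772 i) (nl3773 i) (Nat.ble 1983488 i))) (Nat.ble 1982464 i))
noncomputable def nd1712 (i : Nat) : Nat := (Bool.rec (motive := fun _ => Nat) ((Bool.rec (motive := fun _ => Nat) (nl3774 i) (nl3775 i) (Nat.ble 1985536 i))) ((Bool.rec (motive := fun _ => Nat) (nl3776 i) (nl3777 i) (Nat.ble 1987584 i))) (Nat.ble 1986560 i))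
noncomputable def nd1713 (i : Nat) : Nat := (Bool.rec (motive := fun _ => Nat) (nl3778 i) ((Bool.rec (motive := fun _ => Nat) (nl3779 i) (nl3780 i) (Nat.ble 1990656 i))) (Nat.ble 1989632 i))
noncomputable def nd1714 (i : Nat) : Nat := (Bool.rec (motive := fun _ => Nat) ((Bool.rec (motive := fun _ => Nat) (nl3781 i) (nl3782 i) (Nat.ble 1992704 i))) ((Bool.rec (motive := fun _ => Nat) (nl3783 i) (nl3784 i) (Nat.ble 1994752 i))) (Nat.ble 1993728 i))
noncomputable def nd1710 (i : Nat) : Nat := (Bool.rec (motive := fun _ => Nat) ((Bool.rec (motive := fun _ => Nat) (nd1711 i) (nd1712 i) (Nat.ble 1984512 i))) ((Bool.rec (motive := fun _ => Nat) (nd1713 i) (nd1714 i) (Nat.ble 1991680 i))) (Nat.ble 1988608 i))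
noncomputable def nd1716 (i : Nat) : Nat := (Bool.rec (motive := fun _ => Nat) (nl3785 i) ((Bool.rec (motive := fun _ => Nat) (nl3786 i) (nl3787 i) (Nat.ble 1997824 i))) (Nat.ble 1996800 i))
noncomputable def nd1717 (i : Nat) : Nat := (Bool.rec (motive := fun _ => Nat) ((Bool.rec (motive := fun _ => Nat) (nl3788 i) (nl3789 i) (Nat.ble 1999872 i))) ((Bool.rec (motive := fun _ => Nat) (nl3790 i) (nl3791 i) (Nat.ble 2001920 i))) (Nat.ble 2000896 i))
noncomputable def nd1718 (i : Nat) : Nat := (Bool.rec (motive := fun _ => Nat) (nl3792 i) ((Bool.rec (motive := fun _ => Nat) (nl3793 i) (nl3794 i) (Nat.ble 2004992 i))) (Nat.ble 2003968 i))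
noncomputable def nd1719 (i : Nat) : Nat := (Bool.rec (motive := fun _ => Nat) ((Bool.rec (motive := fun _ => Nat) (nl3795 i) (nl3796 i) (Nat.ble 2007040 i))) ((Bool.rec (motive := fun _ => Nat) (nl3797 i) (nl3798 i) (Nat.ble 2009088 i))) (Nat.ble 2008064 i))
noncomputable def nd1715 (i : Nat) : Nat := (Bool.rec (motive := fun _ => Nat) ((Bool.rec (motive := fun _ => Nat) (nd1716 i) (nd1717 i) (Nat.ble 1998848 i))) ((Bool.rec (motive := fun _ => Nat) (nd1718 i) (nd1719 i) (Nat.ble 2006016 i))) (Nat.ble 2002944 i))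
noncomputable def nd1721 (i : Nat) : Nat := (Bool.rec (motive := fun _ => Nat) (nl3799 i) ((Bool.rec (motive := fun _ => Nat) (nl3800 i) (nl3801 i) (Nat.ble 2012160 i))) (Nat.ble 2011136 i))
noncomputable def nd1722 (i : Nat) : Nat := (Bool.rec (motive := fun _ => Nat) ((Bool.rec (motive := fun _ => Nat) (nl3802 i) (nl3803 i) (Nat.ble 2014208 i))) ((Bool.rec (motive := fun _ => Nat) (nl3804 i) (nl3805 i) (Nat.ble 2016256 i))) (Nat.ble 2015232 i))
noncomputable def nd1723 (i : Nat) : Nat := (Bool.rec (motive := fun _ => Nat) (nl3806 i) ((Bool.rec (motive := fun _ => Nat) (nl3807 i) (nl3808 i) (Nat.ble 2019328 i))) (Nat.ble 2018304 i))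
noncomputable def nd1724 (i : Nat) : Nat := (Bool.rec (motive := fun _ => Nat) ((Bool.rec (motive := fun _ => Nat) (nl3809 i) (nl3810 i) (Nat.ble 2021376 i))) ((Bool.rec (motive := fun _ => Nat) (nl3811 i) (nl3812 i) (Nat.ble 2023424 i))) (Nat.ble 2022400 i))
noncomputable def nd1720 (i : Nat) : Nat := (Bool.rec (motive := fun _ => Nat) ((Bool.rec (motive := fun _ => Nat) (nd1721 i) (nd1722 i) (Nat.ble 2013184 i))) ((Bool.rec (motive := fun _ => Nat) (nd1723 i) (nd1724 i) (Nat.ble 2020352 i))) (Nat.ble 2017280 i))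
noncomputable def nd1726 (i : Nat) : Nat := (Bool.rec (motive := fun _ => Nat) (nl3813 i) ((Bool.rec (motive := fun _ => Nat) (nl3814 i) (nl3815 i) (Nat.ble 2026496 i))) (Nat.ble 2025472 i))
noncomputable def nd1727 (i : Nat) : Nat := (Bool.rec (motive := fun _ => Nat) ((Bool.rec (motive := fun _ => Nat) (nl3816 i) (nl3817 i) (Nat.ble 2028544 i))) ((Bool.rec (motive := fun _ => Nat) (nl3818 i) (nl3819 i) (Nat.ble 2030592 i))) (Nat.ble 2029568 i))
noncomputable def nd1728 (i : Nat) : Nat := (Bool.rec (motive := fun _ => Nat) ((Bool.rec (motive := fun _ => Nat) (nl3820 i) (nl3821 i) (Nat.ble 2032640 i))) ((Bool.rec (motive := fun _ => Nat) (nl3822 i) (nl3823 i) (Nat.ble 2034688 i))) (Nat.ble 2033664 i))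
noncomputable def nd1729 (i : Nat) : Nat := (Bool.rec (motive := fun _ => Nat) ((Bool.rec (motive := fun _ => Nat) (nl3824 i) (nl3825 i) (Nat.ble 2036736 i))) ((Bool.rec (motive := fun _ => Nat) (nl3826 i) (nl3827 i) (Nat.ble 2038784 i))) (Nat.ble 2037760 i))
noncomputable def nd1725 (i : Nat) : Nat := (Bool.rec (motive := fun _ => Nat) ((Bool.rec (motive := fun _ => Nat) (nd1726 i) (nd1727 i) (Nat.ble 2027520 i))) ((Bool.rec (motive := fun _ => Nat) (nd1728 i) (nd1729 i) (Nat.ble 2035712 i))) (Nat.ble 2031616 i))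
noncomputable def nd1709 (i : Nat) : Nat := (Bool.rec (motive := fun _ => Nat) ((Bool.rec (motive := fun _ => Nat) (nd1710 i) (nd1715 i) (Nat.ble 1995776 i))) ((Bool.rec (motive := fun _ => Nat) (nd1720 i) (nd1725 i) (Nat.ble 2024448 i))) (Nat.ble 2010112 i))
noncomputable def nd1732 (i : Nat) : Nat := (Bool.rec (motive := fun _ => Nat) (nl3828 i) ((Bool.rec (motive := fun _ => Nat) (nl3829 i) (nl3830 i) (Nat.ble 2041856 i))) (Nat.ble 2040832 i))
noncomputable def nd1733 (i : Nat) : Nat := (Bool.rec (motive := fun _ => Nat) ((Bool.rec (motive := fun _ => Nat) (nl3831 i) (nl3832 i) (Nat.ble 2043904 i))) ((Bool.rec (motive := fun _ => Nat) (nl3833 i) (nl3834 i) (Nat.ble 2045952 i))) (Nat.ble 2044928 i))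
noncomputable def nd1734 (i : Nat) : Nat := (Bool.rec (motive := fun _ => Nat) (nl3835 i) ((Bool.rec (motive := fun _ => Nat) (nl3836 i) (nl3837 i) (Nat.ble 2049024 i))) (Nat.ble 2048000 i))
noncomputable def nd1735 (i : Nat) : Nat := (Bool.rec (motive := fun _ => Nat) ((Bool.rec (motive := fun _ => Nat) (nl3838 i) (nl3839 i) (Nat.ble 2051072 i))) ((Bool.rec (motive := fun _ => Nat) (nl3840 i) (nl3841 i) (Nat.ble 2053120 i))) (Nat.ble 2052096 i))
noncomputable def nd1731 (i : Nat) : Nat := (Bool.rec (motive := fun _ => Nat) ((Bool.rec (motive := fun _ => Nat) (nd1732 i) (nd1733 i) (Nat.ble 2042880 i))) ((Bool.rec (motive := fun _ => Nat) (nd1734 i) (nd1735 i) (Nat.ble 2050048 i))) (Nat.ble 2046976 i))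
noncomputable def nd1737 (i : Nat) : Nat := (Bool.rec (motive := fun _ => Nat) (nl3842 i) ((Bool.rec (motive := fun _ => Nat) (nl3843 i) (nl3844 i) (Nat.ble 2056192 i))) (Nat.ble 2055168 i))
noncomputable def nd1738 (i : Nat) : Nat := (Bool.rec (motive := fun _ => Nat) ((Bool.rec (motive := fun _ => Nat) (nl3845 i) (nl3846 i) (Nat.ble 2058240 i))) ((Bool.rec (motive := fun _ => Nat) (nl3847 i) (nl3848 i) (Nat.ble 2060288 i))) (Nat.ble 2059264 i))
noncomputable def nd1739 (i : Nat) : Nat := (Bool.rec (motive := fun _ => Nat) (nl3849 i) ((Bool.rec (motive := fun _ => Nat) (nl3850 i) (nl3851 i) (Nat.ble 2063360 i))) (Nat.ble 2062336 i))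
noncomputable def nd1740 (i : Nat) : Nat := (Bool.rec (motive := fun _ => Nat) ((Bool.rec (motive := fun _ => Nat) (nl3852 i) (nl3853 i) (Nat.ble 2065408 i))) ((Bool.rec (motive := fun _ => Nat) (nl3854 i) (nl3855 i) (Nat.ble 2067456 i))) (Nat.ble 2066432 i))
noncomputable def nd1736 (i : Nat) : Nat := (Bool.rec (motive := fun _ => Nat) ((Bool.rec (motive := fun _ => Nat) (nd1737 i) (nd1738 i) (Nat.ble 2057216 i))) ((Bool.rec (motive := fun _ => Nat) (nd1739 i) (nd1740 i) (Nat.ble 2064384 i))) (Nat.ble 2061312 i))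
noncomputable def nd1742 (i : Nat) : Nat := (Bool.rec (motive := fun _ => Nat) (nl3856 i) ((Bool.rec (motive := fun _ => Nat) (nl3857 i) (nl3858 i) (Nat.ble 2070528 i))) (Nat.ble 2069504 i))
noncomputable def nd1743 (i : Nat) : Nat := (Bool.rec (motive := fun _ => Nat) ((Bool.rec (motive := fun _ => Nat) (nl3859 i) (nl3860 i) (Nat.ble 2072576 i))) ((Bool.rec (motive := fun _ => Nat) (nl3861 i) (nl3862 i) (Nat.ble 2074624 i))) (Nat.ble 2073600 i))
noncomputable def nd1744 (i : Nat) : Nat := (Bool.rec (motive := fun _ => Nat) (nl3863 i) ((Bool.rec (motive := fun _ => Nat) (nl3864 i) (nl3865 i) (Nat.ble 2077696 i))) (Nat.ble 2076672 i))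
noncomputable def nd1745 (i : Nat) : Nat := (Bool.rec (motive := fun _ => Nat) ((Bool.rec (motive := fun _ => Nat) (nl3866 i) (nl3867 i) (Nat.ble 2079744 i))) ((Bool.rec (motive := fun _ => Nat) (nl3868 i) (nl3869 i) (Nat.ble 2081792 i))) (Nat.ble 2080768 i))
noncomputable def nd1741 (i : Nat) : Nat := (Bool.rec (motive := fun _ => Nat) ((Bool.rec (motive := fun _ => Nat) (nd1742 i) (nd1743 i) (Nat.ble 2071552 i))) ((Bool.rec (motive := fun _ => Nat) (nd1744 i) (nd1745 i) (Nat.ble 2078720 i))) (Nat.ble 2075648 i))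
noncomputable def nd1747 (i : Nat) : Nat := (Bool.rec (motive := fun _ => Nat) (nl3870 i) ((Bool.rec (motive := fun _ => Nat) (nl3871 i) (nl3872 i) (Nat.ble 2084864 i))) (Nat.ble 2083840 i))
noncomputable def nd1748 (i : Nat) : Nat := (Bool.rec (motive := fun _ => Nat) ((Bool.rec (motive := fun _ => Nat) (nl3873 i) (nl3874 i) (Nat.ble 2086912 i))) ((Bool.rec (motive := fun _ => Nat) (nl3875 i) (nl3876 i) (Nat.ble 2088960 i))) (Nat.ble 2087936 i))
noncomputable def nd1749 (i : Nat) : Nat := (Bool.rec (motive := fun _ => Nat) ((Bool.rec (motive := fun _ => Nat) (nl3877 i) (nl3878 i) (Nat.ble 2091008 i))) ((Bool.rec (motive := fun _ => Nat) (nl3879 i) (nl3880 i) (Nat.ble 2093056 i))) (Nat.ble 2092032 i))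
noncomputable def nd1750 (i : Nat) : Nat := (Bool.rec (motive := fun _ => Nat) ((Bool.rec (motive := fun _ => Nat) (nl3881 i) (nl3882 i) (Nat.ble 2095104 i))) ((Bool.rec (motive := fun _ => Nat) (nl3883 i) (nl3884 i) (Nat.ble 2097152 i))) (Nat.ble 2096128 i))
noncomputable def nd1746 (i : Nat) : Nat := (Bool.rec (motive := fun _ => Nat) ((Bool.rec (motive := fun _ => Nat) (nd1747 i) (nd1748 i) (Nat.ble 2085888 i))) ((Bool.rec (motive := fun _ => Nat) (nd1749 i) (nd1750 i) (Nat.ble 2094080 i))) (Nat.ble 2089984 i))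
noncomputable def nd1730 (i : Nat) : Nat := (Bool.rec (motive := fun _ => Nat) ((Bool.rec (motive := fun _ => Nat) (nd1731 i) (nd1736 i) (Nat.ble 2054144 i))) ((Bool.rec (motive := fun _ => Nat) (nd1741 i) (nd1746 i) (Nat.ble 2082816 i))) (Nat.ble 2068480 i))
noncomputable def nd1666 (i : Nat) : Nat := (Bool.rec (motive := fun _ => Nat) ((Bool.rec (motive := fun _ => Nat) (nd1667 i) (nd1688 i) (Nat.ble 1923072 i))) ((Bool.rec (motive := fun _ => Nat) (nd1709 i) (nd1730 i) (Nat.ble 2039808 i))) (Nat.ble 1981440 i))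
noncomputable def nd1754 (i : Nat) : Nat := (Bool.rec (motive := fun _ => Nat) (nl3885 i) ((Bool.rec (motive := fun _ => Nat) (nl3886 i) (nl3887 i) (Nat.ble 2100224 i))) (Nat.ble 2099200 i))
noncomputable def nd1755 (i : Nat) : Nat := (Bool.rec (motive := fun _ => Nat) ((Bool.rec (motive := fun _ => Nat) (nl3888 i) (nl3889 i) (Nat.ble 2102272 i))) ((Bool.rec (motive := fun _ => Nat) (nl3890 i) (nl3891 i) (Nat.ble 2104320 i))) (Nat.ble 2103296 i))
noncomputable def nd1756 (i : Nat) : Nat := (Bool.rec (motive := fun _ => Nat) (nl3892 i) ((Bool.rec (motive := fun _ => Nat) (nl3893 i) (nl3894 i) (Nat.ble 2107392 i))) (Nat.ble 2106368 i))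
noncomputable def nd1757 (i : Nat) : Nat := (Bool.rec (motive := fun _ => Nat) ((Bool.rec (motive := fun _ => Nat) (nl3895 i) (nl3896 i) (Nat.ble 2109440 i))) ((Bool.rec (motive := fun _ => Nat) (nl3897 i) (nl3898 i) (Nat.ble 2111488 i))) (Nat.ble 2110464 i))
noncomputable def nd1753 (i : Nat) : Nat := (Bool.rec (motive := fun _ => Nat) ((Bool.rec (motive := fun _ => Nat) (nd1754 i) (nd1755 i) (Nat.ble 2101248 i))) ((Bool.rec (motive := fun _ => Nat) (nd1756 i) (nd1757 i) (Nat.ble 2108416 i))) (Nat.ble 2105344 i))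
noncomputable def nd1759 (i : Nat) : Nat := (Bool.rec (motive := fun _ => Nat) (nl3899 i) ((Bool.rec (motive := fun _ => Nat) (nl3900 i) (nl3901 i) (Nat.ble 2114560 i))) (Nat.ble 2113536 i))
noncomputable def nd1760 (i : Nat) : Nat := (Bool.rec (motive := fun _ => Nat) ((Bool.rec (motive := fun _ => Nat) (nl3902 i) (nl3903 i) (Nat.ble 2116608 i))) ((Bool.rec (motive := fun _ => Nat) (nl3904 i) (nl3905 i) (Nat.ble 2118656 i))) (Nat.ble 2117632 i))
noncomputable def nd1761 (i : Nat) : Nat := (Bool.rec (motive := fun _ => Nat) (nl3906 i) ((Bool.rec (motive := fun _ => Nat) (nl3907 i) (nl3908 i) (Nat.ble 2121728 i))) (Nat.ble 2120704 i))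
noncomputable def nd1762 (i : Nat) : Nat := (Bool.rec (motive := fun _ => Nat) ((Bool.rec (motive := fun _ => Nat) (nl3909 i) (nl3910 i) (Nat.ble 2123776 i))) ((Bool.rec (motive := fun _ => Nat) (nl3911 i) (nl3912 i) (Nat.ble 2125824 i))) (Nat.ble 2124800 i))
noncomputable def nd1758 (i : Nat) : Nat := (Bool.rec (motive := fun _ => Nat) ((Bool.rec (motive := fun _ => Nat) (nd1759 i) (nd1760 i) (Nat.ble 2115584 i))) ((Bool.rec (motive := fun _ => Nat) (nd1761 i) (nd1762 i) (Nat.ble 2122752 i))) (Nat.ble 2119680 i))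
noncomputable def nd1764 (i : Nat) : Nat := (Bool.rec (motive := fun _ => Nat) (nl3913 i) ((Bool.rec (motive := fun _ => Nat) (nl3914 i) (nl3915 i) (Nat.ble 2128896 i))) (Nat.ble 2127872 i))
noncomputable def nd1765 (i : Nat) : Nat := (Bool.rec (motive := fun _ => Nat) ((Bool.rec (motive := fun _ => Nat) (nl3916 i) (nl3917 i) (Nat.ble 2130944 i))) ((Bool.rec (motive := fun _ => Nat) (nl3918 i) (nl3919 i) (Nat.ble 2132992 i))) (Nat.ble 2131968 i))
noncomputable def nd1766 (i : Nat) : Nat := (Bool.rec (motive := fun _ => Nat) (nl3920 i) ((Bool.rec (motive := fun _ => Nat) (nl3921 i) (nl3922 i) (Nat.ble 2136064 i))) (Nat.ble 2135040 i))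
noncomputable def nd1767 (i : Nat) : Nat := (Bool.rec (motive := fun _ => Nat) ((Bool.rec (motive := fun _ => Nat) (nl3923 i) (nl3924 i) (Nat.ble 2138112 i))) ((Bool.rec (motive := fun _ => Nat) (nl3925 i) (nl3926 i) (Nat.ble 2140160 i))) (Nat.ble 2139136 i))
noncomputable def nd1763 (i : Nat) : Nat := (Bool.rec (motive := fun _ => Nat) ((Bool.rec (motive := fun _ => Nat) (nd1764 i) (nd1765 i) (Nat.ble 2129920 i))) ((Bool.rec (motive := fun _ => Nat) (nd1766 i) (nd1767 i) (Nat.ble 2137088 i))) (Nat.ble 2134016 i))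
noncomputable def nd1769 (i : Nat) : Nat := (Bool.rec (motive := fun _ => Nat) (nl3927 i) ((Bool.rec (motive := fun _ => Nat) (nl3928 i) (nl3929 i) (Nat.ble 2143232 i))) (Nat.ble 2142208 i))
noncomputable def nd1770 (i : Nat) : Nat := (Bool.rec (motive := fun _ => Nat) ((Bool.rec (motive := fun _ => Nat) (nl3930 i) (nl3931 i) (Nat.ble 2145280 i))) ((Bool.rec (motive := fun _ => Nat) (nl3932 i) (nl3933 i) (Nat.ble 2147328 i))) (Nat.ble 2146304 i))
noncomputable def nd1771 (i : Nat) : Nat := (Bool.rec (motive := fun _ => Nat) ((Bool.rec (motive := fun _ => Nat) (nl3934 i) (nl3935 i) (Nat.ble 2149376 i))) ((Bool.rec (motive := fun _ => Nat) (nl3936 i) (nl3937 i) (Nat.ble 2151424 i))) (Nat.ble 2150400 i))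
noncomputable def nd1772 (i : Nat) : Nat := (Bool.rec (motive := fun _ => Nat) ((Bool.rec (motive := fun _ => Nat) (nl3938 i) (nl3939 i) (Nat.ble 2153472 i))) ((Bool.rec (motive := fun _ => Nat) (nl3940 i) (nl3941 i) (Nat.ble 2155520 i))) (Nat.ble 2154496 i))
noncomputable def nd1768 (i : Nat) : Nat := (Bool.rec (motive := fun _ => Nat) ((Bool.rec (motive := fun _ => Nat) (nd1769 i) (nd1770 i) (Nat.ble 2144256 i))) ((Bool.rec (motive := fun _ => Nat) (nd1771 i) (nd1772 i) (Nat.ble 2152448 i))) (Nat.ble 2148352 i))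
noncomputable def nd1752 (i : Nat) : Nat := (Bool.rec (motive := fun _ => Nat) ((Bool.rec (motive := fun _ => Nat) (nd1753 i) (nd1758 i) (Nat.ble 2112512 i))) ((Bool.rec (motive := fun _ => Nat) (nd1763 i) (nd1768 i) (Nat.ble 2141184 i))) (Nat.ble 2126848 i))
noncomputable def nd1775 (i : Nat) : Nat := (Bool.rec (motive := fun _ => Nat) (nl3942 i) ((Bool.rec (motive := fun _ => Nat) (nl3943 i) (nl3944 i) (Nat.ble 2158592 i))) (Nat.ble 2157568 i))
noncomputable def nd1776 (i : Nat) : Nat := (Bool.rec (motive := fun _ => Nat) ((Bool.rec (motive := fun _ => Nat) (nl3945 i) (nl3946 i) (Nat.ble 2160640 i))) ((Bool.rec (motive := fun _ => Nat) (nl3947 i) (nl3948 i) (Nat.ble 2162688 i))) (Nat.ble 2161664 i))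
noncomputable def nd1777 (i : Nat) : Nat := (Bool.rec (motive := fun _ => Nat) (nl3949 i) ((Bool.rec (motive := fun _ => Nat) (nl3950 i) (nl3951 i) (Nat.ble 2165760 i))) (Nat.ble 2164736 i))
noncomputable def nd1778 (i : Nat) : Nat := (Bool.rec (motive := fun _ => Nat) ((Bool.rec (motive := fun _ => Nat) (nl3952 i) (nl3953 i) (Nat.ble 2167808 i))) ((Bool.rec (motive := fun _ => Nat) (nl3954 i) (nl3955 i) (Nat.ble 2169856 i))) (Nat.ble 2168832 i))
noncomputable def nd1774 (i : Nat) : Nat := (Bool.rec (motive := fun _ => Nat) ((Bool.rec (motive := fun _ => Nat) (nd1775 i) (nd1776 i) (Nat.ble 2159616 i))) ((Bool.rec (motive := fun _ => Nat) (nd1777 i) (nd1778 i) (Nat.ble 2166784 i))) (Nat.ble 2163712 i))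
noncomputable def nd1780 (i : Nat) : Nat := (Bool.rec (motive := fun _ => Nat) (nl3956 i) ((Bool.rec (motive := fun _ => Nat) (nl3957 i) (nl3958 i) (Nat.ble 2172928 i))) (Nat.ble 2171904 i))
noncomputable def nd1781 (i : Nat) : Nat := (Bool.rec (motive := fun _ => Nat) ((Bool.rec (motive := fun _ => Nat) (nl3959 i) (nl3960 i) (Nat.ble 2174976 i))) ((Bool.rec (motive := fun _ => Nat) (nl3961 i) (nl3962 i) (Nat.ble 2177024 i))) (Nat.ble 2176000 i))
noncomputable def nd1782 (i : Nat) : Nat := (Bool.rec (motive := fun _ => Nat) (nl3963 i) ((Bool.rec (motive := fun _ => Nat) (nl3964 i) (nl3965 i) (Nat.ble 2180096 i))) (Nat.ble 2179072 i))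
noncomputable def nd1783 (i : Nat) : Nat := (Bool.rec (motive := fun _ => Nat) ((Bool.rec (motive := fun _ => Nat) (nl3966 i) (nl3967 i) (Nat.ble 2182144 i))) ((Bool.rec (motive := fun _ => Nat) (nl3968 i) (nl3969 i) (Nat.ble 2184192 i))) (Nat.ble 2183168 i))
noncomputable def nd1779 (i : Nat) : Nat := (Bool.rec (motive := fun _ => Nat) ((Bool.rec (motive := fun _ => Nat) (nd1780 i) (nd1781 i) (Nat.ble 2173952 i))) ((Bool.rec (motive := fun _ => Nat) (nd1782 i) (nd1783 i) (Nat.ble 2181120 i))) (Nat.ble 2178048 i))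
noncomputable def nd1785 (i : Nat) : Nat := (Bool.rec (motive := fun _ => Nat) (nl3970 i) ((Bool.rec (motive := fun _ => Nat) (nl3971 i) (nl3972 i) (Nat.ble 2187264 i))) (Nat.ble 2186240 i))
noncomputable def nd1786 (i : Nat) : Nat := (Bool.rec (motive := fun _ => Nat) ((Bool.rec (motive := fun _ => Nat) (nl3973 i) (nl3974 i) (Nat.ble 2189312 i))) ((Bool.rec (motive := fun _ => Nat) (nl3975 i) (nl3976 i) (Nat.ble 2191360 i))) (Nat.ble 2190336 i))
noncomputable def nd1787 (i : Nat) : Nat := (Bool.rec (motive := fun _ => Nat) (nl3977 i) ((Bool.rec (motive := fun _ => Nat) (nl3978 i) (nl3979 i) (Nat.ble 2194432 i))) (Nat.ble 2193408 i))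
noncomputable def nd1788 (i : Nat) : Nat := (Bool.rec (motive := fun _ => Nat) ((Bool.rec (motive := fun _ => Nat) (nl3980 i) (nl3981 i) (Nat.ble 2196480 i))) ((Bool.rec (motive := fun _ => Nat) (nl3982 i) (nl3983 i) (Nat.ble 2198528 i))) (Nat.ble 2197504 i))
noncomputable def nd1784 (i : Nat) : Nat := (Bool.rec (motive := fun _ => Nat) ((Bool.rec (motive := fun _ => Nat) (nd1785 i) (nd1786 i) (Nat.ble 2188288 i))) ((Bool.rec (motive := fun _ => Nat) (nd1787 i) (nd1788 i) (Nat.ble 2195456 i))) (Nat.ble 2192384 i))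
noncomputable def nd1790 (i : Nat) : Nat := (Bool.rec (motive := fun _ => Nat) (nl3984 i) ((Bool.rec (motive := fun _ => Nat) (nl3985 i) (nl3986 i) (Nat.ble 2201600 i))) (Nat.ble 2200576 i))
noncomputable def nd1791 (i : Nat) : Nat := (Bool.rec (motive := fun _ => Nat) ((Bool.rec (motive := fun _ => Nat) (nl3987 i) (nl3988 i) (Nat.ble 2203648 i))) ((Bool.rec (motive := fun _ => Nat) (nl3989 i) (nl3990 i) (Nat.ble 2205696 i))) (Nat.ble 2204672 i))
noncomputable def nd1792 (i : Nat) : Nat := (Bool.rec (motive := fun _ => Nat) ((Bool.rec (motive := fun _ => Nat) (nl3991 i) (nl3992 i) (Nat.ble 2207744 i))) ((Bool.rec (motive := fun _ => Nat) (nl3993 i) (nl3994 i) (Nat.ble 2209792 i))) (Nat.ble 2208768 i))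
noncomputable def nd1793 (i : Nat) : Nat := (Bool.rec (motive := fun _ => Nat) ((Bool.rec (motive := fun _ => Nat) (nl3995 i) (nl3996 i) (Nat.ble 2211840 i))) ((Bool.rec (motive := fun _ => Nat) (nl3997 i) (nl3998 i) (Nat.ble 2213888 i))) (Nat.ble 2212864 i))
noncomputable def nd1789 (i : Nat) : Nat := (Bool.rec (motive := fun _ => Nat) ((Bool.rec (motive := fun _ => Nat) (nd1790 i) (nd1791 i) (Nat.ble 2202624 i))) ((Bool.rec (motive := fun _ => Nat) (nd1792 i) (nd1793 i) (Nat.ble 2210816 i))) (Nat.ble 2206720 i))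
noncomputable def nd1773 (i : Nat) : Nat := (Bool.rec (motive := fun _ => Nat) ((Bool.rec (motive := fun _ => Nat) (nd1774 i) (nd1779 i) (Nat.ble 2170880 i))) ((Bool.rec (motive := fun _ => Nat) (nd1784 i) (nd1789 i) (Nat.ble 2199552 i))) (Nat.ble 2185216 i))
noncomputable def nd1796 (i : Nat) : Nat := (Bool.rec (motive := fun _ => Nat) (nl3999 i) ((Bool.rec (motive := fun _ => Nat) (nl4000 i) (nl4001 i) (Nat.ble 2216960 i))) (Nat.ble 2215936 i))
noncomputable def nd1797 (i : Nat) : Nat := (Bool.rec (motive := fun _ => Nat) ((Bool.rec (motive := fun _ => Nat) (nl4002 i) (nl4003 i) (Nat.ble 2219008 i))) ((Bool.rec (motive := fun _ => Nat) (nl4004 i) (nl4005 i) (Nat.ble 2221056 i))) (Nat.ble 2220032 i))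
noncomputable def nd1798 (i : Nat) : Nat := (Bool.rec (motive := fun _ => Nat) (nl4006 i) ((Bool.rec (motive := fun _ => Nat) (nl4007 i) (nl4008 i) (Nat.ble 2224128 i))) (Nat.ble 2223104 i))
noncomputable def nd1799 (i : Nat) : Nat := (Bool.rec (motive := fun _ => Nat) ((Bool.rec (motive := fun _ => Nat) (nl4009 i) (nl4010 i) (Nat.ble 2226176 i))) ((Bool.rec (motive := fun _ => Nat) (nl4011 i) (nl4012 i) (Nat.ble 2228224 i))) (Nat.ble 2227200 i))
noncomputable def nd1795 (i : Nat) : Nat := (Bool.rec (motive := fun _ => Nat) ((Bool.rec (motive := fun _ => Nat) (nd1796 i) (nd1797 i) (Nat.ble 2217984 i))) ((Bool.rec (motive := fun _ => Nat) (nd1798 i) (nd1799 i) (Nat.ble 2225152 i))) (Nat.ble 2222080 i))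
noncomputable def nd1801 (i : Nat) : Nat := (Bool.rec (motive := fun _ => Nat) (nl4013 i) ((Bool.rec (motive := fun _ => Nat) (nl4014 i) (nl4015 i) (Nat.ble 2231296 i))) (Nat.ble 2230272 i))
noncomputable def nd1802 (i : Nat) : Nat := (Bool.rec (motive := fun _ => Nat) ((Bool.rec (motive := fun _ => Nat) (nl4016 i) (nl4017 i) (Nat.ble 2233344 i))) ((Bool.rec (motive := fun _ => Nat) (nl4018 i) (nl4019 i) (Nat.ble 2235392 i))) (Nat.ble 2234368 i))
noncomputable def nd1803 (i : Nat) : Nat := (Bool.rec (motive := fun _ => Nat) (nl4020 i) ((Bool.rec (motive := fun _ => Nat) (nl4021 i) (nl4022 i) (Nat.ble 2238464 i))) (Nat.ble 2237440 i))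
noncomputable def nd1804 (i : Nat) : Nat := (Bool.rec (motive := fun _ => Nat) ((Bool.rec (motive := fun _ => Nat) (nl4023 i) (nl4024 i) (Nat.ble 2240512 i))) ((Bool.rec (motive := fun _ => Nat) (nl4025 i) (nl4026 i) (Nat.ble 2242560 i))) (Nat.ble 2241536 i))
noncomputable def nd1800 (i : Nat) : Nat := (Bool.rec (motive := fun _ => Nat) ((Bool.rec (motive := fun _ => Nat) (nd1801 i) (nd1802 i) (Nat.ble 2232320 i))) ((Bool.rec (motive := fun _ => Nat) (nd1803 i) (nd1804 i) (Nat.ble 2239488 i))) (Nat.ble 2236416 i))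
noncomputable def nd1806 (i : Nat) : Nat := (Bool.rec (motive := fun _ => Nat) (nl4027 i) ((Bool.rec (motive := fun _ => Nat) (nl4028 i) (nl4029 i) (Nat.ble 2245632 i))) (Nat.ble 2244608 i))
noncomputable def nd1807 (i : Nat) : Nat := (Bool.rec (motive := fun _ => Nat) ((Bool.rec (motive := fun _ => Nat) (nl4030 i) (nl4031 i) (Nat.ble 2247680 i))) ((Bool.rec (motive := fun _ => Nat) (nl4032 i) (nl4033 i) (Nat.ble 2249728 i))) (Nat.ble 2248704 i))
noncomputable def nd1808 (i : Nat) : Nat := (Bool.rec (motive := fun _ => Nat) (nl4034 i) ((Bool.rec (motive := fun _ => Nat) (nl4035 i) (nl4036 i) (Nat.ble 2252800 i))) (Nat.ble 2251776 i))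
noncomputable def nd1809 (i : Nat) : Nat := (Bool.rec (motive := fun _ => Nat) ((Bool.rec (motive := fun _ => Nat) (nl4037 i) (nl4038 i) (Nat.ble 2254848 i))) ((Bool.rec (motive := fun _ => Nat) (nl4039 i) (nl4040 i) (Nat.ble 2256896 i))) (Nat.ble 2255872 i))
noncomputable def nd1805 (i : Nat) : Nat := (Bool.rec (motive := fun _ => Nat) ((Bool.rec (motive := fun _ => Nat) (nd1806 i) (nd1807 i) (Nat.ble 2246656 i))) ((Bool.rec (motive := fun _ => Nat) (nd1808 i) (nd1809 i) (Nat.ble 2253824 i))) (Nat.ble 2250752 i))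
noncomputable def nd1811 (i : Nat) : Nat := (Bool.rec (motive := fun _ => Nat) (nl4041 i) ((Bool.rec (motive := fun _ => Nat) (nl4042 i) (nl4043 i) (Nat.ble 2259968 i))) (Nat.ble 2258944 i))
noncomputable def nd1812 (i : Nat) : Nat := (Bool.rec (motive := fun _ => Nat) ((Bool.rec (motive := fun _ => Nat) (nl4044 i) (nl4045 i) (Nat.ble 2262016 i))) ((Bool.rec (motive := fun _ => Nat) (nl4046 i) (nl4047 i) (Nat.ble 2264064 i))) (Nat.ble 2263040 i))
noncomputable def nd1813 (i : Nat) : Nat := (Bool.rec (motive := fun _ => Nat) ((Bool.rec (motive := fun _ => Nat) (nl4048 i) (nl4049 i) (Nat.ble 2266112 i))) ((Bool.rec (motive := fun _ => Nat) (nl4050 i) (nl4051 i) (Nat.ble 2268160 i))) (Nat.ble 2267136 i))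
noncomputable def nd1814 (i : Nat) : Nat := (Bool.rec (motive := fun _ => Nat) ((Bool.rec (motive := fun _ => Nat) (nl4052 i) (nl4053 i) (Nat.ble 2270208 i))) ((Bool.rec (motive := fun _ => Nat) (nl4054 i) (nl4055 i) (Nat.ble 2272256 i))) (Nat.ble 2271232 i))
noncomputable def nd1810 (i : Nat) : Nat := (Bool.rec (motive := fun _ => Nat) ((Bool.rec (motive := fun _ => Nat) (nd1811 i) (nd1812 i) (Nat.ble 2260992 i))) ((Bool.rec (motive := fun _ => Nat) (nd1813 i) (nd1814 i) (Nat.ble 2269184 i))) (Nat.ble 2265088 i))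
noncomputable def nd1794 (i : Nat) : Nat := (Bool.rec (motive := fun _ => Nat) ((Bool.rec (motive := fun _ => Nat) (nd1795 i) (nd1800 i) (Nat.ble 2229248 i))) ((Bool.rec (motive := fun _ => Nat) (nd1805 i) (nd1810 i) (Nat.ble 2257920 i))) (Nat.ble 2243584 i))
noncomputable def nd1817 (i : Nat) : Nat := (Bool.rec (motive := fun _ => Nat) (nl4056 i) ((Bool.rec (motive := fun _ => Nat) (nl4057 i) (nl4058 i) (Nat.ble 2275328 i))) (Nat.ble 2274304 i))
noncomputable def nd1818 (i : Nat) : Nat := (Bool.rec (motive := fun _ => Nat) ((Bool.rec (motive := fun _ => Nat) (nl4059 i) (nl4060 i) (Nat.ble 2277376 i))) ((Bool.rec (motive := fun _ => Nat) (nl4061 i) (nl4062 i) (Nat.ble 2279424 i))) (Nat.ble 2278400 i))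
noncomputable def nd1819 (i : Nat) : Nat := (Bool.rec (motive := fun _ => Nat) (nl4063 i) ((Bool.rec (motive := fun _ => Nat) (nl4064 i) (nl4065 i) (Nat.ble 2282496 i))) (Nat.ble 2281472 i))
noncomputable def nd1820 (i : Nat) : Nat := (Bool.rec (motive := fun _ => Nat) ((Bool.rec (motive := fun _ => Nat) (nl4066 i) (nl4067 i) (Nat.ble 2284544 i))) ((Bool.rec (motive := fun _ => Nat) (nl4068 i) (nl4069 i) (Nat.ble 2286592 i))) (Nat.ble 2285568 i))
noncomputable def nd1816 (i : Nat) : Nat := (Bool.rec (motive := fun _ => Nat) ((Bool.rec (motive := fun _ => Nat) (nd1817 i) (nd1818 i) (Nat.ble 2276352 i))) ((Bool.rec (motive := fun _ => Nat) (nd1819 i) (nd1820 i) (Nat.ble 2283520 i))) (Nat.ble 2280448 i))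
noncomputable def nd1822 (i : Nat) : Nat := (Bool.rec (motive := fun _ => Nat) (nl4070 i) ((Bool.rec (motive := fun _ => Nat) (nl4071 i) (nl4072 i) (Nat.ble 2289664 i))) (Nat.ble 2288640 i))
noncomputable def nd1823 (i : Nat) : Nat := (Bool.rec (motive := fun _ => Nat) ((Bool.rec (motive := fun _ => Nat) (nl4073 i) (nl4074 i) (Nat.ble 2291712 i))) ((Bool.rec (motive := fun _ => Nat) (nl4075 i) (nl4076 i) (Nat.ble 2293760 i))) (Nat.ble 2292736 i))
noncomputable def nd1824 (i : Nat) : Nat := (Bool.rec (motive := fun _ => Nat) (nl4077 i) ((Bool.rec (motive := fun _ => Nat) (nl4078 i) (nl4079 i) (Nat.ble 2296832 i))) (Nat.ble 2295808 i))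
noncomputable def nd1825 (i : Nat) : Nat := (Bool.rec (motive := fun _ => Nat) ((Bool.rec (motive := fun _ => Nat) (nl4080 i) (nl4081 i) (Nat.ble 2298880 i))) ((Bool.rec (motive := fun _ => Nat) (nl4082 i) (nl4083 i) (Nat.ble 2300928 i))) (Nat.ble 2299904 i))
noncomputable def nd1821 (i : Nat) : Nat := (Bool.rec (motive := fun _ => Nat) ((Bool.rec (motive := fun _ => Nat) (nd1822 i) (nd1823 i) (Nat.ble 2290688 i))) ((Bool.rec (motive := fun _ => Nat) (nd1824 i) (nd1825 i) (Nat.ble 2297856 i))) (Nat.ble 2294784 i))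
noncomputable def nd1827 (i : Nat) : Nat := (Bool.rec (motive := fun _ => Nat) (nl4084 i) ((Bool.rec (motive := fun _ => Nat) (nl4085 i) (nl4086 i) (Nat.ble 2304000 i))) (Nat.ble 2302976 i))
noncomputable def nd1828 (i : Nat) : Nat := (Bool.rec (motive := fun _ => Nat) ((Bool.rec (motive := fun _ => Nat) (nl4087 i) (nl4088 i) (Nat.ble 2306048 i))) ((Bool.rec (motive := fun _ => Nat) (nl4089 i) (nl4090 i) (Nat.ble 2308096 i))) (Nat.ble 2307072 i))
noncomputable def nd1829 (i : Nat) : Nat := (Bool.rec (motive := fun _ => Nat) (nl4091 i) ((Bool.rec (motive := fun _ => Nat) (nl4092 i) (nl4093 i) (Nat.ble 2311168 i))) (Nat.ble 2310144 i))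
noncomputable def nd1830 (i : Nat) : Nat := (Bool.rec (motive := fun _ => Nat) ((Bool.rec (motive := fun _ => Nat) (nl4094 i) (nl4095 i) (Nat.ble 2313216 i))) ((Bool.rec (motive := fun _ => Nat) (nl4096 i) (nl4097 i) (Nat.ble 2315264 i))) (Nat.ble 2314240 i))
noncomputable def nd1826 (i : Nat) : Nat := (Bool.rec (motive := fun _ => Nat) ((Bool.rec (motive := fun _ => Nat) (nd1827 i) (nd1828 i) (Nat.ble 2305024 i))) ((Bool.rec (motive := fun _ => Nat) (nd1829 i) (nd1830 i) (Nat.ble 2312192 i))) (Nat.ble 2309120 i))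
noncomputable def nd1832 (i : Nat) : Nat := (Bool.rec (motive := fun _ => Nat) (nl4098 i) ((Bool.rec (motive := fun _ => Nat) (nl4099 i) (nl4100 i) (Nat.ble 2318336 i))) (Nat.ble 2317312 i))
noncomputable def nd1833 (i : Nat) : Nat := (Bool.rec (motive := fun _ => Nat) ((Bool.rec (motive := fun _ => Nat) (nl4101 i) (nl4102 i) (Nat.ble 2320384 i))) ((Bool.rec (motive := fun _ => Nat) (nl4103 i) (nl4104 i) (Nat.ble 2322432 i))) (Nat.ble 2321408 i))
noncomputable def nd1834 (i : Nat) : Nat := (Bool.rec (motive := fun _ => Nat) ((Bool.rec (motive := fun _ => Nat) (nl4105 i) (nl4106 i) (Nat.ble 2324480 i))) ((Bool.rec (motive := fun _ => Nat) (nl4107 i) (nl4108 i) (Nat.ble 2326528 i))) (Nat.ble 2325504 i))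
noncomputable def nd1835 (i : Nat) : Nat := (Bool.rec (motive := fun _ => Nat) ((Bool.rec (motive := fun _ => Nat) (nl4109 i) (nl4110 i) (Nat.ble 2328576 i))) ((Bool.rec (motive := fun _ => Nat) (nl4111 i) (nl4112 i) (Nat.ble 2330624 i))) (Nat.ble 2329600 i))
noncomputable def nd1831 (i : Nat) : Nat := (Bool.rec (motive := fun _ => Nat) ((Bool.rec (motive := fun _ => Nat) (nd1832 i) (nd1833 i) (Nat.ble 2319360 i))) ((Bool.rec (motive := fun _ => Nat) (nd1834 i) (nd1835 i) (Nat.ble 2327552 i))) (Nat.ble 2323456 i))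
noncomputable def nd1815 (i : Nat) : Nat := (Bool.rec (motive := fun _ => Nat) ((Bool.rec (motive := fun _ => Nat) (nd1816 i) (nd1821 i) (Nat.ble 2287616 i))) ((Bool.rec (motive := fun _ => Nat) (nd1826 i) (nd1831 i) (Nat.ble 2316288 i))) (Nat.ble 2301952 i))
noncomputable def nd1751 (i : Nat) : Nat := (Bool.rec (motive := fun _ => Nat) ((Bool.rec (motive := fun _ => Nat) (nd1752 i) (nd1773 i) (Nat.ble 2156544 i))) ((Bool.rec (motive := fun _ => Nat) (nd1794 i) (nd1815 i) (Nat.ble 2273280 i))) (Nat.ble 2214912 i))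
noncomputable def nd1839 (i : Nat) : Nat := (Bool.rec (motive := fun _ => Nat) (nl4113 i) ((Bool.rec (motive := fun _ => Nat) (nl4114 i) (nl4115 i) (Nat.ble 2333696 i))) (Nat.ble 2332672 i))
noncomputable def nd1840 (i : Nat) : Nat := (Bool.rec (motive := fun _ => Nat) ((Bool.rec (motive := fun _ => Nat) (nl4116 i) (nl4117 i) (Nat.ble 2335744 i))) ((Bool.rec (motive := fun _ => Nat) (nl4118 i) (nl4119 i) (Nat.ble 2337792 i))) (Nat.ble 2336768 i))
noncomputable def nd1841 (i : Nat) : Nat := (Bool.rec (motive := fun _ => Nat) (nl4120 i) ((Bool.rec (motive := fun _ => Nat) (nl4121 i) (nl4122 i) (Nat.ble 2340864 i))) (Nat.ble 2339840 i))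
noncomputable def nd1842 (i : Nat) : Nat := (Bool.rec (motive := fun _ => Nat) ((Bool.rec (motive := fun _ => Nat) (nl4123 i) (nl4124 i) (Nat.ble 2342912 i))) ((Bool.rec (motive := fun _ => Nat) (nl4125 i) (nl4126 i) (Nat.ble 2344960 i))) (Nat.ble 2343936 i))
noncomputable def nd1838 (i : Nat) : Nat := (Bool.rec (motive := fun _ => Nat) ((Bool.rec (motive := fun _ => Nat) (nd1839 i) (nd1840 i) (Nat.ble 2334720 i))) ((Bool.rec (motive := fun _ => Nat) (nd1841 i) (nd1842 i) (Nat.ble 2341888 i))) (Nat.ble 2338816 i))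
noncomputable def nd1844 (i : Nat) : Nat := (Bool.rec (motive := fun _ => Nat) (nl4127 i) ((Bool.rec (motive := fun _ => Nat) (nl4128 i) (nl4129 i) (Nat.ble 2348032 i))) (Nat.ble 2347008 i))
noncomputable def nd1845 (i : Nat) : Nat := (Bool.rec (motive := fun _ => Nat) ((Bool.rec (motive := fun _ => Nat) (nl4130 i) (nl4131 i) (Nat.ble 2350080 i))) ((Bool.rec (motive := fun _ => Nat) (nl4132 i) (nl4133 i) (Nat.ble 2352128 i))) (Nat.ble 2351104 i))
noncomputable def nd1846 (i : Nat) : Nat := (Bool.rec (motive := fun _ => Nat) (nl4134 i) ((Bool.rec (motive := fun _ => Nat) (nl4135 i) (nl4136 i) (Nat.ble 2355200 i))) (Nat.ble 2354176 i))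
noncomputable def nd1847 (i : Nat) : Nat := (Bool.rec (motive := fun _ => Nat) ((Bool.rec (motive := fun _ => Nat) (nl4137 i) (nl4138 i) (Nat.ble 2357248 i))) ((Bool.rec (motive := fun _ => Nat) (nl4139 i) (nl4140 i) (Nat.ble 2359296 i))) (Nat.ble 2358272 i))
noncomputable def nd1843 (i : Nat) : Nat := (Bool.rec (motive := fun _ => Nat) ((Bool.rec (motive := fun _ => Nat) (nd1844 i) (nd1845 i) (Nat.ble 2349056 i))) ((Bool.rec (motive := fun _ => Nat) (nd1846 i) (nd1847 i) (Nat.ble 2356224 i))) (Nat.ble 2353152 i))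
noncomputable def nd1849 (i : Nat) : Nat := (Bool.rec (motive := fun _ => Nat) (nl4141 i) ((Bool.rec (motive := fun _ => Nat) (nl4142 i) (nl4143 i) (Nat.ble 2362368 i))) (Nat.ble 2361344 i))
noncomputable def nd1850 (i : Nat) : Nat := (Bool.rec (motive := fun _ => Nat) ((Bool.rec (motive := fun _ => Nat) (nl4144 i) (nl4145 i) (Nat.ble 2364416 i))) ((Bool.rec (motive := fun _ => Nat) (nl4146 i) (nl4147 i) (Nat.ble 2366464 i))) (Nat.ble 2365440 i))
noncomputable def nd1851 (i : Nat) : Nat := (Bool.rec (motive := fun _ => Nat) (nl4148 i) ((Bool.rec (motive := fun _ => Nat) (nl4149 i) (nl4150 i) (Nat.ble 2369536 i))) (Nat.ble 2368512 i))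
noncomputable def nd1852 (i : Nat) : Nat := (Bool.rec (motive := fun _ => Nat) ((Bool.rec (motive := fun _ => Nat) (nl4151 i) (nl4152 i) (Nat.ble 2371584 i))) ((Bool.rec (motive := fun _ => Nat) (nl4153 i) (nl4154 i) (Nat.ble 2373632 i))) (Nat.ble 2372608 i))
noncomputable def nd1848 (i : Nat) : Nat := (Bool.rec (motive := fun _ => Nat) ((Bool.rec (motive := fun _ => Nat) (nd1849 i) (nd1850 i) (Nat.ble 2363392 i))) ((Bool.rec (motive := fun _ => Nat) (nd1851 i) (nd1852 i) (Nat.ble 2370560 i))) (Nat.ble 2367488 i))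
noncomputable def nd1854 (i : Nat) : Nat := (Bool.rec (motive := fun _ => Nat) (nl4155 i) ((Bool.rec (motive := fun _ => Nat) (nl4156 i) (nl4157 i) (Nat.ble 2376704 i))) (Nat.ble 2375680 i))
noncomputable def nd1855 (i : Nat) : Nat := (Bool.rec (motive := fun _ => Nat) ((Bool.rec (motive := fun _ => Nat) (nl4158 i) (nl4159 i) (Nat.ble 2378752 i))) ((Bool.rec (motive := fun _ => Nat) (nl4160 i) (nl4161 i) (Nat.ble 2380800 i))) (Nat.ble 2379776 i))
noncomputable def nd1856 (i : Nat) : Nat := (Bool.rec (motive := fun _ => Nat) ((Bool.rec (motive := fun _ => Nat) (nl4162 i) (nl4163 i) (Nat.ble 2382848 i))) ((Bool.rec (motive := fun _ => Nat) (nl4164 i) (nl4165 i) (Nat.ble 2384896 i))) (Nat.ble 2383872 i))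
noncomputable def nd1857 (i : Nat) : Nat := (Bool.rec (motive := fun _ => Nat) ((Bool.rec (motive := fun _ => Nat) (nl4166 i) (nl4167 i) (Nat.ble 2386944 i))) ((Bool.rec (motive := fun _ => Nat) (nl4168 i) (nl4169 i) (Nat.ble 2388992 i))) (Nat.ble 2387968 i))
noncomputable def nd1853 (i : Nat) : Nat := (Bool.rec (motive := fun _ => Nat) ((Bool.rec (motive := fun _ => Nat) (nd1854 i) (nd1855 i) (Nat.ble 2377728 i))) ((Bool.rec (motive := fun _ => Nat) (nd1856 i) (nd1857 i) (Nat.ble 2385920 i))) (Nat.ble 2381824 i))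
noncomputable def nd1837 (i : Nat) : Nat := (Bool.rec (motive := fun _ => Nat) ((Bool.rec (motive := fun _ => Nat) (nd1838 i) (nd1843 i) (Nat.ble 2345984 i))) ((Bool.rec (motive := fun _ => Nat) (nd1848 i) (nd1853 i) (Nat.ble 2374656 i))) (Nat.ble 2360320 i))
noncomputable def nd1860 (i : Nat) : Nat := (Bool.rec (motive := fun _ => Nat) (nl4170 i) ((Bool.rec (motive := fun _ => Nat) (nl4171 i) (nl4172 i) (Nat.ble 2392064 i))) (Nat.ble 2391040 i))
noncomputable def nd1861 (i : Nat) : Nat := (Bool.rec (motive := fun _ => Nat) ((Bool.rec (motive := fun _ => Nat) (nl4173 i) (nl4174 i) (Nat.ble 2394112 i))) ((Bool.rec (motive := fun _ => Nat) (nl4175 i) (nl4176 i) (Nat.ble 2396160 i))) (Nat.ble 2395136 i))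
noncomputable def nd1862 (i : Nat) : Nat := (Bool.rec (motive := fun _ => Nat) (nl4177 i) ((Bool.rec (motive := fun _ => Nat) (nl4178 i) (nl4179 i) (Nat.ble 2399232 i))) (Nat.ble 2398208 i))
noncomputable def nd1863 (i : Nat) : Nat := (Bool.rec (motive := fun _ => Nat) ((Bool.rec (motive := fun _ => Nat) (nl4180 i) (nl4181 i) (Nat.ble 2401280 i))) ((Bool.rec (motive := fun _ => Nat) (nl4182 i) (nl4183 i) (Nat.ble 2403328 i))) (Nat.ble 2402304 i))
noncomputable def nd1859 (i : Nat) : Nat := (Bool.rec (motive := fun _ => Nat) ((Bool.rec (motive := fun _ => Nat) (nd1860 i) (nd1861 i) (Nat.ble 2393088 i))) ((Bool.rec (motive := fun _ => Nat) (nd1862 i) (nd1863 i) (Nat.ble 2400256 i))) (Nat.ble 2397184 i))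
noncomputable def nd1865 (i : Nat) : Nat := (Bool.rec (motive := fun _ => Nat) (nl4184 i) ((Bool.rec (motive := fun _ => Nat) (nl4185 i) (nl4186 i) (Nat.ble 2406400 i))) (Nat.ble 2405376 i))
noncomputable def nd1866 (i : Nat) : Nat := (Bool.rec (motive := fun _ => Nat) ((Bool.rec (motive := fun _ => Nat) (nl4187 i) (nl4188 i) (Nat.ble 2408448 i))) ((Bool.rec (motive := fun _ => Nat) (nl4189 i) (nl4190 i) (Nat.ble 2410496 i))) (Nat.ble 2409472 i))
noncomputable def nd1867 (i : Nat) : Nat := (Bool.rec (motive := fun _ => Nat) (nl4191 i) ((Bool.rec (motive := fun _ => Nat) (nl4192 i) (nl4193 i) (Nat.ble 2413568 i))) (Nat.ble 2412544 i))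
noncomputable def nd1868 (i : Nat) : Nat := (Bool.rec (motive := fun _ => Nat) ((Bool.rec (motive := fun _ => Nat) (nl4194 i) (nl4195 i) (Nat.ble 2415616 i))) ((Bool.rec (motive := fun _ => Nat) (nl4196 i) (nl4197 i) (Nat.ble 2417664 i))) (Nat.ble 2416640 i))
noncomputable def nd1864 (i : Nat) : Nat := (Bool.rec (motive := fun _ => Nat) ((Bool.rec (motive := fun _ => Nat) (nd1865 i) (nd1866 i) (Nat.ble 2407424 i))) ((Bool.rec (motive := fun _ => Nat) (nd1867 i) (nd1868 i) (Nat.ble 2414592 i))) (Nat.ble 2411520 i))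
noncomputable def nd1870 (i : Nat) : Nat := (Bool.rec (motive := fun _ => Nat) (nl4198 i) ((Bool.rec (motive := fun _ => Nat) (nl4199 i) (nl4200 i) (Nat.ble 2420736 i))) (Nat.ble 2419712 i))
noncomputable def nd1871 (i : Nat) : Nat := (Bool.rec (motive := fun _ => Nat) ((Bool.rec (motive := fun _ => Nat) (nl4201 i) (nl4202 i) (Nat.ble 2422784 i))) ((Bool.rec (motive := fun _ => Nat) (nl4203 i) (nl4204 i) (Nat.ble 2424832 i))) (Nat.ble 2423808 i))
noncomputable def nd1872 (i : Nat) : Nat := (Bool.rec (motive := fun _ => Nat) (nl4205 i) ((Bool.rec (motive := fun _ => Nat) (nl4206 i) (nl4207 i) (Nat.ble 2427904 i))) (Nat.ble 2426880 i))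
noncomputable def nd1873 (i : Nat) : Nat := (Bool.rec (motive := fun _ => Nat) ((Bool.rec (motive := fun _ => Nat) (nl4208 i) (nl4209 i) (Nat.ble 2429952 i))) ((Bool.rec (motive := fun _ => Nat) (nl4210 i) (nl4211 i) (Nat.ble 2432000 i))) (Nat.ble 2430976 i))
noncomputable def nd1869 (i : Nat) : Nat := (Bool.rec (motive := fun _ => Nat) ((Bool.rec (motive := fun _ => Nat) (nd1870 i) (nd1871 i) (Nat.ble 2421760 i))) ((Bool.rec (motive := fun _ => Nat) (nd1872 i) (nd1873 i) (Nat.ble 2428928 i))) (Nat.ble 2425856 i))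
noncomputable def nd1875 (i : Nat) : Nat := (Bool.rec (motive := fun _ => Nat) (nl4212 i) ((Bool.rec (motive := fun _ => Nat) (nl4213 i) (nl4214 i) (Nat.ble 2435072 i))) (Nat.ble 2434048 i))
noncomputable def nd1876 (i : Nat) : Nat := (Bool.rec (motive := fun _ => Nat) ((Bool.rec (motive := fun _ => Nat) (nl4215 i) (nl4216 i) (Nat.ble 2437120 i))) ((Bool.rec (motive := fun _ => Nat) (nl4217 i) (nl4218 i) (Nat.ble 2439168 i))) (Nat.ble 2438144 i))
noncomputable def nd1877 (i : Nat) : Nat := (Bool.rec (motive := fun _ => Nat) ((Bool.rec (motive := fun _ => Nat) (nl4219 i) (nl4220 i) (Nat.ble 2441216 i))) ((Bool.rec (motive := fun _ => Nat) (nl4221 i) (nl4222 i) (Nat.ble 2443264 i))) (Nat.ble 2442240 i))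
noncomputable def nd1878 (i : Nat) : Nat := (Bool.rec (motive := fun _ => Nat) ((Bool.rec (motive := fun _ => Nat) (nl4223 i) (nl4224 i) (Nat.ble 2445312 i))) ((Bool.rec (motive := fun _ => Nat) (nl4225 i) (nl4226 i) (Nat.ble 2447360 i))) (Nat.ble 2446336 i))
noncomputable def nd1874 (i : Nat) : Nat := (Bool.rec (motive := fun _ => Nat) ((Bool.rec (motive := fun _ => Nat) (nd1875 i) (nd1876 i) (Nat.ble 2436096 i))) ((Bool.rec (motive := fun _ => Nat) (nd1877 i) (nd1878 i) (Nat.ble 2444288 i))) (Nat.ble 2440192 i))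
noncomputable def nd1858 (i : Nat) : Nat := (Bool.rec (motive := fun _ => Nat) ((Bool.rec (motive := fun _ => Nat) (nd1859 i) (nd1864 i) (Nat.ble 2404352 i))) ((Bool.rec (motive := fun _ => Nat) (nd1869 i) (nd1874 i) (Nat.ble 2433024 i))) (Nat.ble 2418688 i))
noncomputable def nd1881 (i : Nat) : Nat := (Bool.rec (motive := fun _ => Nat) (nl4227 i) ((Bool.rec (motive := fun _ => Nat) (nl4228 i) (nl4229 i) (Nat.ble 2450432 i))) (Nat.ble 2449408 i))
noncomputable def nd1882 (i : Nat) : Nat := (Bool.rec (motive := fun _ => Nat) ((Bool.rec (motive := fun _ => Nat) (nl4230 i) (nl4231 i) (Nat.ble 2452480 i))) ((Bool.rec (motive := fun _ => Nat) (nl4232 i) (nl4233 i) (Nat.ble 2454528 i))) (Nat.ble 2453504 i))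
noncomputable def nd1883 (i : Nat) : Nat := (Bool.rec (motive := fun _ => Nat) (nl4234 i) ((Bool.rec (motive := fun _ => Nat) (nl4235 i) (nl4236 i) (Nat.ble 2457600 i))) (Nat.ble 2456576 i))
noncomputable def nd1884 (i : Nat) : Nat := (Bool.rec (motive := fun _ => Nat) ((Bool.rec (motive := fun _ => Nat) (nl4237 i) (nl4238 i) (Nat.ble 2459648 i))) ((Bool.rec (motive := fun _ => Nat) (nl4239 i) (nl4240 i) (Nat.ble 2461696 i))) (Nat.ble 2460672 i))
noncomputable def nd1880 (i : Nat) : Nat := (Bool.rec (motive := fun _ => Nat) ((Bool.rec (motive := fun _ => Nat) (nd1881 i) (nd1882 i) (Nat.ble 2451456 i))) ((Bool.rec (motive := fun _ => Nat) (nd1883 i) (nd1884 i) (Nat.ble 2458624 i))) (Nat.ble 2455552 i))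
noncomputable def nd1886 (i : Nat) : Nat := (Bool.rec (motive := fun _ => Nat) (nl4241 i) ((Bool.rec (motive := fun _ => Nat) (nl4242 i) (nl4243 i) (Nat.ble 2464768 i))) (Nat.ble 2463744 i))
noncomputable def nd1887 (i : Nat) : Nat := (Bool.rec (motive := fun _ => Nat) ((Bool.rec (motive := fun _ => Nat) (nl4244 i) (nl4245 i) (Nat.ble 2466816 i))) ((Bool.rec (motive := fun _ => Nat) (nl4246 i) (nl4247 i) (Nat.ble 2468864 i))) (Nat.ble 2467840 i))
noncomputable def nd1888 (i : Nat) : Nat := (Bool.rec (motive := fun _ => Nat) (nl4248 i) ((Bool.rec (motive := fun _ => Nat) (nl4249 i) (nl4250 i) (Nat.ble 2471936 i))) (Nat.ble 2470912 i))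
noncomputable def nd1889 (i : Nat) : Nat := (Bool.rec (motive := fun _ => Nat) ((Bool.rec (motive := fun _ => Nat) (nl4251 i) (nl4252 i) (Nat.ble 2473984 i))) ((Bool.rec (motive := fun _ => Nat) (nl4253 i) (nl4254 i) (Nat.ble 2476032 i))) (Nat.ble 2475008 i))
noncomputable def nd1885 (i : Nat) : Nat := (Bool.rec (motive := fun _ => Nat) ((Bool.rec (motive := fun _ => Nat) (nd1886 i) (nd1887 i) (Nat.ble 2465792 i))) ((Bool.rec (motive := fun _ => Nat) (nd1888 i) (nd1889 i) (Nat.ble 2472960 i))) (Nat.ble 2469888 i))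
noncomputable def nd1891 (i : Nat) : Nat := (Bool.rec (motive := fun _ => Nat) (nl4255 i) ((Bool.rec (motive := fun _ => Nat) (nl4256 i) (nl4257 i) (Nat.ble 2479104 i))) (Nat.ble 2478080 i))
noncomputable def nd1892 (i : Nat) : Nat := (Bool.rec (motive := fun _ => Nat) ((Bool.rec (motive := fun _ => Nat) (nl4258 i) (nl4259 i) (Nat.ble 2481152 i))) ((Bool.rec (motive := fun _ => Nat) (nl4260 i) (nl4261 i) (Nat.ble 2483200 i))) (Nat.ble 2482176 i))
noncomputable def nd1893 (i : Nat) : Nat := (Bool.rec (motive := fun _ => Nat) (nl4262 i) ((Bool.rec (motive := fun _ => Nat) (nl4263 i) (nl4264 i) (Nat.ble 2486272 i))) (Nat.ble 2485248 i))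
noncomputable def nd1894 (i : Nat) : Nat := (Bool.rec (motive := fun _ => Nat) ((Bool.rec (motive := fun _ => Nat) (nl4265 i) (nl4266 i) (Nat.ble 2488320 i))) ((Bool.rec (motive := fun _ => Nat) (nl4267 i) (nl4268 i) (Nat.ble 2490368 i))) (Nat.ble 2489344 i))
noncomputable def nd1890 (i : Nat) : Nat := (Bool.rec (motive := fun _ => Nat) ((Bool.rec (motive := fun _ => Nat) (nd1891 i) (nd1892 i) (Nat.ble 2480128 i))) ((Bool.rec (motive := fun _ => Nat) (nd1893 i) (nd1894 i) (Nat.ble 2487296 i))) (Nat.ble 2484224 i))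
noncomputable def nd1896 (i : Nat) : Nat := (Bool.rec (motive := fun _ => Nat) (nl4269 i) ((Bool.rec (motive := fun _ => Nat) (nl4270 i) (nl4271 i) (Nat.ble 2493440 i))) (Nat.ble 2492416 i))
noncomputable def nd1897 (i : Nat) : Nat := (Bool.rec (motive := fun _ => Nat) ((Bool.rec (motive := fun _ => Nat) (nl4272 i) (nl4273 i) (Nat.ble 2495488 i))) ((Bool.rec (motive := fun _ => Nat) (nl4274 i) (nl4275 i) (Nat.ble 2497536 i))) (Nat.ble 2496512 i))
noncomputable def nd1898 (i : Nat) : Nat := (Bool.rec (motive := fun _ => Nat) ((Bool.rec (motive := fun _ => Nat) (nl4276 i) (nl4277 i) (Nat.ble 2499584 i))) ((Bool.rec (motive := fun _ => Nat) (nl4278 i) (nl4279 i) (Nat.ble 2501632 i))) (Nat.ble 2500608 i))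
noncomputable def nd1899 (i : Nat) : Nat := (Bool.rec (motive := fun _ => Nat) ((Bool.rec (motive := fun _ => Nat) (nl4280 i) (nl4281 i) (Nat.ble 2503680 i))) ((Bool.rec (motive := fun _ => Nat) (nl4282 i) (nl4283 i) (Nat.ble 2505728 i))) (Nat.ble 2504704 i))
noncomputable def nd1895 (i : Nat) : Nat := (Bool.rec (motive := fun _ => Nat) ((Bool.rec (motive := fun _ => Nat) (nd1896 i) (nd1897 i) (Nat.ble 2494464 i))) ((Bool.rec (motive := fun _ => Nat) (nd1898 i) (nd1899 i) (Nat.ble 2502656 i))) (Nat.ble 2498560 i))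
noncomputable def nd1879 (i : Nat) : Nat := (Bool.rec (motive := fun _ => Nat) ((Bool.rec (motive := fun _ => Nat) (nd1880 i) (nd1885 i) (Nat.ble 2462720 i))) ((Bool.rec (motive := fun _ => Nat) (nd1890 i) (nd1895 i) (Nat.ble 2491392 i))) (Nat.ble 2477056 i))
noncomputable def nd1902 (i : Nat) : Nat := (Bool.rec (motive := fun _ => Nat) (nl4284 i) ((Bool.rec (motive := fun _ => Nat) (nl4285 i) (nl4286 i) (Nat.ble 2508800 i))) (Nat.ble 2507776 i))
noncomputable def nd1903 (i : Nat) : Nat := (Bool.rec (motive := fun _ => Nat) ((Bool.rec (motive := fun _ => Nat) (nl4287 i) (nl4288 i) (Nat.ble 2510848 i))) ((Bool.rec (motive := fun _ => Nat) (nl4289 i) (nl4290 i) (Nat.ble 2512896 i))) (Nat.ble 2511872 i))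
noncomputable def nd1904 (i : Nat) : Nat := (Bool.rec (motive := fun _ => Nat) (nl4291 i) ((Bool.rec (motive := fun _ => Nat) (nl4292 i) (nl4293 i) (Nat.ble 2515968 i))) (Nat.ble 2514944 i))
noncomputable def nd1905 (i : Nat) : Nat := (Bool.rec (motive := fun _ => Nat) ((Bool.rec (motive := fun _ => Nat) (nl4294 i) (nl4295 i) (Nat.ble 2518016 i))) ((Bool.rec (motive := fun _ => Nat) (nl4296 i) (nl4297 i) (Nat.ble 2520064 i))) (Nat.ble 2519040 i))
noncomputable def nd1901 (i : Nat) : Nat := (Bool.rec (motive := fun _ => Nat) ((Bool.rec (motive := fun _ => Nat) (nd1902 i) (nd1903 i) (Nat.ble 2509824 i))) ((Bool.rec (motive := fun _ => Nat) (nd1904 i) (nd1905 i) (Nat.ble 2516992 i))) (Nat.ble 2513920 i))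
noncomputable def nd1907 (i : Nat) : Nat := (Bool.rec (motive := fun _ => Nat) (nl4298 i) ((Bool.rec (motive := fun _ => Nat) (nl4299 i) (nl4300 i) (Nat.ble 2523136 i))) (Nat.ble 2522112 i))
noncomputable def nd1908 (i : Nat) : Nat := (Bool.rec (motive := fun _ => Nat) ((Bool.rec (motive := fun _ => Nat) (nl4301 i) (nl4302 i) (Nat.ble 2525184 i))) ((Bool.rec (motive := fun _ => Nat) (nl4303 i) (nl4304 i) (Nat.ble 2527232 i))) (Nat.ble 2526208 i))
noncomputable def nd1909 (i : Nat) : Nat := (Bool.rec (motive := fun _ => Nat) (nl4305 i) ((Bool.rec (motive := fun _ => Nat) (nl4306 i) (nl4307 i) (Nat.ble 2530304 i))) (Nat.ble 2529280 i))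
noncomputable def nd1910 (i : Nat) : Nat := (Bool.rec (motive := fun _ => Nat) ((Bool.rec (motive := fun _ => Nat) (nl4308 i) (nl4309 i) (Nat.ble 2532352 i))) ((Bool.rec (motive := fun _ => Nat) (nl4310 i) (nl4311 i) (Nat.ble 2534400 i))) (Nat.ble 2533376 i))
noncomputable def nd1906 (i : Nat) : Nat := (Bool.rec (motive := fun _ => Nat) ((Bool.rec (motive := fun _ => Nat) (nd1907 i) (nd1908 i) (Nat.ble 2524160 i))) ((Bool.rec (motive := fun _ => Nat) (nd1909 i) (nd1910 i) (Nat.ble 2531328 i))) (Nat.ble 2528256 i))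
noncomputable def nd1912 (i : Nat) : Nat := (Bool.rec (motive := fun _ => Nat) (nl4312 i) ((Bool.rec (motive := fun _ => Nat) (nl4313 i) (nl4314 i) (Nat.ble 2537472 i))) (Nat.ble 2536448 i))
noncomputable def nd1913 (i : Nat) : Nat := (Bool.rec (motive := fun _ => Nat) ((Bool.rec (motive := fun _ => Nat) (nl4315 i) (nl4316 i) (Nat.ble 2539520 i))) ((Bool.rec (motive := fun _ => Nat) (nl4317 i) (nl4318 i) (Nat.ble 2541568 i))) (Nat.ble 2540544 i))
noncomputable def nd1914 (i : Nat) : Nat := (Bool.rec (motive := fun _ => Nat) (nl4319 i) ((Bool.rec (motive := fun _ => Nat) (nl4320 i) (nl4321 i) (Nat.ble 2544640 i))) (Nat.ble 2543616 i))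
noncomputable def nd1915 (i : Nat) : Nat := (Bool.rec (motive := fun _ => Nat) ((Bool.rec (motive := fun _ => Nat) (nl4322 i) (nl4323 i) (Nat.ble 2546688 i))) ((Bool.rec (motive := fun _ => Nat) (nl4324 i) (nl4325 i) (Nat.ble 2548736 i))) (Nat.ble 2547712 i))
noncomputable def nd1911 (i : Nat) : Nat := (Bool.rec (motive := fun _ => Nat) ((Bool.rec (motive := fun _ => Nat) (nd1912 i) (nd1913 i) (Nat.ble 2538496 i))) ((Bool.rec (motive := fun _ => Nat) (nd1914 i) (nd1915 i) (Nat.ble 2545664 i))) (Nat.ble 2542592 i))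
noncomputable def nd1917 (i : Nat) : Nat := (Bool.rec (motive := fun _ => Nat) (nl4326 i) ((Bool.rec (motive := fun _ => Nat) (nl4327 i) (nl4328 i) (Nat.ble 2551808 i))) (Nat.ble 2550784 i))
noncomputable def nd1918 (i : Nat) : Nat := (Bool.rec (motive := fun _ => Nat) ((Bool.rec (motive := fun _ => Nat) (nl4329 i) (nl4330 i) (Nat.ble 2553856 i))) ((Bool.rec (motive := fun _ => Nat) (nl4331 i) (nl4332 i) (Nat.ble 2555904 i))) (Nat.ble 2554880 i))
noncomputable def nd1919 (i : Nat) : Nat := (Bool.rec (motive := fun _ => Nat) ((Bool.rec (motive := fun _ => Nat) (nl4333 i) (nl4334 i) (Nat.ble 2557952 i))) ((Bool.rec (motive := fun _ => Nat) (nl4335 i) (nl4336 i) (Nat.ble 2560000 i))) (Nat.ble 2558976 i))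
noncomputable def nd1920 (i : Nat) : Nat := (Bool.rec (motive := fun _ => Nat) ((Bool.rec (motive := fun _ => Nat) (nl4337 i) (nl4338 i) (Nat.ble 2562048 i))) ((Bool.rec (motive := fun _ => Nat) (nl4339 i) (nl4340 i) (Nat.ble 2564096 i))) (Nat.ble 2563072 i))
noncomputable def nd1916 (i : Nat) : Nat := (Bool.rec (motive := fun _ => Nat) ((Bool.rec (motive := fun _ => Nat) (nd1917 i) (nd1918 i) (Nat.ble 2552832 i))) ((Bool.rec (motive := fun _ => Nat) (nd1919 i) (nd1920 i) (Nat.ble 2561024 i))) (Nat.ble 2556928 i))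
noncomputable def nd1900 (i : Nat) : Nat := (Bool.rec (motive := fun _ => Nat) ((Bool.rec (motive := fun _ => Nat) (nd1901 i) (nd1906 i) (Nat.ble 2521088 i))) ((Bool.rec (motive := fun _ => Nat) (nd1911 i) (nd1916 i) (Nat.ble 2549760 i))) (Nat.ble 2535424 i))
noncomputable def nd1836 (i : Nat) : Nat := (Bool.rec (motive := fun _ => Nat) ((Bool.rec (motive := fun _ => Nat) (nd1837 i) (nd1858 i) (Nat.ble 2390016 i))) ((Bool.rec (motive := fun _ => Nat) (nd1879 i) (nd1900 i) (Nat.ble 2506752 i))) (Nat.ble 2448384 i))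
noncomputable def nd1924 (i : Nat) : Nat := (Bool.rec (motive := fun _ => Nat) (nl4341 i) ((Bool.rec (motive := fun _ => Nat) (nl4342 i) (nl4343 i) (Nat.ble 2567168 i))) (Nat.ble 2566144 i))
noncomputable def nd1925 (i : Nat) : Nat := (Bool.rec (motive := fun _ => Nat) ((Bool.rec (motive := fun _ => Nat) (nl4344 i) (nl4345 i) (Nat.ble 2569216 i))) ((Bool.rec (motive := fun _ => Nat) (nl4346 i) (nl4347 i) (Nat.ble 2571264 i))) (Nat.ble 2570240 i))
noncomputable def nd1926 (i : Nat) : Nat := (Bool.rec (motive := fun _ => Nat) (nl4348 i) ((Bool.rec (motive := fun _ => Nat) (nl4349 i) (nl4350 i) (Nat.ble 2574336 i))) (Nat.ble 2573312 i))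
noncomputable def nd1927 (i : Nat) : Nat := (Bool.rec (motive := fun _ => Nat) ((Bool.rec (motive := fun _ => Nat) (nl4351 i) (nl4352 i) (Nat.ble 2576384 i))) ((Bool.rec (motive := fun _ => Nat) (nl4353 i) (nl4354 i) (Nat.ble 2578432 i))) (Nat.ble 2577408 i))
noncomputable def nd1923 (i : Nat) : Nat := (Bool.rec (motive := fun _ => Nat) ((Bool.rec (motive := fun _ => Nat) (nd1924 i) (nd1925 i) (Nat.ble 2568192 i))) ((Bool.rec (motive := fun _ => Nat) (nd1926 i) (nd1927 i) (Nat.ble 2575360 i))) (Nat.ble 2572288 i))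
noncomputable def nd1929 (i : Nat) : Nat := (Bool.rec (motive := fun _ => Nat) (nl4355 i) ((Bool.rec (motive := fun _ => Nat) (nl4356 i) (nl4357 i) (Nat.ble 2581504 i))) (Nat.ble 2580480 i))
noncomputable def nd1930 (i : Nat) : Nat := (Bool.rec (motive := fun _ => Nat) ((Bool.rec (motive := fun _ => Nat) (nl4358 i) (nl4359 i) (Nat.ble 2583552 i))) ((Bool.rec (motive := fun _ => Nat) (nl4360 i) (nl4361 i) (Nat.ble 2585600 i))) (Nat.ble 2584576 i))
noncomputable def nd1931 (i : Nat) : Nat := (Bool.rec (motive := fun _ => Nat) (nl4362 i) ((Bool.rec (motive := fun _ => Nat) (nl4363 i) (nl4364 i) (Nat.ble 2588672 i))) (Nat.ble 2587648 i))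
noncomputable def nd1932 (i : Nat) : Nat := (Bool.rec (motive := fun _ => Nat) ((Bool.rec (motive := fun _ => Nat) (nl4365 i) (nl4366 i) (Nat.ble 2590720 i))) ((Bool.rec (motive := fun _ => Nat) (nl4367 i) (nl4368 i) (Nat.ble 2592768 i))) (Nat.ble 2591744 i))
noncomputable def nd1928 (i : Nat) : Nat := (Bool.rec (motive := fun _ => Nat) ((Bool.rec (motive := fun _ => Nat) (nd1929 i) (nd1930 i) (Nat.ble 2582528 i))) ((Bool.rec (motive := fun _ => Nat) (nd1931 i) (nd1932 i) (Nat.ble 2589696 i))) (Nat.ble 2586624 i))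
noncomputable def nd1934 (i : Nat) : Nat := (Bool.rec (motive := fun _ => Nat) (nl4369 i) ((Bool.rec (motive := fun _ => Nat) (nl4370 i) (nl4371 i) (Nat.ble 2595840 i))) (Nat.ble 2594816 i))
noncomputable def nd1935 (i : Nat) : Nat := (Bool.rec (motive := fun _ => Nat) ((Bool.rec (motive := fun _ => Nat) (nl4372 i) (nl4373 i) (Nat.ble 2597888 i))) ((Bool.rec (motive := fun _ => Nat) (nl4374 i) (nl4375 i) (Nat.ble 2599936 i))) (Nat.ble 2598912 i))
noncomputable def nd1936 (i : Nat) : Nat := (Bool.rec (motive := fun _ => Nat) (nl4376 i) ((Bool.rec (motive := fun _ => Nat) (nl4377 i) (nl4378 i) (Nat.ble 2603008 i))) (Nat.ble 2601984 i))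
noncomputable def nd1937 (i : Nat) : Nat := (Bool.rec (motive := fun _ => Nat) ((Bool.rec (motive := fun _ => Nat) (nl4379 i) (nl4380 i) (Nat.ble 2605056 i))) ((Bool.rec (motive := fun _ => Nat) (nl4381 i) (nl4382 i) (Nat.ble 2607104 i))) (Nat.ble 2606080 i))
noncomputable def nd1933 (i : Nat) : Nat := (Bool.rec (motive := fun _ => Nat) ((Bool.rec (motive := fun _ => Nat) (nd1934 i) (nd1935 i) (Nat.ble 2596864 i))) ((Bool.rec (motive := fun _ => Nat) (nd1936 i) (nd1937 i) (Nat.ble 2604032 i))) (Nat.ble 2600960 i))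
noncomputable def nd1939 (i : Nat) : Nat := (Bool.rec (motive := fun _ => Nat) (nl4383 i) ((Bool.rec (motive := fun _ => Nat) (nl4384 i) (nl4385 i) (Nat.ble 2610176 i))) (Nat.ble 2609152 i))
noncomputable def nd1940 (i : Nat) : Nat := (Bool.rec (motive := fun _ => Nat) ((Bool.rec (motive := fun _ => Nat) (nl4386 i) (nl4387 i) (Nat.ble 2612224 i))) ((Bool.rec (motive := fun _ => Nat) (nl4388 i) (nl4389 i) (Nat.ble 2614272 i))) (Nat.ble 2613248 i))
noncomputable def nd1941 (i : Nat) : Nat := (Bool.rec (motive := fun _ => Nat) ((Bool.rec (motive := fun _ => Nat) (nl4390 i) (nl4391 i) (Nat.ble 2616320 i))) ((Bool.rec (motive := fun _ => Nat) (nl4392 i) (nl4393 i) (Nat.ble 2618368 i))) (Nat.ble 2617344 i))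
noncomputable def nd1942 (i : Nat) : Nat := (Bool.rec (motive := fun _ => Nat) ((Bool.rec (motive := fun _ => Nat) (nl4394 i) (nl4395 i) (Nat.ble 2620416 i))) ((Bool.rec (motive := fun _ => Nat) (nl4396 i) (nl4397 i) (Nat.ble 2622464 i))) (Nat.ble 2621440 i))
noncomputable def nd1938 (i : Nat) : Nat := (Bool.rec (motive := fun _ => Nat) ((Bool.rec (motive := fun _ => Nat) (nd1939 i) (nd1940 i) (Nat.ble 2611200 i))) ((Bool.rec (motive := fun _ => Nat) (nd1941 i) (nd1942 i) (Nat.ble 2619392 i))) (Nat.ble 2615296 i))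
noncomputable def nd1922 (i : Nat) : Nat := (Bool.rec (motive := fun _ => Nat) ((Bool.rec (motive := fun _ => Nat) (nd1923 i) (nd1928 i) (Nat.ble 2579456 i))) ((Bool.rec (motive := fun _ => Nat) (nd1933 i) (nd1938 i) (Nat.ble 2608128 i))) (Nat.ble 2593792 i))
noncomputable def nd1945 (i : Nat) : Nat := (Bool.rec (motive := fun _ => Nat) (nl4398 i) ((Bool.rec (motive := fun _ => Nat) (nl4399 i) (nl4400 i) (Nat.ble 2625536 i))) (Nat.ble 2624512 i))
noncomputable def nd1946 (i : Nat) : Nat := (Bool.rec (motive := fun _ => Nat) ((Bool.rec (motive := fun _ => Nat) (nl4401 i) (nl4402 i) (Nat.ble 2627584 i))) ((Bool.rec (motive := fun _ => Nat) (nl4403 i) (nl4404 i) (Nat.ble 2629632 i))) (Nat.ble 2628608 i))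
noncomputable def nd1947 (i : Nat) : Nat := (Bool.rec (motive := fun _ => Nat) (nl4405 i) ((Bool.rec (motive := fun _ => Nat) (nl4406 i) (nl4407 i) (Nat.ble 2632704 i))) (Nat.ble 2631680 i))
noncomputable def nd1948 (i : Nat) : Nat := (Bool.rec (motive := fun _ => Nat) ((Bool.rec (motive := fun _ => Nat) (nl4408 i) (nl4409 i) (Nat.ble 2634752 i))) ((Bool.rec (motive := fun _ => Nat) (nl4410 i) (nl4411 i) (Nat.ble 2636800 i))) (Nat.ble 2635776 i))
noncomputable def nd1944 (i : Nat) : Nat := (Bool.rec (motive := fun _ => Nat) ((Bool.rec (motive := fun _ => Nat) (nd1945 i) (nd1946 i) (Nat.ble 2626560 i))) ((Bool.rec (motive := fun _ => Nat) (nd1947 i) (nd1948 i) (Nat.ble 2633728 i))) (Nat.ble 2630656 i))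
noncomputable def nd1950 (i : Nat) : Nat := (Bool.rec (motive := fun _ => Nat) (nl4412 i) ((Bool.rec (motive := fun _ => Nat) (nl4413 i) (nl4414 i) (Nat.ble 2639872 i))) (Nat.ble 2638848 i))
noncomputable def nd1951 (i : Nat) : Nat := (Bool.rec (motive := fun _ => Nat) ((Bool.rec (motive := fun _ => Nat) (nl4415 i) (nl4416 i) (Nat.ble 2641920 i))) ((Bool.rec (motive := fun _ => Nat) (nl4417 i) (nl4418 i) (Nat.ble 2643968 i))) (Nat.ble 2642944 i))
noncomputable def nd1952 (i : Nat) : Nat := (Bool.rec (motive := fun _ => Nat) (nl4419 i) ((Bool.rec (motive := fun _ => Nat) (nl4420 i) (nl4421 i) (Nat.ble 2647040 i))) (Nat.ble 2646016 i))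
noncomputable def nd1953 (i : Nat) : Nat := (Bool.rec (motive := fun _ => Nat) ((Bool.rec (motive := fun _ => Nat) (nl4422 i) (nl4423 i) (Nat.ble 2649088 i))) ((Bool.rec (motive := fun _ => Nat) (nl4424 i) (nl4425 i) (Nat.ble 2651136 i))) (Nat.ble 2650112 i))
noncomputable def nd1949 (i : Nat) : Nat := (Bool.rec (motive := fun _ => Nat) ((Bool.rec (motive := fun _ => Nat) (nd1950 i) (nd1951 i) (Nat.ble 2640896 i))) ((Bool.rec (motive := fun _ => Nat) (nd1952 i) (nd1953 i) (Nat.ble 2648064 i))) (Nat.ble 2644992 i))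
noncomputable def nd1955 (i : Nat) : Nat := (Bool.rec (motive := fun _ => Nat) (nl4426 i) ((Bool.rec (motive := fun _ => Nat) (nl4427 i) (nl4428 i) (Nat.ble 2654208 i))) (Nat.ble 2653184 i))
noncomputable def nd1956 (i : Nat) : Nat := (Bool.rec (motive := fun _ => Nat) ((Bool.rec (motive := fun _ => Nat) (nl4429 i) (nl4430 i) (Nat.ble 2656256 i))) ((Bool.rec (motive := fun _ => Nat) (nl4431 i) (nl4432 i) (Nat.ble 2658304 i))) (Nat.ble 2657280 i))
noncomputable def nd1957 (i : Nat) : Nat := (Bool.rec (motive := fun _ => Nat) (nl4433 i) ((Bool.rec (motive := fun _ => Nat) (nl4434 i) (nl4435 i) (Nat.ble 2661376 i))) (Nat.ble 2660352 i))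
noncomputable def nd1958 (i : Nat) : Nat := (Bool.rec (motive := fun _ => Nat) ((Bool.rec (motive := fun _ => Nat) (nl4436 i) (nl4437 i) (Nat.ble 2663424 i))) ((Bool.rec (motive := fun _ => Nat) (nl4438 i) (nl4439 i) (Nat.ble 2665472 i))) (Nat.ble 2664448 i))
noncomputable def nd1954 (i : Nat) : Nat := (Bool.rec (motive := fun _ => Nat) ((Bool.rec (motive := fun _ => Nat) (nd1955 i) (nd1956 i) (Nat.ble 2655232 i))) ((Bool.rec (motive := fun _ => Nat) (nd1957 i) (nd1958 i) (Nat.ble 2662400 i))) (Nat.ble 2659328 i))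
noncomputable def nd1960 (i : Nat) : Nat := (Bool.rec (motive := fun _ => Nat) (nl4440 i) ((Bool.rec (motive := fun _ => Nat) (nl4441 i) (nl4442 i) (Nat.ble 2668544 i))) (Nat.ble 2667520 i))
noncomputable def nd1961 (i : Nat) : Nat := (Bool.rec (motive := fun _ => Nat) ((Bool.rec (motive := fun _ => Nat) (nl4443 i) (nl4444 i) (Nat.ble 2670592 i))) ((Bool.rec (motive := fun _ => Nat) (nl4445 i) (nl4446 i) (Nat.ble 2672640 i))) (Nat.ble 2671616 i))
noncomputable def nd1962 (i : Nat) : Nat := (Bool.rec (motive := fun _ => Nat) ((Bool.rec (motive := fun _ => Nat) (nl4447 i) (nl4448 i) (Nat.ble 2674688 i))) ((Bool.rec (motive := fun _ => Nat) (nl4449 i) (nl4450 i) (Nat.ble 2676736 i))) (Nat.ble 2675712 i))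
noncomputable def nd1963 (i : Nat) : Nat := (Bool.rec (motive := fun _ => Nat) ((Bool.rec (motive := fun _ => Nat) (nl4451 i) (nl4452 i) (Nat.ble 2678784 i))) ((Bool.rec (motive := fun _ => Nat) (nl4453 i) (nl4454 i) (Nat.ble 2680832 i))) (Nat.ble 2679808 i))
noncomputable def nd1959 (i : Nat) : Nat := (Bool.rec (motive := fun _ => Nat) ((Bool.rec (motive := fun _ => Nat) (nd1960 i) (nd1961 i) (Nat.ble 2669568 i))) ((Bool.rec (motive := fun _ => Nat) (nd1962 i) (nd1963 i) (Nat.ble 2677760 i))) (Nat.ble 2673664 i))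
noncomputable def nd1943 (i : Nat) : Nat := (Bool.rec (motive := fun _ => Nat) ((Bool.rec (motive := fun _ => Nat) (nd1944 i) (nd1949 i) (Nat.ble 2637824 i))) ((Bool.rec (motive := fun _ => Nat) (nd1954 i) (nd1959 i) (Nat.ble 2666496 i))) (Nat.ble 2652160 i))
noncomputable def nd1966 (i : Nat) : Nat := (Bool.rec (motive := fun _ => Nat) (nl4455 i) ((Bool.rec (motive := fun _ => Nat) (nl4456 i) (nl4457 i) (Nat.ble 2683904 i))) (Nat.ble 2682880 i))
noncomputable def nd1967 (i : Nat) : Nat := (Bool.rec (motive := fun _ => Nat) ((Bool.rec (motive := fun _ => Nat) (nl4458 i) (nl4459 i) (Nat.ble 2685952 i))) ((Bool.rec (motive := fun _ => Nat) (nl4460 i) (nl4461 i) (Nat.ble 2688000 i))) (Nat.ble 2686976 i))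
noncomputable def nd1968 (i : Nat) : Nat := (Bool.rec (motive := fun _ => Nat) (nl4462 i) ((Bool.rec (motive := fun _ => Nat) (nl4463 i) (nl4464 i) (Nat.ble 2691072 i))) (Nat.ble 2690048 i))
noncomputable def nd1969 (i : Nat) : Nat := (Bool.rec (motive := fun _ => Nat) ((Bool.rec (motive := fun _ => Nat) (nl4465 i) (nl4466 i) (Nat.ble 2693120 i))) ((Bool.rec (motive := fun _ => Nat) (nl4467 i) (nl4468 i) (Nat.ble 2695168 i))) (Nat.ble 2694144 i))
noncomputable def nd1965 (i : Nat) : Nat := (Bool.rec (motive := fun _ => Nat) ((Bool.rec (motive := fun _ => Nat) (nd1966 i) (nd1967 i) (Nat.ble 2684928 i))) ((Bool.rec (motive := fun _ => Nat) (nd1968 i) (nd1969 i) (Nat.ble 2692096 i))) (Nat.ble 2689024 i))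
noncomputable def nd1971 (i : Nat) : Nat := (Bool.rec (motive := fun _ => Nat) (nl4469 i) ((Bool.rec (motive := fun _ => Nat) (nl4470 i) (nl4471 i) (Nat.ble 2698240 i))) (Nat.ble 2697216 i))
noncomputable def nd1972 (i : Nat) : Nat := (Bool.rec (motive := fun _ => Nat) ((Bool.rec (motive := fun _ => Nat) (nl4472 i) (nl4473 i) (Nat.ble 2700288 i))) ((Bool.rec (motive := fun _ => Nat) (nl4474 i) (nl4475 i) (Nat.ble 2702336 i))) (Nat.ble 2701312 i))
noncomputable def nd1973 (i : Nat) : Nat := (Bool.rec (motive := fun _ => Nat) (nl4476 i) ((Bool.rec (motive := fun _ => Nat) (nl4477 i) (nl4478 i) (Nat.ble 2705408 i))) (Nat.ble 2704384 i))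
noncomputable def nd1974 (i : Nat) : Nat := (Bool.rec (motive := fun _ => Nat) ((Bool.rec (motive := fun _ => Nat) (nl4479 i) (nl4480 i) (Nat.ble 2707456 i))) ((Bool.rec (motive := fun _ => Nat) (nl4481 i) (nl4482 i) (Nat.ble 2709504 i))) (Nat.ble 2708480 i))
noncomputable def nd1970 (i : Nat) : Nat := (Bool.rec (motive := fun _ => Nat) ((Bool.rec (motive := fun _ => Nat) (nd1971 i) (nd1972 i) (Nat.ble 2699264 i))) ((Bool.rec (motive := fun _ => Nat) (nd1973 i) (nd1974 i) (Nat.ble 2706432 i))) (Nat.ble 2703360 i))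
noncomputable def nd1976 (i : Nat) : Nat := (Bool.rec (motive := fun _ => Nat) (nl4483 i) ((Bool.rec (motive := fun _ => Nat) (nl4484 i) (nl4485 i) (Nat.ble 2712576 i))) (Nat.ble 2711552 i))
noncomputable def nd1977 (i : Nat) : Nat := (Bool.rec (motive := fun _ => Nat) ((Bool.rec (motive := fun _ => Nat) (nl4486 i) (nl4487 i) (Nat.ble 2714624 i))) ((Bool.rec (motive := fun _ => Nat) (nl4488 i) (nl4489 i) (Nat.ble 2716672 i))) (Nat.ble 2715648 i))
noncomputable def nd1978 (i : Nat) : Nat := (Bool.rec (motive := fun _ => Nat) (nl4490 i) ((Bool.rec (motive := fun _ => Nat) (nl4491 i) (nl4492 i) (Nat.ble 2719744 i))) (Nat.ble 2718720 i))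
noncomputable def nd1979 (i : Nat) : Nat := (Bool.rec (motive := fun _ => Nat) ((Bool.rec (motive := fun _ => Nat) (nl4493 i) (nl4494 i) (Nat.ble 2721792 i))) ((Bool.rec (motive := fun _ => Nat) (nl4495 i) (nl4496 i) (Nat.ble 2723840 i))) (Nat.ble 2722816 i))
noncomputable def nd1975 (i : Nat) : Nat := (Bool.rec (motive := fun _ => Nat) ((Bool.rec (motive := fun _ => Nat) (nd1976 i) (nd1977 i) (Nat.ble 2713600 i))) ((Bool.rec (motive := fun _ => Nat) (nd1978 i) (nd1979 i) (Nat.ble 2720768 i))) (Nat.ble 2717696 i))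
noncomputable def nd1981 (i : Nat) : Nat := (Bool.rec (motive := fun _ => Nat) (nl4497 i) ((Bool.rec (motive := fun _ => Nat) (nl4498 i) (nl4499 i) (Nat.ble 2726912 i))) (Nat.ble 2725888 i))
noncomputable def nd1982 (i : Nat) : Nat := (Bool.rec (motive := fun _ => Nat) ((Bool.rec (motive := fun _ => Nat) (nl4500 i) (nl4501 i) (Nat.ble 2728960 i))) ((Bool.rec (motive := fun _ => Nat) (nl4502 i) (nl4503 i) (Nat.ble 2731008 i))) (Nat.ble 2729984 i))
noncomputable def nd1983 (i : Nat) : Nat := (Bool.rec (motive := fun _ => Nat) ((Bool.rec (motive := fun _ => Nat) (nl4504 i) (nl4505 i) (Nat.ble 2733056 i))) ((Bool.rec (motive := fun _ => Nat) (nl4506 i) (nl4507 i) (Nat.ble 2735104 i))) (Nat.ble 2734080 i))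
noncomputable def nd1984 (i : Nat) : Nat := (Bool.rec (motive := fun _ => Nat) ((Bool.rec (motive := fun _ => Nat) (nl4508 i) (nl4509 i) (Nat.ble 2737152 i))) ((Bool.rec (motive := fun _ => Nat) (nl4510 i) (nl4511 i) (Nat.ble 2739200 i))) (Nat.ble 2738176 i))
noncomputable def nd1980 (i : Nat) : Nat := (Bool.rec (motive := fun _ => Nat) ((Bool.rec (motive := fun _ => Nat) (nd1981 i) (nd1982 i) (Nat.ble 2727936 i))) ((Bool.rec (motive := fun _ => Nat) (nd1983 i) (nd1984 i) (Nat.ble 2736128 i))) (Nat.ble 2732032 i))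
noncomputable def nd1964 (i : Nat) : Nat := (Bool.rec (motive := fun _ => Nat) ((Bool.rec (motive := fun _ => Nat) (nd1965 i) (nd1970 i) (Nat.ble 2696192 i))) ((Bool.rec (motive := fun _ => Nat) (nd1975 i) (nd1980 i) (Nat.ble 2724864 i))) (Nat.ble 2710528 i))
noncomputable def nd1987 (i : Nat) : Nat := (Bool.rec (motive := fun _ => Nat) (nl4512 i) ((Bool.rec (motive := fun _ => Nat) (nl4513 i) (nl4514 i) (Nat.ble 2742272 i))) (Nat.ble 2741248 i))
noncomputable def nd1988 (i : Nat) : Nat := (Bool.rec (motive := fun _ => Nat) ((Bool.rec (motive := fun _ => Nat) (nl4515 i) (nl4516 i) (Nat.ble 2744320 i))) ((Bool.rec (motive := fun _ => Nat) (nl4517 i) (nl4518 i) (Nat.ble 2746368 i))) (Nat.ble 2745344 i))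
noncomputable def nd1989 (i : Nat) : Nat := (Bool.rec (motive := fun _ => Nat) (nl4519 i) ((Bool.rec (motive := fun _ => Nat) (nl4520 i) (nl4521 i) (Nat.ble 2749440 i))) (Nat.ble 2748416 i))
noncomputable def nd1990 (i : Nat) : Nat := (Bool.rec (motive := fun _ => Nat) ((Bool.rec (motive := fun _ => Nat) (nl4522 i) (nl4523 i) (Nat.ble 2751488 i))) ((Bool.rec (motive := fun _ => Nat) (nl4524 i) (nl4525 i) (Nat.ble 2753536 i))) (Nat.ble 2752512 i))
noncomputable def nd1986 (i : Nat) : Nat := (Bool.rec (motive := fun _ => Nat) ((Bool.rec (motive := fun _ => Nat) (nd1987 i) (nd1988 i) (Nat.ble 2743296 i))) ((Bool.rec (motive := fun _ => Nat) (nd1989 i) (nd1990 i) (Nat.ble 2750464 i))) (Nat.ble 2747392 i))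
noncomputable def nd1992 (i : Nat) : Nat := (Bool.rec (motive := fun _ => Nat) (nl4526 i) ((Bool.rec (motive := fun _ => Nat) (nl4527 i) (nl4528 i) (Nat.ble 2756608 i))) (Nat.ble 2755584 i))
noncomputable def nd1993 (i : Nat) : Nat := (Bool.rec (motive := fun _ => Nat) ((Bool.rec (motive := fun _ => Nat) (nl4529 i) (nl4530 i) (Nat.ble 2758656 i))) ((Bool.rec (motive := fun _ => Nat) (nl4531 i) (nl4532 i) (Nat.ble 2760704 i))) (Nat.ble 2759680 i))
noncomputable def nd1994 (i : Nat) : Nat := (Bool.rec (motive := fun _ => Nat) (nl4533 i) ((Bool.rec (motive := fun _ => Nat) (nl4534 i) (nl4535 i) (Nat.ble 2763776 i))) (Nat.ble 2762752 i))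
noncomputable def nd1995 (i : Nat) : Nat := (Bool.rec (motive := fun _ => Nat) ((Bool.rec (motive := fun _ => Nat) (nl4536 i) (nl4537 i) (Nat.ble 2765824 i))) ((Bool.rec (motive := fun _ => Nat) (nl4538 i) (nl4539 i) (Nat.ble 2767872 i))) (Nat.ble 2766848 i))
noncomputable def nd1991 (i : Nat) : Nat := (Bool.rec (motive := fun _ => Nat) ((Bool.rec (motive := fun _ => Nat) (nd1992 i) (nd1993 i) (Nat.ble 2757632 i))) ((Bool.rec (motive := fun _ => Nat) (nd1994 i) (nd1995 i) (Nat.ble 2764800 i))) (Nat.ble 2761728 i))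
noncomputable def nd1997 (i : Nat) : Nat := (Bool.rec (motive := fun _ => Nat) (nl4540 i) ((Bool.rec (motive := fun _ => Nat) (nl4541 i) (nl4542 i) (Nat.ble 2770944 i))) (Nat.ble 2769920 i))
noncomputable def nd1998 (i : Nat) : Nat := (Bool.rec (motive := fun _ => Nat) ((Bool.rec (motive := fun _ => Nat) (nl4543 i) (nl4544 i) (Nat.ble 2772992 i))) ((Bool.rec (motive := fun _ => Nat) (nl4545 i) (nl4546 i) (Nat.ble 2775040 i))) (Nat.ble 2774016 i))
noncomputable def nd1999 (i : Nat) : Nat := (Bool.rec (motive := fun _ => Nat) (nl4547 i) ((Bool.rec (motive := fun _ => Nat) (nl4548 i) (nl4549 i) (Nat.ble 2778112 i))) (Nat.ble 2777088 i))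
noncomputable def nd2000 (i : Nat) : Nat := (Bool.rec (motive := fun _ => Nat) ((Bool.rec (motive := fun _ => Nat) (nl4550 i) (nl4551 i) (Nat.ble 2780160 i))) ((Bool.rec (motive := fun _ => Nat) (nl4552 i) (nl4553 i) (Nat.ble 2782208 i))) (Nat.ble 2781184 i))
noncomputable def nd1996 (i : Nat) : Nat := (Bool.rec (motive := fun _ => Nat) ((Bool.rec (motive := fun _ => Nat) (nd1997 i) (nd1998 i) (Nat.ble 2771968 i))) ((Bool.rec (motive := fun _ => Nat) (nd1999 i) (nd2000 i) (Nat.ble 2779136 i))) (Nat.ble 2776064 i))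
noncomputable def nd2002 (i : Nat) : Nat := (Bool.rec (motive := fun _ => Nat) (nl4554 i) ((Bool.rec (motive := fun _ => Nat) (nl4555 i) (nl4556 i) (Nat.ble 2785280 i))) (Nat.ble 2784256 i))
noncomputable def nd2003 (i : Nat) : Nat := (Bool.rec (motive := fun _ => Nat) ((Bool.rec (motive := fun _ => Nat) (nl4557 i) (nl4558 i) (Nat.ble 2787328 i))) ((Bool.rec (motive := fun _ => Nat) (nl4559 i) (nl4560 i) (Nat.ble 2789376 i))) (Nat.ble 2788352 i))
noncomputable def nd2004 (i : Nat) : Nat := (Bool.rec (motive := fun _ => Nat) ((Bool.rec (motive := fun _ => Nat) (nl4561 i) (nl4562 i) (Nat.ble 2791424 i))) ((Bool.rec (motive := fun _ => Nat) (nl4563 i) (nl4564 i) (Nat.ble 2793472 i))) (Nat.ble 2792448 i))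
noncomputable def nd2005 (i : Nat) : Nat := (Bool.rec (motive := fun _ => Nat) ((Bool.rec (motive := fun _ => Nat) (nl4565 i) (nl4566 i) (Nat.ble 2795520 i))) ((Bool.rec (motive := fun _ => Nat) (nl4567 i) (nl4568 i) (Nat.ble 2797568 i))) (Nat.ble 2796544 i))
noncomputable def nd2001 (i : Nat) : Nat := (Bool.rec (motive := fun _ => Nat) ((Bool.rec (motive := fun _ => Nat) (nd2002 i) (nd2003 i) (Nat.ble 2786304 i))) ((Bool.rec (motive := fun _ => Nat) (nd2004 i) (nd2005 i) (Nat.ble 2794496 i))) (Nat.ble 2790400 i))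
noncomputable def nd1985 (i : Nat) : Nat := (Bool.rec (motive := fun _ => Nat) ((Bool.rec (motive := fun _ => Nat) (nd1986 i) (nd1991 i) (Nat.ble 2754560 i))) ((Bool.rec (motive := fun _ => Nat) (nd1996 i) (nd2001 i) (Nat.ble 2783232 i))) (Nat.ble 2768896 i))
noncomputable def nd1921 (i : Nat) : Nat := (Bool.rec (motive := fun _ => Nat) ((Bool.rec (motive := fun _ => Nat) (nd1922 i) (nd1943 i) (Nat.ble 2623488 i))) ((Bool.rec (motive := fun _ => Nat) (nd1964 i) (nd1985 i) (Nat.ble 2740224 i))) (Nat.ble 2681856 i))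
noncomputable def nd1665 (i : Nat) : Nat := (Bool.rec (motive := fun _ => Nat) ((Bool.rec (motive := fun _ => Nat) (nd1666 i) (nd1751 i) (Nat.ble 2098176 i))) ((Bool.rec (motive := fun _ => Nat) (nd1836 i) (nd1921 i) (Nat.ble 2565120 i))) (Nat.ble 2331648 i))
noncomputable def nd2010 (i : Nat) : Nat := (Bool.rec (motive := fun _ => Nat) (nl4569 i) ((Bool.rec (motive := fun _ => Nat) (nl4570 i) (nl4571 i) (Nat.ble 2800640 i))) (Nat.ble 2799616 i))
noncomputable def nd2011 (i : Nat) : Nat := (Bool.rec (motive := fun _ => Nat) ((Bool.rec (motive := fun _ => Nat) (nl4572 i) (nl4573 i) (Nat.ble 2802688 i))) ((Bool.rec (motive := fun _ => Nat) (nl4574 i) (nl4575 i) (Nat.ble 2804736 i))) (Nat.ble 2803712 i))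
noncomputable def nd2012 (i : Nat) : Nat := (Bool.rec (motive := fun _ => Nat) (nl4576 i) ((Bool.rec (motive := fun _ => Nat) (nl4577 i) (nl4578 i) (Nat.ble 2807808 i))) (Nat.ble 2806784 i))
noncomputable def nd2013 (i : Nat) : Nat := (Bool.rec (motive := fun _ => Nat) ((Bool.rec (motive := fun _ => Nat) (nl4579 i) (nl4580 i) (Nat.ble 2809856 i))) ((Bool.rec (motive := fun _ => Nat) (nl4581 i) (nl4582 i) (Nat.ble 2811904 i))) (Nat.ble 2810880 i))
noncomputable def nd2009 (i : Nat) : Nat := (Bool.rec (motive := fun _ => Nat) ((Bool.rec (motive := fun _ => Nat) (nd2010 i) (nd2011 i) (Nat.ble 2801664 i))) ((Bool.rec (motive := fun _ => Nat) (nd2012 i) (nd2013 i) (Nat.ble 2808832 i))) (Nat.ble 2805760 i))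
noncomputable def nd2015 (i : Nat) : Nat := (Bool.rec (motive := fun _ => Nat) (nl4583 i) ((Bool.rec (motive := fun _ => Nat) (nl4584 i) (nl4585 i) (Nat.ble 2814976 i))) (Nat.ble 2813952 i))
noncomputable def nd2016 (i : Nat) : Nat := (Bool.rec (motive := fun _ => Nat) ((Bool.rec (motive := fun _ => Nat) (nl4586 i) (nl4587 i) (Nat.ble 2817024 i))) ((Bool.rec (motive := fun _ => Nat) (nl4588 i) (nl4589 i) (Nat.ble 2819072 i))) (Nat.ble 2818048 i))
noncomputable def nd2017 (i : Nat) : Nat := (Bool.rec (motive := fun _ => Nat) (nl4590 i) ((Bool.rec (motive := fun _ => Nat) (nl4591 i) (nl4592 i) (Nat.ble 2822144 i))) (Nat.ble 2821120 i))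
noncomputable def nd2018 (i : Nat) : Nat := (Bool.rec (motive := fun _ => Nat) ((Bool.rec (motive := fun _ => Nat) (nl4593 i) (nl4594 i) (Nat.ble 2824192 i))) ((Bool.rec (motive := fun _ => Nat) (nl4595 i) (nl4596 i) (Nat.ble 2826240 i))) (Nat.ble 2825216 i))
noncomputable def nd2014 (i : Nat) : Nat := (Bool.rec (motive := fun _ => Nat) ((Bool.rec (motive := fun _ => Nat) (nd2015 i) (nd2016 i) (Nat.ble 2816000 i))) ((Bool.rec (motive := fun _ => Nat) (nd2017 i) (nd2018 i) (Nat.ble 2823168 i))) (Nat.ble 2820096 i))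
noncomputable def nd2020 (i : Nat) : Nat := (Bool.rec (motive := fun _ => Nat) (nl4597 i) ((Bool.rec (motive := fun _ => Nat) (nl4598 i) (nl4599 i) (Nat.ble 2829312 i))) (Nat.ble 2828288 i))
noncomputable def nd2021 (i : Nat) : Nat := (Bool.rec (motive := fun _ => Nat) ((Bool.rec (motive := fun _ => Nat) (nl4600 i) (nl4601 i) (Nat.ble 2831360 i))) ((Bool.rec (motive := fun _ => Nat) (nl4602 i) (nl4603 i) (Nat.ble 2833408 i))) (Nat.ble 2832384 i))
noncomputable def nd2022 (i : Nat) : Nat := (Bool.rec (motive := fun _ => Nat) (nl4604 i) ((Bool.rec (motive := fun _ => Nat) (nl4605 i) (nl4606 i) (Nat.ble 2836480 i))) (Nat.ble 2835456 i))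
noncomputable def nd2023 (i : Nat) : Nat := (Bool.rec (motive := fun _ => Nat) ((Bool.rec (motive := fun _ => Nat) (nl4607 i) (nl4608 i) (Nat.ble 2838528 i))) ((Bool.rec (motive := fun _ => Nat) (nl4609 i) (nl4610 i) (Nat.ble 2840576 i))) (Nat.ble 2839552 i))
noncomputable def nd2019 (i : Nat) : Nat := (Bool.rec (motive := fun _ => Nat) ((Bool.rec (motive := fun _ => Nat) (nd2020 i) (nd2021 i) (Nat.ble 2830336 i))) ((Bool.rec (motive := fun _ => Nat) (nd2022 i) (nd2023 i) (Nat.ble 2837504 i))) (Nat.ble 2834432 i))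
noncomputable def nd2025 (i : Nat) : Nat := (Bool.rec (motive := fun _ => Nat) (nl4611 i) ((Bool.rec (motive := fun _ => Nat) (nl4612 i) (nl4613 i) (Nat.ble 2843648 i))) (Nat.ble 2842624 i))
noncomputable def nd2026 (i : Nat) : Nat := (Bool.rec (motive := fun _ => Nat) ((Bool.rec (motive := fun _ => Nat) (nl4614 i) (nl4615 i) (Nat.ble 2845696 i))) ((Bool.rec (motive := fun _ => Nat) (nl4616 i) (nl4617 i) (Nat.ble 2847744 i))) (Nat.ble 2846720 i))
noncomputable def nd2027 (i : Nat) : Nat := (Bool.rec (motive := fun _ => Nat) ((Bool.rec (motive := fun _ => Nat) (nl4618 i) (nl4619 i) (Nat.ble 2849792 i))) ((Bool.rec (motive := fun _ => Nat) (nl4620 i) (nl4621 i) (Nat.ble 2851840 i))) (Nat.ble 2850816 i))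
noncomputable def nd2028 (i : Nat) : Nat := (Bool.rec (motive := fun _ => Nat) ((Bool.rec (motive := fun _ => Nat) (nl4622 i) (nl4623 i) (Nat.ble 2853888 i))) ((Bool.rec (motive := fun _ => Nat) (nl4624 i) (nl4625 i) (Nat.ble 2855936 i))) (Nat.ble 2854912 i))
noncomputable def nd2024 (i : Nat) : Nat := (Bool.rec (motive := fun _ => Nat) ((Bool.rec (motive := fun _ => Nat) (nd2025 i) (nd2026 i) (Nat.ble 2844672 i))) ((Bool.rec (motive := fun _ => Nat) (nd2027 i) (nd2028 i) (Nat.ble 2852864 i))) (Nat.ble 2848768 i))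
noncomputable def nd2008 (i : Nat) : Nat := (Bool.rec (motive := fun _ => Nat) ((Bool.rec (motive := fun _ => Nat) (nd2009 i) (nd2014 i) (Nat.ble 2812928 i))) ((Bool.rec (motive := fun _ => Nat) (nd2019 i) (nd2024 i) (Nat.ble 2841600 i))) (Nat.ble 2827264 i))
noncomputable def nd2031 (i : Nat) : Nat := (Bool.rec (motive := fun _ => Nat) (nl4626 i) ((Bool.rec (motive := fun _ => Nat) (nl4627 i) (nl4628 i) (Nat.ble 2859008 i))) (Nat.ble 2857984 i))
noncomputable def nd2032 (i : Nat) : Nat := (Bool.rec (motive := fun _ => Nat) ((Bool.rec (motive := fun _ => Nat) (nl4629 i) (nl4630 i) (Nat.ble 2861056 i))) ((Bool.rec (motive := fun _ => Nat) (nl4631 i) (nl4632 i) (Nat.ble 2863104 i))) (Nat.ble 2862080 i))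
noncomputable def nd2033 (i : Nat) : Nat := (Bool.rec (motive := fun _ => Nat) (nl4633 i) ((Bool.rec (motive := fun _ => Nat) (nl4634 i) (nl4635 i) (Nat.ble 2866176 i))) (Nat.ble 2865152 i))
noncomputable def nd2034 (i : Nat) : Nat := (Bool.rec (motive := fun _ => Nat) ((Bool.rec (motive := fun _ => Nat) (nl4636 i) (nl4637 i) (Nat.ble 2868224 i))) ((Bool.rec (motive := fun _ => Nat) (nl4638 i) (nl4639 i) (Nat.ble 2870272 i))) (Nat.ble 2869248 i))
noncomputable def nd2030 (i : Nat) : Nat := (Bool.rec (motive := fun _ => Nat) ((Bool.rec (motive := fun _ => Nat) (nd2031 i) (nd2032 i) (Nat.ble 2860032 i))) ((Bool.rec (motive := fun _ => Nat) (nd2033 i) (nd2034 i) (Nat.ble 2867200 i))) (Nat.ble 2864128 i))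
noncomputable def nd2036 (i : Nat) : Nat := (Bool.rec (motive := fun _ => Nat) (nl4640 i) ((Bool.rec (motive := fun _ => Nat) (nl4641 i) (nl4642 i) (Nat.ble 2873344 i))) (Nat.ble 2872320 i))
noncomputable def nd2037 (i : Nat) : Nat := (Bool.rec (motive := fun _ => Nat) ((Bool.rec (motive := fun _ => Nat) (nl4643 i) (nl4644 i) (Nat.ble 2875392 i))) ((Bool.rec (motive := fun _ => Nat) (nl4645 i) (nl4646 i) (Nat.ble 2877440 i))) (Nat.ble 2876416 i))
noncomputable def nd2038 (i : Nat) : Nat := (Bool.rec (motive := fun _ => Nat) (nl4647 i) ((Bool.rec (motive := fun _ => Nat) (nl4648 i) (nl4649 i) (Nat.ble 2880512 i))) (Nat.ble 2879488 i))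
noncomputable def nd2039 (i : Nat) : Nat := (Bool.rec (motive := fun _ => Nat) ((Bool.rec (motive := fun _ => Nat) (nl4650 i) (nl4651 i) (Nat.ble 2882560 i))) ((Bool.rec (motive := fun _ => Nat) (nl4652 i) (nl4653 i) (Nat.ble 2884608 i))) (Nat.ble 2883584 i))
noncomputable def nd2035 (i : Nat) : Nat := (Bool.rec (motive := fun _ => Nat) ((Bool.rec (motive := fun _ => Nat) (nd2036 i) (nd2037 i) (Nat.ble 2874368 i))) ((Bool.rec (motive := fun _ => Nat) (nd2038 i) (nd2039 i) (Nat.ble 2881536 i))) (Nat.ble 2878464 i))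
noncomputable def nd2041 (i : Nat) : Nat := (Bool.rec (motive := fun _ => Nat) (nl4654 i) ((Bool.rec (motive := fun _ => Nat) (nl4655 i) (nl4656 i) (Nat.ble 2887680 i))) (Nat.ble 2886656 i))
noncomputable def nd2042 (i : Nat) : Nat := (Bool.rec (motive := fun _ => Nat) ((Bool.rec (motive := fun _ => Nat) (nl4657 i) (nl4658 i) (Nat.ble 2889728 i))) ((Bool.rec (motive := fun _ => Nat) (nl4659 i) (nl4660 i) (Nat.ble 2891776 i))) (Nat.ble 2890752 i))
noncomputable def nd2043 (i : Nat) : Nat := (Bool.rec (motive := fun _ => Nat) (nl4661 i) ((Bool.rec (motive := fun _ => Nat) (nl4662 i) (nl4663 i) (Nat.ble 2894848 i))) (Nat.ble 2893824 i))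
noncomputable def nd2044 (i : Nat) : Nat := (Bool.rec (motive := fun _ => Nat) ((Bool.rec (motive := fun _ => Nat) (nl4664 i) (nl4665 i) (Nat.ble 2896896 i))) ((Bool.rec (motive := fun _ => Nat) (nl4666 i) (nl4667 i) (Nat.ble 2898944 i))) (Nat.ble 2897920 i))
noncomputable def nd2040 (i : Nat) : Nat := (Bool.rec (motive := fun _ => Nat) ((Bool.rec (motive := fun _ => Nat) (nd2041 i) (nd2042 i) (Nat.ble 2888704 i))) ((Bool.rec (motive := fun _ => Nat) (nd2043 i) (nd2044 i) (Nat.ble 2895872 i))) (Nat.ble 2892800 i))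
noncomputable def nd2046 (i : Nat) : Nat := (Bool.rec (motive := fun _ => Nat) (nl4668 i) ((Bool.rec (motive := fun _ => Nat) (nl4669 i) (nl4670 i) (Nat.ble 2902016 i))) (Nat.ble 2900992 i))
noncomputable def nd2047 (i : Nat) : Nat := (Bool.rec (motive := fun _ => Nat) ((Bool.rec (motive := fun _ => Nat) (nl4671 i) (nl4672 i) (Nat.ble 2904064 i))) ((Bool.rec (motive := fun _ => Nat) (nl4673 i) (nl4674 i) (Nat.ble 2906112 i))) (Nat.ble 2905088 i))
noncomputable def nd2048 (i : Nat) : Nat := (Bool.rec (motive := fun _ => Nat) ((Bool.rec (motive := fun _ => Nat) (nl4675 i) (nl4676 i) (Nat.ble 2908160 i))) ((Bool.rec (motive := fun _ => Nat) (nl4677 i) (nl4678 i) (Nat.ble 2910208 i))) (Nat.ble 2909184 i))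
noncomputable def nd2049 (i : Nat) : Nat := (Bool.rec (motive := fun _ => Nat) ((Bool.rec (motive := fun _ => Nat) (nl4679 i) (nl4680 i) (Nat.ble 2912256 i))) ((Bool.rec (motive := fun _ => Nat) (nl4681 i) (nl4682 i) (Nat.ble 2914304 i))) (Nat.ble 2913280 i))
noncomputable def nd2045 (i : Nat) : Nat := (Bool.rec (motive := fun _ => Nat) ((Bool.rec (motive := fun _ => Nat) (nd2046 i) (nd2047 i) (Nat.ble 2903040 i))) ((Bool.rec (motive := fun _ => Nat) (nd2048 i) (nd2049 i) (Nat.ble 2911232 i))) (Nat.ble 2907136 i))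
noncomputable def nd2029 (i : Nat) : Nat := (Bool.rec (motive := fun _ => Nat) ((Bool.rec (motive := fun _ => Nat) (nd2030 i) (nd2035 i) (Nat.ble 2871296 i))) ((Bool.rec (motive := fun _ => Nat) (nd2040 i) (nd2045 i) (Nat.ble 2899968 i))) (Nat.ble 2885632 i))
noncomputable def nd2052 (i : Nat) : Nat := (Bool.rec (motive := fun _ => Nat) (nl4683 i) ((Bool.rec (motive := fun _ => Nat) (nl4684 i) (nl4685 i) (Nat.ble 2917376 i))) (Nat.ble 2916352 i))
noncomputable def nd2053 (i : Nat) : Nat := (Bool.rec (motive := fun _ => Nat) ((Bool.rec (motive := fun _ => Nat) (nl4686 i) (nl4687 i) (Nat.ble 2919424 i))) ((Bool.rec (motive := fun _ => Nat) (nl4688 i) (nl4689 i) (Nat.ble 2921472 i))) (Nat.ble 2920448 i))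
noncomputable def nd2054 (i : Nat) : Nat := (Bool.rec (motive := fun _ => Nat) (nl4690 i) ((Bool.rec (motive := fun _ => Nat) (nl4691 i) (nl4692 i) (Nat.ble 2924544 i))) (Nat.ble 2923520 i))
noncomputable def nd2055 (i : Nat) : Nat := (Bool.rec (motive := fun _ => Nat) ((Bool.rec (motive := fun _ => Nat) (nl4693 i) (nl4694 i) (Nat.ble 2926592 i))) ((Bool.rec (motive := fun _ => Nat) (nl4695 i) (nl4696 i) (Nat.ble 2928640 i))) (Nat.ble 2927616 i))
noncomputable def nd2051 (i : Nat) : Nat := (Bool.rec (motive := fun _ => Nat) ((Bool.rec (motive := fun _ => Nat) (nd2052 i) (nd2053 i) (Nat.ble 2918400 i))) ((Bool.rec (motive := fun _ => Nat) (nd2054 i) (nd2055 i) (Nat.ble 2925568 i))) (Nat.ble 2922496 i))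
noncomputable def nd2057 (i : Nat) : Nat := (Bool.rec (motive := fun _ => Nat) (nl4697 i) ((Bool.rec (motive := fun _ => Nat) (nl4698 i) (nl4699 i) (Nat.ble 2931712 i))) (Nat.ble 2930688 i))
noncomputable def nd2058 (i : Nat) : Nat := (Bool.rec (motive := fun _ => Nat) ((Bool.rec (motive := fun _ => Nat) (nl4700 i) (nl4701 i) (Nat.ble 2933760 i))) ((Bool.rec (motive := fun _ => Nat) (nl4702 i) (nl4703 i) (Nat.ble 2935808 i))) (Nat.ble 2934784 i))
noncomputable def nd2059 (i : Nat) : Nat := (Bool.rec (motive := fun _ => Nat) (nl4704 i) ((Bool.rec (motive := fun _ => Nat) (nl4705 i) (nl4706 i) (Nat.ble 2938880 i))) (Nat.ble 2937856 i))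
noncomputable def nd2060 (i : Nat) : Nat := (Bool.rec (motive := fun _ => Nat) ((Bool.rec (motive := fun _ => Nat) (nl4707 i) (nl4708 i) (Nat.ble 2940928 i))) ((Bool.rec (motive := fun _ => Nat) (nl4709 i) (nl4710 i) (Nat.ble 2942976 i))) (Nat.ble 2941952 i))
noncomputable def nd2056 (i : Nat) : Nat := (Bool.rec (motive := fun _ => Nat) ((Bool.rec (motive := fun _ => Nat) (nd2057 i) (nd2058 i) (Nat.ble 2932736 i))) ((Bool.rec (motive := fun _ => Nat) (nd2059 i) (nd2060 i) (Nat.ble 2939904 i))) (Nat.ble 2936832 i))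
noncomputable def nd2062 (i : Nat) : Nat := (Bool.rec (motive := fun _ => Nat) (nl4711 i) ((Bool.rec (motive := fun _ => Nat) (nl4712 i) (nl4713 i) (Nat.ble 2946048 i))) (Nat.ble 2945024 i))
noncomputable def nd2063 (i : Nat) : Nat := (Bool.rec (motive := fun _ => Nat) ((Bool.rec (motive := fun _ => Nat) (nl4714 i) (nl4715 i) (Nat.ble 2948096 i))) ((Bool.rec (motive := fun _ => Nat) (nl4716 i) (nl4717 i) (Nat.ble 2950144 i))) (Nat.ble 2949120 i))
noncomputable def nd2064 (i : Nat) : Nat := (Bool.rec (motive := fun _ => Nat) (nl4718 i) ((Bool.rec (motive := fun _ => Nat) (nl4719 i) (nl4720 i) (Nat.ble 2953216 i))) (Nat.ble 2952192 i))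
noncomputable def nd2065 (i : Nat) : Nat := (Bool.rec (motive := fun _ => Nat) ((Bool.rec (motive := fun _ => Nat) (nl4721 i) (nl4722 i) (Nat.ble 2955264 i))) ((Bool.rec (motive := fun _ => Nat) (nl4723 i) (nl4724 i) (Nat.ble 2957312 i))) (Nat.ble 2956288 i))
noncomputable def nd2061 (i : Nat) : Nat := (Bool.rec (motive := fun _ => Nat) ((Bool.rec (motive := fun _ => Nat) (nd2062 i) (nd2063 i) (Nat.ble 2947072 i))) ((Bool.rec (motive := fun _ => Nat) (nd2064 i) (nd2065 i) (Nat.ble 2954240 i))) (Nat.ble 2951168 i))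
noncomputable def nd2067 (i : Nat) : Nat := (Bool.rec (motive := fun _ => Nat) (nl4725 i) ((Bool.rec (motive := fun _ => Nat) (nl4726 i) (nl4727 i) (Nat.ble 2960384 i))) (Nat.ble 2959360 i))
noncomputable def nd2068 (i : Nat) : Nat := (Bool.rec (motive := fun _ => Nat) ((Bool.rec (motive := fun _ => Nat) (nl4728 i) (nl4729 i) (Nat.ble 2962432 i))) ((Bool.rec (motive := fun _ => Nat) (nl4730 i) (nl4731 i) (Nat.ble 2964480 i))) (Nat.ble 2963456 i))
noncomputable def nd2069 (i : Nat) : Nat := (Bool.rec (motive := fun _ => Nat) ((Bool.rec (motive := fun _ => Nat) (nl4732 i) (nl4733 i) (Nat.ble 2966528 i))) ((Bool.rec (motive := fun _ => Nat) (nl4734 i) (nl4735 i) (Nat.ble 2968576 i))) (Nat.ble 2967552 i))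
noncomputable def nd2070 (i : Nat) : Nat := (Bool.rec (motive := fun _ => Nat) ((Bool.rec (motive := fun _ => Nat) (nl4736 i) (nl4737 i) (Nat.ble 2970624 i))) ((Bool.rec (motive := fun _ => Nat) (nl4738 i) (nl4739 i) (Nat.ble 2972672 i))) (Nat.ble 2971648 i))
noncomputable def nd2066 (i : Nat) : Nat := (Bool.rec (motive := fun _ => Nat) ((Bool.rec (motive := fun _ => Nat) (nd2067 i) (nd2068 i) (Nat.ble 2961408 i))) ((Bool.rec (motive := fun _ => Nat) (nd2069 i) (nd2070 i) (Nat.ble 2969600 i))) (Nat.ble 2965504 i))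
noncomputable def nd2050 (i : Nat) : Nat := (Bool.rec (motive := fun _ => Nat) ((Bool.rec (motive := fun _ => Nat) (nd2051 i) (nd2056 i) (Nat.ble 2929664 i))) ((Bool.rec (motive := fun _ => Nat) (nd2061 i) (nd2066 i) (Nat.ble 2958336 i))) (Nat.ble 2944000 i))
noncomputable def nd2073 (i : Nat) : Nat := (Bool.rec (motive := fun _ => Nat) (nl4740 i) ((Bool.rec (motive := fun _ => Nat) (nl4741 i) (nl4742 i) (Nat.ble 2975744 i))) (Nat.ble 2974720 i))
noncomputable def nd2074 (i : Nat) : Nat := (Bool.rec (motive := fun _ => Nat) ((Bool.rec (motive := fun _ => Nat) (nl4743 i) (nl4744 i) (Nat.ble 2977792 i))) ((Bool.rec (motive := fun _ => Nat) (nl4745 i) (nl4746 i) (Nat.ble 2979840 i))) (Nat.ble 2978816 i))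
noncomputable def nd2075 (i : Nat) : Nat := (Bool.rec (motive := fun _ => Nat) (nl4747 i) ((Bool.rec (motive := fun _ => Nat) (nl4748 i) (nl4749 i) (Nat.ble 2982912 i))) (Nat.ble 2981888 i))
noncomputable def nd2076 (i : Nat) : Nat := (Bool.rec (motive := fun _ => Nat) ((Bool.rec (motive := fun _ => Nat) (nl4750 i) (nl4751 i) (Nat.ble 2984960 i))) ((Bool.rec (motive := fun _ => Nat) (nl4752 i) (nl4753 i) (Nat.ble 2987008 i))) (Nat.ble 2985984 i))
noncomputable def nd2072 (i : Nat) : Nat := (Bool.rec (motive := fun _ => Nat) ((Bool.rec (motive := fun _ => Nat) (nd2073 i) (nd2074 i) (Nat.ble 2976768 i))) ((Bool.rec (motive := fun _ => Nat) (nd2075 i) (nd2076 i) (Nat.ble 2983936 i))) (Nat.ble 2980864 i))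
noncomputable def nd2078 (i : Nat) : Nat := (Bool.rec (motive := fun _ => Nat) (nl4754 i) ((Bool.rec (motive := fun _ => Nat) (nl4755 i) (nl4756 i) (Nat.ble 2990080 i))) (Nat.ble 2989056 i))
noncomputable def nd2079 (i : Nat) : Nat := (Bool.rec (motive := fun _ => Nat) ((Bool.rec (motive := fun _ => Nat) (nl4757 i) (nl4758 i) (Nat.ble 2992128 i))) ((Bool.rec (motive := fun _ => Nat) (nl4759 i) (nl4760 i) (Nat.ble 2994176 i))) (Nat.ble 2993152 i))
noncomputable def nd2080 (i : Nat) : Nat := (Bool.rec (motive := fun _ => Nat) (nl4761 i) ((Bool.rec (motive := fun _ => Nat) (nl4762 i) (nl4763 i) (Nat.ble 2997248 i))) (Nat.ble 2996224 i))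
noncomputable def nd2081 (i : Nat) : Nat := (Bool.rec (motive := fun _ => Nat) ((Bool.rec (motive := fun _ => Nat) (nl4764 i) (nl4765 i) (Nat.ble 2999296 i))) ((Bool.rec (motive := fun _ => Nat) (nl4766 i) (nl4767 i) (Nat.ble 3001344 i))) (Nat.ble 3000320 i))
noncomputable def nd2077 (i : Nat) : Nat := (Bool.rec (motive := fun _ => Nat) ((Bool.rec (motive := fun _ => Nat) (nd2078 i) (nd2079 i) (Nat.ble 2991104 i))) ((Bool.rec (motive := fun _ => Nat) (nd2080 i) (nd2081 i) (Nat.ble 2998272 i))) (Nat.ble 2995200 i))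
noncomputable def nd2083 (i : Nat) : Nat := (Bool.rec (motive := fun _ => Nat) (nl4768 i) ((Bool.rec (motive := fun _ => Nat) (nl4769 i) (nl4770 i) (Nat.ble 3004416 i))) (Nat.ble 3003392 i))
noncomputable def nd2084 (i : Nat) : Nat := (Bool.rec (motive := fun _ => Nat) ((Bool.rec (motive := fun _ => Nat) (nl4771 i) (nl4772 i) (Nat.ble 3006464 i))) ((Bool.rec (motive := fun _ => Nat) (nl4773 i) (nl4774 i) (Nat.ble 3008512 i))) (Nat.ble 3007488 i))
noncomputable def nd2085 (i : Nat) : Nat := (Bool.rec (motive := fun _ => Nat) (nl4775 i) ((Bool.rec (motive := fun _ => Nat) (nl4776 i) (nl4777 i) (Nat.ble 3011584 i))) (Nat.ble 3010560 i))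
noncomputable def nd2086 (i : Nat) : Nat := (Bool.rec (motive := fun _ => Nat) ((Bool.rec (motive := fun _ => Nat) (nl4778 i) (nl4779 i) (Nat.ble 3013632 i))) ((Bool.rec (motive := fun _ => Nat) (nl4780 i) (nl4781 i) (Nat.ble 3015680 i))) (Nat.ble 3014656 i))
noncomputable def nd2082 (i : Nat) : Nat := (Bool.rec (motive := fun _ => Nat) ((Bool.rec (motive := fun _ => Nat) (nd2083 i) (nd2084 i) (Nat.ble 3005440 i))) ((Bool.rec (motive := fun _ => Nat) (nd2085 i) (nd2086 i) (Nat.ble 3012608 i))) (Nat.ble 3009536 i))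
noncomputable def nd2088 (i : Nat) : Nat := (Bool.rec (motive := fun _ => Nat) (nl4782 i) ((Bool.rec (motive := fun _ => Nat) (nl4783 i) (nl4784 i) (Nat.ble 3018752 i))) (Nat.ble 3017728 i))
noncomputable def nd2089 (i : Nat) : Nat := (Bool.rec (motive := fun _ => Nat) ((Bool.rec (motive := fun _ => Nat) (nl4785 i) (nl4786 i) (Nat.ble 3020800 i))) ((Bool.rec (motive := fun _ => Nat) (nl4787 i) (nl4788 i) (Nat.ble 3022848 i))) (Nat.ble 3021824 i))
noncomputable def nd2090 (i : Nat) : Nat := (Bool.rec (motive := fun _ => Nat) ((Bool.rec (motive := fun _ => Nat) (nl4789 i) (nl4790 i) (Nat.ble 3024896 i))) ((Bool.rec (motive := fun _ => Nat) (nl4791 i) (nl4792 i) (Nat.ble 3026944 i))) (Nat.ble 3025920 i))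
noncomputable def nd2091 (i : Nat) : Nat := (Bool.rec (motive := fun _ => Nat) ((Bool.rec (motive := fun _ => Nat) (nl4793 i) (nl4794 i) (Nat.ble 3028992 i))) ((Bool.rec (motive := fun _ => Nat) (nl4795 i) (nl4796 i) (Nat.ble 3031040 i))) (Nat.ble 3030016 i))
noncomputable def nd2087 (i : Nat) : Nat := (Bool.rec (motive := fun _ => Nat) ((Bool.rec (motive := fun _ => Nat) (nd2088 i) (nd2089 i) (Nat.ble 3019776 i))) ((Bool.rec (motive := fun _ => Nat) (nd2090 i) (nd2091 i) (Nat.ble 3027968 i))) (Nat.ble 3023872 i))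
noncomputable def nd2071 (i : Nat) : Nat := (Bool.rec (motive := fun _ => Nat) ((Bool.rec (motive := fun _ => Nat) (nd2072 i) (nd2077 i) (Nat.ble 2988032 i))) ((Bool.rec (motive := fun _ => Nat) (nd2082 i) (nd2087 i) (Nat.ble 3016704 i))) (Nat.ble 3002368 i))
noncomputable def nd2007 (i : Nat) : Nat := (Bool.rec (motive := fun _ => Nat) ((Bool.rec (motive := fun _ => Nat) (nd2008 i) (nd2029 i) (Nat.ble 2856960 i))) ((Bool.rec (motive := fun _ => Nat) (nd2050 i) (nd2071 i) (Nat.ble 2973696 i))) (Nat.ble 2915328 i))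
noncomputable def nd2095 (i : Nat) : Nat := (Bool.rec (motive := fun _ => Nat) (nl4797 i) ((Bool.rec (motive := fun _ => Nat) (nl4798 i) (nl4799 i) (Nat.ble 3034112 i))) (Nat.ble 3033088 i))
noncomputable def nd2096 (i : Nat) : Nat := (Bool.rec (motive := fun _ => Nat) ((Bool.rec (motive := fun _ => Nat) (nl4800 i) (nl4801 i) (Nat.ble 3036160 i))) ((Bool.rec (motive := fun _ => Nat) (nl4802 i) (nl4803 i) (Nat.ble 3038208 i))) (Nat.ble 3037184 i))
noncomputable def nd2097 (i : Nat) : Nat := (Bool.rec (motive := fun _ => Nat) (nl4804 i) ((Bool.rec (motive := fun _ => Nat) (nl4805 i) (nl4806 i) (Nat.ble 3041280 i))) (Nat.ble 3040256 i))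
noncomputable def nd2098 (i : Nat) : Nat := (Bool.rec (motive := fun _ => Nat) ((Bool.rec (motive := fun _ => Nat) (nl4807 i) (nl4808 i) (Nat.ble 3043328 i))) ((Bool.rec (motive := fun _ => Nat) (nl4809 i) (nl4810 i) (Nat.ble 3045376 i))) (Nat.ble 3044352 i))
noncomputable def nd2094 (i : Nat) : Nat := (Bool.rec (motive := fun _ => Nat) ((Bool.rec (motive := fun _ => Nat) (nd2095 i) (nd2096 i) (Nat.ble 3035136 i))) ((Bool.rec (motive := fun _ => Nat) (nd2097 i) (nd2098 i) (Nat.ble 3042304 i))) (Nat.ble 3039232 i))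
noncomputable def nd2100 (i : Nat) : Nat := (Bool.rec (motive := fun _ => Nat) (nl4811 i) ((Bool.rec (motive := fun _ => Nat) (nl4812 i) (nl4813 i) (Nat.ble 3048448 i))) (Nat.ble 3047424 i))
noncomputable def nd2101 (i : Nat) : Nat := (Bool.rec (motive := fun _ => Nat) ((Bool.rec (motive := fun _ => Nat) (nl4814 i) (nl4815 i) (Nat.ble 3050496 i))) ((Bool.rec (motive := fun _ => Nat) (nl4816 i) (nl4817 i) (Nat.ble 3052544 i))) (Nat.ble 3051520 i))
noncomputable def nd2102 (i : Nat) : Nat := (Bool.rec (motive := fun _ => Nat) (nl4818 i) ((Bool.rec (motive := fun _ => Nat) (nl4819 i) (nl4820 i) (Nat.ble 3055616 i))) (Nat.ble 3054592 i))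
noncomputable def nd2103 (i : Nat) : Nat := (Bool.rec (motive := fun _ => Nat) ((Bool.rec (motive := fun _ => Nat) (nl4821 i) (nl4822 i) (Nat.ble 3057664 i))) ((Bool.rec (motive := fun _ => Nat) (nl4823 i) (nl4824 i) (Nat.ble 3059712 i))) (Nat.ble 3058688 i))
noncomputable def nd2099 (i : Nat) : Nat := (Bool.rec (motive := fun _ => Nat) ((Bool.rec (motive := fun _ => Nat) (nd2100 i) (nd2101 i) (Nat.ble 3049472 i))) ((Bool.rec (motive := fun _ => Nat) (nd2102 i) (nd2103 i) (Nat.ble 3056640 i))) (Nat.ble 3053568 i))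
noncomputable def nd2105 (i : Nat) : Nat := (Bool.rec (motive := fun _ => Nat) (nl4825 i) ((Bool.rec (motive := fun _ => Nat) (nl4826 i) (nl4827 i) (Nat.ble 3062784 i))) (Nat.ble 3061760 i))
noncomputable def nd2106 (i : Nat) : Nat := (Bool.rec (motive := fun _ => Nat) ((Bool.rec (motive := fun _ => Nat) (nl4828 i) (nl4829 i) (Nat.ble 3064832 i))) ((Bool.rec (motive := fun _ => Nat) (nl4830 i) (nl4831 i) (Nat.ble 3066880 i))) (Nat.ble 3065856 i))
noncomputable def nd2107 (i : Nat) : Nat := (Bool.rec (motive := fun _ => Nat) (nl4832 i) ((Bool.rec (motive := fun _ => Nat) (nl4833 i) (nl4834 i) (Nat.ble 3069952 i))) (Nat.ble 3068928 i))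
noncomputable def nd2108 (i : Nat) : Nat := (Bool.rec (motive := fun _ => Nat) ((Bool.rec (motive := fun _ => Nat) (nl4835 i) (nl4836 i) (Nat.ble 3072000 i))) ((Bool.rec (motive := fun _ => Nat) (nl4837 i) (nl4838 i) (Nat.ble 3074048 i))) (Nat.ble 3073024 i))
noncomputable def nd2104 (i : Nat) : Nat := (Bool.rec (motive := fun _ => Nat) ((Bool.rec (motive := fun _ => Nat) (nd2105 i) (nd2106 i) (Nat.ble 3063808 i))) ((Bool.rec (motive := fun _ => Nat) (nd2107 i) (nd2108 i) (Nat.ble 3070976 i))) (Nat.ble 3067904 i))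
noncomputable def nd2110 (i : Nat) : Nat := (Bool.rec (motive := fun _ => Nat) (nl4839 i) ((Bool.rec (motive := fun _ => Nat) (nl4840 i) (nl4841 i) (Nat.ble 3077120 i))) (Nat.ble 3076096 i))
noncomputable def nd2111 (i : Nat) : Nat := (Bool.rec (motive := fun _ => Nat) ((Bool.rec (motive := fun _ => Nat) (nl4842 i) (nl4843 i) (Nat.ble 3079168 i))) ((Bool.rec (motive := fun _ => Nat) (nl4844 i) (nl4845 i) (Nat.ble 3081216 i))) (Nat.ble 3080192 i))
noncomputable def nd2112 (i : Nat) : Nat := (Bool.rec (motive := fun _ => Nat) ((Bool.rec (motive := fun _ => Nat) (nl4846 i) (nl4847 i) (Nat.ble 3083264 i))) ((Bool.rec (motive := fun _ => Nat) (nl4848 i) (nl4849 i) (Nat.ble 3085312 i))) (Nat.ble 3084288 i))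
noncomputable def nd2113 (i : Nat) : Nat := (Bool.rec (motive := fun _ => Nat) ((Bool.rec (motive := fun _ => Nat) (nl4850 i) (nl4851 i) (Nat.ble 3087360 i))) ((Bool.rec (motive := fun _ => Nat) (nl4852 i) (nl4853 i) (Nat.ble 3089408 i))) (Nat.ble 3088384 i))
noncomputable def nd2109 (i : Nat) : Nat := (Bool.rec (motive := fun _ => Nat) ((Bool.rec (motive := fun _ => Nat) (nd2110 i) (nd2111 i) (Nat.ble 3078144 i))) ((Bool.rec (motive := fun _ => Nat) (nd2112 i) (nd2113 i) (Nat.ble 3086336 i))) (Nat.ble 3082240 i))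
noncomputable def nd2093 (i : Nat) : Nat := (Bool.rec (motive := fun _ => Nat) ((Bool.rec (motive := fun _ => Nat) (nd2094 i) (nd2099 i) (Nat.ble 3046400 i))) ((Bool.rec (motive := fun _ => Nat) (nd2104 i) (nd2109 i) (Nat.ble 3075072 i))) (Nat.ble 3060736 i))
noncomputable def nd2116 (i : Nat) : Nat := (Bool.rec (motive := fun _ => Nat) (nl4854 i) ((Bool.rec (motive := fun _ => Nat) (nl4855 i) (nl4856 i) (Nat.ble 3092480 i))) (Nat.ble 3091456 i))
noncomputable def nd2117 (i : Nat) : Nat := (Bool.rec (motive := fun _ => Nat) ((Bool.rec (motive := fun _ => Nat) (nl4857 i) (nl4858 i) (Nat.ble 3094528 i))) ((Bool.rec (motive := fun _ => Nat) (nl4859 i) (nl4860 i) (Nat.ble 3096576 i))) (Nat.ble 3095552 i))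
noncomputable def nd2118 (i : Nat) : Nat := (Bool.rec (motive := fun _ => Nat) (nl4861 i) ((Bool.rec (motive := fun _ => Nat) (nl4862 i) (nl4863 i) (Nat.ble 3099648 i))) (Nat.ble 3098624 i))
noncomputable def nd2119 (i : Nat) : Nat := (Bool.rec (motive := fun _ => Nat) ((Bool.rec (motive := fun _ => Nat) (nl4864 i) (nl4865 i) (Nat.ble 3101696 i))) ((Bool.rec (motive := fun _ => Nat) (nl4866 i) (nl4867 i) (Nat.ble 3103744 i))) (Nat.ble 3102720 i))
noncomputable def nd2115 (i : Nat) : Nat := (Bool.rec (motive := fun _ => Nat) ((Bool.rec (motive := fun _ => Nat) (nd2116 i) (nd2117 i) (Nat.ble 3093504 i))) ((Bool.rec (motive := fun _ => Nat) (nd2118 i) (nd2119 i) (Nat.ble 3100672 i))) (Nat.ble 3097600 i))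
noncomputable def nd2121 (i : Nat) : Nat := (Bool.rec (motive := fun _ => Nat) (nl4868 i) ((Bool.rec (motive := fun _ => Nat) (nl4869 i) (nl4870 i) (Nat.ble 3106816 i))) (Nat.ble 3105792 i))
noncomputable def nd2122 (i : Nat) : Nat := (Bool.rec (motive := fun _ => Nat) ((Bool.rec (motive := fun _ => Nat) (nl4871 i) (nl4872 i) (Nat.ble 3108864 i))) ((Bool.rec (motive := fun _ => Nat) (nl4873 i) (nl4874 i) (Nat.ble 3110912 i))) (Nat.ble 3109888 i))
noncomputable def nd2123 (i : Nat) : Nat := (Bool.rec (motive := fun _ => Nat) (nl4875 i) ((Bool.rec (motive := fun _ => Nat) (nl4876 i) (nl4877 i) (Nat.ble 3113984 i))) (Nat.ble 3112960 i))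
noncomputable def nd2124 (i : Nat) : Nat := (Bool.rec (motive := fun _ => Nat) ((Bool.rec (motive := fun _ => Nat) (nl4878 i) (nl4879 i) (Nat.ble 3116032 i))) ((Bool.rec (motive := fun _ => Nat) (nl4880 i) (nl4881 i) (Nat.ble 3118080 i))) (Nat.ble 3117056 i))
noncomputable def nd2120 (i : Nat) : Nat := (Bool.rec (motive := fun _ => Nat) ((Bool.rec (motive := fun _ => Nat) (nd2121 i) (nd2122 i) (Nat.ble 3107840 i))) ((Bool.rec (motive := fun _ => Nat) (nd2123 i) (nd2124 i) (Nat.ble 3115008 i))) (Nat.ble 3111936 i))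
noncomputable def nd2126 (i : Nat) : Nat := (Bool.rec (motive := fun _ => Nat) (nl4882 i) ((Bool.rec (motive := fun _ => Nat) (nl4883 i) (nl4884 i) (Nat.ble 3121152 i))) (Nat.ble 3120128 i))
noncomputable def nd2127 (i : Nat) : Nat := (Bool.rec (motive := fun _ => Nat) ((Bool.rec (motive := fun _ => Nat) (nl4885 i) (nl4886 i) (Nat.ble 3123200 i))) ((Bool.rec (motive := fun _ => Nat) (nl4887 i) (nl4888 i) (Nat.ble 3125248 i))) (Nat.ble 3124224 i))
noncomputable def nd2128 (i : Nat) : Nat := (Bool.rec (motive := fun _ => Nat) (nl4889 i) ((Bool.rec (motive := fun _ => Nat) (nl4890 i) (nl4891 i) (Nat.ble 3128320 i))) (Nat.ble 3127296 i))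
noncomputable def nd2129 (i : Nat) : Nat := (Bool.rec (motive := fun _ => Nat) ((Bool.rec (motive := fun _ => Nat) (nl4892 i) (nl4893 i) (Nat.ble 3130368 i))) ((Bool.rec (motive := fun _ => Nat) (nl4894 i) (nl4895 i) (Nat.ble 3132416 i))) (Nat.ble 3131392 i))
noncomputable def nd2125 (i : Nat) : Nat := (Bool.rec (motive := fun _ => Nat) ((Bool.rec (motive := fun _ => Nat) (nd2126 i) (nd2127 i) (Nat.ble 3122176 i))) ((Bool.rec (motive := fun _ => Nat) (nd2128 i) (nd2129 i) (Nat.ble 3129344 i))) (Nat.ble 3126272 i))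
noncomputable def nd2131 (i : Nat) : Nat := (Bool.rec (motive := fun _ => Nat) (nl4896 i) ((Bool.rec (motive := fun _ => Nat) (nl4897 i) (nl4898 i) (Nat.ble 3135488 i))) (Nat.ble 3134464 i))
noncomputable def nd2132 (i : Nat) : Nat := (Bool.rec (motive := fun _ => Nat) ((Bool.rec (motive := fun _ => Nat) (nl4899 i) (nl4900 i) (Nat.ble 3137536 i))) ((Bool.rec (motive := fun _ => Nat) (nl4901 i) (nl4902 i) (Nat.ble 3139584 i))) (Nat.ble 3138560 i))
noncomputable def nd2133 (i : Nat) : Nat := (Bool.rec (motive := fun _ => Nat) ((Bool.rec (motive := fun _ => Nat) (nl4903 i) (nl4904 i) (Nat.ble 3141632 i))) ((Bool.rec (motive := fun _ => Nat) (nl4905 i) (nl4906 i) (Nat.ble 3143680 i))) (Nat.ble 3142656 i))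
noncomputable def nd2134 (i : Nat) : Nat := (Bool.rec (motive := fun _ => Nat) ((Bool.rec (motive := fun _ => Nat) (nl4907 i) (nl4908 i) (Nat.ble 3145728 i))) ((Bool.rec (motive := fun _ => Nat) (nl4909 i) (nl4910 i) (Nat.ble 3147776 i))) (Nat.ble 3146752 i))
noncomputable def nd2130 (i : Nat) : Nat := (Bool.rec (motive := fun _ => Nat) ((Bool.rec (motive := fun _ => Nat) (nd2131 i) (nd2132 i) (Nat.ble 3136512 i))) ((Bool.rec (motive := fun _ => Nat) (nd2133 i) (nd2134 i) (Nat.ble 3144704 i))) (Nat.ble 3140608 i))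
noncomputable def nd2114 (i : Nat) : Nat := (Bool.rec (motive := fun _ => Nat) ((Bool.rec (motive := fun _ => Nat) (nd2115 i) (nd2120 i) (Nat.ble 3104768 i))) ((Bool.rec (motive := fun _ => Nat) (nd2125 i) (nd2130 i) (Nat.ble 3133440 i))) (Nat.ble 3119104 i))
noncomputable def nd2137 (i : Nat) : Nat := (Bool.rec (motive := fun _ => Nat) (nl4911 i) ((Bool.rec (motive := fun _ => Nat) (nl4912 i) (nl4913 i) (Nat.ble 3150848 i))) (Nat.ble 3149824 i))
noncomputable def nd2138 (i : Nat) : Nat := (Bool.rec (motive := fun _ => Nat) ((Bool.rec (motive := fun _ => Nat) (nl4914 i) (nl4915 i) (Nat.ble 3152896 i))) ((Bool.rec (motive := fun _ => Nat) (nl4916 i) (nl4917 i) (Nat.ble 3154944 i))) (Nat.ble 3153920 i))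
noncomputable def nd2139 (i : Nat) : Nat := (Bool.rec (motive := fun _ => Nat) (nl4918 i) ((Bool.rec (motive := fun _ => Nat) (nl4919 i) (nl4920 i) (Nat.ble 3158016 i))) (Nat.ble 3156992 i))
noncomputable def nd2140 (i : Nat) : Nat := (Bool.rec (motive := fun _ => Nat) ((Bool.rec (motive := fun _ => Nat) (nl4921 i) (nl4922 i) (Nat.ble 3160064 i))) ((Bool.rec (motive := fun _ => Nat) (nl4923 i) (nl4924 i) (Nat.ble 3162112 i))) (Nat.ble 3161088 i))
noncomputable def nd2136 (i : Nat) : Nat := (Bool.rec (motive := fun _ => Nat) ((Bool.rec (motive := fun _ => Nat) (nd2137 i) (nd2138 i) (Nat.ble 3151872 i))) ((Bool.rec (motive := fun _ => Nat) (nd2139 i) (nd2140 i) (Nat.ble 3159040 i))) (Nat.ble 3155968 i))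
noncomputable def nd2142 (i : Nat) : Nat := (Bool.rec (motive := fun _ => Nat) (nl4925 i) ((Bool.rec (motive := fun _ => Nat) (nl4926 i) (nl4927 i) (Nat.ble 3165184 i))) (Nat.ble 3164160 i))
noncomputable def nd2143 (i : Nat) : Nat := (Bool.rec (motive := fun _ => Nat) ((Bool.rec (motive := fun _ => Nat) (nl4928 i) (nl4929 i) (Nat.ble 3167232 i))) ((Bool.rec (motive := fun _ => Nat) (nl4930 i) (nl4931 i) (Nat.ble 3169280 i))) (Nat.ble 3168256 i))
noncomputable def nd2144 (i : Nat) : Nat := (Bool.rec (motive := fun _ => Nat) (nl4932 i) ((Bool.rec (motive := fun _ => Nat) (nl4933 i) (nl4934 i) (Nat.ble 3172352 i))) (Nat.ble 3171328 i))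
noncomputable def nd2145 (i : Nat) : Nat := (Bool.rec (motive := fun _ => Nat) ((Bool.rec (motive := fun _ => Nat) (nl4935 i) (nl4936 i) (Nat.ble 3174400 i))) ((Bool.rec (motive := fun _ => Nat) (nl4937 i) (nl4938 i) (Nat.ble 3176448 i))) (Nat.ble 3175424 i))
noncomputable def nd2141 (i : Nat) : Nat := (Bool.rec (motive := fun _ => Nat) ((Bool.rec (motive := fun _ => Nat) (nd2142 i) (nd2143 i) (Nat.ble 3166208 i))) ((Bool.rec (motive := fun _ => Nat) (nd2144 i) (nd2145 i) (Nat.ble 3173376 i))) (Nat.ble 3170304 i))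
noncomputable def nd2147 (i : Nat) : Nat := (Bool.rec (motive := fun _ => Nat) (nl4939 i) ((Bool.rec (motive := fun _ => Nat) (nl4940 i) (nl4941 i) (Nat.ble 3179520 i))) (Nat.ble 3178496 i))
noncomputable def nd2148 (i : Nat) : Nat := (Bool.rec (motive := fun _ => Nat) ((Bool.rec (motive := fun _ => Nat) (nl4942 i) (nl4943 i) (Nat.ble 3181568 i))) ((Bool.rec (motive := fun _ => Nat) (nl4944 i) (nl4945 i) (Nat.ble 3183616 i))) (Nat.ble 3182592 i))
noncomputable def nd2149 (i : Nat) : Nat := (Bool.rec (motive := fun _ => Nat) (nl4946 i) ((Bool.rec (motive := fun _ => Nat) (nl4947 i) (nl4948 i) (Nat.ble 3186688 i))) (Nat.ble 3185664 i))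
noncomputable def nd2150 (i : Nat) : Nat := (Bool.rec (motive := fun _ => Nat) ((Bool.rec (motive := fun _ => Nat) (nl4949 i) (nl4950 i) (Nat.ble 3188736 i))) ((Bool.rec (motive := fun _ => Nat) (nl4951 i) (nl4952 i) (Nat.ble 3190784 i))) (Nat.ble 3189760 i))
noncomputable def nd2146 (i : Nat) : Nat := (Bool.rec (motive := fun _ => Nat) ((Bool.rec (motive := fun _ => Nat) (nd2147 i) (nd2148 i) (Nat.ble 3180544 i))) ((Bool.rec (motive := fun _ => Nat) (nd2149 i) (nd2150 i) (Nat.ble 3187712 i))) (Nat.ble 3184640 i))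
noncomputable def nd2152 (i : Nat) : Nat := (Bool.rec (motive := fun _ => Nat) (nl4953 i) ((Bool.rec (motive := fun _ => Nat) (nl4954 i) (nl4955 i) (Nat.ble 3193856 i))) (Nat.ble 3192832 i))
noncomputable def nd2153 (i : Nat) : Nat := (Bool.rec (motive := fun _ => Nat) ((Bool.rec (motive := fun _ => Nat) (nl4956 i) (nl4957 i) (Nat.ble 3195904 i))) ((Bool.rec (motive := fun _ => Nat) (nl4958 i) (nl4959 i) (Nat.ble 3197952 i))) (Nat.ble 3196928 i))
noncomputable def nd2154 (i : Nat) : Nat := (Bool.rec (motive := fun _ => Nat) ((Bool.rec (motive := fun _ => Nat) (nl4960 i) (nl4961 i) (Nat.ble 3200000 i))) ((Bool.rec (motive := fun _ => Nat) (nl4962 i) (nl4963 i) (Nat.ble 3202048 i))) (Nat.ble 3201024 i))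
noncomputable def nd2155 (i : Nat) : Nat := (Bool.rec (motive := fun _ => Nat) ((Bool.rec (motive := fun _ => Nat) (nl4964 i) (nl4965 i) (Nat.ble 3204096 i))) ((Bool.rec (motive := fun _ => Nat) (nl4966 i) (nl4967 i) (Nat.ble 3206144 i))) (Nat.ble 3205120 i))
noncomputable def nd2151 (i : Nat) : Nat := (Bool.rec (motive := fun _ => Nat) ((Bool.rec (motive := fun _ => Nat) (nd2152 i) (nd2153 i) (Nat.ble 3194880 i))) ((Bool.rec (motive := fun _ => Nat) (nd2154 i) (nd2155 i) (Nat.ble 3203072 i))) (Nat.ble 3198976 i))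
noncomputable def nd2135 (i : Nat) : Nat := (Bool.rec (motive := fun _ => Nat) ((Bool.rec (motive := fun _ => Nat) (nd2136 i) (nd2141 i) (Nat.ble 3163136 i))) ((Bool.rec (motive := fun _ => Nat) (nd2146 i) (nd2151 i) (Nat.ble 3191808 i))) (Nat.ble 3177472 i))
noncomputable def nd2158 (i : Nat) : Nat := (Bool.rec (motive := fun _ => Nat) (nl4968 i) ((Bool.rec (motive := fun _ => Nat) (nl4969 i) (nl4970 i) (Nat.ble 3209216 i))) (Nat.ble 3208192 i))
noncomputable def nd2159 (i : Nat) : Nat := (Bool.rec (motive := fun _ => Nat) ((Bool.rec (motive := fun _ => Nat) (nl4971 i) (nl4972 i) (Nat.ble 3211264 i))) ((Bool.rec (motive := fun _ => Nat) (nl4973 i) (nl4974 i) (Nat.ble 3213312 i))) (Nat.ble 3212288 i))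
noncomputable def nd2160 (i : Nat) : Nat := (Bool.rec (motive := fun _ => Nat) (nl4975 i) ((Bool.rec (motive := fun _ => Nat) (nl4976 i) (nl4977 i) (Nat.ble 3216384 i))) (Nat.ble 3215360 i))
noncomputable def nd2161 (i : Nat) : Nat := (Bool.rec (motive := fun _ => Nat) ((Bool.rec (motive := fun _ => Nat) (nl4978 i) (nl4979 i) (Nat.ble 3218432 i))) ((Bool.rec (motive := fun _ => Nat) (nl4980 i) (nl4981 i) (Nat.ble 3220480 i))) (Nat.ble 3219456 i))
noncomputable def nd2157 (i : Nat) : Nat := (Bool.rec (motive := fun _ => Nat) ((Bool.rec (motive := fun _ => Nat) (nd2158 i) (nd2159 i) (Nat.ble 3210240 i))) ((Bool.rec (motive := fun _ => Nat) (nd2160 i) (nd2161 i) (Nat.ble 3217408 i))) (Nat.ble 3214336 i))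
noncomputable def nd2163 (i : Nat) : Nat := (Bool.rec (motive := fun _ => Nat) (nl4982 i) ((Bool.rec (motive := fun _ => Nat) (nl4983 i) (nl4984 i) (Nat.ble 3223552 i))) (Nat.ble 3222528 i))
noncomputable def nd2164 (i : Nat) : Nat := (Bool.rec (motive := fun _ => Nat) ((Bool.rec (motive := fun _ => Nat) (nl4985 i) (nl4986 i) (Nat.ble 3225600 i))) ((Bool.rec (motive := fun _ => Nat) (nl4987 i) (nl4988 i) (Nat.ble 3227648 i))) (Nat.ble 3226624 i))
noncomputable def nd2165 (i : Nat) : Nat := (Bool.rec (motive := fun _ => Nat) (nl4989 i) ((Bool.rec (motive := fun _ => Nat) (nl4990 i) (nl4991 i) (Nat.ble 3230720 i))) (Nat.ble 3229696 i))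
noncomputable def nd2166 (i : Nat) : Nat := (Bool.rec (motive := fun _ => Nat) ((Bool.rec (motive := fun _ => Nat) (nl4992 i) (nl4993 i) (Nat.ble 3232768 i))) ((Bool.rec (motive := fun _ => Nat) (nl4994 i) (nl4995 i) (Nat.ble 3234816 i))) (Nat.ble 3233792 i))
noncomputable def nd2162 (i : Nat) : Nat := (Bool.rec (motive := fun _ => Nat) ((Bool.rec (motive := fun _ => Nat) (nd2163 i) (nd2164 i) (Nat.ble 3224576 i))) ((Bool.rec (motive := fun _ => Nat) (nd2165 i) (nd2166 i) (Nat.ble 3231744 i))) (Nat.ble 3228672 i))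
noncomputable def nd2168 (i : Nat) : Nat := (Bool.rec (motive := fun _ => Nat) (nl4996 i) ((Bool.rec (motive := fun _ => Nat) (nl4997 i) (nl4998 i) (Nat.ble 3237888 i))) (Nat.ble 3236864 i))
noncomputable def nd2169 (i : Nat) : Nat := (Bool.rec (motive := fun _ => Nat) ((Bool.rec (motive := fun _ => Nat) (nl4999 i) (nl5000 i) (Nat.ble 3239936 i))) ((Bool.rec (motive := fun _ => Nat) (nl5001 i) (nl5002 i) (Nat.ble 3241984 i))) (Nat.ble 3240960 i))
noncomputable def nd2170 (i : Nat) : Nat := (Bool.rec (motive := fun _ => Nat) (nl5003 i) ((Bool.rec (motive := fun _ => Nat) (nl5004 i) (nl5005 i) (Nat.ble 3245056 i))) (Nat.ble 3244032 i))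
noncomputable def nd2171 (i : Nat) : Nat := (Bool.rec (motive := fun _ => Nat) ((Bool.rec (motive := fun _ => Nat) (nl5006 i) (nl5007 i) (Nat.ble 3247104 i))) ((Bool.rec (motive := fun _ => Nat) (nl5008 i) (nl5009 i) (Nat.ble 3249152 i))) (Nat.ble 3248128 i))
noncomputable def nd2167 (i : Nat) : Nat := (Bool.rec (motive := fun _ => Nat) ((Bool.rec (motive := fun _ => Nat) (nd2168 i) (nd2169 i) (Nat.ble 3238912 i))) ((Bool.rec (motive := fun _ => Nat) (nd2170 i) (nd2171 i) (Nat.ble 3246080 i))) (Nat.ble 3243008 i))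
noncomputable def nd2173 (i : Nat) : Nat := (Bool.rec (motive := fun _ => Nat) (nl5010 i) ((Bool.rec (motive := fun _ => Nat) (nl5011 i) (nl5012 i) (Nat.ble 3252224 i))) (Nat.ble 3251200 i))
noncomputable def nd2174 (i : Nat) : Nat := (Bool.rec (motive := fun _ => Nat) ((Bool.rec (motive := fun _ => Nat) (nl5013 i) (nl5014 i) (Nat.ble 3254272 i))) ((Bool.rec (motive := fun _ => Nat) (nl5015 i) (nl5016 i) (Nat.ble 3256320 i))) (Nat.ble 3255296 i))
noncomputable def nd2175 (i : Nat) : Nat := (Bool.rec (motive := fun _ => Nat) ((Bool.rec (motive := fun _ => Nat) (nl5017 i) (nl5018 i) (Nat.ble 3258368 i))) ((Bool.rec (motive := fun _ => Nat) (nl5019 i) (nl5020 i) (Nat.ble 3260416 i))) (Nat.ble 3259392 i))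
noncomputable def nd2176 (i : Nat) : Nat := (Bool.rec (motive := fun _ => Nat) ((Bool.rec (motive := fun _ => Nat) (nl5021 i) (nl5022 i) (Nat.ble 3262464 i))) ((Bool.rec (motive := fun _ => Nat) (nl5023 i) (nl5024 i) (Nat.ble 3264512 i))) (Nat.ble 3263488 i))
noncomputable def nd2172 (i : Nat) : Nat := (Bool.rec (motive := fun _ => Nat) ((Bool.rec (motive := fun _ => Nat) (nd2173 i) (nd2174 i) (Nat.ble 3253248 i))) ((Bool.rec (motive := fun _ => Nat) (nd2175 i) (nd2176 i) (Nat.ble 3261440 i))) (Nat.ble 3257344 i))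
noncomputable def nd2156 (i : Nat) : Nat := (Bool.rec (motive := fun _ => Nat) ((Bool.rec (motive := fun _ => Nat) (nd2157 i) (nd2162 i) (Nat.ble 3221504 i))) ((Bool.rec (motive := fun _ => Nat) (nd2167 i) (nd2172 i) (Nat.ble 3250176 i))) (Nat.ble 3235840 i))
noncomputable def nd2092 (i : Nat) : Nat := (Bool.rec (motive := fun _ => Nat) ((Bool.rec (motive := fun _ => Nat) (nd2093 i) (nd2114 i) (Nat.ble 3090432 i))) ((Bool.rec (motive := fun _ => Nat) (nd2135 i) (nd2156 i) (Nat.ble 3207168 i))) (Nat.ble 3148800 i))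
noncomputable def nd2180 (i : Nat) : Nat := (Bool.rec (motive := fun _ => Nat) (nl5025 i) ((Bool.rec (motive := fun _ => Nat) (nl5026 i) (nl5027 i) (Nat.ble 3267584 i))) (Nat.ble 3266560 i))
noncomputable def nd2181 (i : Nat) : Nat := (Bool.rec (motive := fun _ => Nat) ((Bool.rec (motive := fun _ => Nat) (nl5028 i) (nl5029 i) (Nat.ble 3269632 i))) ((Bool.rec (motive := fun _ => Nat) (nl5030 i) (nl5031 i) (Nat.ble 3271680 i))) (Nat.ble 3270656 i))
noncomputable def nd2182 (i : Nat) : Nat := (Bool.rec (motive := fun _ => Nat) (nl5032 i) ((Bool.rec (motive := fun _ => Nat) (nl5033 i) (nl5034 i) (Nat.ble 3274752 i))) (Nat.ble 3273728 i))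
noncomputable def nd2183 (i : Nat) : Nat := (Bool.rec (motive := fun _ => Nat) ((Bool.rec (motive := fun _ => Nat) (nl5035 i) (nl5036 i) (Nat.ble 3276800 i))) ((Bool.rec (motive := fun _ => Nat) (nl5037 i) (nl5038 i) (Nat.ble 3278848 i))) (Nat.ble 3277824 i))
noncomputable def nd2179 (i : Nat) : Nat := (Bool.rec (motive := fun _ => Nat) ((Bool.rec (motive := fun _ => Nat) (nd2180 i) (nd2181 i) (Nat.ble 3268608 i))) ((Bool.rec (motive := fun _ => Nat) (nd2182 i) (nd2183 i) (Nat.ble 3275776 i))) (Nat.ble 3272704 i))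
noncomputable def nd2185 (i : Nat) : Nat := (Bool.rec (motive := fun _ => Nat) (nl5039 i) ((Bool.rec (motive := fun _ => Nat) (nl5040 i) (nl5041 i) (Nat.ble 3281920 i))) (Nat.ble 3280896 i))
noncomputable def nd2186 (i : Nat) : Nat := (Bool.rec (motive := fun _ => Nat) ((Bool.rec (motive := fun _ => Nat) (nl5042 i) (nl5043 i) (Nat.ble 3283968 i))) ((Bool.rec (motive := fun _ => Nat) (nl5044 i) (nl5045 i) (Nat.ble 3286016 i))) (Nat.ble 3284992 i))
noncomputable def nd2187 (i : Nat) : Nat := (Bool.rec (motive := fun _ => Nat) (nl5046 i) ((Bool.rec (motive := fun _ => Nat) (nl5047 i) (nl5048 i) (Nat.ble 3289088 i))) (Nat.ble 3288064 i))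
noncomputable def nd2188 (i : Nat) : Nat := (Bool.rec (motive := fun _ => Nat) ((Bool.rec (motive := fun _ => Nat) (nl5049 i) (nl5050 i) (Nat.ble 3291136 i))) ((Bool.rec (motive := fun _ => Nat) (nl5051 i) (nl5052 i) (Nat.ble 3293184 i))) (Nat.ble 3292160 i))
noncomputable def nd2184 (i : Nat) : Nat := (Bool.rec (motive := fun _ => Nat) ((Bool.rec (motive := fun _ => Nat) (nd2185 i) (nd2186 i) (Nat.ble 3282944 i))) ((Bool.rec (motive := fun _ => Nat) (nd2187 i) (nd2188 i) (Nat.ble 3290112 i))) (Nat.ble 3287040 i))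
noncomputable def nd2190 (i : Nat) : Nat := (Bool.rec (motive := fun _ => Nat) (nl5053 i) ((Bool.rec (motive := fun _ => Nat) (nl5054 i) (nl5055 i) (Nat.ble 3296256 i))) (Nat.ble 3295232 i))
noncomputable def nd2191 (i : Nat) : Nat := (Bool.rec (motive := fun _ => Nat) ((Bool.rec (motive := fun _ => Nat) (nl5056 i) (nl5057 i) (Nat.ble 3298304 i))) ((Bool.rec (motive := fun _ => Nat) (nl5058 i) (nl5059 i) (Nat.ble 3300352 i))) (Nat.ble 3299328 i))
noncomputable def nd2192 (i : Nat) : Nat := (Bool.rec (motive := fun _ => Nat) (nl5060 i) ((Bool.rec (motive := fun _ => Nat) (nl5061 i) (nl5062 i) (Nat.ble 3303424 i))) (Nat.ble 3302400 i))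
noncomputable def nd2193 (i : Nat) : Nat := (Bool.rec (motive := fun _ => Nat) ((Bool.rec (motive := fun _ => Nat) (nl5063 i) (nl5064 i) (Nat.ble 3305472 i))) ((Bool.rec (motive := fun _ => Nat) (nl5065 i) (nl5066 i) (Nat.ble 3307520 i))) (Nat.ble 3306496 i))
noncomputable def nd2189 (i : Nat) : Nat := (Bool.rec (motive := fun _ => Nat) ((Bool.rec (motive := fun _ => Nat) (nd2190 i) (nd2191 i) (Nat.ble 3297280 i))) ((Bool.rec (motive := fun _ => Nat) (nd2192 i) (nd2193 i) (Nat.ble 3304448 i))) (Nat.ble 3301376 i))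
noncomputable def nd2195 (i : Nat) : Nat := (Bool.rec (motive := fun _ => Nat) (nl5067 i) ((Bool.rec (motive := fun _ => Nat) (nl5068 i) (nl5069 i) (Nat.ble 3310592 i))) (Nat.ble 3309568 i))
noncomputable def nd2196 (i : Nat) : Nat := (Bool.rec (motive := fun _ => Nat) ((Bool.rec (motive := fun _ => Nat) (nl5070 i) (nl5071 i) (Nat.ble 3312640 i))) ((Bool.rec (motive := fun _ => Nat) (nl5072 i) (nl5073 i) (Nat.ble 3314688 i))) (Nat.ble 3313664 i))
noncomputable def nd2197 (i : Nat) : Nat := (Bool.rec (motive := fun _ => Nat) ((Bool.rec (motive := fun _ => Nat) (nl5074 i) (nl5075 i) (Nat.ble 3316736 i))) ((Bool.rec (motive := fun _ => Nat) (nl5076 i) (nl5077 i) (Nat.ble 3318784 i))) (Nat.ble 3317760 i))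
noncomputable def nd2198 (i : Nat) : Nat := (Bool.rec (motive := fun _ => Nat) ((Bool.rec (motive := fun _ => Nat) (nl5078 i) (nl5079 i) (Nat.ble 3320832 i))) ((Bool.rec (motive := fun _ => Nat) (nl5080 i) (nl5081 i) (Nat.ble 3322880 i))) (Nat.ble 3321856 i))
noncomputable def nd2194 (i : Nat) : Nat := (Bool.rec (motive := fun _ => Nat) ((Bool.rec (motive := fun _ => Nat) (nd2195 i) (nd2196 i) (Nat.ble 3311616 i))) ((Bool.rec (motive := fun _ => Nat) (nd2197 i) (nd2198 i) (Nat.ble 3319808 i))) (Nat.ble 3315712 i))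
noncomputable def nd2178 (i : Nat) : Nat := (Bool.rec (motive := fun _ => Nat) ((Bool.rec (motive := fun _ => Nat) (nd2179 i) (nd2184 i) (Nat.ble 3279872 i))) ((Bool.rec (motive := fun _ => Nat) (nd2189 i) (nd2194 i) (Nat.ble 3308544 i))) (Nat.ble 3294208 i))
noncomputable def nd2201 (i : Nat) : Nat := (Bool.rec (motive := fun _ => Nat) (nl5082 i) ((Bool.rec (motive := fun _ => Nat) (nl5083 i) (nl5084 i) (Nat.ble 3325952 i))) (Nat.ble 3324928 i))
noncomputable def nd2202 (i : Nat) : Nat := (Bool.rec (motive := fun _ => Nat) ((Bool.rec (motive := fun _ => Nat) (nl5085 i) (nl5086 i) (Nat.ble 3328000 i))) ((Bool.rec (motive := fun _ => Nat) (nl5087 i) (nl5088 i) (Nat.ble 3330048 i))) (Nat.ble 3329024 i))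
noncomputable def nd2203 (i : Nat) : Nat := (Bool.rec (motive := fun _ => Nat) (nl5089 i) ((Bool.rec (motive := fun _ => Nat) (nl5090 i) (nl5091 i) (Nat.ble 3333120 i))) (Nat.ble 3332096 i))
noncomputable def nd2204 (i : Nat) : Nat := (Bool.rec (motive := fun _ => Nat) ((Bool.rec (motive := fun _ => Nat) (nl5092 i) (nl5093 i) (Nat.ble 3335168 i))) ((Bool.rec (motive := fun _ => Nat) (nl5094 i) (nl5095 i) (Nat.ble 3337216 i))) (Nat.ble 3336192 i))
noncomputable def nd2200 (i : Nat) : Nat := (Bool.rec (motive := fun _ => Nat) ((Bool.rec (motive := fun _ => Nat) (nd2201 i) (nd2202 i) (Nat.ble 3326976 i))) ((Bool.rec (motive := fun _ => Nat) (nd2203 i) (nd2204 i) (Nat.ble 3334144 i))) (Nat.ble 3331072 i))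
noncomputable def nd2206 (i : Nat) : Nat := (Bool.rec (motive := fun _ => Nat) (nl5096 i) ((Bool.rec (motive := fun _ => Nat) (nl5097 i) (nl5098 i) (Nat.ble 3340288 i))) (Nat.ble 3339264 i))
noncomputable def nd2207 (i : Nat) : Nat := (Bool.rec (motive := fun _ => Nat) ((Bool.rec (motive := fun _ => Nat) (nl5099 i) (nl5100 i) (Nat.ble 3342336 i))) ((Bool.rec (motive := fun _ => Nat) (nl5101 i) (nl5102 i) (Nat.ble 3344384 i))) (Nat.ble 3343360 i))
noncomputable def nd2208 (i : Nat) : Nat := (Bool.rec (motive := fun _ => Nat) (nl5103 i) ((Bool.rec (motive := fun _ => Nat) (nl5104 i) (nl5105 i) (Nat.ble 3347456 i))) (Nat.ble 3346432 i))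
noncomputable def nd2209 (i : Nat) : Nat := (Bool.rec (motive := fun _ => Nat) ((Bool.rec (motive := fun _ => Nat) (nl5106 i) (nl5107 i) (Nat.ble 3349504 i))) ((Bool.rec (motive := fun _ => Nat) (nl5108 i) (nl5109 i) (Nat.ble 3351552 i))) (Nat.ble 3350528 i))
noncomputable def nd2205 (i : Nat) : Nat := (Bool.rec (motive := fun _ => Nat) ((Bool.rec (motive := fun _ => Nat) (nd2206 i) (nd2207 i) (Nat.ble 3341312 i))) ((Bool.rec (motive := fun _ => Nat) (nd2208 i) (nd2209 i) (Nat.ble 3348480 i))) (Nat.ble 3345408 i))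
noncomputable def nd2211 (i : Nat) : Nat := (Bool.rec (motive := fun _ => Nat) (nl5110 i) ((Bool.rec (motive := fun _ => Nat) (nl5111 i) (nl5112 i) (Nat.ble 3354624 i))) (Nat.ble 3353600 i))
noncomputable def nd2212 (i : Nat) : Nat := (Bool.rec (motive := fun _ => Nat) ((Bool.rec (motive := fun _ => Nat) (nl5113 i) (nl5114 i) (Nat.ble 3356672 i))) ((Bool.rec (motive := fun _ => Nat) (nl5115 i) (nl5116 i) (Nat.ble 3358720 i))) (Nat.ble 3357696 i))
noncomputable def nd2213 (i : Nat) : Nat := (Bool.rec (motive := fun _ => Nat) (nl5117 i) ((Bool.rec (motive := fun _ => Nat) (nl5118 i) (nl5119 i) (Nat.ble 3361792 i))) (Nat.ble 3360768 i))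
noncomputable def nd2214 (i : Nat) : Nat := (Bool.rec (motive := fun _ => Nat) ((Bool.rec (motive := fun _ => Nat) (nl5120 i) (nl5121 i) (Nat.ble 3363840 i))) ((Bool.rec (motive := fun _ => Nat) (nl5122 i) (nl5123 i) (Nat.ble 3365888 i))) (Nat.ble 3364864 i))
noncomputable def nd2210 (i : Nat) : Nat := (Bool.rec (motive := fun _ => Nat) ((Bool.rec (motive := fun _ => Nat) (nd2211 i) (nd2212 i) (Nat.ble 3355648 i))) ((Bool.rec (motive := fun _ => Nat) (nd2213 i) (nd2214 i) (Nat.ble 3362816 i))) (Nat.ble 3359744 i))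
noncomputable def nd2216 (i : Nat) : Nat := (Bool.rec (motive := fun _ => Nat) (nl5124 i) ((Bool.rec (motive := fun _ => Nat) (nl5125 i) (nl5126 i) (Nat.ble 3368960 i))) (Nat.ble 3367936 i))
noncomputable def nd2217 (i : Nat) : Nat := (Bool.rec (motive := fun _ => Nat) ((Bool.rec (motive := fun _ => Nat) (nl5127 i) (nl5128 i) (Nat.ble 3371008 i))) ((Bool.rec (motive := fun _ => Nat) (nl5129 i) (nl5130 i) (Nat.ble 3373056 i))) (Nat.ble 3372032 i))
noncomputable def nd2218 (i : Nat) : Nat := (Bool.rec (motive := fun _ => Nat) ((Bool.rec (motive := fun _ => Nat) (nl5131 i) (nl5132 i) (Nat.ble 3375104 i))) ((Bool.rec (motive := fun _ => Nat) (nl5133 i) (nl5134 i) (Nat.ble 3377152 i))) (Nat.ble 3376128 i))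
noncomputable def nd2219 (i : Nat) : Nat := (Bool.rec (motive := fun _ => Nat) ((Bool.rec (motive := fun _ => Nat) (nl5135 i) (nl5136 i) (Nat.ble 3379200 i))) ((Bool.rec (motive := fun _ => Nat) (nl5137 i) (nl5138 i) (Nat.ble 3381248 i))) (Nat.ble 3380224 i))
noncomputable def nd2215 (i : Nat) : Nat := (Bool.rec (motive := fun _ => Nat) ((Bool.rec (motive := fun _ => Nat) (nd2216 i) (nd2217 i) (Nat.ble 3369984 i))) ((Bool.rec (motive := fun _ => Nat) (nd2218 i) (nd2219 i) (Nat.ble 3378176 i))) (Nat.ble 3374080 i))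
noncomputable def nd2199 (i : Nat) : Nat := (Bool.rec (motive := fun _ => Nat) ((Bool.rec (motive := fun _ => Nat) (nd2200 i) (nd2205 i) (Nat.ble 3338240 i))) ((Bool.rec (motive := fun _ => Nat) (nd2210 i) (nd2215 i) (Nat.ble 3366912 i))) (Nat.ble 3352576 i))
noncomputable def nd2222 (i : Nat) : Nat := (Bool.rec (motive := fun _ => Nat) (nl5139 i) ((Bool.rec (motive := fun _ => Nat) (nl5140 i) (nl5141 i) (Nat.ble 3384320 i))) (Nat.ble 3383296 i))
noncomputable def nd2223 (i : Nat) : Nat := (Bool.rec (motive := fun _ => Nat) ((Bool.rec (motive := fun _ => Nat) (nl5142 i) (nl5143 i) (Nat.ble 3386368 i))) ((Bool.rec (motive := fun _ => Nat) (nl5144 i) (nl5145 i) (Nat.ble 3388416 i))) (Nat.ble 3387392 i))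
noncomputable def nd2224 (i : Nat) : Nat := (Bool.rec (motive := fun _ => Nat) (nl5146 i) ((Bool.rec (motive := fun _ => Nat) (nl5147 i) (nl5148 i) (Nat.ble 3391488 i))) (Nat.ble 3390464 i))
noncomputable def nd2225 (i : Nat) : Nat := (Bool.rec (motive := fun _ => Nat) ((Bool.rec (motive := fun _ => Nat) (nl5149 i) (nl5150 i) (Nat.ble 3393536 i))) ((Bool.rec (motive := fun _ => Nat) (nl5151 i) (nl5152 i) (Nat.ble 3395584 i))) (Nat.ble 3394560 i))
noncomputable def nd2221 (i : Nat) : Nat := (Bool.rec (motive := fun _ => Nat) ((Bool.rec (motive := fun _ => Nat) (nd2222 i) (nd2223 i) (Nat.ble 3385344 i))) ((Bool.rec (motive := fun _ => Nat) (nd2224 i) (nd2225 i) (Nat.ble 3392512 i))) (Nat.ble 3389440 i))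
noncomputable def nd2227 (i : Nat) : Nat := (Bool.rec (motive := fun _ => Nat) (nl5153 i) ((Bool.rec (motive := fun _ => Nat) (nl5154 i) (nl5155 i) (Nat.ble 3398656 i))) (Nat.ble 3397632 i))
noncomputable def nd2228 (i : Nat) : Nat := (Bool.rec (motive := fun _ => Nat) ((Bool.rec (motive := fun _ => Nat) (nl5156 i) (nl5157 i) (Nat.ble 3400704 i))) ((Bool.rec (motive := fun _ => Nat) (nl5158 i) (nl5159 i) (Nat.ble 3402752 i))) (Nat.ble 3401728 i))
noncomputable def nd2229 (i : Nat) : Nat := (Bool.rec (motive := fun _ => Nat) (nl5160 i) ((Bool.rec (motive := fun _ => Nat) (nl5161 i) (nl5162 i) (Nat.ble 3405824 i))) (Nat.ble 3404800 i))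
noncomputable def nd2230 (i : Nat) : Nat := (Bool.rec (motive := fun _ => Nat) ((Bool.rec (motive := fun _ => Nat) (nl5163 i) (nl5164 i) (Nat.ble 3407872 i))) ((Bool.rec (motive := fun _ => Nat) (nl5165 i) (nl5166 i) (Nat.ble 3409920 i))) (Nat.ble 3408896 i))
noncomputable def nd2226 (i : Nat) : Nat := (Bool.rec (motive := fun _ => Nat) ((Bool.rec (motive := fun _ => Nat) (nd2227 i) (nd2228 i) (Nat.ble 3399680 i))) ((Bool.rec (motive := fun _ => Nat) (nd2229 i) (nd2230 i) (Nat.ble 3406848 i))) (Nat.ble 3403776 i))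
noncomputable def nd2232 (i : Nat) : Nat := (Bool.rec (motive := fun _ => Nat) (nl5167 i) ((Bool.rec (motive := fun _ => Nat) (nl5168 i) (nl5169 i) (Nat.ble 3412992 i))) (Nat.ble 3411968 i))
noncomputable def nd2233 (i : Nat) : Nat := (Bool.rec (motive := fun _ => Nat) ((Bool.rec (motive := fun _ => Nat) (nl5170 i) (nl5171 i) (Nat.ble 3415040 i))) ((Bool.rec (motive := fun _ => Nat) (nl5172 i) (nl5173 i) (Nat.ble 3417088 i))) (Nat.ble 3416064 i))
noncomputable def nd2234 (i : Nat) : Nat := (Bool.rec (motive := fun _ => Nat) (nl5174 i) ((Bool.rec (motive := fun _ => Nat) (nl5175 i) (nl5176 i) (Nat.ble 3420160 i))) (Nat.ble 3419136 i))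
noncomputable def nd2235 (i : Nat) : Nat := (Bool.rec (motive := fun _ => Nat) ((Bool.rec (motive := fun _ => Nat) (nl5177 i) (nl5178 i) (Nat.ble 3422208 i))) ((Bool.rec (motive := fun _ => Nat) (nl5179 i) (nl5180 i) (Nat.ble 3424256 i))) (Nat.ble 3423232 i))
noncomputable def nd2231 (i : Nat) : Nat := (Bool.rec (motive := fun _ => Nat) ((Bool.rec (motive := fun _ => Nat) (nd2232 i) (nd2233 i) (Nat.ble 3414016 i))) ((Bool.rec (motive := fun _ => Nat) (nd2234 i) (nd2235 i) (Nat.ble 3421184 i))) (Nat.ble 3418112 i))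
noncomputable def nd2237 (i : Nat) : Nat := (Bool.rec (motive := fun _ => Nat) (nl5181 i) ((Bool.rec (motive := fun _ => Nat) (nl5182 i) (nl5183 i) (Nat.ble 3427328 i))) (Nat.ble 3426304 i))
noncomputable def nd2238 (i : Nat) : Nat := (Bool.rec (motive := fun _ => Nat) ((Bool.rec (motive := fun _ => Nat) (nl5184 i) (nl5185 i) (Nat.ble 3429376 i))) ((Bool.rec (motive := fun _ => Nat) (nl5186 i) (nl5187 i) (Nat.ble 3431424 i))) (Nat.ble 3430400 i))
noncomputable def nd2239 (i : Nat) : Nat := (Bool.rec (motive := fun _ => Nat) ((Bool.rec (motive := fun _ => Nat) (nl5188 i) (nl5189 i) (Nat.ble 3433472 i))) ((Bool.rec (motive := fun _ => Nat) (nl5190 i) (nl5191 i) (Nat.ble 3435520 i))) (Nat.ble 3434496 i))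
noncomputable def nd2240 (i : Nat) : Nat := (Bool.rec (motive := fun _ => Nat) ((Bool.rec (motive := fun _ => Nat) (nl5192 i) (nl5193 i) (Nat.ble 3437568 i))) ((Bool.rec (motive := fun _ => Nat) (nl5194 i) (nl5195 i) (Nat.ble 3439616 i))) (Nat.ble 3438592 i))
noncomputable def nd2236 (i : Nat) : Nat := (Bool.rec (motive := fun _ => Nat) ((Bool.rec (motive := fun _ => Nat) (nd2237 i) (nd2238 i) (Nat.ble 3428352 i))) ((Bool.rec (motive := fun _ => Nat) (nd2239 i) (nd2240 i) (Nat.ble 3436544 i))) (Nat.ble 3432448 i))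
noncomputable def nd2220 (i : Nat) : Nat := (Bool.rec (motive := fun _ => Nat) ((Bool.rec (motive := fun _ => Nat) (nd2221 i) (nd2226 i) (Nat.ble 3396608 i))) ((Bool.rec (motive := fun _ => Nat) (nd2231 i) (nd2236 i) (Nat.ble 3425280 i))) (Nat.ble 3410944 i))
noncomputable def nd2243 (i : Nat) : Nat := (Bool.rec (motive := fun _ => Nat) (nl5196 i) ((Bool.rec (motive := fun _ => Nat) (nl5197 i) (nl5198 i) (Nat.ble 3442688 i))) (Nat.ble 3441664 i))
noncomputable def nd2244 (i : Nat) : Nat := (Bool.rec (motive := fun _ => Nat) ((Bool.rec (motive := fun _ => Nat) (nl5199 i) (nl5200 i) (Nat.ble 3444736 i))) ((Bool.rec (motive := fun _ => Nat) (nl5201 i) (nl5202 i) (Nat.ble 3446784 i))) (Nat.ble 3445760 i))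
noncomputable def nd2245 (i : Nat) : Nat := (Bool.rec (motive := fun _ => Nat) (nl5203 i) ((Bool.rec (motive := fun _ => Nat) (nl5204 i) (nl5205 i) (Nat.ble 3449856 i))) (Nat.ble 3448832 i))
noncomputable def nd2246 (i : Nat) : Nat := (Bool.rec (motive := fun _ => Nat) ((Bool.rec (motive := fun _ => Nat) (nl5206 i) (nl5207 i) (Nat.ble 3451904 i))) ((Bool.rec (motive := fun _ => Nat) (nl5208 i) (nl5209 i) (Nat.ble 3453952 i))) (Nat.ble 3452928 i))
noncomputable def nd2242 (i : Nat) : Nat := (Bool.rec (motive := fun _ => Nat) ((Bool.rec (motive := fun _ => Nat) (nd2243 i) (nd2244 i) (Nat.ble 3443712 i))) ((Bool.rec (motive := fun _ => Nat) (nd2245 i) (nd2246 i) (Nat.ble 3450880 i))) (Nat.ble 3447808 i))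
noncomputable def nd2248 (i : Nat) : Nat := (Bool.rec (motive := fun _ => Nat) (nl5210 i) ((Bool.rec (motive := fun _ => Nat) (nl5211 i) (nl5212 i) (Nat.ble 3457024 i))) (Nat.ble 3456000 i))
noncomputable def nd2249 (i : Nat) : Nat := (Bool.rec (motive := fun _ => Nat) ((Bool.rec (motive := fun _ => Nat) (nl5213 i) (nl5214 i) (Nat.ble 3459072 i))) ((Bool.rec (motive := fun _ => Nat) (nl5215 i) (nl5216 i) (Nat.ble 3461120 i))) (Nat.ble 3460096 i))
noncomputable def nd2250 (i : Nat) : Nat := (Bool.rec (motive := fun _ => Nat) (nl5217 i) ((Bool.rec (motive := fun _ => Nat) (nl5218 i) (nl5219 i) (Nat.ble 3464192 i))) (Nat.ble 3463168 i))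
noncomputable def nd2251 (i : Nat) : Nat := (Bool.rec (motive := fun _ => Nat) ((Bool.rec (motive := fun _ => Nat) (nl5220 i) (nl5221 i) (Nat.ble 3466240 i))) ((Bool.rec (motive := fun _ => Nat) (nl5222 i) (nl5223 i) (Nat.ble 3468288 i))) (Nat.ble 3467264 i))
noncomputable def nd2247 (i : Nat) : Nat := (Bool.rec (motive := fun _ => Nat) ((Bool.rec (motive := fun _ => Nat) (nd2248 i) (nd2249 i) (Nat.ble 3458048 i))) ((Bool.rec (motive := fun _ => Nat) (nd2250 i) (nd2251 i) (Nat.ble 3465216 i))) (Nat.ble 3462144 i))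
noncomputable def nd2253 (i : Nat) : Nat := (Bool.rec (motive := fun _ => Nat) (nl5224 i) ((Bool.rec (motive := fun _ => Nat) (nl5225 i) (nl5226 i) (Nat.ble 3471360 i))) (Nat.ble 3470336 i))
noncomputable def nd2254 (i : Nat) : Nat := (Bool.rec (motive := fun _ => Nat) ((Bool.rec (motive := fun _ => Nat) (nl5227 i) (nl5228 i) (Nat.ble 3473408 i))) ((Bool.rec (motive := fun _ => Nat) (nl5229 i) (nl5230 i) (Nat.ble 3475456 i))) (Nat.ble 3474432 i))
noncomputable def nd2255 (i : Nat) : Nat := (Bool.rec (motive := fun _ => Nat) (nl5231 i) ((Bool.rec (motive := fun _ => Nat) (nl5232 i) (nl5233 i) (Nat.ble 3478528 i))) (Nat.ble 3477504 i))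
noncomputable def nd2256 (i : Nat) : Nat := (Bool.rec (motive := fun _ => Nat) ((Bool.rec (motive := fun _ => Nat) (nl5234 i) (nl5235 i) (Nat.ble 3480576 i))) ((Bool.rec (motive := fun _ => Nat) (nl5236 i) (nl5237 i) (Nat.ble 3482624 i))) (Nat.ble 3481600 i))
noncomputable def nd2252 (i : Nat) : Nat := (Bool.rec (motive := fun _ => Nat) ((Bool.rec (motive := fun _ => Nat) (nd2253 i) (nd2254 i) (Nat.ble 3472384 i))) ((Bool.rec (motive := fun _ => Nat) (nd2255 i) (nd2256 i) (Nat.ble 3479552 i))) (Nat.ble 3476480 i))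
noncomputable def nd2258 (i : Nat) : Nat := (Bool.rec (motive := fun _ => Nat) (nl5238 i) ((Bool.rec (motive := fun _ => Nat) (nl5239 i) (nl5240 i) (Nat.ble 3485696 i))) (Nat.ble 3484672 i))
noncomputable def nd2259 (i : Nat) : Nat := (Bool.rec (motive := fun _ => Nat) ((Bool.rec (motive := fun _ => Nat) (nl5241 i) (nl5242 i) (Nat.ble 3487744 i))) ((Bool.rec (motive := fun _ => Nat) (nl5243 i) (nl5244 i) (Nat.ble 3489792 i))) (Nat.ble 3488768 i))
noncomputable def nd2260 (i : Nat) : Nat := (Bool.rec (motive := fun _ => Nat) ((Bool.rec (motive := fun _ => Nat) (nl5245 i) (nl5246 i) (Nat.ble 3491840 i))) ((Bool.rec (motive := fun _ => Nat) (nl5247 i) (nl5248 i) (Nat.ble 3493888 i))) (Nat.ble 3492864 i))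
noncomputable def nd2261 (i : Nat) : Nat := (Bool.rec (motive := fun _ => Nat) ((Bool.rec (motive := fun _ => Nat) (nl5249 i) (nl5250 i) (Nat.ble 3495936 i))) ((Bool.rec (motive := fun _ => Nat) (nl5251 i) (nl5252 i) (Nat.ble 3497984 i))) (Nat.ble 3496960 i))
noncomputable def nd2257 (i : Nat) : Nat := (Bool.rec (motive := fun _ => Nat) ((Bool.rec (motive := fun _ => Nat) (nd2258 i) (nd2259 i) (Nat.ble 3486720 i))) ((Bool.rec (motive := fun _ => Nat) (nd2260 i) (nd2261 i) (Nat.ble 3494912 i))) (Nat.ble 3490816 i))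
noncomputable def nd2241 (i : Nat) : Nat := (Bool.rec (motive := fun _ => Nat) ((Bool.rec (motive := fun _ => Nat) (nd2242 i) (nd2247 i) (Nat.ble 3454976 i))) ((Bool.rec (motive := fun _ => Nat) (nd2252 i) (nd2257 i) (Nat.ble 3483648 i))) (Nat.ble 3469312 i))
noncomputable def nd2177 (i : Nat) : Nat := (Bool.rec (motive := fun _ => Nat) ((Bool.rec (motive := fun _ => Nat) (nd2178 i) (nd2199 i) (Nat.ble 3323904 i))) ((Bool.rec (motive := fun _ => Nat) (nd2220 i) (nd2241 i) (Nat.ble 3440640 i))) (Nat.ble 3382272 i))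
noncomputable def nd2265 (i : Nat) : Nat := (Bool.rec (motive := fun _ => Nat) (nl5253 i) ((Bool.rec (motive := fun _ => Nat) (nl5254 i) (nl5255 i) (Nat.ble 3501056 i))) (Nat.ble 3500032 i))
noncomputable def nd2266 (i : Nat) : Nat := (Bool.rec (motive := fun _ => Nat) ((Bool.rec (motive := fun _ => Nat) (nl5256 i) (nl5257 i) (Nat.ble 3503104 i))) ((Bool.rec (motive := fun _ => Nat) (nl5258 i) (nl5259 i) (Nat.ble 3505152 i))) (Nat.ble 3504128 i))
noncomputable def nd2267 (i : Nat) : Nat := (Bool.rec (motive := fun _ => Nat) (nl5260 i) ((Bool.rec (motive := fun _ => Nat) (nl5261 i) (nl5262 i) (Nat.ble 3508224 i))) (Nat.ble 3507200 i))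
noncomputable def nd2268 (i : Nat) : Nat := (Bool.rec (motive := fun _ => Nat) ((Bool.rec (motive := fun _ => Nat) (nl5263 i) (nl5264 i) (Nat.ble 3510272 i))) ((Bool.rec (motive := fun _ => Nat) (nl5265 i) (nl5266 i) (Nat.ble 3512320 i))) (Nat.ble 3511296 i))
noncomputable def nd2264 (i : Nat) : Nat := (Bool.rec (motive := fun _ => Nat) ((Bool.rec (motive := fun _ => Nat) (nd2265 i) (nd2266 i) (Nat.ble 3502080 i))) ((Bool.rec (motive := fun _ => Nat) (nd2267 i) (nd2268 i) (Nat.ble 3509248 i))) (Nat.ble 3506176 i))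
noncomputable def nd2270 (i : Nat) : Nat := (Bool.rec (motive := fun _ => Nat) (nl5267 i) ((Bool.rec (motive := fun _ => Nat) (nl5268 i) (nl5269 i) (Nat.ble 3515392 i))) (Nat.ble 3514368 i))
noncomputable def nd2271 (i : Nat) : Nat := (Bool.rec (motive := fun _ => Nat) ((Bool.rec (motive := fun _ => Nat) (nl5270 i) (nl5271 i) (Nat.ble 3517440 i))) ((Bool.rec (motive := fun _ => Nat) (nl5272 i) (nl5273 i) (Nat.ble 3519488 i))) (Nat.ble 3518464 i))
noncomputable def nd2272 (i : Nat) : Nat := (Bool.rec (motive := fun _ => Nat) (nl5274 i) ((Bool.rec (motive := fun _ => Nat) (nl5275 i) (nl5276 i) (Nat.ble 3522560 i))) (Nat.ble 3521536 i))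
noncomputable def nd2273 (i : Nat) : Nat := (Bool.rec (motive := fun _ => Nat) ((Bool.rec (motive := fun _ => Nat) (nl5277 i) (nl5278 i) (Nat.ble 3524608 i))) ((Bool.rec (motive := fun _ => Nat) (nl5279 i) (nl5280 i) (Nat.ble 3526656 i))) (Nat.ble 3525632 i))
noncomputable def nd2269 (i : Nat) : Nat := (Bool.rec (motive := fun _ => Nat) ((Bool.rec (motive := fun _ => Nat) (nd2270 i) (nd2271 i) (Nat.ble 3516416 i))) ((Bool.rec (motive := fun _ => Nat) (nd2272 i) (nd2273 i) (Nat.ble 3523584 i))) (Nat.ble 3520512 i))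
noncomputable def nd2275 (i : Nat) : Nat := (Bool.rec (motive := fun _ => Nat) (nl5281 i) ((Bool.rec (motive := fun _ => Nat) (nl5282 i) (nl5283 i) (Nat.ble 3529728 i))) (Nat.ble 3528704 i))
noncomputable def nd2276 (i : Nat) : Nat := (Bool.rec (motive := fun _ => Nat) ((Bool.rec (motive := fun _ => Nat) (nl5284 i) (nl5285 i) (Nat.ble 3531776 i))) ((Bool.rec (motive := fun _ => Nat) (nl5286 i) (nl5287 i) (Nat.ble 3533824 i))) (Nat.ble 3532800 i))
noncomputable def nd2277 (i : Nat) : Nat := (Bool.rec (motive := fun _ => Nat) (nl5288 i) ((Bool.rec (motive := fun _ => Nat) (nl5289 i) (nl5290 i) (Nat.ble 3536896 i))) (Nat.ble 3535872 i))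
noncomputable def nd2278 (i : Nat) : Nat := (Bool.rec (motive := fun _ => Nat) ((Bool.rec (motive := fun _ => Nat) (nl5291 i) (nl5292 i) (Nat.ble 3538944 i))) ((Bool.rec (motive := fun _ => Nat) (nl5293 i) (nl5294 i) (Nat.ble 3540992 i))) (Nat.ble 3539968 i))
noncomputable def nd2274 (i : Nat) : Nat := (Bool.rec (motive := fun _ => Nat) ((Bool.rec (motive := fun _ => Nat) (nd2275 i) (nd2276 i) (Nat.ble 3530752 i))) ((Bool.rec (motive := fun _ => Nat) (nd2277 i) (nd2278 i) (Nat.ble 3537920 i))) (Nat.ble 3534848 i))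
noncomputable def nd2280 (i : Nat) : Nat := (Bool.rec (motive := fun _ => Nat) (nl5295 i) ((Bool.rec (motive := fun _ => Nat) (nl5296 i) (nl5297 i) (Nat.ble 3544064 i))) (Nat.ble 3543040 i))
noncomputable def nd2281 (i : Nat) : Nat := (Bool.rec (motive := fun _ => Nat) ((Bool.rec (motive := fun _ => Nat) (nl5298 i) (nl5299 i) (Nat.ble 3546112 i))) ((Bool.rec (motive := fun _ => Nat) (nl5300 i) (nl5301 i) (Nat.ble 3548160 i))) (Nat.ble 3547136 i))
noncomputable def nd2282 (i : Nat) : Nat := (Bool.rec (motive := fun _ => Nat) ((Bool.rec (motive := fun _ => Nat) (nl5302 i) (nl5303 i) (Nat.ble 3550208 i))) ((Bool.rec (motive := fun _ => Nat) (nl5304 i) (nl5305 i) (Nat.ble 3552256 i))) (Nat.ble 3551232 i))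
noncomputable def nd2283 (i : Nat) : Nat := (Bool.rec (motive := fun _ => Nat) ((Bool.rec (motive := fun _ => Nat) (nl5306 i) (nl5307 i) (Nat.ble 3554304 i))) ((Bool.rec (motive := fun _ => Nat) (nl5308 i) (nl5309 i) (Nat.ble 3556352 i))) (Nat.ble 3555328 i))
noncomputable def nd2279 (i : Nat) : Nat := (Bool.rec (motive := fun _ => Nat) ((Bool.rec (motive := fun _ => Nat) (nd2280 i) (nd2281 i) (Nat.ble 3545088 i))) ((Bool.rec (motive := fun _ => Nat) (nd2282 i) (nd2283 i) (Nat.ble 3553280 i))) (Nat.ble 3549184 i))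
noncomputable def nd2263 (i : Nat) : Nat := (Bool.rec (motive := fun _ => Nat) ((Bool.rec (motive := fun _ => Nat) (nd2264 i) (nd2269 i) (Nat.ble 3513344 i))) ((Bool.rec (motive := fun _ => Nat) (nd2274 i) (nd2279 i) (Nat.ble 3542016 i))) (Nat.ble 3527680 i))
noncomputable def nd2286 (i : Nat) : Nat := (Bool.rec (motive := fun _ => Nat) (nl5310 i) ((Bool.rec (motive := fun _ => Nat) (nl5311 i) (nl5312 i) (Nat.ble 3559424 i))) (Nat.ble 3558400 i))
noncomputable def nd2287 (i : Nat) : Nat := (Bool.rec (motive := fun _ => Nat) ((Bool.rec (motive := fun _ => Nat) (nl5313 i) (nl5314 i) (Nat.ble 3561472 i))) ((Bool.rec (motive := fun _ => Nat) (nl5315 i) (nl5316 i) (Nat.ble 3563520 i))) (Nat.ble 3562496 i))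
noncomputable def nd2288 (i : Nat) : Nat := (Bool.rec (motive := fun _ => Nat) (nl5317 i) ((Bool.rec (motive := fun _ => Nat) (nl5318 i) (nl5319 i) (Nat.ble 3566592 i))) (Nat.ble 3565568 i))
noncomputable def nd2289 (i : Nat) : Nat := (Bool.rec (motive := fun _ => Nat) ((Bool.rec (motive := fun _ => Nat) (nl5320 i) (nl5321 i) (Nat.ble 3568640 i))) ((Bool.rec (motive := fun _ => Nat) (nl5322 i) (nl5323 i) (Nat.ble 3570688 i))) (Nat.ble 3569664 i))
noncomputable def nd2285 (i : Nat) : Nat := (Bool.rec (motive := fun _ => Nat) ((Bool.rec (motive := fun _ => Nat) (nd2286 i) (nd2287 i) (Nat.ble 3560448 i))) ((Bool.rec (motive := fun _ => Nat) (nd2288 i) (nd2289 i) (Nat.ble 3567616 i))) (Nat.ble 3564544 i))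
noncomputable def nd2291 (i : Nat) : Nat := (Bool.rec (motive := fun _ => Nat) (nl5324 i) ((Bool.rec (motive := fun _ => Nat) (nl5325 i) (nl5326 i) (Nat.ble 3573760 i))) (Nat.ble 3572736 i))
noncomputable def nd2292 (i : Nat) : Nat := (Bool.rec (motive := fun _ => Nat) ((Bool.rec (motive := fun _ => Nat) (nl5327 i) (nl5328 i) (Nat.ble 3575808 i))) ((Bool.rec (motive := fun _ => Nat) (nl5329 i) (nl5330 i) (Nat.ble 3577856 i))) (Nat.ble 3576832 i))
noncomputable def nd2293 (i : Nat) : Nat := (Bool.rec (motive := fun _ => Nat) (nl5331 i) ((Bool.rec (motive := fun _ => Nat) (nl5332 i) (nl5333 i) (Nat.ble 3580928 i))) (Nat.ble 3579904 i))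
noncomputable def nd2294 (i : Nat) : Nat := (Bool.rec (motive := fun _ => Nat) ((Bool.rec (motive := fun _ => Nat) (nl5334 i) (nl5335 i) (Nat.ble 3582976 i))) ((Bool.rec (motive := fun _ => Nat) (nl5336 i) (nl5337 i) (Nat.ble 3585024 i))) (Nat.ble 3584000 i))
noncomputable def nd2290 (i : Nat) : Nat := (Bool.rec (motive := fun _ => Nat) ((Bool.rec (motive := fun _ => Nat) (nd2291 i) (nd2292 i) (Nat.ble 3574784 i))) ((Bool.rec (motive := fun _ => Nat) (nd2293 i) (nd2294 i) (Nat.ble 3581952 i))) (Nat.ble 3578880 i))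
noncomputable def nd2296 (i : Nat) : Nat := (Bool.rec (motive := fun _ => Nat) (nl5338 i) ((Bool.rec (motive := fun _ => Nat) (nl5339 i) (nl5340 i) (Nat.ble 3588096 i))) (Nat.ble 3587072 i))
noncomputable def nd2297 (i : Nat) : Nat := (Bool.rec (motive := fun _ => Nat) ((Bool.rec (motive := fun _ => Nat) (nl5341 i) (nl5342 i) (Nat.ble 3590144 i))) ((Bool.rec (motive := fun _ => Nat) (nl5343 i) (nl5344 i) (Nat.ble 3592192 i))) (Nat.ble 3591168 i))
noncomputable def nd2298 (i : Nat) : Nat := (Bool.rec (motive := fun _ => Nat) (nl5345 i) ((Bool.rec (motive := fun _ => Nat) (nl5346 i) (nl5347 i) (Nat.ble 3595264 i))) (Nat.ble 3594240 i))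
noncomputable def nd2299 (i : Nat) : Nat := (Bool.rec (motive := fun _ => Nat) ((Bool.rec (motive := fun _ => Nat) (nl5348 i) (nl5349 i) (Nat.ble 3597312 i))) ((Bool.rec (motive := fun _ => Nat) (nl5350 i) (nl5351 i) (Nat.ble 3599360 i))) (Nat.ble 3598336 i))
noncomputable def nd2295 (i : Nat) : Nat := (Bool.rec (motive := fun _ => Nat) ((Bool.rec (motive := fun _ => Nat) (nd2296 i) (nd2297 i) (Nat.ble 3589120 i))) ((Bool.rec (motive := fun _ => Nat) (nd2298 i) (nd2299 i) (Nat.ble 3596288 i))) (Nat.ble 3593216 i))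
noncomputable def nd2301 (i : Nat) : Nat := (Bool.rec (motive := fun _ => Nat) (nl5352 i) ((Bool.rec (motive := fun _ => Nat) (nl5353 i) (nl5354 i) (Nat.ble 3602432 i))) (Nat.ble 3601408 i))
noncomputable def nd2302 (i : Nat) : Nat := (Bool.rec (motive := fun _ => Nat) ((Bool.rec (motive := fun _ => Nat) (nl5355 i) (nl5356 i) (Nat.ble 3604480 i))) ((Bool.rec (motive := fun _ => Nat) (nl5357 i) (nl5358 i) (Nat.ble 3606528 i))) (Nat.ble 3605504 i))
noncomputable def nd2303 (i : Nat) : Nat := (Bool.rec (motive := fun _ => Nat) ((Bool.rec (motive := fun _ => Nat) (nl5359 i) (nl5360 i) (Nat.ble 3608576 i))) ((Bool.rec (motive := fun _ => Nat) (nl5361 i) (nl5362 i) (Nat.ble 3610624 i))) (Nat.ble 3609600 i))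
noncomputable def nd2304 (i : Nat) : Nat := (Bool.rec (motive := fun _ => Nat) ((Bool.rec (motive := fun _ => Nat) (nl5363 i) (nl5364 i) (Nat.ble 3612672 i))) ((Bool.rec (motive := fun _ => Nat) (nl5365 i) (nl5366 i) (Nat.ble 3614720 i))) (Nat.ble 3613696 i))
noncomputable def nd2300 (i : Nat) : Nat := (Bool.rec (motive := fun _ => Nat) ((Bool.rec (motive := fun _ => Nat) (nd2301 i) (nd2302 i) (Nat.ble 3603456 i))) ((Bool.rec (motive := fun _ => Nat) (nd2303 i) (nd2304 i) (Nat.ble 3611648 i))) (Nat.ble 3607552 i))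
noncomputable def nd2284 (i : Nat) : Nat := (Bool.rec (motive := fun _ => Nat) ((Bool.rec (motive := fun _ => Nat) (nd2285 i) (nd2290 i) (Nat.ble 3571712 i))) ((Bool.rec (motive := fun _ => Nat) (nd2295 i) (nd2300 i) (Nat.ble 3600384 i))) (Nat.ble 3586048 i))
noncomputable def nd2307 (i : Nat) : Nat := (Bool.rec (motive := fun _ => Nat) (nl5367 i) ((Bool.rec (motive := fun _ => Nat) (nl5368 i) (nl5369 i) (Nat.ble 3617792 i))) (Nat.ble 3616768 i))
noncomputable def nd2308 (i : Nat) : Nat := (Bool.rec (motive := fun _ => Nat) ((Bool.rec (motive := fun _ => Nat) (nl5370 i) (nl5371 i) (Nat.ble 3619840 i))) ((Bool.rec (motive := fun _ => Nat) (nl5372 i) (nl5373 i) (Nat.ble 3621888 i))) (Nat.ble 3620864 i))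
noncomputable def nd2309 (i : Nat) : Nat := (Bool.rec (motive := fun _ => Nat) (nl5374 i) ((Bool.rec (motive := fun _ => Nat) (nl5375 i) (nl5376 i) (Nat.ble 3624960 i))) (Nat.ble 3623936 i))
noncomputable def nd2310 (i : Nat) : Nat := (Bool.rec (motive := fun _ => Nat) ((Bool.rec (motive := fun _ => Nat) (nl5377 i) (nl5378 i) (Nat.ble 3627008 i))) ((Bool.rec (motive := fun _ => Nat) (nl5379 i) (nl5380 i) (Nat.ble 3629056 i))) (Nat.ble 3628032 i))
noncomputable def nd2306 (i : Nat) : Nat := (Bool.rec (motive := fun _ => Nat) ((Bool.rec (motive := fun _ => Nat) (nd2307 i) (nd2308 i) (Nat.ble 3618816 i))) ((Bool.rec (motive := fun _ => Nat) (nd2309 i) (nd2310 i) (Nat.ble 3625984 i))) (Nat.ble 3622912 i))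
noncomputable def nd2312 (i : Nat) : Nat := (Bool.rec (motive := fun _ => Nat) (nl5381 i) ((Bool.rec (motive := fun _ => Nat) (nl5382 i) (nl5383 i) (Nat.ble 3632128 i))) (Nat.ble 3631104 i))
noncomputable def nd2313 (i : Nat) : Nat := (Bool.rec (motive := fun _ => Nat) ((Bool.rec (motive := fun _ => Nat) (nl5384 i) (nl5385 i) (Nat.ble 3634176 i))) ((Bool.rec (motive := fun _ => Nat) (nl5386 i) (nl5387 i) (Nat.ble 3636224 i))) (Nat.ble 3635200 i))
noncomputable def nd2314 (i : Nat) : Nat := (Bool.rec (motive := fun _ => Nat) (nl5388 i) ((Bool.rec (motive := fun _ => Nat) (nl5389 i) (nl5390 i) (Nat.ble 3639296 i))) (Nat.ble 3638272 i))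
noncomputable def nd2315 (i : Nat) : Nat := (Bool.rec (motive := fun _ => Nat) ((Bool.rec (motive := fun _ => Nat) (nl5391 i) (nl5392 i) (Nat.ble 3641344 i))) ((Bool.rec (motive := fun _ => Nat) (nl5393 i) (nl5394 i) (Nat.ble 3643392 i))) (Nat.ble 3642368 i))
noncomputable def nd2311 (i : Nat) : Nat := (Bool.rec (motive := fun _ => Nat) ((Bool.rec (motive := fun _ => Nat) (nd2312 i) (nd2313 i) (Nat.ble 3633152 i))) ((Bool.rec (motive := fun _ => Nat) (nd2314 i) (nd2315 i) (Nat.ble 3640320 i))) (Nat.ble 3637248 i))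
noncomputable def nd2317 (i : Nat) : Nat := (Bool.rec (motive := fun _ => Nat) (nl5395 i) ((Bool.rec (motive := fun _ => Nat) (nl5396 i) (nl5397 i) (Nat.ble 3646464 i))) (Nat.ble 3645440 i))
noncomputable def nd2318 (i : Nat) : Nat := (Bool.rec (motive := fun _ => Nat) ((Bool.rec (motive := fun _ => Nat) (nl5398 i) (nl5399 i) (Nat.ble 3648512 i))) ((Bool.rec (motive := fun _ => Nat) (nl5400 i) (nl5401 i) (Nat.ble 3650560 i))) (Nat.ble 3649536 i))
noncomputable def nd2319 (i : Nat) : Nat := (Bool.rec (motive := fun _ => Nat) (nl5402 i) ((Bool.rec (motive := fun _ => Nat) (nl5403 i) (nl5404 i) (Nat.ble 3653632 i))) (Nat.ble 3652608 i))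
noncomputable def nd2320 (i : Nat) : Nat := (Bool.rec (motive := fun _ => Nat) ((Bool.rec (motive := fun _ => Nat) (nl5405 i) (nl5406 i) (Nat.ble 3655680 i))) ((Bool.rec (motive := fun _ => Nat) (nl5407 i) (nl5408 i) (Nat.ble 3657728 i))) (Nat.ble 3656704 i))
noncomputable def nd2316 (i : Nat) : Nat := (Bool.rec (motive := fun _ => Nat) ((Bool.rec (motive := fun _ => Nat) (nd2317 i) (nd2318 i) (Nat.ble 3647488 i))) ((Bool.rec (motive := fun _ => Nat) (nd2319 i) (nd2320 i) (Nat.ble 3654656 i))) (Nat.ble 3651584 i))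
noncomputable def nd2322 (i : Nat) : Nat := (Bool.rec (motive := fun _ => Nat) (nl5409 i) ((Bool.rec (motive := fun _ => Nat) (nl5410 i) (nl5411 i) (Nat.ble 3660800 i))) (Nat.ble 3659776 i))
noncomputable def nd2323 (i : Nat) : Nat := (Bool.rec (motive := fun _ => Nat) ((Bool.rec (motive := fun _ => Nat) (nl5412 i) (nl5413 i) (Nat.ble 3662848 i))) ((Bool.rec (motive := fun _ => Nat) (nl5414 i) (nl5415 i) (Nat.ble 3664896 i))) (Nat.ble 3663872 i))
noncomputable def nd2324 (i : Nat) : Nat := (Bool.rec (motive := fun _ => Nat) ((Bool.rec (motive := fun _ => Nat) (nl5416 i) (nl5417 i) (Nat.ble 3666944 i))) ((Bool.rec (motive := fun _ => Nat) (nl5418 i) (nl5419 i) (Nat.ble 3668992 i))) (Nat.ble 3667968 i))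
noncomputable def nd2325 (i : Nat) : Nat := (Bool.rec (motive := fun _ => Nat) ((Bool.rec (motive := fun _ => Nat) (nl5420 i) (nl5421 i) (Nat.ble 3671040 i))) ((Bool.rec (motive := fun _ => Nat) (nl5422 i) (nl5423 i) (Nat.ble 3673088 i))) (Nat.ble 3672064 i))
noncomputable def nd2321 (i : Nat) : Nat := (Bool.rec (motive := fun _ => Nat) ((Bool.rec (motive := fun _ => Nat) (nd2322 i) (nd2323 i) (Nat.ble 3661824 i))) ((Bool.rec (motive := fun _ => Nat) (nd2324 i) (nd2325 i) (Nat.ble 3670016 i))) (Nat.ble 3665920 i))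
noncomputable def nd2305 (i : Nat) : Nat := (Bool.rec (motive := fun _ => Nat) ((Bool.rec (motive := fun _ => Nat) (nd2306 i) (nd2311 i) (Nat.ble 3630080 i))) ((Bool.rec (motive := fun _ => Nat) (nd2316 i) (nd2321 i) (Nat.ble 3658752 i))) (Nat.ble 3644416 i))
noncomputable def nd2328 (i : Nat) : Nat := (Bool.rec (motive := fun _ => Nat) (nl5424 i) ((Bool.rec (motive := fun _ => Nat) (nl5425 i) (nl5426 i) (Nat.ble 3676160 i))) (Nat.ble 3675136 i))
noncomputable def nd2329 (i : Nat) : Nat := (Bool.rec (motive := fun _ => Nat) ((Bool.rec (motive := fun _ => Nat) (nl5427 i) (nl5428 i) (Nat.ble 3678208 i))) ((Bool.rec (motive := fun _ => Nat) (nl5429 i) (nl5430 i) (Nat.ble 3680256 i))) (Nat.ble 3679232 i))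
noncomputable def nd2330 (i : Nat) : Nat := (Bool.rec (motive := fun _ => Nat) (nl5431 i) ((Bool.rec (motive := fun _ => Nat) (nl5432 i) (nl5433 i) (Nat.ble 3683328 i))) (Nat.ble 3682304 i))
noncomputable def nd2331 (i : Nat) : Nat := (Bool.rec (motive := fun _ => Nat) ((Bool.rec (motive := fun _ => Nat) (nl5434 i) (nl5435 i) (Nat.ble 3685376 i))) ((Bool.rec (motive := fun _ => Nat) (nl5436 i) (nl5437 i) (Nat.ble 3687424 i))) (Nat.ble 3686400 i))
noncomputable def nd2327 (i : Nat) : Nat := (Bool.rec (motive := fun _ => Nat) ((Bool.rec (motive := fun _ => Nat) (nd2328 i) (nd2329 i) (Nat.ble 3677184 i))) ((Bool.rec (motive := fun _ => Nat) (nd2330 i) (nd2331 i) (Nat.ble 3684352 i))) (Nat.ble 3681280 i))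
noncomputable def nd2333 (i : Nat) : Nat := (Bool.rec (motive := fun _ => Nat) (nl5438 i) ((Bool.rec (motive := fun _ => Nat) (nl5439 i) (nl5440 i) (Nat.ble 3690496 i))) (Nat.ble 3689472 i))
noncomputable def nd2334 (i : Nat) : Nat := (Bool.rec (motive := fun _ => Nat) ((Bool.rec (motive := fun _ => Nat) (nl5441 i) (nl5442 i) (Nat.ble 3692544 i))) ((Bool.rec (motive := fun _ => Nat) (nl5443 i) (nl5444 i) (Nat.ble 3694592 i))) (Nat.ble 3693568 i))
noncomputable def nd2335 (i : Nat) : Nat := (Bool.rec (motive := fun _ => Nat) (nl5445 i) ((Bool.rec (motive := fun _ => Nat) (nl5446 i) (nl5447 i) (Nat.ble 3697664 i))) (Nat.ble 3696640 i))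
noncomputable def nd2336 (i : Nat) : Nat := (Bool.rec (motive := fun _ => Nat) ((Bool.rec (motive := fun _ => Nat) (nl5448 i) (nl5449 i) (Nat.ble 3699712 i))) ((Bool.rec (motive := fun _ => Nat) (nl5450 i) (nl5451 i) (Nat.ble 3701760 i))) (Nat.ble 3700736 i))
noncomputable def nd2332 (i : Nat) : Nat := (Bool.rec (motive := fun _ => Nat) ((Bool.rec (motive := fun _ => Nat) (nd2333 i) (nd2334 i) (Nat.ble 3691520 i))) ((Bool.rec (motive := fun _ => Nat) (nd2335 i) (nd2336 i) (Nat.ble 3698688 i))) (Nat.ble 3695616 i))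
noncomputable def nd2338 (i : Nat) : Nat := (Bool.rec (motive := fun _ => Nat) (nl5452 i) ((Bool.rec (motive := fun _ => Nat) (nl5453 i) (nl5454 i) (Nat.ble 3704832 i))) (Nat.ble 3703808 i))
noncomputable def nd2339 (i : Nat) : Nat := (Bool.rec (motive := fun _ => Nat) ((Bool.rec (motive := fun _ => Nat) (nl5455 i) (nl5456 i) (Nat.ble 3706880 i))) ((Bool.rec (motive := fun _ => Nat) (nl5457 i) (nl5458 i) (Nat.ble 3708928 i))) (Nat.ble 3707904 i))
noncomputable def nd2340 (i : Nat) : Nat := (Bool.rec (motive := fun _ => Nat) (nl5459 i) ((Bool.rec (motive := fun _ => Nat) (nl5460 i) (nl5461 i) (Nat.ble 3712000 i))) (Nat.ble 3710976 i))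
noncomputable def nd2341 (i : Nat) : Nat := (Bool.rec (motive := fun _ => Nat) ((Bool.rec (motive := fun _ => Nat) (nl5462 i) (nl5463 i) (Nat.ble 3714048 i))) ((Bool.rec (motive := fun _ => Nat) (nl5464 i) (nl5465 i) (Nat.ble 3716096 i))) (Nat.ble 3715072 i))
noncomputable def nd2337 (i : Nat) : Nat := (Bool.rec (motive := fun _ => Nat) ((Bool.rec (motive := fun _ => Nat) (nd2338 i) (nd2339 i) (Nat.ble 3705856 i))) ((Bool.rec (motive := fun _ => Nat) (nd2340 i) (nd2341 i) (Nat.ble 3713024 i))) (Nat.ble 3709952 i))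
noncomputable def nd2343 (i : Nat) : Nat := (Bool.rec (motive := fun _ => Nat) (nl5466 i) ((Bool.rec (motive := fun _ => Nat) (nl5467 i) (nl5468 i) (Nat.ble 3719168 i))) (Nat.ble 3718144 i))
noncomputable def nd2344 (i : Nat) : Nat := (Bool.rec (motive := fun _ => Nat) ((Bool.rec (motive := fun _ => Nat) (nl5469 i) (nl5470 i) (Nat.ble 3721216 i))) ((Bool.rec (motive := fun _ => Nat) (nl5471 i) (nl5472 i) (Nat.ble 3723264 i))) (Nat.ble 3722240 i))
noncomputable def nd2345 (i : Nat) : Nat := (Bool.rec (motive := fun _ => Nat) ((Bool.rec (motive := fun _ => Nat) (nl5473 i) (nl5474 i) (Nat.ble 3725312 i))) ((Bool.rec (motive := fun _ => Nat) (nl5475 i) (nl5476 i) (Nat.ble 3727360 i))) (Nat.ble 3726336 i))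
noncomputable def nd2346 (i : Nat) : Nat := (Bool.rec (motive := fun _ => Nat) ((Bool.rec (motive := fun _ => Nat) (nl5477 i) (nl5478 i) (Nat.ble 3729408 i))) ((Bool.rec (motive := fun _ => Nat) (nl5479 i) (nl5480 i) (Nat.ble 3731456 i))) (Nat.ble 3730432 i))
noncomputable def nd2342 (i : Nat) : Nat := (Bool.rec (motive := fun _ => Nat) ((Bool.rec (motive := fun _ => Nat) (nd2343 i) (nd2344 i) (Nat.ble 3720192 i))) ((Bool.rec (motive := fun _ => Nat) (nd2345 i) (nd2346 i) (Nat.ble 3728384 i))) (Nat.ble 3724288 i))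
noncomputable def nd2326 (i : Nat) : Nat := (Bool.rec (motive := fun _ => Nat) ((Bool.rec (motive := fun _ => Nat) (nd2327 i) (nd2332 i) (Nat.ble 3688448 i))) ((Bool.rec (motive := fun _ => Nat) (nd2337 i) (nd2342 i) (Nat.ble 3717120 i))) (Nat.ble 3702784 i))
noncomputable def nd2262 (i : Nat) : Nat := (Bool.rec (motive := fun _ => Nat) ((Bool.rec (motive := fun _ => Nat) (nd2263 i) (nd2284 i) (Nat.ble 3557376 i))) ((Bool.rec (motive := fun _ => Nat) (nd2305 i) (nd2326 i) (Nat.ble 3674112 i))) (Nat.ble 3615744 i))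
noncomputable def nd2006 (i : Nat) : Nat := (Bool.rec (motive := fun _ => Nat) ((Bool.rec (motive := fun _ => Nat) (nd2007 i) (nd2092 i) (Nat.ble 3032064 i))) ((Bool.rec (motive := fun _ => Nat) (nd2177 i) (nd2262 i) (Nat.ble 3499008 i))) (Nat.ble 3265536 i))
noncomputable def nd982 (i : Nat) : Nat := (Bool.rec (motive := fun _ => Nat) ((Bool.rec (motive := fun _ => Nat) (nd983 i) (nd1324 i) (Nat.ble 932864 i))) ((Bool.rec (motive := fun _ => Nat) (nd1665 i) (nd2006 i) (Nat.ble 2798592 i))) (Nat.ble 1865728 i))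
noncomputable def nd2350 (i : Nat) : Nat := (Bool.rec (motive := fun _ => Nat) ((Bool.rec (motive := fun _ => Nat) (nl5481 i) (nl5482 i) (Nat.ble 1024 i))) ((Bool.rec (motive := fun _ => Nat) (nl5483 i) (nl5484 i) (Nat.ble 3072 i))) (Nat.ble 2048 i))
noncomputable def nd2351 (i : Nat) : Nat := (Bool.rec (motive := fun _ => Nat) ((Bool.rec (motive := fun _ => Nat) (nl5485 i) (nl5486 i) (Nat.ble 5120 i))) ((Bool.rec (motive := fun _ => Nat) (nl5487 i) (nl5488 i) (Nat.ble 7168 i))) (Nat.ble 6144 i))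
noncomputable def nd2352 (i : Nat) : Nat := (Bool.rec (motive := fun _ => Nat) ((Bool.rec (motive := fun _ => Nat) (nl5489 i) (nl5490 i) (Nat.ble 9216 i))) ((Bool.rec (motive := fun _ => Nat) (nl5491 i) (nl5492 i) (Nat.ble 11264 i))) (Nat.ble 10240 i))
noncomputable def nd2353 (i : Nat) : Nat := (Bool.rec (motive := fun _ => Nat) ((Bool.rec (motive := fun _ => Nat) (nl5493 i) (nl5494 i) (Nat.ble 13312 i))) ((Bool.rec (motive := fun _ => Nat) (nl5495 i) (nl5496 i) (Nat.ble 15360 i))) (Nat.ble 14336 i))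
noncomputable def nd2349 (i : Nat) : Nat := (Bool.rec (motive := fun _ => Nat) ((Bool.rec (motive := fun _ => Nat) (nd2350 i) (nd2351 i) (Nat.ble 4096 i))) ((Bool.rec (motive := fun _ => Nat) (nd2352 i) (nd2353 i) (Nat.ble 12288 i))) (Nat.ble 8192 i))
noncomputable def nd2355 (i : Nat) : Nat := (Bool.rec (motive := fun _ => Nat) ((Bool.rec (motive := fun _ => Nat) (nl5497 i) (nl5498 i) (Nat.ble 17408 i))) ((Bool.rec (motive := fun _ => Nat) (nl5499 i) (nl5500 i) (Nat.ble 19456 i))) (Nat.ble 18432 i))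
noncomputable def nd2356 (i : Nat) : Nat := (Bool.rec (motive := fun _ => Nat) ((Bool.rec (motive := fun _ => Nat) (nl5501 i) (nl5502 i) (Nat.ble 21504 i))) ((Bool.rec (motive := fun _ => Nat) (nl5503 i) (nl5504 i) (Nat.ble 23552 i))) (Nat.ble 22528 i))
noncomputable def nd2357 (i : Nat) : Nat := (Bool.rec (motive := fun _ => Nat) ((Bool.rec (motive := fun _ => Nat) (nl5505 i) (nl5506 i) (Nat.ble 25600 i))) ((Bool.rec (motive := fun _ => Nat) (nl5507 i) (nl5508 i) (Nat.ble 27648 i))) (Nat.ble 26624 i))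
noncomputable def nd2358 (i : Nat) : Nat := (Bool.rec (motive := fun _ => Nat) ((Bool.rec (motive := fun _ => Nat) (nl5509 i) (nl5510 i) (Nat.ble 29696 i))) ((Bool.rec (motive := fun _ => Nat) (nl5511 i) (nl5512 i) (Nat.ble 31744 i))) (Nat.ble 30720 i))
noncomputable def nd2354 (i : Nat) : Nat := (Bool.rec (motive := fun _ => Nat) ((Bool.rec (motive := fun _ => Nat) (nd2355 i) (nd2356 i) (Nat.ble 20480 i))) ((Bool.rec (motive := fun _ => Nat) (nd2357 i) (nd2358 i) (Nat.ble 28672 i))) (Nat.ble 24576 i))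
noncomputable def nd2360 (i : Nat) : Nat := (Bool.rec (motive := fun _ => Nat) ((Bool.rec (motive := fun _ => Nat) (nl5513 i) (nl5514 i) (Nat.ble 33792 i))) ((Bool.rec (motive := fun _ => Nat) (nl5515 i) (nl5516 i) (Nat.ble 35840 i))) (Nat.ble 34816 i))
noncomputable def nd2361 (i : Nat) : Nat := (Bool.rec (motive := fun _ => Nat) ((Bool.rec (motive := fun _ => Nat) (nl5517 i) (nl5518 i) (Nat.ble 37888 i))) ((Bool.rec (motive := fun _ => Nat) (nl5519 i) (nl5520 i) (Nat.ble 39936 i))) (Nat.ble 38912 i))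
noncomputable def nd2362 (i : Nat) : Nat := (Bool.rec (motive := fun _ => Nat) ((Bool.rec (motive := fun _ => Nat) (nl5521 i) (nl5522 i) (Nat.ble 41984 i))) ((Bool.rec (motive := fun _ => Nat) (nl5523 i) (nl5524 i) (Nat.ble 44032 i))) (Nat.ble 43008 i))
noncomputable def nd2363 (i : Nat) : Nat := (Bool.rec (motive := fun _ => Nat) ((Bool.rec (motive := fun _ => Nat) (nl5525 i) (nl5526 i) (Nat.ble 46080 i))) ((Bool.rec (motive := fun _ => Nat) (nl5527 i) (nl5528 i) (Nat.ble 48128 i))) (Nat.ble 47104 i))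
noncomputable def nd2359 (i : Nat) : Nat := (Bool.rec (motive := fun _ => Nat) ((Bool.rec (motive := fun _ => Nat) (nd2360 i) (nd2361 i) (Nat.ble 36864 i))) ((Bool.rec (motive := fun _ => Nat) (nd2362 i) (nd2363 i) (Nat.ble 45056 i))) (Nat.ble 40960 i))
noncomputable def nd2365 (i : Nat) : Nat := (Bool.rec (motive := fun _ => Nat) ((Bool.rec (motive := fun _ => Nat) (nl5529 i) (nl5530 i) (Nat.ble 50176 i))) ((Bool.rec (motive := fun _ => Nat) (nl5531 i) (nl5532 i) (Nat.ble 52224 i))) (Nat.ble 51200 i))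
noncomputable def nd2366 (i : Nat) : Nat := (Bool.rec (motive := fun _ => Nat) ((Bool.rec (motive := fun _ => Nat) (nl5533 i) (nl5534 i) (Nat.ble 54272 i))) ((Bool.rec (motive := fun _ => Nat) (nl5535 i) (nl5536 i) (Nat.ble 56320 i))) (Nat.ble 55296 i))
noncomputable def nd2367 (i : Nat) : Nat := (Bool.rec (motive := fun _ => Nat) ((Bool.rec (motive := fun _ => Nat) (nl5537 i) (nl5538 i) (Nat.ble 58368 i))) ((Bool.rec (motive := fun _ => Nat) (nl5539 i) (nl5540 i) (Nat.ble 60416 i))) (Nat.ble 59392 i))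
noncomputable def nd2369 (i : Nat) : Nat := (Bool.rec (motive := fun _ => Nat) (nl5544 i) (nl5545 i) (Nat.ble 65536 i))
noncomputable def nd2368 (i : Nat) : Nat := (Bool.rec (motive := fun _ => Nat) ((Bool.rec (motive := fun _ => Nat) (nl5541 i) (nl5542 i) (Nat.ble 62464 i))) ((Bool.rec (motive := fun _ => Nat) (nl5543 i) (nd2369 i) (Nat.ble 64512 i))) (Nat.ble 63488 i))
noncomputable def nd2364 (i : Nat) : Nat := (Bool.rec (motive := fun _ => Nat) ((Bool.rec (motive := fun _ => Nat) (nd2365 i) (nd2366 i) (Nat.ble 53248 i))) ((Bool.rec (motive := fun _ => Nat) (nd2367 i) (nd2368 i) (Nat.ble 61440 i))) (Nat.ble 57344 i))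
noncomputable def nd2348 (i : Nat) : Nat := (Bool.rec (motive := fun _ => Nat) ((Bool.rec (motive := fun _ => Nat) (nd2349 i) (nd2354 i) (Nat.ble 16384 i))) ((Bool.rec (motive := fun _ => Nat) (nd2359 i) (nd2364 i) (Nat.ble 49152 i))) (Nat.ble 32768 i))
noncomputable def nd2372 (i : Nat) : Nat := (Bool.rec (motive := fun _ => Nat) ((Bool.rec (motive := fun _ => Nat) (nl5546 i) (nl5547 i) (Nat.ble 67584 i))) ((Bool.rec (motive := fun _ => Nat) (nl5548 i) (nl5549 i) (Nat.ble 69632 i))) (Nat.ble 68608 i))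
noncomputable def nd2373 (i : Nat) : Nat := (Bool.rec (motive := fun _ => Nat) ((Bool.rec (motive := fun _ => Nat) (nl5550 i) (nl5551 i) (Nat.ble 71680 i))) ((Bool.rec (motive := fun _ => Nat) (nl5552 i) (nl5553 i) (Nat.ble 73728 i))) (Nat.ble 72704 i))
noncomputable def nd2374 (i : Nat) : Nat := (Bool.rec (motive := fun _ => Nat) ((Bool.rec (motive := fun _ => Nat) (nl5554 i) (nl5555 i) (Nat.ble 75776 i))) ((Bool.rec (motive := fun _ => Nat) (nl5556 i) (nl5557 i) (Nat.ble 77824 i))) (Nat.ble 76800 i))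
noncomputable def nd2375 (i : Nat) : Nat := (Bool.rec (motive := fun _ => Nat) ((Bool.rec (motive := fun _ => Nat) (nl5558 i) (nl5559 i) (Nat.ble 79872 i))) ((Bool.rec (motive := fun _ => Nat) (nl5560 i) (nl5561 i) (Nat.ble 81920 i))) (Nat.ble 80896 i))
noncomputable def nd2371 (i : Nat) : Nat := (Bool.rec (motive := fun _ => Nat) ((Bool.rec (motive := fun _ => Nat) (nd2372 i) (nd2373 i) (Nat.ble 70656 i))) ((Bool.rec (motive := fun _ => Nat) (nd2374 i) (nd2375 i) (Nat.ble 78848 i))) (Nat.ble 74752 i))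
noncomputable def nd2377 (i : Nat) : Nat := (Bool.rec (motive := fun _ => Nat) ((Bool.rec (motive := fun _ => Nat) (nl5562 i) (nl5563 i) (Nat.ble 83968 i))) ((Bool.rec (motive := fun _ => Nat) (nl5564 i) (nl5565 i) (Nat.ble 86016 i))) (Nat.ble 84992 i))
noncomputable def nd2378 (i : Nat) : Nat := (Bool.rec (motive := fun _ => Nat) ((Bool.rec (motive := fun _ => Nat) (nl5566 i) (nl5567 i) (Nat.ble 88064 i))) ((Bool.rec (motive := fun _ => Nat) (nl5568 i) (nl5569 i) (Nat.ble 90112 i))) (Nat.ble 89088 i))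
noncomputable def nd2379 (i : Nat) : Nat := (Bool.rec (motive := fun _ => Nat) ((Bool.rec (motive := fun _ => Nat) (nl5570 i) (nl5571 i) (Nat.ble 92160 i))) ((Bool.rec (motive := fun _ => Nat) (nl5572 i) (nl5573 i) (Nat.ble 94208 i))) (Nat.ble 93184 i))
noncomputable def nd2380 (i : Nat) : Nat := (Bool.rec (motive := fun _ => Nat) ((Bool.rec (motive := fun _ => Nat) (nl5574 i) (nl5575 i) (Nat.ble 96256 i))) ((Bool.rec (motive := fun _ => Nat) (nl5576 i) (nl5577 i) (Nat.ble 98304 i))) (Nat.ble 97280 i))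
noncomputable def nd2376 (i : Nat) : Nat := (Bool.rec (motive := fun _ => Nat) ((Bool.rec (motive := fun _ => Nat) (nd2377 i) (nd2378 i) (Nat.ble 87040 i))) ((Bool.rec (motive := fun _ => Nat) (nd2379 i) (nd2380 i) (Nat.ble 95232 i))) (Nat.ble 91136 i))
noncomputable def nd2382 (i : Nat) : Nat := (Bool.rec (motive := fun _ => Nat) ((Bool.rec (motive := fun _ => Nat) (nl5578 i) (nl5579 i) (Nat.ble 100352 i))) ((Bool.rec (motive := fun _ => Nat) (nl5580 i) (nl5581 i) (Nat.ble 102400 i))) (Nat.ble 101376 i))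
noncomputable def nd2383 (i : Nat) : Nat := (Bool.rec (motive := fun _ => Nat) ((Bool.rec (motive := fun _ => Nat) (nl5582 i) (nl5583 i) (Nat.ble 104448 i))) ((Bool.rec (motive := fun _ => Nat) (nl5584 i) (nl5585 i) (Nat.ble 106496 i))) (Nat.ble 105472 i))
noncomputable def nd2384 (i : Nat) : Nat := (Bool.rec (motive := fun _ => Nat) ((Bool.rec (motive := fun _ => Nat) (nl5586 i) (nl5587 i) (Nat.ble 108544 i))) ((Bool.rec (motive := fun _ => Nat) (nl5588 i) (nl5589 i) (Nat.ble 110592 i))) (Nat.ble 109568 i))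
noncomputable def nd2385 (i : Nat) : Nat := (Bool.rec (motive := fun _ => Nat) ((Bool.rec (motive := fun _ => Nat) (nl5590 i) (nl5591 i) (Nat.ble 112640 i))) ((Bool.rec (motive := fun _ => Nat) (nl5592 i) (nl5593 i) (Nat.ble 114688 i))) (Nat.ble 113664 i))
noncomputable def nd2381 (i : Nat) : Nat := (Bool.rec (motive := fun _ => Nat) ((Bool.rec (motive := fun _ => Nat) (nd2382 i) (nd2383 i) (Nat.ble 103424 i))) ((Bool.rec (motive := fun _ => Nat) (nd2384 i) (nd2385 i) (Nat.ble 111616 i))) (Nat.ble 107520 i))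
noncomputable def nd2387 (i : Nat) : Nat := (Bool.rec (motive := fun _ => Nat) ((Bool.rec (motive := fun _ => Nat) (nl5594 i) (nl5595 i) (Nat.ble 116736 i))) ((Bool.rec (motive := fun _ => Nat) (nl5596 i) (nl5597 i) (Nat.ble 118784 i))) (Nat.ble 117760 i))
noncomputable def nd2388 (i : Nat) : Nat := (Bool.rec (motive := fun _ => Nat) ((Bool.rec (motive := fun _ => Nat) (nl5598 i) (nl5599 i) (Nat.ble 120832 i))) ((Bool.rec (motive := fun _ => Nat) (nl5600 i) (nl5601 i) (Nat.ble 122880 i))) (Nat.ble 121856 i))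
noncomputable def nd2389 (i : Nat) : Nat := (Bool.rec (motive := fun _ => Nat) ((Bool.rec (motive := fun _ => Nat) (nl5602 i) (nl5603 i) (Nat.ble 124928 i))) ((Bool.rec (motive := fun _ => Nat) (nl5604 i) (nl5605 i) (Nat.ble 126976 i))) (Nat.ble 125952 i))
noncomputable def nd2391 (i : Nat) : Nat := (Bool.rec (motive := fun _ => Nat) (nl5609 i) (nl5610 i) (Nat.ble 132096 i))
noncomputable def nd2390 (i : Nat) : Nat := (Bool.rec (motive := fun _ => Nat) ((Bool.rec (motive := fun _ => Nat) (nl5606 i) (nl5607 i) (Nat.ble 129024 i))) ((Bool.rec (motive := fun _ => Nat) (nl5608 i) (nd2391 i) (Nat.ble 131072 i))) (Nat.ble 130048 i))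
noncomputable def nd2386 (i : Nat) : Nat := (Bool.rec (motive := fun _ => Nat) ((Bool.rec (motive := fun _ => Nat) (nd2387 i) (nd2388 i) (Nat.ble 119808 i))) ((Bool.rec (motive := fun _ => Nat) (nd2389 i) (nd2390 i) (Nat.ble 128000 i))) (Nat.ble 123904 i))
noncomputable def nd2370 (i : Nat) : Nat := (Bool.rec (motive := fun _ => Nat) ((Bool.rec (motive := fun _ => Nat) (nd2371 i) (nd2376 i) (Nat.ble 82944 i))) ((Bool.rec (motive := fun _ => Nat) (nd2381 i) (nd2386 i) (Nat.ble 115712 i))) (Nat.ble 99328 i))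
noncomputable def nd2394 (i : Nat) : Nat := (Bool.rec (motive := fun _ => Nat) ((Bool.rec (motive := fun _ => Nat) (nl5611 i) (nl5612 i) (Nat.ble 134144 i))) ((Bool.rec (motive := fun _ => Nat) (nl5613 i) (nl5614 i) (Nat.ble 136192 i))) (Nat.ble 135168 i))
noncomputable def nd2395 (i : Nat) : Nat := (Bool.rec (motive := fun _ => Nat) ((Bool.rec (motive := fun _ => Nat) (nl5615 i) (nl5616 i) (Nat.ble 138240 i))) ((Bool.rec (motive := fun _ => Nat) (nl5617 i) (nl5618 i) (Nat.ble 140288 i))) (Nat.ble 139264 i))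
noncomputable def nd2396 (i : Nat) : Nat := (Bool.rec (motive := fun _ => Nat) ((Bool.rec (motive := fun _ => Nat) (nl5619 i) (nl5620 i) (Nat.ble 142336 i))) ((Bool.rec (motive := fun _ => Nat) (nl5621 i) (nl5622 i) (Nat.ble 144384 i))) (Nat.ble 143360 i))
noncomputable def nd2397 (i : Nat) : Nat := (Bool.rec (motive := fun _ => Nat) ((Bool.rec (motive := fun _ => Nat) (nl5623 i) (nl5624 i) (Nat.ble 146432 i))) ((Bool.rec (motive := fun _ => Nat) (nl5625 i) (nl5626 i) (Nat.ble 148480 i))) (Nat.ble 147456 i))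
noncomputable def nd2393 (i : Nat) : Nat := (Bool.rec (motive := fun _ => Nat) ((Bool.rec (motive := fun _ => Nat) (nd2394 i) (nd2395 i) (Nat.ble 137216 i))) ((Bool.rec (motive := fun _ => Nat) (nd2396 i) (nd2397 i) (Nat.ble 145408 i))) (Nat.ble 141312 i))
noncomputable def nd2399 (i : Nat) : Nat := (Bool.rec (motive := fun _ => Nat) ((Bool.rec (motive := fun _ => Nat) (nl5627 i) (nl5628 i) (Nat.ble 150528 i))) ((Bool.rec (motive := fun _ => Nat) (nl5629 i) (nl5630 i) (Nat.ble 152576 i))) (Nat.ble 151552 i))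
noncomputable def nd2400 (i : Nat) : Nat := (Bool.rec (motive := fun _ => Nat) ((Bool.rec (motive := fun _ => Nat) (nl5631 i) (nl5632 i) (Nat.ble 154624 i))) ((Bool.rec (motive := fun _ => Nat) (nl5633 i) (nl5634 i) (Nat.ble 156672 i))) (Nat.ble 155648 i))
noncomputable def nd2401 (i : Nat) : Nat := (Bool.rec (motive := fun _ => Nat) ((Bool.rec (motive := fun _ => Nat) (nl5635 i) (nl5636 i) (Nat.ble 158720 i))) ((Bool.rec (motive := fun _ => Nat) (nl5637 i) (nl5638 i) (Nat.ble 160768 i))) (Nat.ble 159744 i))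
noncomputable def nd2402 (i : Nat) : Nat := (Bool.rec (motive := fun _ => Nat) ((Bool.rec (motive := fun _ => Nat) (nl5639 i) (nl5640 i) (Nat.ble 162816 i))) ((Bool.rec (motive := fun _ => Nat) (nl5641 i) (nl5642 i) (Nat.ble 164864 i))) (Nat.ble 163840 i))
noncomputable def nd2398 (i : Nat) : Nat := (Bool.rec (motive := fun _ => Nat) ((Bool.rec (motive := fun _ => Nat) (nd2399 i) (nd2400 i) (Nat.ble 153600 i))) ((Bool.rec (motive := fun _ => Nat) (nd2401 i) (nd2402 i) (Nat.ble 161792 i))) (Nat.ble 157696 i))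
noncomputable def nd2404 (i : Nat) : Nat := (Bool.rec (motive := fun _ => Nat) ((Bool.rec (motive := fun _ => Nat) (nl5643 i) (nl5644 i) (Nat.ble 166912 i))) ((Bool.rec (motive := fun _ => Nat) (nl5645 i) (nl5646 i) (Nat.ble 168960 i))) (Nat.ble 167936 i))
noncomputable def nd2405 (i : Nat) : Nat := (Bool.rec (motive := fun _ => Nat) ((Bool.rec (motive := fun _ => Nat) (nl5647 i) (nl5648 i) (Nat.ble 171008 i))) ((Bool.rec (motive := fun _ => Nat) (nl5649 i) (nl5650 i) (Nat.ble 173056 i))) (Nat.ble 172032 i))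
noncomputable def nd2406 (i : Nat) : Nat := (Bool.rec (motive := fun _ => Nat) ((Bool.rec (motive := fun _ => Nat) (nl5651 i) (nl5652 i) (Nat.ble 175104 i))) ((Bool.rec (motive := fun _ => Nat) (nl5653 i) (nl5654 i) (Nat.ble 177152 i))) (Nat.ble 176128 i))
noncomputable def nd2407 (i : Nat) : Nat := (Bool.rec (motive := fun _ => Nat) ((Bool.rec (motive := fun _ => Nat) (nl5655 i) (nl5656 i) (Nat.ble 179200 i))) ((Bool.rec (motive := fun _ => Nat) (nl5657 i) (nl5658 i) (Nat.ble 181248 i))) (Nat.ble 180224 i))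
noncomputable def nd2403 (i : Nat) : Nat := (Bool.rec (motive := fun _ => Nat) ((Bool.rec (motive := fun _ => Nat) (nd2404 i) (nd2405 i) (Nat.ble 169984 i))) ((Bool.rec (motive := fun _ => Nat) (nd2406 i) (nd2407 i) (Nat.ble 178176 i))) (Nat.ble 174080 i))
noncomputable def nd2409 (i : Nat) : Nat := (Bool.rec (motive := fun _ => Nat) ((Bool.rec (motive := fun _ => Nat) (nl5659 i) (nl5660 i) (Nat.ble 183296 i))) ((Bool.rec (motive := fun _ => Nat) (nl5661 i) (nl5662 i) (Nat.ble 185344 i))) (Nat.ble 184320 i))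
noncomputable def nd2410 (i : Nat) : Nat := (Bool.rec (motive := fun _ => Nat) ((Bool.rec (motive := fun _ => Nat) (nl5663 i) (nl5664 i) (Nat.ble 187392 i))) ((Bool.rec (motive := fun _ => Nat) (nl5665 i) (nl5666 i) (Nat.ble 189440 i))) (Nat.ble 188416 i))
noncomputable def nd2411 (i : Nat) : Nat := (Bool.rec (motive := fun _ => Nat) ((Bool.rec (motive := fun _ => Nat) (nl5667 i) (nl5668 i) (Nat.ble 191488 i))) ((Bool.rec (motive := fun _ => Nat) (nl5669 i) (nl5670 i) (Nat.ble 193536 i))) (Nat.ble 192512 i))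
noncomputable def nd2413 (i : Nat) : Nat := (Bool.rec (motive := fun _ => Nat) (nl5674 i) (nl5675 i) (Nat.ble 198656 i))
noncomputable def nd2412 (i : Nat) : Nat := (Bool.rec (motive := fun _ => Nat) ((Bool.rec (motive := fun _ => Nat) (nl5671 i) (nl5672 i) (Nat.ble 195584 i))) ((Bool.rec (motive := fun _ => Nat) (nl5673 i) (nd2413 i) (Nat.ble 197632 i))) (Nat.ble 196608 i))
noncomputable def nd2408 (i : Nat) : Nat := (Bool.rec (motive := fun _ => Nat) ((Bool.rec (motive := fun _ => Nat) (nd2409 i) (nd2410 i) (Nat.ble 186368 i))) ((Bool.rec (motive := fun _ => Nat) (nd2411 i) (nd2412 i) (Nat.ble 194560 i))) (Nat.ble 190464 i))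
noncomputable def nd2392 (i : Nat) : Nat := (Bool.rec (motive := fun _ => Nat) ((Bool.rec (motive := fun _ => Nat) (nd2393 i) (nd2398 i) (Nat.ble 149504 i))) ((Bool.rec (motive := fun _ => Nat) (nd2403 i) (nd2408 i) (Nat.ble 182272 i))) (Nat.ble 165888 i))
noncomputable def nd2416 (i : Nat) : Nat := (Bool.rec (motive := fun _ => Nat) ((Bool.rec (motive := fun _ => Nat) (nl5676 i) (nl5677 i) (Nat.ble 200704 i))) ((Bool.rec (motive := fun _ => Nat) (nl5678 i) (nl5679 i) (Nat.ble 202752 i))) (Nat.ble 201728 i))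
noncomputable def nd2417 (i : Nat) : Nat := (Bool.rec (motive := fun _ => Nat) ((Bool.rec (motive := fun _ => Nat) (nl5680 i) (nl5681 i) (Nat.ble 204800 i))) ((Bool.rec (motive := fun _ => Nat) (nl5682 i) (nl5683 i) (Nat.ble 206848 i))) (Nat.ble 205824 i))
noncomputable def nd2418 (i : Nat) : Nat := (Bool.rec (motive := fun _ => Nat) ((Bool.rec (motive := fun _ => Nat) (nl5684 i) (nl5685 i) (Nat.ble 208896 i))) ((Bool.rec (motive := fun _ => Nat) (nl5686 i) (nl5687 i) (Nat.ble 210944 i))) (Nat.ble 209920 i))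
noncomputable def nd2419 (i : Nat) : Nat := (Bool.rec (motive := fun _ => Nat) ((Bool.rec (motive := fun _ => Nat) (nl5688 i) (nl5689 i) (Nat.ble 212992 i))) ((Bool.rec (motive := fun _ => Nat) (nl5690 i) (nl5691 i) (Nat.ble 215040 i))) (Nat.ble 214016 i))
noncomputable def nd2415 (i : Nat) : Nat := (Bool.rec (motive := fun _ => Nat) ((Bool.rec (motive := fun _ => Nat) (nd2416 i) (nd2417 i) (Nat.ble 203776 i))) ((Bool.rec (motive := fun _ => Nat) (nd2418 i) (nd2419 i) (Nat.ble 211968 i))) (Nat.ble 207872 i))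
noncomputable def nd2421 (i : Nat) : Nat := (Bool.rec (motive := fun _ => Nat) ((Bool.rec (motive := fun _ => Nat) (nl5692 i) (nl5693 i) (Nat.ble 217088 i))) ((Bool.rec (motive := fun _ => Nat) (nl5694 i) (nl5695 i) (Nat.ble 219136 i))) (Nat.ble 218112 i))
noncomputable def nd2422 (i : Nat) : Nat := (Bool.rec (motive := fun _ => Nat) ((Bool.rec (motive := fun _ => Nat) (nl5696 i) (nl5697 i) (Nat.ble 221184 i))) ((Bool.rec (motive := fun _ => Nat) (nl5698 i) (nl5699 i) (Nat.ble 223232 i))) (Nat.ble 222208 i))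
noncomputable def nd2423 (i : Nat) : Nat := (Bool.rec (motive := fun _ => Nat) ((Bool.rec (motive := fun _ => Nat) (nl5700 i) (nl5701 i) (Nat.ble 225280 i))) ((Bool.rec (motive := fun _ => Nat) (nl5702 i) (nl5703 i) (Nat.ble 227328 i))) (Nat.ble 226304 i))
noncomputable def nd2425 (i : Nat) : Nat := (Bool.rec (motive := fun _ => Nat) (nl5707 i) (nl5708 i) (Nat.ble 232448 i))
noncomputable def nd2424 (i : Nat) : Nat := (Bool.rec (motive := fun _ => Nat) ((Bool.rec (motive := fun _ => Nat) (nl5704 i) (nl5705 i) (Nat.ble 229376 i))) ((Bool.rec (motive := fun _ => Nat) (nl5706 i) (nd2425 i) (Nat.ble 231424 i))) (Nat.ble 230400 i))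
noncomputable def nd2420 (i : Nat) : Nat := (Bool.rec (motive := fun _ => Nat) ((Bool.rec (motive := fun _ => Nat) (nd2421 i) (nd2422 i) (Nat.ble 220160 i))) ((Bool.rec (motive := fun _ => Nat) (nd2423 i) (nd2424 i) (Nat.ble 228352 i))) (Nat.ble 224256 i))
noncomputable def nd2427 (i : Nat) : Nat := (Bool.rec (motive := fun _ => Nat) ((Bool.rec (motive := fun _ => Nat) (nl5709 i) (nl5710 i) (Nat.ble 234496 i))) ((Bool.rec (motive := fun _ => Nat) (nl5711 i) (nl5712 i) (Nat.ble 236544 i))) (Nat.ble 235520 i))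
noncomputable def nd2428 (i : Nat) : Nat := (Bool.rec (motive := fun _ => Nat) ((Bool.rec (motive := fun _ => Nat) (nl5713 i) (nl5714 i) (Nat.ble 238592 i))) ((Bool.rec (motive := fun _ => Nat) (nl5715 i) (nl5716 i) (Nat.ble 240640 i))) (Nat.ble 239616 i))
noncomputable def nd2429 (i : Nat) : Nat := (Bool.rec (motive := fun _ => Nat) ((Bool.rec (motive := fun _ => Nat) (nl5717 i) (nl5718 i) (Nat.ble 242688 i))) ((Bool.rec (motive := fun _ => Nat) (nl5719 i) (nl5720 i) (Nat.ble 244736 i))) (Nat.ble 243712 i))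
noncomputable def nd2430 (i : Nat) : Nat := (Bool.rec (motive := fun _ => Nat) ((Bool.rec (motive := fun _ => Nat) (nl5721 i) (nl5722 i) (Nat.ble 246784 i))) ((Bool.rec (motive := fun _ => Nat) (nl5723 i) (nl5724 i) (Nat.ble 248832 i))) (Nat.ble 247808 i))
noncomputable def nd2426 (i : Nat) : Nat := (Bool.rec (motive := fun _ => Nat) ((Bool.rec (motive := fun _ => Nat) (nd2427 i) (nd2428 i) (Nat.ble 237568 i))) ((Bool.rec (motive := fun _ => Nat) (nd2429 i) (nd2430 i) (Nat.ble 245760 i))) (Nat.ble 241664 i))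
noncomputable def nd2432 (i : Nat) : Nat := (Bool.rec (motive := fun _ => Nat) ((Bool.rec (motive := fun _ => Nat) (nl5725 i) (nl5726 i) (Nat.ble 250880 i))) ((Bool.rec (motive := fun _ => Nat) (nl5727 i) (nl5728 i) (Nat.ble 252928 i))) (Nat.ble 251904 i))
noncomputable def nd2433 (i : Nat) : Nat := (Bool.rec (motive := fun _ => Nat) ((Bool.rec (motive := fun _ => Nat) (nl5729 i) (nl5730 i) (Nat.ble 254976 i))) ((Bool.rec (motive := fun _ => Nat) (nl5731 i) (nl5732 i) (Nat.ble 257024 i))) (Nat.ble 256000 i))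
noncomputable def nd2434 (i : Nat) : Nat := (Bool.rec (motive := fun _ => Nat) ((Bool.rec (motive := fun _ => Nat) (nl5733 i) (nl5734 i) (Nat.ble 259072 i))) ((Bool.rec (motive := fun _ => Nat) (nl5735 i) (nl5736 i) (Nat.ble 261120 i))) (Nat.ble 260096 i))
noncomputable def nd2436 (i : Nat) : Nat := (Bool.rec (motive := fun _ => Nat) (nl5740 i) (nl5741 i) (Nat.ble 266240 i))
noncomputable def nd2435 (i : Nat) : Nat := (Bool.rec (motive := fun _ => Nat) ((Bool.rec (motive := fun _ => Nat) (nl5737 i) (nl5738 i) (Nat.ble 263168 i))) ((Bool.rec (motive := fun _ => Nat) (nl5739 i) (nd2436 i) (Nat.ble 265216 i))) (Nat.ble 264192 i))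
noncomputable def nd2431 (i : Nat) : Nat := (Bool.rec (motive := fun _ => Nat) ((Bool.rec (motive := fun _ => Nat) (nd2432 i) (nd2433 i) (Nat.ble 253952 i))) ((Bool.rec (motive := fun _ => Nat) (nd2434 i) (nd2435 i) (Nat.ble 262144 i))) (Nat.ble 258048 i))
noncomputable def nd2414 (i : Nat) : Nat := (Bool.rec (motive := fun _ => Nat) ((Bool.rec (motive := fun _ => Nat) (nd2415 i) (nd2420 i) (Nat.ble 216064 i))) ((Bool.rec (motive := fun _ => Nat) (nd2426 i) (nd2431 i) (Nat.ble 249856 i))) (Nat.ble 233472 i))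
noncomputable def nd2347 (i : Nat) : Nat := (Bool.rec (motive := fun _ => Nat) ((Bool.rec (motive := fun _ => Nat) (nd2348 i) (nd2370 i) (Nat.ble 66560 i))) ((Bool.rec (motive := fun _ => Nat) (nd2392 i) (nd2414 i) (Nat.ble 199680 i))) (Nat.ble 133120 i))
noncomputable def nd2440 (i : Nat) : Nat := (Bool.rec (motive := fun _ => Nat) ((Bool.rec (motive := fun _ => Nat) (nl5742 i) (nl5743 i) (Nat.ble 1024 i))) ((Bool.rec (motive := fun _ => Nat) (nl5744 i) (nl5745 i) (Nat.ble 3072 i))) (Nat.ble 2048 i))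
noncomputable def nd2441 (i : Nat) : Nat := (Bool.rec (motive := fun _ => Nat) ((Bool.rec (motive := fun _ => Nat) (nl5746 i) (nl5747 i) (Nat.ble 5120 i))) ((Bool.rec (motive := fun _ => Nat) (nl5748 i) (nl5749 i) (Nat.ble 7168 i))) (Nat.ble 6144 i))
noncomputable def nd2442 (i : Nat) : Nat := (Bool.rec (motive := fun _ => Nat) ((Bool.rec (motive := fun _ => Nat) (nl5750 i) (nl5751 i) (Nat.ble 9216 i))) ((Bool.rec (motive := fun _ => Nat) (nl5752 i) (nl5753 i) (Nat.ble 11264 i))) (Nat.ble 10240 i))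
noncomputable def nd2443 (i : Nat) : Nat := (Bool.rec (motive := fun _ => Nat) ((Bool.rec (motive := fun _ => Nat) (nl5754 i) (nl5755 i) (Nat.ble 13312 i))) ((Bool.rec (motive := fun _ => Nat) (nl5756 i) (nl5757 i) (Nat.ble 15360 i))) (Nat.ble 14336 i))
noncomputable def nd2439 (i : Nat) : Nat := (Bool.rec (motive := fun _ => Nat) ((Bool.rec (motive := fun _ => Nat) (nd2440 i) (nd2441 i) (Nat.ble 4096 i))) ((Bool.rec (motive := fun _ => Nat) (nd2442 i) (nd2443 i) (Nat.ble 12288 i))) (Nat.ble 8192 i))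
noncomputable def nd2445 (i : Nat) : Nat := (Bool.rec (motive := fun _ => Nat) ((Bool.rec (motive := fun _ => Nat) (nl5758 i) (nl5759 i) (Nat.ble 17408 i))) ((Bool.rec (motive := fun _ => Nat) (nl5760 i) (nl5761 i) (Nat.ble 19456 i))) (Nat.ble 18432 i))
noncomputable def nd2446 (i : Nat) : Nat := (Bool.rec (motive := fun _ => Nat) ((Bool.rec (motive := fun _ => Nat) (nl5762 i) (nl5763 i) (Nat.ble 21504 i))) ((Bool.rec (motive := fun _ => Nat) (nl5764 i) (nl5765 i) (Nat.ble 23552 i))) (Nat.ble 22528 i))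
noncomputable def nd2447 (i : Nat) : Nat := (Bool.rec (motive := fun _ => Nat) ((Bool.rec (motive := fun _ => Nat) (nl5766 i) (nl5767 i) (Nat.ble 25600 i))) ((Bool.rec (motive := fun _ => Nat) (nl5768 i) (nl5769 i) (Nat.ble 27648 i))) (Nat.ble 26624 i))
noncomputable def nd2448 (i : Nat) : Nat := (Bool.rec (motive := fun _ => Nat) ((Bool.rec (motive := fun _ => Nat) (nl5770 i) (nl5771 i) (Nat.ble 29696 i))) ((Bool.rec (motive := fun _ => Nat) (nl5772 i) (nl5773 i) (Nat.ble 31744 i))) (Nat.ble 30720 i))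
noncomputable def nd2444 (i : Nat) : Nat := (Bool.rec (motive := fun _ => Nat) ((Bool.rec (motive := fun _ => Nat) (nd2445 i) (nd2446 i) (Nat.ble 20480 i))) ((Bool.rec (motive := fun _ => Nat) (nd2447 i) (nd2448 i) (Nat.ble 28672 i))) (Nat.ble 24576 i))
noncomputable def nd2450 (i : Nat) : Nat := (Bool.rec (motive := fun _ => Nat) ((Bool.rec (motive := fun _ => Nat) (nl5774 i) (nl5775 i) (Nat.ble 33792 i))) ((Bool.rec (motive := fun _ => Nat) (nl5776 i) (nl5777 i) (Nat.ble 35840 i))) (Nat.ble 34816 i))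
noncomputable def nd2451 (i : Nat) : Nat := (Bool.rec (motive := fun _ => Nat) ((Bool.rec (motive := fun _ => Nat) (nl5778 i) (nl5779 i) (Nat.ble 37888 i))) ((Bool.rec (motive := fun _ => Nat) (nl5780 i) (nl5781 i) (Nat.ble 39936 i))) (Nat.ble 38912 i))
noncomputable def nd2452 (i : Nat) : Nat := (Bool.rec (motive := fun _ => Nat) ((Bool.rec (motive := fun _ => Nat) (nl5782 i) (nl5783 i) (Nat.ble 41984 i))) ((Bool.rec (motive := fun _ => Nat) (nl5784 i) (nl5785 i) (Nat.ble 44032 i))) (Nat.ble 43008 i))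
noncomputable def nd2453 (i : Nat) : Nat := (Bool.rec (motive := fun _ => Nat) ((Bool.rec (motive := fun _ => Nat) (nl5786 i) (nl5787 i) (Nat.ble 46080 i))) ((Bool.rec (motive := fun _ => Nat) (nl5788 i) (nl5789 i) (Nat.ble 48128 i))) (Nat.ble 47104 i))
noncomputable def nd2449 (i : Nat) : Nat := (Bool.rec (motive := fun _ => Nat) ((Bool.rec (motive := fun _ => Nat) (nd2450 i) (nd2451 i) (Nat.ble 36864 i))) ((Bool.rec (motive := fun _ => Nat) (nd2452 i) (nd2453 i) (Nat.ble 45056 i))) (Nat.ble 40960 i))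
noncomputable def nd2455 (i : Nat) : Nat := (Bool.rec (motive := fun _ => Nat) ((Bool.rec (motive := fun _ => Nat) (nl5790 i) (nl5791 i) (Nat.ble 50176 i))) ((Bool.rec (motive := fun _ => Nat) (nl5792 i) (nl5793 i) (Nat.ble 52224 i))) (Nat.ble 51200 i))
noncomputable def nd2456 (i : Nat) : Nat := (Bool.rec (motive := fun _ => Nat) ((Bool.rec (motive := fun _ => Nat) (nl5794 i) (nl5795 i) (Nat.ble 54272 i))) ((Bool.rec (motive := fun _ => Nat) (nl5796 i) (nl5797 i) (Nat.ble 56320 i))) (Nat.ble 55296 i))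
noncomputable def nd2457 (i : Nat) : Nat := (Bool.rec (motive := fun _ => Nat) ((Bool.rec (motive := fun _ => Nat) (nl5798 i) (nl5799 i) (Nat.ble 58368 i))) ((Bool.rec (motive := fun _ => Nat) (nl5800 i) (nl5801 i) (Nat.ble 60416 i))) (Nat.ble 59392 i))
noncomputable def nd2459 (i : Nat) : Nat := (Bool.rec (motive := fun _ => Nat) (nl5805 i) (nl5806 i) (Nat.ble 65536 i))
noncomputable def nd2458 (i : Nat) : Nat := (Bool.rec (motive := fun _ => Nat) ((Bool.rec (motive := fun _ => Nat) (nl5802 i) (nl5803 i) (Nat.ble 62464 i))) ((Bool.rec (motive := fun _ => Nat) (nl5804 i) (nd2459 i) (Nat.ble 64512 i))) (Nat.ble 63488 i))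
noncomputable def nd2454 (i : Nat) : Nat := (Bool.rec (motive := fun _ => Nat) ((Bool.rec (motive := fun _ => Nat) (nd2455 i) (nd2456 i) (Nat.ble 53248 i))) ((Bool.rec (motive := fun _ => Nat) (nd2457 i) (nd2458 i) (Nat.ble 61440 i))) (Nat.ble 57344 i))
noncomputable def nd2438 (i : Nat) : Nat := (Bool.rec (motive := fun _ => Nat) ((Bool.rec (motive := fun _ => Nat) (nd2439 i) (nd2444 i) (Nat.ble 16384 i))) ((Bool.rec (motive := fun _ => Nat) (nd2449 i) (nd2454 i) (Nat.ble 49152 i))) (Nat.ble 32768 i))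
noncomputable def nd2462 (i : Nat) : Nat := (Bool.rec (motive := fun _ => Nat) ((Bool.rec (motive := fun _ => Nat) (nl5807 i) (nl5808 i) (Nat.ble 67584 i))) ((Bool.rec (motive := fun _ => Nat) (nl5809 i) (nl5810 i) (Nat.ble 69632 i))) (Nat.ble 68608 i))
noncomputable def nd2463 (i : Nat) : Nat := (Bool.rec (motive := fun _ => Nat) ((Bool.rec (motive := fun _ => Nat) (nl5811 i) (nl5812 i) (Nat.ble 71680 i))) ((Bool.rec (motive := fun _ => Nat) (nl5813 i) (nl5814 i) (Nat.ble 73728 i))) (Nat.ble 72704 i))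
noncomputable def nd2464 (i : Nat) : Nat := (Bool.rec (motive := fun _ => Nat) ((Bool.rec (motive := fun _ => Nat) (nl5815 i) (nl5816 i) (Nat.ble 75776 i))) ((Bool.rec (motive := fun _ => Nat) (nl5817 i) (nl5818 i) (Nat.ble 77824 i))) (Nat.ble 76800 i))
noncomputable def nd2465 (i : Nat) : Nat := (Bool.rec (motive := fun _ => Nat) ((Bool.rec (motive := fun _ => Nat) (nl5819 i) (nl5820 i) (Nat.ble 79872 i))) ((Bool.rec (motive := fun _ => Nat) (nl5821 i) (nl5822 i) (Nat.ble 81920 i))) (Nat.ble 80896 i))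
noncomputable def nd2461 (i : Nat) : Nat := (Bool.rec (motive := fun _ => Nat) ((Bool.rec (motive := fun _ => Nat) (nd2462 i) (nd2463 i) (Nat.ble 70656 i))) ((Bool.rec (motive := fun _ => Nat) (nd2464 i) (nd2465 i) (Nat.ble 78848 i))) (Nat.ble 74752 i))
noncomputable def nd2467 (i : Nat) : Nat := (Bool.rec (motive := fun _ => Nat) ((Bool.rec (motive := fun _ => Nat) (nl5823 i) (nl5824 i) (Nat.ble 83968 i))) ((Bool.rec (motive := fun _ => Nat) (nl5825 i) (nl5826 i) (Nat.ble 86016 i))) (Nat.ble 84992 i))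
noncomputable def nd2468 (i : Nat) : Nat := (Bool.rec (motive := fun _ => Nat) ((Bool.rec (motive := fun _ => Nat) (nl5827 i) (nl5828 i) (Nat.ble 88064 i))) ((Bool.rec (motive := fun _ => Nat) (nl5829 i) (nl5830 i) (Nat.ble 90112 i))) (Nat.ble 89088 i))
noncomputable def nd2469 (i : Nat) : Nat := (Bool.rec (motive := fun _ => Nat) ((Bool.rec (motive := fun _ => Nat) (nl5831 i) (nl5832 i) (Nat.ble 92160 i))) ((Bool.rec (motive := fun _ => Nat) (nl5833 i) (nl5834 i) (Nat.ble 94208 i))) (Nat.ble 93184 i))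
noncomputable def nd2470 (i : Nat) : Nat := (Bool.rec (motive := fun _ => Nat) ((Bool.rec (motive := fun _ => Nat) (nl5835 i) (nl5836 i) (Nat.ble 96256 i))) ((Bool.rec (motive := fun _ => Nat) (nl5837 i) (nl5838 i) (Nat.ble 98304 i))) (Nat.ble 97280 i))
noncomputable def nd2466 (i : Nat) : Nat := (Bool.rec (motive := fun _ => Nat) ((Bool.rec (motive := fun _ => Nat) (nd2467 i) (nd2468 i) (Nat.ble 87040 i))) ((Bool.rec (motive := fun _ => Nat) (nd2469 i) (nd2470 i) (Nat.ble 95232 i))) (Nat.ble 91136 i))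
noncomputable def nd2472 (i : Nat) : Nat := (Bool.rec (motive := fun _ => Nat) ((Bool.rec (motive := fun _ => Nat) (nl5839 i) (nl5840 i) (Nat.ble 100352 i))) ((Bool.rec (motive := fun _ => Nat) (nl5841 i) (nl5842 i) (Nat.ble 102400 i))) (Nat.ble 101376 i))
noncomputable def nd2473 (i : Nat) : Nat := (Bool.rec (motive := fun _ => Nat) ((Bool.rec (motive := fun _ => Nat) (nl5843 i) (nl5844 i) (Nat.ble 104448 i))) ((Bool.rec (motive := fun _ => Nat) (nl5845 i) (nl5846 i) (Nat.ble 106496 i))) (Nat.ble 105472 i))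
noncomputable def nd2474 (i : Nat) : Nat := (Bool.rec (motive := fun _ => Nat) ((Bool.rec (motive := fun _ => Nat) (nl5847 i) (nl5848 i) (Nat.ble 108544 i))) ((Bool.rec (motive := fun _ => Nat) (nl5849 i) (nl5850 i) (Nat.ble 110592 i))) (Nat.ble 109568 i))
noncomputable def nd2475 (i : Nat) : Nat := (Bool.rec (motive := fun _ => Nat) ((Bool.rec (motive := fun _ => Nat) (nl5851 i) (nl5852 i) (Nat.ble 112640 i))) ((Bool.rec (motive := fun _ => Nat) (nl5853 i) (nl5854 i) (Nat.ble 114688 i))) (Nat.ble 113664 i))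
noncomputable def nd2471 (i : Nat) : Nat := (Bool.rec (motive := fun _ => Nat) ((Bool.rec (motive := fun _ => Nat) (nd2472 i) (nd2473 i) (Nat.ble 103424 i))) ((Bool.rec (motive := fun _ => Nat) (nd2474 i) (nd2475 i) (Nat.ble 111616 i))) (Nat.ble 107520 i))
noncomputable def nd2477 (i : Nat) : Nat := (Bool.rec (motive := fun _ => Nat) ((Bool.rec (motive := fun _ => Nat) (nl5855 i) (nl5856 i) (Nat.ble 116736 i))) ((Bool.rec (motive := fun _ => Nat) (nl5857 i) (nl5858 i) (Nat.ble 118784 i))) (Nat.ble 117760 i))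
noncomputable def nd2478 (i : Nat) : Nat := (Bool.rec (motive := fun _ => Nat) ((Bool.rec (motive := fun _ => Nat) (nl5859 i) (nl5860 i) (Nat.ble 120832 i))) ((Bool.rec (motive := fun _ => Nat) (nl5861 i) (nl5862 i) (Nat.ble 122880 i))) (Nat.ble 121856 i))
noncomputable def nd2479 (i : Nat) : Nat := (Bool.rec (motive := fun _ => Nat) ((Bool.rec (motive := fun _ => Nat) (nl5863 i) (nl5864 i) (Nat.ble 124928 i))) ((Bool.rec (motive := fun _ => Nat) (nl5865 i) (nl5866 i) (Nat.ble 126976 i))) (Nat.ble 125952 i))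
noncomputable def nd2481 (i : Nat) : Nat := (Bool.rec (motive := fun _ => Nat) (nl5870 i) (nl5871 i) (Nat.ble 132096 i))
noncomputable def nd2480 (i : Nat) : Nat := (Bool.rec (motive := fun _ => Nat) ((Bool.rec (motive := fun _ => Nat) (nl5867 i) (nl5868 i) (Nat.ble 129024 i))) ((Bool.rec (motive := fun _ => Nat) (nl5869 i) (nd2481 i) (Nat.ble 131072 i))) (Nat.ble 130048 i))
noncomputable def nd2476 (i : Nat) : Nat := (Bool.rec (motive := fun _ => Nat) ((Bool.rec (motive := fun _ => Nat) (nd2477 i) (nd2478 i) (Nat.ble 119808 i))) ((Bool.rec (motive := fun _ => Nat) (nd2479 i) (nd2480 i) (Nat.ble 128000 i))) (Nat.ble 123904 i))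
noncomputable def nd2460 (i : Nat) : Nat := (Bool.rec (motive := fun _ => Nat) ((Bool.rec (motive := fun _ => Nat) (nd2461 i) (nd2466 i) (Nat.ble 82944 i))) ((Bool.rec (motive := fun _ => Nat) (nd2471 i) (nd2476 i) (Nat.ble 115712 i))) (Nat.ble 99328 i))
noncomputable def nd2484 (i : Nat) : Nat := (Bool.rec (motive := fun _ => Nat) ((Bool.rec (motive := fun _ => Nat) (nl5872 i) (nl5873 i) (Nat.ble 134144 i))) ((Bool.rec (motive := fun _ => Nat) (nl5874 i) (nl5875 i) (Nat.ble 136192 i))) (Nat.ble 135168 i))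
noncomputable def nd2485 (i : Nat) : Nat := (Bool.rec (motive := fun _ => Nat) ((Bool.rec (motive := fun _ => Nat) (nl5876 i) (nl5877 i) (Nat.ble 138240 i))) ((Bool.rec (motive := fun _ => Nat) (nl5878 i) (nl5879 i) (Nat.ble 140288 i))) (Nat.ble 139264 i))
noncomputable def nd2486 (i : Nat) : Nat := (Bool.rec (motive := fun _ => Nat) ((Bool.rec (motive := fun _ => Nat) (nl5880 i) (nl5881 i) (Nat.ble 142336 i))) ((Bool.rec (motive := fun _ => Nat) (nl5882 i) (nl5883 i) (Nat.ble 144384 i))) (Nat.ble 143360 i))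
noncomputable def nd2487 (i : Nat) : Nat := (Bool.rec (motive := fun _ => Nat) ((Bool.rec (motive := fun _ => Nat) (nl5884 i) (nl5885 i) (Nat.ble 146432 i))) ((Bool.rec (motive := fun _ => Nat) (nl5886 i) (nl5887 i) (Nat.ble 148480 i))) (Nat.ble 147456 i))
noncomputable def nd2483 (i : Nat) : Nat := (Bool.rec (motive := fun _ => Nat) ((Bool.rec (motive := fun _ => Nat) (nd2484 i) (nd2485 i) (Nat.ble 137216 i))) ((Bool.rec (motive := fun _ => Nat) (nd2486 i) (nd2487 i) (Nat.ble 145408 i))) (Nat.ble 141312 i))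
noncomputable def nd2489 (i : Nat) : Nat := (Bool.rec (motive := fun _ => Nat) ((Bool.rec (motive := fun _ => Nat) (nl5888 i) (nl5889 i) (Nat.ble 150528 i))) ((Bool.rec (motive := fun _ => Nat) (nl5890 i) (nl5891 i) (Nat.ble 152576 i))) (Nat.ble 151552 i))
noncomputable def nd2490 (i : Nat) : Nat := (Bool.rec (motive := fun _ => Nat) ((Bool.rec (motive := fun _ => Nat) (nl5892 i) (nl5893 i) (Nat.ble 154624 i))) ((Bool.rec (motive := fun _ => Nat) (nl5894 i) (nl5895 i) (Nat.ble 156672 i))) (Nat.ble 155648 i))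
noncomputable def nd2491 (i : Nat) : Nat := (Bool.rec (motive := fun _ => Nat) ((Bool.rec (motive := fun _ => Nat) (nl5896 i) (nl5897 i) (Nat.ble 158720 i))) ((Bool.rec (motive := fun _ => Nat) (nl5898 i) (nl5899 i) (Nat.ble 160768 i))) (Nat.ble 159744 i))
noncomputable def nd2492 (i : Nat) : Nat := (Bool.rec (motive := fun _ => Nat) ((Bool.rec (motive := fun _ => Nat) (nl5900 i) (nl5901 i) (Nat.ble 162816 i))) ((Bool.rec (motive := fun _ => Nat) (nl5902 i) (nl5903 i) (Nat.ble 164864 i))) (Nat.ble 163840 i))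
noncomputable def nd2488 (i : Nat) : Nat := (Bool.rec (motive := fun _ => Nat) ((Bool.rec (motive := fun _ => Nat) (nd2489 i) (nd2490 i) (Nat.ble 153600 i))) ((Bool.rec (motive := fun _ => Nat) (nd2491 i) (nd2492 i) (Nat.ble 161792 i))) (Nat.ble 157696 i))
noncomputable def nd2494 (i : Nat) : Nat := (Bool.rec (motive := fun _ => Nat) ((Bool.rec (motive := fun _ => Nat) (nl5904 i) (nl5905 i) (Nat.ble 166912 i))) ((Bool.rec (motive := fun _ => Nat) (nl5906 i) (nl5907 i) (Nat.ble 168960 i))) (Nat.ble 167936 i))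
noncomputable def nd2495 (i : Nat) : Nat := (Bool.rec (motive := fun _ => Nat) ((Bool.rec (motive := fun _ => Nat) (nl5908 i) (nl5909 i) (Nat.ble 171008 i))) ((Bool.rec (motive := fun _ => Nat) (nl5910 i) (nl5911 i) (Nat.ble 173056 i))) (Nat.ble 172032 i))
noncomputable def nd2496 (i : Nat) : Nat := (Bool.rec (motive := fun _ => Nat) ((Bool.rec (motive := fun _ => Nat) (nl5912 i) (nl5913 i) (Nat.ble 175104 i))) ((Bool.rec (motive := fun _ => Nat) (nl5914 i) (nl5915 i) (Nat.ble 177152 i))) (Nat.ble 176128 i))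
noncomputable def nd2497 (i : Nat) : Nat := (Bool.rec (motive := fun _ => Nat) ((Bool.rec (motive := fun _ => Nat) (nl5916 i) (nl5917 i) (Nat.ble 179200 i))) ((Bool.rec (motive := fun _ => Nat) (nl5918 i) (nl5919 i) (Nat.ble 181248 i))) (Nat.ble 180224 i))
noncomputable def nd2493 (i : Nat) : Nat := (Bool.rec (motive := fun _ => Nat) ((Bool.rec (motive := fun _ => Nat) (nd2494 i) (nd2495 i) (Nat.ble 169984 i))) ((Bool.rec (motive := fun _ => Nat) (nd2496 i) (nd2497 i) (Nat.ble 178176 i))) (Nat.ble 174080 i))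
noncomputable def nd2499 (i : Nat) : Nat := (Bool.rec (motive := fun _ => Nat) ((Bool.rec (motive := fun _ => Nat) (nl5920 i) (nl5921 i) (Nat.ble 183296 i))) ((Bool.rec (motive := fun _ => Nat) (nl5922 i) (nl5923 i) (Nat.ble 185344 i))) (Nat.ble 184320 i))
noncomputable def nd2500 (i : Nat) : Nat := (Bool.rec (motive := fun _ => Nat) ((Bool.rec (motive := fun _ => Nat) (nl5924 i) (nl5925 i) (Nat.ble 187392 i))) ((Bool.rec (motive := fun _ => Nat) (nl5926 i) (nl5927 i) (Nat.ble 189440 i))) (Nat.ble 188416 i))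
noncomputable def nd2501 (i : Nat) : Nat := (Bool.rec (motive := fun _ => Nat) ((Bool.rec (motive := fun _ => Nat) (nl5928 i) (nl5929 i) (Nat.ble 191488 i))) ((Bool.rec (motive := fun _ => Nat) (nl5930 i) (nl5931 i) (Nat.ble 193536 i))) (Nat.ble 192512 i))
noncomputable def nd2503 (i : Nat) : Nat := (Bool.rec (motive := fun _ => Nat) (nl5935 i) (nl5936 i) (Nat.ble 198656 i))
noncomputable def nd2502 (i : Nat) : Nat := (Bool.rec (motive := fun _ => Nat) ((Bool.rec (motive := fun _ => Nat) (nl5932 i) (nl5933 i) (Nat.ble 195584 i))) ((Bool.rec (motive := fun _ => Nat) (nl5934 i) (nd2503 i) (Nat.ble 197632 i))) (Nat.ble 196608 i))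
noncomputable def nd2498 (i : Nat) : Nat := (Bool.rec (motive := fun _ => Nat) ((Bool.rec (motive := fun _ => Nat) (nd2499 i) (nd2500 i) (Nat.ble 186368 i))) ((Bool.rec (motive := fun _ => Nat) (nd2501 i) (nd2502 i) (Nat.ble 194560 i))) (Nat.ble 190464 i))
noncomputable def nd2482 (i : Nat) : Nat := (Bool.rec (motive := fun _ => Nat) ((Bool.rec (motive := fun _ => Nat) (nd2483 i) (nd2488 i) (Nat.ble 149504 i))) ((Bool.rec (motive := fun _ => Nat) (nd2493 i) (nd2498 i) (Nat.ble 182272 i))) (Nat.ble 165888 i))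
noncomputable def nd2506 (i : Nat) : Nat := (Bool.rec (motive := fun _ => Nat) ((Bool.rec (motive := fun _ => Nat) (nl5937 i) (nl5938 i) (Nat.ble 200704 i))) ((Bool.rec (motive := fun _ => Nat) (nl5939 i) (nl5940 i) (Nat.ble 202752 i))) (Nat.ble 201728 i))
noncomputable def nd2507 (i : Nat) : Nat := (Bool.rec (motive := fun _ => Nat) ((Bool.rec (motive := fun _ => Nat) (nl5941 i) (nl5942 i) (Nat.ble 204800 i))) ((Bool.rec (motive := fun _ => Nat) (nl5943 i) (nl5944 i) (Nat.ble 206848 i))) (Nat.ble 205824 i))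
noncomputable def nd2508 (i : Nat) : Nat := (Bool.rec (motive := fun _ => Nat) ((Bool.rec (motive := fun _ => Nat) (nl5945 i) (nl5946 i) (Nat.ble 208896 i))) ((Bool.rec (motive := fun _ => Nat) (nl5947 i) (nl5948 i) (Nat.ble 210944 i))) (Nat.ble 209920 i))
noncomputable def nd2509 (i : Nat) : Nat := (Bool.rec (motive := fun _ => Nat) ((Bool.rec (motive := fun _ => Nat) (nl5949 i) (nl5950 i) (Nat.ble 212992 i))) ((Bool.rec (motive := fun _ => Nat) (nl5951 i) (nl5952 i) (Nat.ble 215040 i))) (Nat.ble 214016 i))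
noncomputable def nd2505 (i : Nat) : Nat := (Bool.rec (motive := fun _ => Nat) ((Bool.rec (motive := fun _ => Nat) (nd2506 i) (nd2507 i) (Nat.ble 203776 i))) ((Bool.rec (motive := fun _ => Nat) (nd2508 i) (nd2509 i) (Nat.ble 211968 i))) (Nat.ble 207872 i))
noncomputable def nd2511 (i : Nat) : Nat := (Bool.rec (motive := fun _ => Nat) ((Bool.rec (motive := fun _ => Nat) (nl5953 i) (nl5954 i) (Nat.ble 217088 i))) ((Bool.rec (motive := fun _ => Nat) (nl5955 i) (nl5956 i) (Nat.ble 219136 i))) (Nat.ble 218112 i))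
noncomputable def nd2512 (i : Nat) : Nat := (Bool.rec (motive := fun _ => Nat) ((Bool.rec (motive := fun _ => Nat) (nl5957 i) (nl5958 i) (Nat.ble 221184 i))) ((Bool.rec (motive := fun _ => Nat) (nl5959 i) (nl5960 i) (Nat.ble 223232 i))) (Nat.ble 222208 i))
noncomputable def nd2513 (i : Nat) : Nat := (Bool.rec (motive := fun _ => Nat) ((Bool.rec (motive := fun _ => Nat) (nl5961 i) (nl5962 i) (Nat.ble 225280 i))) ((Bool.rec (motive := fun _ => Nat) (nl5963 i) (nl5964 i) (Nat.ble 227328 i))) (Nat.ble 226304 i))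
noncomputable def nd2515 (i : Nat) : Nat := (Bool.rec (motive := fun _ => Nat) (nl5968 i) (nl5969 i) (Nat.ble 232448 i))
noncomputable def nd2514 (i : Nat) : Nat := (Bool.rec (motive := fun _ => Nat) ((Bool.rec (motive := fun _ => Nat) (nl5965 i) (nl5966 i) (Nat.ble 229376 i))) ((Bool.rec (motive := fun _ => Nat) (nl5967 i) (nd2515 i) (Nat.ble 231424 i))) (Nat.ble 230400 i))
noncomputable def nd2510 (i : Nat) : Nat := (Bool.rec (motive := fun _ => Nat) ((Bool.rec (motive := fun _ => Nat) (nd2511 i) (nd2512 i) (Nat.ble 220160 i))) ((Bool.rec (motive := fun _ => Nat) (nd2513 i) (nd2514 i) (Nat.ble 228352 i))) (Nat.ble 224256 i))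
noncomputable def nd2517 (i : Nat) : Nat := (Bool.rec (motive := fun _ => Nat) ((Bool.rec (motive := fun _ => Nat) (nl5970 i) (nl5971 i) (Nat.ble 234496 i))) ((Bool.rec (motive := fun _ => Nat) (nl5972 i) (nl5973 i) (Nat.ble 236544 i))) (Nat.ble 235520 i))
noncomputable def nd2518 (i : Nat) : Nat := (Bool.rec (motive := fun _ => Nat) ((Bool.rec (motive := fun _ => Nat) (nl5974 i) (nl5975 i) (Nat.ble 238592 i))) ((Bool.rec (motive := fun _ => Nat) (nl5976 i) (nl5977 i) (Nat.ble 240640 i))) (Nat.ble 239616 i))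
noncomputable def nd2519 (i : Nat) : Nat := (Bool.rec (motive := fun _ => Nat) ((Bool.rec (motive := fun _ => Nat) (nl5978 i) (nl5979 i) (Nat.ble 242688 i))) ((Bool.rec (motive := fun _ => Nat) (nl5980 i) (nl5981 i) (Nat.ble 244736 i))) (Nat.ble 243712 i))
noncomputable def nd2520 (i : Nat) : Nat := (Bool.rec (motive := fun _ => Nat) ((Bool.rec (motive := fun _ => Nat) (nl5982 i) (nl5983 i) (Nat.ble 246784 i))) ((Bool.rec (motive := fun _ => Nat) (nl5984 i) (nl5985 i) (Nat.ble 248832 i))) (Nat.ble 247808 i))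
noncomputable def nd2516 (i : Nat) : Nat := (Bool.rec (motive := fun _ => Nat) ((Bool.rec (motive := fun _ => Nat) (nd2517 i) (nd2518 i) (Nat.ble 237568 i))) ((Bool.rec (motive := fun _ => Nat) (nd2519 i) (nd2520 i) (Nat.ble 245760 i))) (Nat.ble 241664 i))
noncomputable def nd2522 (i : Nat) : Nat := (Bool.rec (motive := fun _ => Nat) ((Bool.rec (motive := fun _ => Nat) (nl5986 i) (nl5987 i) (Nat.ble 250880 i))) ((Bool.rec (motive := fun _ => Nat) (nl5988 i) (nl5989 i) (Nat.ble 252928 i))) (Nat.ble 251904 i))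
noncomputable def nd2523 (i : Nat) : Nat := (Bool.rec (motive := fun _ => Nat) ((Bool.rec (motive := fun _ => Nat) (nl5990 i) (nl5991 i) (Nat.ble 254976 i))) ((Bool.rec (motive := fun _ => Nat) (nl5992 i) (nl5993 i) (Nat.ble 257024 i))) (Nat.ble 256000 i))
noncomputable def nd2524 (i : Nat) : Nat := (Bool.rec (motive := fun _ => Nat) ((Bool.rec (motive := fun _ => Nat) (nl5994 i) (nl5995 i) (Nat.ble 259072 i))) ((Bool.rec (motive := fun _ => Nat) (nl5996 i) (nl5997 i) (Nat.ble 261120 i))) (Nat.ble 260096 i))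
noncomputable def nd2526 (i : Nat) : Nat := (Bool.rec (motive := fun _ => Nat) (nl6001 i) (nl6002 i) (Nat.ble 266240 i))
noncomputable def nd2525 (i : Nat) : Nat := (Bool.rec (motive := fun _ => Nat) ((Bool.rec (motive := fun _ => Nat) (nl5998 i) (nl5999 i) (Nat.ble 263168 i))) ((Bool.rec (motive := fun _ => Nat) (nl6000 i) (nd2526 i) (Nat.ble 265216 i))) (Nat.ble 264192 i))
noncomputable def nd2521 (i : Nat) : Nat := (Bool.rec (motive := fun _ => Nat) ((Bool.rec (motive := fun _ => Nat) (nd2522 i) (nd2523 i) (Nat.ble 253952 i))) ((Bool.rec (motive := fun _ => Nat) (nd2524 i) (nd2525 i) (Nat.ble 262144 i))) (Nat.ble 258048 i))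
noncomputable def nd2504 (i : Nat) : Nat := (Bool.rec (motive := fun _ => Nat) ((Bool.rec (motive := fun _ => Nat) (nd2505 i) (nd2510 i) (Nat.ble 216064 i))) ((Bool.rec (motive := fun _ => Nat) (nd2516 i) (nd2521 i) (Nat.ble 249856 i))) (Nat.ble 233472 i))
noncomputable def nd2437 (i : Nat) : Nat := (Bool.rec (motive := fun _ => Nat) ((Bool.rec (motive := fun _ => Nat) (nd2438 i) (nd2460 i) (Nat.ble 66560 i))) ((Bool.rec (motive := fun _ => Nat) (nd2482 i) (nd2504 i) (Nat.ble 199680 i))) (Nat.ble 133120 i))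
noncomputable def nd2530 (i : Nat) : Nat := (Bool.rec (motive := fun _ => Nat) ((Bool.rec (motive := fun _ => Nat) (nl6003 i) (nl6004 i) (Nat.ble 1024 i))) ((Bool.rec (motive := fun _ => Nat) (nl6005 i) (nl6006 i) (Nat.ble 3072 i))) (Nat.ble 2048 i))
noncomputable def nd2531 (i : Nat) : Nat := (Bool.rec (motive := fun _ => Nat) ((Bool.rec (motive := fun _ => Nat) (nl6007 i) (nl6008 i) (Nat.ble 5120 i))) ((Bool.rec (motive := fun _ => Nat) (nl6009 i) (nl6010 i) (Nat.ble 7168 i))) (Nat.ble 6144 i))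
noncomputable def nd2532 (i : Nat) : Nat := (Bool.rec (motive := fun _ => Nat) ((Bool.rec (motive := fun _ => Nat) (nl6011 i) (nl6012 i) (Nat.ble 9216 i))) ((Bool.rec (motive := fun _ => Nat) (nl6013 i) (nl6014 i) (Nat.ble 11264 i))) (Nat.ble 10240 i))
noncomputable def nd2533 (i : Nat) : Nat := (Bool.rec (motive := fun _ => Nat) ((Bool.rec (motive := fun _ => Nat) (nl6015 i) (nl6016 i) (Nat.ble 13312 i))) ((Bool.rec (motive := fun _ => Nat) (nl6017 i) (nl6018 i) (Nat.ble 15360 i))) (Nat.ble 14336 i))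
noncomputable def nd2529 (i : Nat) : Nat := (Bool.rec (motive := fun _ => Nat) ((Bool.rec (motive := fun _ => Nat) (nd2530 i) (nd2531 i) (Nat.ble 4096 i))) ((Bool.rec (motive := fun _ => Nat) (nd2532 i) (nd2533 i) (Nat.ble 12288 i))) (Nat.ble 8192 i))
noncomputable def nd2535 (i : Nat) : Nat := (Bool.rec (motive := fun _ => Nat) ((Bool.rec (motive := fun _ => Nat) (nl6019 i) (nl6020 i) (Nat.ble 17408 i))) ((Bool.rec (motive := fun _ => Nat) (nl6021 i) (nl6022 i) (Nat.ble 19456 i))) (Nat.ble 18432 i))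
noncomputable def nd2536 (i : Nat) : Nat := (Bool.rec (motive := fun _ => Nat) ((Bool.rec (motive := fun _ => Nat) (nl6023 i) (nl6024 i) (Nat.ble 21504 i))) ((Bool.rec (motive := fun _ => Nat) (nl6025 i) (nl6026 i) (Nat.ble 23552 i))) (Nat.ble 22528 i))
noncomputable def nd2537 (i : Nat) : Nat := (Bool.rec (motive := fun _ => Nat) ((Bool.rec (motive := fun _ => Nat) (nl6027 i) (nl6028 i) (Nat.ble 25600 i))) ((Bool.rec (motive := fun _ => Nat) (nl6029 i) (nl6030 i) (Nat.ble 27648 i))) (Nat.ble 26624 i))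
noncomputable def nd2538 (i : Nat) : Nat := (Bool.rec (motive := fun _ => Nat) ((Bool.rec (motive := fun _ => Nat) (nl6031 i) (nl6032 i) (Nat.ble 29696 i))) ((Bool.rec (motive := fun _ => Nat) (nl6033 i) (nl6034 i) (Nat.ble 31744 i))) (Nat.ble 30720 i))
noncomputable def nd2534 (i : Nat) : Nat := (Bool.rec (motive := fun _ => Nat) ((Bool.rec (motive := fun _ => Nat) (nd2535 i) (nd2536 i) (Nat.ble 20480 i))) ((Bool.rec (motive := fun _ => Nat) (nd2537 i) (nd2538 i) (Nat.ble 28672 i))) (Nat.ble 24576 i))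
noncomputable def nd2540 (i : Nat) : Nat := (Bool.rec (motive := fun _ => Nat) ((Bool.rec (motive := fun _ => Nat) (nl6035 i) (nl6036 i) (Nat.ble 33792 i))) ((Bool.rec (motive := fun _ => Nat) (nl6037 i) (nl6038 i) (Nat.ble 35840 i))) (Nat.ble 34816 i))
noncomputable def nd2541 (i : Nat) : Nat := (Bool.rec (motive := fun _ => Nat) ((Bool.rec (motive := fun _ => Nat) (nl6039 i) (nl6040 i) (Nat.ble 37888 i))) ((Bool.rec (motive := fun _ => Nat) (nl6041 i) (nl6042 i) (Nat.ble 39936 i))) (Nat.ble 38912 i))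
noncomputable def nd2542 (i : Nat) : Nat := (Bool.rec (motive := fun _ => Nat) ((Bool.rec (motive := fun _ => Nat) (nl6043 i) (nl6044 i) (Nat.ble 41984 i))) ((Bool.rec (motive := fun _ => Nat) (nl6045 i) (nl6046 i) (Nat.ble 44032 i))) (Nat.ble 43008 i))
noncomputable def nd2543 (i : Nat) : Nat := (Bool.rec (motive := fun _ => Nat) ((Bool.rec (motive := fun _ => Nat) (nl6047 i) (nl6048 i) (Nat.ble 46080 i))) ((Bool.rec (motive := fun _ => Nat) (nl6049 i) (nl6050 i) (Nat.ble 48128 i))) (Nat.ble 47104 i))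
noncomputable def nd2539 (i : Nat) : Nat := (Bool.rec (motive := fun _ => Nat) ((Bool.rec (motive := fun _ => Nat) (nd2540 i) (nd2541 i) (Nat.ble 36864 i))) ((Bool.rec (motive := fun _ => Nat) (nd2542 i) (nd2543 i) (Nat.ble 45056 i))) (Nat.ble 40960 i))
noncomputable def nd2545 (i : Nat) : Nat := (Bool.rec (motive := fun _ => Nat) ((Bool.rec (motive := fun _ => Nat) (nl6051 i) (nl6052 i) (Nat.ble 50176 i))) ((Bool.rec (motive := fun _ => Nat) (nl6053 i) (nl6054 i) (Nat.ble 52224 i))) (Nat.ble 51200 i))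
noncomputable def nd2546 (i : Nat) : Nat := (Bool.rec (motive := fun _ => Nat) ((Bool.rec (motive := fun _ => Nat) (nl6055 i) (nl6056 i) (Nat.ble 54272 i))) ((Bool.rec (motive := fun _ => Nat) (nl6057 i) (nl6058 i) (Nat.ble 56320 i))) (Nat.ble 55296 i))
noncomputable def nd2547 (i : Nat) : Nat := (Bool.rec (motive := fun _ => Nat) ((Bool.rec (motive := fun _ => Nat) (nl6059 i) (nl6060 i) (Nat.ble 58368 i))) ((Bool.rec (motive := fun _ => Nat) (nl6061 i) (nl6062 i) (Nat.ble 60416 i))) (Nat.ble 59392 i))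
noncomputable def nd2549 (i : Nat) : Nat := (Bool.rec (motive := fun _ => Nat) (nl6066 i) (nl6067 i) (Nat.ble 65536 i))
noncomputable def nd2548 (i : Nat) : Nat := (Bool.rec (motive := fun _ => Nat) ((Bool.rec (motive := fun _ => Nat) (nl6063 i) (nl6064 i) (Nat.ble 62464 i))) ((Bool.rec (motive := fun _ => Nat) (nl6065 i) (nd2549 i) (Nat.ble 64512 i))) (Nat.ble 63488 i))
noncomputable def nd2544 (i : Nat) : Nat := (Bool.rec (motive := fun _ => Nat) ((Bool.rec (motive := fun _ => Nat) (nd2545 i) (nd2546 i) (Nat.ble 53248 i))) ((Bool.rec (motive := fun _ => Nat) (nd2547 i) (nd2548 i) (Nat.ble 61440 i))) (Nat.ble 57344 i))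
noncomputable def nd2528 (i : Nat) : Nat := (Bool.rec (motive := fun _ => Nat) ((Bool.rec (motive := fun _ => Nat) (nd2529 i) (nd2534 i) (Nat.ble 16384 i))) ((Bool.rec (motive := fun _ => Nat) (nd2539 i) (nd2544 i) (Nat.ble 49152 i))) (Nat.ble 32768 i))
noncomputable def nd2552 (i : Nat) : Nat := (Bool.rec (motive := fun _ => Nat) ((Bool.rec (motive := fun _ => Nat) (nl6068 i) (nl6069 i) (Nat.ble 67584 i))) ((Bool.rec (motive := fun _ => Nat) (nl6070 i) (nl6071 i) (Nat.ble 69632 i))) (Nat.ble 68608 i))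
noncomputable def nd2553 (i : Nat) : Nat := (Bool.rec (motive := fun _ => Nat) ((Bool.rec (motive := fun _ => Nat) (nl6072 i) (nl6073 i) (Nat.ble 71680 i))) ((Bool.rec (motive := fun _ => Nat) (nl6074 i) (nl6075 i) (Nat.ble 73728 i))) (Nat.ble 72704 i))
noncomputable def nd2554 (i : Nat) : Nat := (Bool.rec (motive := fun _ => Nat) ((Bool.rec (motive := fun _ => Nat) (nl6076 i) (nl6077 i) (Nat.ble 75776 i))) ((Bool.rec (motive := fun _ => Nat) (nl6078 i) (nl6079 i) (Nat.ble 77824 i))) (Nat.ble 76800 i))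
noncomputable def nd2555 (i : Nat) : Nat := (Bool.rec (motive := fun _ => Nat) ((Bool.rec (motive := fun _ => Nat) (nl6080 i) (nl6081 i) (Nat.ble 79872 i))) ((Bool.rec (motive := fun _ => Nat) (nl6082 i) (nl6083 i) (Nat.ble 81920 i))) (Nat.ble 80896 i))
noncomputable def nd2551 (i : Nat) : Nat := (Bool.rec (motive := fun _ => Nat) ((Bool.rec (motive := fun _ => Nat) (nd2552 i) (nd2553 i) (Nat.ble 70656 i))) ((Bool.rec (motive := fun _ => Nat) (nd2554 i) (nd2555 i) (Nat.ble 78848 i))) (Nat.ble 74752 i))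
noncomputable def nd2557 (i : Nat) : Nat := (Bool.rec (motive := fun _ => Nat) ((Bool.rec (motive := fun _ => Nat) (nl6084 i) (nl6085 i) (Nat.ble 83968 i))) ((Bool.rec (motive := fun _ => Nat) (nl6086 i) (nl6087 i) (Nat.ble 86016 i))) (Nat.ble 84992 i))
noncomputable def nd2558 (i : Nat) : Nat := (Bool.rec (motive := fun _ => Nat) ((Bool.rec (motive := fun _ => Nat) (nl6088 i) (nl6089 i) (Nat.ble 88064 i))) ((Bool.rec (motive := fun _ => Nat) (nl6090 i) (nl6091 i) (Nat.ble 90112 i))) (Nat.ble 89088 i))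
noncomputable def nd2559 (i : Nat) : Nat := (Bool.rec (motive := fun _ => Nat) ((Bool.rec (motive := fun _ => Nat) (nl6092 i) (nl6093 i) (Nat.ble 92160 i))) ((Bool.rec (motive := fun _ => Nat) (nl6094 i) (nl6095 i) (Nat.ble 94208 i))) (Nat.ble 93184 i))
noncomputable def nd2560 (i : Nat) : Nat := (Bool.rec (motive := fun _ => Nat) ((Bool.rec (motive := fun _ => Nat) (nl6096 i) (nl6097 i) (Nat.ble 96256 i))) ((Bool.rec (motive := fun _ => Nat) (nl6098 i) (nl6099 i) (Nat.ble 98304 i))) (Nat.ble 97280 i))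
noncomputable def nd2556 (i : Nat) : Nat := (Bool.rec (motive := fun _ => Nat) ((Bool.rec (motive := fun _ => Nat) (nd2557 i) (nd2558 i) (Nat.ble 87040 i))) ((Bool.rec (motive := fun _ => Nat) (nd2559 i) (nd2560 i) (Nat.ble 95232 i))) (Nat.ble 91136 i))
noncomputable def nd2562 (i : Nat) : Nat := (Bool.rec (motive := fun _ => Nat) ((Bool.rec (motive := fun _ => Nat) (nl6100 i) (nl6101 i) (Nat.ble 100352 i))) ((Bool.rec (motive := fun _ => Nat) (nl6102 i) (nl6103 i) (Nat.ble 102400 i))) (Nat.ble 101376 i))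
noncomputable def nd2563 (i : Nat) : Nat := (Bool.rec (motive := fun _ => Nat) ((Bool.rec (motive := fun _ => Nat) (nl6104 i) (nl6105 i) (Nat.ble 104448 i))) ((Bool.rec (motive := fun _ => Nat) (nl6106 i) (nl6107 i) (Nat.ble 106496 i))) (Nat.ble 105472 i))
noncomputable def nd2564 (i : Nat) : Nat := (Bool.rec (motive := fun _ => Nat) ((Bool.rec (motive := fun _ => Nat) (nl6108 i) (nl6109 i) (Nat.ble 108544 i))) ((Bool.rec (motive := fun _ => Nat) (nl6110 i) (nl6111 i) (Nat.ble 110592 i))) (Nat.ble 109568 i))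
noncomputable def nd2565 (i : Nat) : Nat := (Bool.rec (motive := fun _ => Nat) ((Bool.rec (motive := fun _ => Nat) (nl6112 i) (nl6113 i) (Nat.ble 112640 i))) ((Bool.rec (motive := fun _ => Nat) (nl6114 i) (nl6115 i) (Nat.ble 114688 i))) (Nat.ble 113664 i))
noncomputable def nd2561 (i : Nat) : Nat := (Bool.rec (motive := fun _ => Nat) ((Bool.rec (motive := fun _ => Nat) (nd2562 i) (nd2563 i) (Nat.ble 103424 i))) ((Bool.rec (motive := fun _ => Nat) (nd2564 i) (nd2565 i) (Nat.ble 111616 i))) (Nat.ble 107520 i))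
noncomputable def nd2567 (i : Nat) : Nat := (Bool.rec (motive := fun _ => Nat) ((Bool.rec (motive := fun _ => Nat) (nl6116 i) (nl6117 i) (Nat.ble 116736 i))) ((Bool.rec (motive := fun _ => Nat) (nl6118 i) (nl6119 i) (Nat.ble 118784 i))) (Nat.ble 117760 i))
noncomputable def nd2568 (i : Nat) : Nat := (Bool.rec (motive := fun _ => Nat) ((Bool.rec (motive := fun _ => Nat) (nl6120 i) (nl6121 i) (Nat.ble 120832 i))) ((Bool.rec (motive := fun _ => Nat) (nl6122 i) (nl6123 i) (Nat.ble 122880 i))) (Nat.ble 121856 i))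
noncomputable def nd2569 (i : Nat) : Nat := (Bool.rec (motive := fun _ => Nat) ((Bool.rec (motive := fun _ => Nat) (nl6124 i) (nl6125 i) (Nat.ble 124928 i))) ((Bool.rec (motive := fun _ => Nat) (nl6126 i) (nl6127 i) (Nat.ble 126976 i))) (Nat.ble 125952 i))
noncomputable def nd2571 (i : Nat) : Nat := (Bool.rec (motive := fun _ => Nat) (nl6131 i) (nl6132 i) (Nat.ble 132096 i))
noncomputable def nd2570 (i : Nat) : Nat := (Bool.rec (motive := fun _ => Nat) ((Bool.rec (motive := fun _ => Nat) (nl6128 i) (nl6129 i) (Nat.ble 129024 i))) ((Bool.rec (motive := fun _ => Nat) (nl6130 i) (nd2571 i) (Nat.ble 131072 i))) (Nat.ble 130048 i))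
noncomputable def nd2566 (i : Nat) : Nat := (Bool.rec (motive := fun _ => Nat) ((Bool.rec (motive := fun _ => Nat) (nd2567 i) (nd2568 i) (Nat.ble 119808 i))) ((Bool.rec (motive := fun _ => Nat) (nd2569 i) (nd2570 i) (Nat.ble 128000 i))) (Nat.ble 123904 i))
noncomputable def nd2550 (i : Nat) : Nat := (Bool.rec (motive := fun _ => Nat) ((Bool.rec (motive := fun _ => Nat) (nd2551 i) (nd2556 i) (Nat.ble 82944 i))) ((Bool.rec (motive := fun _ => Nat) (nd2561 i) (nd2566 i) (Nat.ble 115712 i))) (Nat.ble 99328 i))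
noncomputable def nd2574 (i : Nat) : Nat := (Bool.rec (motive := fun _ => Nat) ((Bool.rec (motive := fun _ => Nat) (nl6133 i) (nl6134 i) (Nat.ble 134144 i))) ((Bool.rec (motive := fun _ => Nat) (nl6135 i) (nl6136 i) (Nat.ble 136192 i))) (Nat.ble 135168 i))
noncomputable def nd2575 (i : Nat) : Nat := (Bool.rec (motive := fun _ => Nat) ((Bool.rec (motive := fun _ => Nat) (nl6137 i) (nl6138 i) (Nat.ble 138240 i))) ((Bool.rec (motive := fun _ => Nat) (nl6139 i) (nl6140 i) (Nat.ble 140288 i))) (Nat.ble 139264 i))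
noncomputable def nd2576 (i : Nat) : Nat := (Bool.rec (motive := fun _ => Nat) ((Bool.rec (motive := fun _ => Nat) (nl6141 i) (nl6142 i) (Nat.ble 142336 i))) ((Bool.rec (motive := fun _ => Nat) (nl6143 i) (nl6144 i) (Nat.ble 144384 i))) (Nat.ble 143360 i))
noncomputable def nd2577 (i : Nat) : Nat := (Bool.rec (motive := fun _ => Nat) ((Bool.rec (motive := fun _ => Nat) (nl6145 i) (nl6146 i) (Nat.ble 146432 i))) ((Bool.rec (motive := fun _ => Nat) (nl6147 i) (nl6148 i) (Nat.ble 148480 i))) (Nat.ble 147456 i))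
noncomputable def nd2573 (i : Nat) : Nat := (Bool.rec (motive := fun _ => Nat) ((Bool.rec (motive := fun _ => Nat) (nd2574 i) (nd2575 i) (Nat.ble 137216 i))) ((Bool.rec (motive := fun _ => Nat) (nd2576 i) (nd2577 i) (Nat.ble 145408 i))) (Nat.ble 141312 i))
noncomputable def nd2579 (i : Nat) : Nat := (Bool.rec (motive := fun _ => Nat) ((Bool.rec (motive := fun _ => Nat) (nl6149 i) (nl6150 i) (Nat.ble 150528 i))) ((Bool.rec (motive := fun _ => Nat) (nl6151 i) (nl6152 i) (Nat.ble 152576 i))) (Nat.ble 151552 i))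
noncomputable def nd2580 (i : Nat) : Nat := (Bool.rec (motive := fun _ => Nat) ((Bool.rec (motive := fun _ => Nat) (nl6153 i) (nl6154 i) (Nat.ble 154624 i))) ((Bool.rec (motive := fun _ => Nat) (nl6155 i) (nl6156 i) (Nat.ble 156672 i))) (Nat.ble 155648 i))
noncomputable def nd2581 (i : Nat) : Nat := (Bool.rec (motive := fun _ => Nat) ((Bool.rec (motive := fun _ => Nat) (nl6157 i) (nl6158 i) (Nat.ble 158720 i))) ((Bool.rec (motive := fun _ => Nat) (nl6159 i) (nl6160 i) (Nat.ble 160768 i))) (Nat.ble 159744 i))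
noncomputable def nd2582 (i : Nat) : Nat := (Bool.rec (motive := fun _ => Nat) ((Bool.rec (motive := fun _ => Nat) (nl6161 i) (nl6162 i) (Nat.ble 162816 i))) ((Bool.rec (motive := fun _ => Nat) (nl6163 i) (nl6164 i) (Nat.ble 164864 i))) (Nat.ble 163840 i))
noncomputable def nd2578 (i : Nat) : Nat := (Bool.rec (motive := fun _ => Nat) ((Bool.rec (motive := fun _ => Nat) (nd2579 i) (nd2580 i) (Nat.ble 153600 i))) ((Bool.rec (motive := fun _ => Nat) (nd2581 i) (nd2582 i) (Nat.ble 161792 i))) (Nat.ble 157696 i))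
noncomputable def nd2584 (i : Nat) : Nat := (Bool.rec (motive := fun _ => Nat) ((Bool.rec (motive := fun _ => Nat) (nl6165 i) (nl6166 i) (Nat.ble 166912 i))) ((Bool.rec (motive := fun _ => Nat) (nl6167 i) (nl6168 i) (Nat.ble 168960 i))) (Nat.ble 167936 i))
noncomputable def nd2585 (i : Nat) : Nat := (Bool.rec (motive := fun _ => Nat) ((Bool.rec (motive := fun _ => Nat) (nl6169 i) (nl6170 i) (Nat.ble 171008 i))) ((Bool.rec (motive := fun _ => Nat) (nl6171 i) (nl6172 i) (Nat.ble 173056 i))) (Nat.ble 172032 i))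
noncomputable def nd2586 (i : Nat) : Nat := (Bool.rec (motive := fun _ => Nat) ((Bool.rec (motive := fun _ => Nat) (nl6173 i) (nl6174 i) (Nat.ble 175104 i))) ((Bool.rec (motive := fun _ => Nat) (nl6175 i) (nl6176 i) (Nat.ble 177152 i))) (Nat.ble 176128 i))
noncomputable def nd2587 (i : Nat) : Nat := (Bool.rec (motive := fun _ => Nat) ((Bool.rec (motive := fun _ => Nat) (nl6177 i) (nl6178 i) (Nat.ble 179200 i))) ((Bool.rec (motive := fun _ => Nat) (nl6179 i) (nl6180 i) (Nat.ble 181248 i))) (Nat.ble 180224 i))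
noncomputable def nd2583 (i : Nat) : Nat := (Bool.rec (motive := fun _ => Nat) ((Bool.rec (motive := fun _ => Nat) (nd2584 i) (nd2585 i) (Nat.ble 169984 i))) ((Bool.rec (motive := fun _ => Nat) (nd2586 i) (nd2587 i) (Nat.ble 178176 i))) (Nat.ble 174080 i))
noncomputable def nd2589 (i : Nat) : Nat := (Bool.rec (motive := fun _ => Nat) ((Bool.rec (motive := fun _ => Nat) (nl6181 i) (nl6182 i) (Nat.ble 183296 i))) ((Bool.rec (motive := fun _ => Nat) (nl6183 i) (nl6184 i) (Nat.ble 185344 i))) (Nat.ble 184320 i))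
noncomputable def nd2590 (i : Nat) : Nat := (Bool.rec (motive := fun _ => Nat) ((Bool.rec (motive := fun _ => Nat) (nl6185 i) (nl6186 i) (Nat.ble 187392 i))) ((Bool.rec (motive := fun _ => Nat) (nl6187 i) (nl6188 i) (Nat.ble 189440 i))) (Nat.ble 188416 i))
noncomputable def nd2591 (i : Nat) : Nat := (Bool.rec (motive := fun _ => Nat) ((Bool.rec (motive := fun _ => Nat) (nl6189 i) (nl6190 i) (Nat.ble 191488 i))) ((Bool.rec (motive := fun _ => Nat) (nl6191 i) (nl6192 i) (Nat.ble 193536 i))) (Nat.ble 192512 i))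
noncomputable def nd2593 (i : Nat) : Nat := (Bool.rec (motive := fun _ => Nat) (nl6196 i) (nl6197 i) (Nat.ble 198656 i))
noncomputable def nd2592 (i : Nat) : Nat := (Bool.rec (motive := fun _ => Nat) ((Bool.rec (motive := fun _ => Nat) (nl6193 i) (nl6194 i) (Nat.ble 195584 i))) ((Bool.rec (motive := fun _ => Nat) (nl6195 i) (nd2593 i) (Nat.ble 197632 i))) (Nat.ble 196608 i))
noncomputable def nd2588 (i : Nat) : Nat := (Bool.rec (motive := fun _ => Nat) ((Bool.rec (motive := fun _ => Nat) (nd2589 i) (nd2590 i) (Nat.ble 186368 i))) ((Bool.rec (motive := fun _ => Nat) (nd2591 i) (nd2592 i) (Nat.ble 194560 i))) (Nat.ble 190464 i))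
noncomputable def nd2572 (i : Nat) : Nat := (Bool.rec (motive := fun _ => Nat) ((Bool.rec (motive := fun _ => Nat) (nd2573 i) (nd2578 i) (Nat.ble 149504 i))) ((Bool.rec (motive := fun _ => Nat) (nd2583 i) (nd2588 i) (Nat.ble 182272 i))) (Nat.ble 165888 i))
noncomputable def nd2596 (i : Nat) : Nat := (Bool.rec (motive := fun _ => Nat) ((Bool.rec (motive := fun _ => Nat) (nl6198 i) (nl6199 i) (Nat.ble 200704 i))) ((Bool.rec (motive := fun _ => Nat) (nl6200 i) (nl6201 i) (Nat.ble 202752 i))) (Nat.ble 201728 i))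
noncomputable def nd2597 (i : Nat) : Nat := (Bool.rec (motive := fun _ => Nat) ((Bool.rec (motive := fun _ => Nat) (nl6202 i) (nl6203 i) (Nat.ble 204800 i))) ((Bool.rec (motive := fun _ => Nat) (nl6204 i) (nl6205 i) (Nat.ble 206848 i))) (Nat.ble 205824 i))
noncomputable def nd2598 (i : Nat) : Nat := (Bool.rec (motive := fun _ => Nat) ((Bool.rec (motive := fun _ => Nat) (nl6206 i) (nl6207 i) (Nat.ble 208896 i))) ((Bool.rec (motive := fun _ => Nat) (nl6208 i) (nl6209 i) (Nat.ble 210944 i))) (Nat.ble 209920 i))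
noncomputable def nd2599 (i : Nat) : Nat := (Bool.rec (motive := fun _ => Nat) ((Bool.rec (motive := fun _ => Nat) (nl6210 i) (nl6211 i) (Nat.ble 212992 i))) ((Bool.rec (motive := fun _ => Nat) (nl6212 i) (nl6213 i) (Nat.ble 215040 i))) (Nat.ble 214016 i))
noncomputable def nd2595 (i : Nat) : Nat := (Bool.rec (motive := fun _ => Nat) ((Bool.rec (motive := fun _ => Nat) (nd2596 i) (nd2597 i) (Nat.ble 203776 i))) ((Bool.rec (motive := fun _ => Nat) (nd2598 i) (nd2599 i) (Nat.ble 211968 i))) (Nat.ble 207872 i))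
noncomputable def nd2601 (i : Nat) : Nat := (Bool.rec (motive := fun _ => Nat) ((Bool.rec (motive := fun _ => Nat) (nl6214 i) (nl6215 i) (Nat.ble 217088 i))) ((Bool.rec (motive := fun _ => Nat) (nl6216 i) (nl6217 i) (Nat.ble 219136 i))) (Nat.ble 218112 i))
noncomputable def nd2602 (i : Nat) : Nat := (Bool.rec (motive := fun _ => Nat) ((Bool.rec (motive := fun _ => Nat) (nl6218 i) (nl6219 i) (Nat.ble 221184 i))) ((Bool.rec (motive := fun _ => Nat) (nl6220 i) (nl6221 i) (Nat.ble 223232 i))) (Nat.ble 222208 i))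
noncomputable def nd2603 (i : Nat) : Nat := (Bool.rec (motive := fun _ => Nat) ((Bool.rec (motive := fun _ => Nat) (nl6222 i) (nl6223 i) (Nat.ble 225280 i))) ((Bool.rec (motive := fun _ => Nat) (nl6224 i) (nl6225 i) (Nat.ble 227328 i))) (Nat.ble 226304 i))
noncomputable def nd2605 (i : Nat) : Nat := (Bool.rec (motive := fun _ => Nat) (nl6229 i) (nl6230 i) (Nat.ble 232448 i))
noncomputable def nd2604 (i : Nat) : Nat := (Bool.rec (motive := fun _ => Nat) ((Bool.rec (motive := fun _ => Nat) (nl6226 i) (nl6227 i) (Nat.ble 229376 i))) ((Bool.rec (motive := fun _ => Nat) (nl6228 i) (nd2605 i) (Nat.ble 231424 i))) (Nat.ble 230400 i))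
noncomputable def nd2600 (i : Nat) : Nat := (Bool.rec (motive := fun _ => Nat) ((Bool.rec (motive := fun _ => Nat) (nd2601 i) (nd2602 i) (Nat.ble 220160 i))) ((Bool.rec (motive := fun _ => Nat) (nd2603 i) (nd2604 i) (Nat.ble 228352 i))) (Nat.ble 224256 i))
noncomputable def nd2607 (i : Nat) : Nat := (Bool.rec (motive := fun _ => Nat) ((Bool.rec (motive := fun _ => Nat) (nl6231 i) (nl6232 i) (Nat.ble 234496 i))) ((Bool.rec (motive := fun _ => Nat) (nl6233 i) (nl6234 i) (Nat.ble 236544 i))) (Nat.ble 235520 i))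
noncomputable def nd2608 (i : Nat) : Nat := (Bool.rec (motive := fun _ => Nat) ((Bool.rec (motive := fun _ => Nat) (nl6235 i) (nl6236 i) (Nat.ble 238592 i))) ((Bool.rec (motive := fun _ => Nat) (nl6237 i) (nl6238 i) (Nat.ble 240640 i))) (Nat.ble 239616 i))
noncomputable def nd2609 (i : Nat) : Nat := (Bool.rec (motive := fun _ => Nat) ((Bool.rec (motive := fun _ => Nat) (nl6239 i) (nl6240 i) (Nat.ble 242688 i))) ((Bool.rec (motive := fun _ => Nat) (nl6241 i) (nl6242 i) (Nat.ble 244736 i))) (Nat.ble 243712 i))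
noncomputable def nd2610 (i : Nat) : Nat := (Bool.rec (motive := fun _ => Nat) ((Bool.rec (motive := fun _ => Nat) (nl6243 i) (nl6244 i) (Nat.ble 246784 i))) ((Bool.rec (motive := fun _ => Nat) (nl6245 i) (nl6246 i) (Nat.ble 248832 i))) (Nat.ble 247808 i))
noncomputable def nd2606 (i : Nat) : Nat := (Bool.rec (motive := fun _ => Nat) ((Bool.rec (motive := fun _ => Nat) (nd2607 i) (nd2608 i) (Nat.ble 237568 i))) ((Bool.rec (motive := fun _ => Nat) (nd2609 i) (nd2610 i) (Nat.ble 245760 i))) (Nat.ble 241664 i))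
noncomputable def nd2612 (i : Nat) : Nat := (Bool.rec (motive := fun _ => Nat) ((Bool.rec (motive := fun _ => Nat) (nl6247 i) (nl6248 i) (Nat.ble 250880 i))) ((Bool.rec (motive := fun _ => Nat) (nl6249 i) (nl6250 i) (Nat.ble 252928 i))) (Nat.ble 251904 i))
noncomputable def nd2613 (i : Nat) : Nat := (Bool.rec (motive := fun _ => Nat) ((Bool.rec (motive := fun _ => Nat) (nl6251 i) (nl6252 i) (Nat.ble 254976 i))) ((Bool.rec (motive := fun _ => Nat) (nl6253 i) (nl6254 i) (Nat.ble 257024 i))) (Nat.ble 256000 i))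
noncomputable def nd2614 (i : Nat) : Nat := (Bool.rec (motive := fun _ => Nat) ((Bool.rec (motive := fun _ => Nat) (nl6255 i) (nl6256 i) (Nat.ble 259072 i))) ((Bool.rec (motive := fun _ => Nat) (nl6257 i) (nl6258 i) (Nat.ble 261120 i))) (Nat.ble 260096 i))
noncomputable def nd2616 (i : Nat) : Nat := (Bool.rec (motive := fun _ => Nat) (nl6262 i) (nl6263 i) (Nat.ble 266240 i))
noncomputable def nd2615 (i : Nat) : Nat := (Bool.rec (motive := fun _ => Nat) ((Bool.rec (motive := fun _ => Nat) (nl6259 i) (nl6260 i) (Nat.ble 263168 i))) ((Bool.rec (motive := fun _ => Nat) (nl6261 i) (nd2616 i) (Nat.ble 265216 i))) (Nat.ble 264192 i))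
noncomputable def nd2611 (i : Nat) : Nat := (Bool.rec (motive := fun _ => Nat) ((Bool.rec (motive := fun _ => Nat) (nd2612 i) (nd2613 i) (Nat.ble 253952 i))) ((Bool.rec (motive := fun _ => Nat) (nd2614 i) (nd2615 i) (Nat.ble 262144 i))) (Nat.ble 258048 i))
noncomputable def nd2594 (i : Nat) : Nat := (Bool.rec (motive := fun _ => Nat) ((Bool.rec (motive := fun _ => Nat) (nd2595 i) (nd2600 i) (Nat.ble 216064 i))) ((Bool.rec (motive := fun _ => Nat) (nd2606 i) (nd2611 i) (Nat.ble 249856 i))) (Nat.ble 233472 i))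
noncomputable def nd2527 (i : Nat) : Nat := (Bool.rec (motive := fun _ => Nat) ((Bool.rec (motive := fun _ => Nat) (nd2528 i) (nd2550 i) (Nat.ble 66560 i))) ((Bool.rec (motive := fun _ => Nat) (nd2572 i) (nd2594 i) (Nat.ble 199680 i))) (Nat.ble 133120 i))
noncomputable def nd2620 (i : Nat) : Nat := (Bool.rec (motive := fun _ => Nat) ((Bool.rec (motive := fun _ => Nat) (nl6264 i) (nl6265 i) (Nat.ble 1024 i))) ((Bool.rec (motive := fun _ => Nat) (nl6266 i) (nl6267 i) (Nat.ble 3072 i))) (Nat.ble 2048 i))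
noncomputable def nd2621 (i : Nat) : Nat := (Bool.rec (motive := fun _ => Nat) ((Bool.rec (motive := fun _ => Nat) (nl6268 i) (nl6269 i) (Nat.ble 5120 i))) ((Bool.rec (motive := fun _ => Nat) (nl6270 i) (nl6271 i) (Nat.ble 7168 i))) (Nat.ble 6144 i))
noncomputable def nd2622 (i : Nat) : Nat := (Bool.rec (motive := fun _ => Nat) ((Bool.rec (motive := fun _ => Nat) (nl6272 i) (nl6273 i) (Nat.ble 9216 i))) ((Bool.rec (motive := fun _ => Nat) (nl6274 i) (nl6275 i) (Nat.ble 11264 i))) (Nat.ble 10240 i))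
noncomputable def nd2623 (i : Nat) : Nat := (Bool.rec (motive := fun _ => Nat) ((Bool.rec (motive := fun _ => Nat) (nl6276 i) (nl6277 i) (Nat.ble 13312 i))) ((Bool.rec (motive := fun _ => Nat) (nl6278 i) (nl6279 i) (Nat.ble 15360 i))) (Nat.ble 14336 i))
noncomputable def nd2619 (i : Nat) : Nat := (Bool.rec (motive := fun _ => Nat) ((Bool.rec (motive := fun _ => Nat) (nd2620 i) (nd2621 i) (Nat.ble 4096 i))) ((Bool.rec (motive := fun _ => Nat) (nd2622 i) (nd2623 i) (Nat.ble 12288 i))) (Nat.ble 8192 i))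
noncomputable def nd2625 (i : Nat) : Nat := (Bool.rec (motive := fun _ => Nat) ((Bool.rec (motive := fun _ => Nat) (nl6280 i) (nl6281 i) (Nat.ble 17408 i))) ((Bool.rec (motive := fun _ => Nat) (nl6282 i) (nl6283 i) (Nat.ble 19456 i))) (Nat.ble 18432 i))
noncomputable def nd2626 (i : Nat) : Nat := (Bool.rec (motive := fun _ => Nat) ((Bool.rec (motive := fun _ => Nat) (nl6284 i) (nl6285 i) (Nat.ble 21504 i))) ((Bool.rec (motive := fun _ => Nat) (nl6286 i) (nl6287 i) (Nat.ble 23552 i))) (Nat.ble 22528 i))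
noncomputable def nd2627 (i : Nat) : Nat := (Bool.rec (motive := fun _ => Nat) ((Bool.rec (motive := fun _ => Nat) (nl6288 i) (nl6289 i) (Nat.ble 25600 i))) ((Bool.rec (motive := fun _ => Nat) (nl6290 i) (nl6291 i) (Nat.ble 27648 i))) (Nat.ble 26624 i))
noncomputable def nd2628 (i : Nat) : Nat := (Bool.rec (motive := fun _ => Nat) ((Bool.rec (motive := fun _ => Nat) (nl6292 i) (nl6293 i) (Nat.ble 29696 i))) ((Bool.rec (motive := fun _ => Nat) (nl6294 i) (nl6295 i) (Nat.ble 31744 i))) (Nat.ble 30720 i))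
noncomputable def nd2624 (i : Nat) : Nat := (Bool.rec (motive := fun _ => Nat) ((Bool.rec (motive := fun _ => Nat) (nd2625 i) (nd2626 i) (Nat.ble 20480 i))) ((Bool.rec (motive := fun _ => Nat) (nd2627 i) (nd2628 i) (Nat.ble 28672 i))) (Nat.ble 24576 i))
noncomputable def nd2630 (i : Nat) : Nat := (Bool.rec (motive := fun _ => Nat) ((Bool.rec (motive := fun _ => Nat) (nl6296 i) (nl6297 i) (Nat.ble 33792 i))) ((Bool.rec (motive := fun _ => Nat) (nl6298 i) (nl6299 i) (Nat.ble 35840 i))) (Nat.ble 34816 i))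
noncomputable def nd2631 (i : Nat) : Nat := (Bool.rec (motive := fun _ => Nat) ((Bool.rec (motive := fun _ => Nat) (nl6300 i) (nl6301 i) (Nat.ble 37888 i))) ((Bool.rec (motive := fun _ => Nat) (nl6302 i) (nl6303 i) (Nat.ble 39936 i))) (Nat.ble 38912 i))
noncomputable def nd2632 (i : Nat) : Nat := (Bool.rec (motive := fun _ => Nat) ((Bool.rec (motive := fun _ => Nat) (nl6304 i) (nl6305 i) (Nat.ble 41984 i))) ((Bool.rec (motive := fun _ => Nat) (nl6306 i) (nl6307 i) (Nat.ble 44032 i))) (Nat.ble 43008 i))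
noncomputable def nd2633 (i : Nat) : Nat := (Bool.rec (motive := fun _ => Nat) ((Bool.rec (motive := fun _ => Nat) (nl6308 i) (nl6309 i) (Nat.ble 46080 i))) ((Bool.rec (motive := fun _ => Nat) (nl6310 i) (nl6311 i) (Nat.ble 48128 i))) (Nat.ble 47104 i))
noncomputable def nd2629 (i : Nat) : Nat := (Bool.rec (motive := fun _ => Nat) ((Bool.rec (motive := fun _ => Nat) (nd2630 i) (nd2631 i) (Nat.ble 36864 i))) ((Bool.rec (motive := fun _ => Nat) (nd2632 i) (nd2633 i) (Nat.ble 45056 i))) (Nat.ble 40960 i))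
noncomputable def nd2635 (i : Nat) : Nat := (Bool.rec (motive := fun _ => Nat) ((Bool.rec (motive := fun _ => Nat) (nl6312 i) (nl6313 i) (Nat.ble 50176 i))) ((Bool.rec (motive := fun _ => Nat) (nl6314 i) (nl6315 i) (Nat.ble 52224 i))) (Nat.ble 51200 i))
noncomputable def nd2636 (i : Nat) : Nat := (Bool.rec (motive := fun _ => Nat) ((Bool.rec (motive := fun _ => Nat) (nl6316 i) (nl6317 i) (Nat.ble 54272 i))) ((Bool.rec (motive := fun _ => Nat) (nl6318 i) (nl6319 i) (Nat.ble 56320 i))) (Nat.ble 55296 i))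
noncomputable def nd2637 (i : Nat) : Nat := (Bool.rec (motive := fun _ => Nat) ((Bool.rec (motive := fun _ => Nat) (nl6320 i) (nl6321 i) (Nat.ble 58368 i))) ((Bool.rec (motive := fun _ => Nat) (nl6322 i) (nl6323 i) (Nat.ble 60416 i))) (Nat.ble 59392 i))
noncomputable def nd2639 (i : Nat) : Nat := (Bool.rec (motive := fun _ => Nat) (nl6327 i) (nl6328 i) (Nat.ble 65536 i))
noncomputable def nd2638 (i : Nat) : Nat := (Bool.rec (motive := fun _ => Nat) ((Bool.rec (motive := fun _ => Nat) (nl6324 i) (nl6325 i) (Nat.ble 62464 i))) ((Bool.rec (motive := fun _ => Nat) (nl6326 i) (nd2639 i) (Nat.ble 64512 i))) (Nat.ble 63488 i))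
noncomputable def nd2634 (i : Nat) : Nat := (Bool.rec (motive := fun _ => Nat) ((Bool.rec (motive := fun _ => Nat) (nd2635 i) (nd2636 i) (Nat.ble 53248 i))) ((Bool.rec (motive := fun _ => Nat) (nd2637 i) (nd2638 i) (Nat.ble 61440 i))) (Nat.ble 57344 i))
noncomputable def nd2618 (i : Nat) : Nat := (Bool.rec (motive := fun _ => Nat) ((Bool.rec (motive := fun _ => Nat) (nd2619 i) (nd2624 i) (Nat.ble 16384 i))) ((Bool.rec (motive := fun _ => Nat) (nd2629 i) (nd2634 i) (Nat.ble 49152 i))) (Nat.ble 32768 i))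
noncomputable def nd2642 (i : Nat) : Nat := (Bool.rec (motive := fun _ => Nat) ((Bool.rec (motive := fun _ => Nat) (nl6329 i) (nl6330 i) (Nat.ble 67584 i))) ((Bool.rec (motive := fun _ => Nat) (nl6331 i) (nl6332 i) (Nat.ble 69632 i))) (Nat.ble 68608 i))
noncomputable def nd2643 (i : Nat) : Nat := (Bool.rec (motive := fun _ => Nat) ((Bool.rec (motive := fun _ => Nat) (nl6333 i) (nl6334 i) (Nat.ble 71680 i))) ((Bool.rec (motive := fun _ => Nat) (nl6335 i) (nl6336 i) (Nat.ble 73728 i))) (Nat.ble 72704 i))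
noncomputable def nd2644 (i : Nat) : Nat := (Bool.rec (motive := fun _ => Nat) ((Bool.rec (motive := fun _ => Nat) (nl6337 i) (nl6338 i) (Nat.ble 75776 i))) ((Bool.rec (motive := fun _ => Nat) (nl6339 i) (nl6340 i) (Nat.ble 77824 i))) (Nat.ble 76800 i))
noncomputable def nd2645 (i : Nat) : Nat := (Bool.rec (motive := fun _ => Nat) ((Bool.rec (motive := fun _ => Nat) (nl6341 i) (nl6342 i) (Nat.ble 79872 i))) ((Bool.rec (motive := fun _ => Nat) (nl6343 i) (nl6344 i) (Nat.ble 81920 i))) (Nat.ble 80896 i))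
noncomputable def nd2641 (i : Nat) : Nat := (Bool.rec (motive := fun _ => Nat) ((Bool.rec (motive := fun _ => Nat) (nd2642 i) (nd2643 i) (Nat.ble 70656 i))) ((Bool.rec (motive := fun _ => Nat) (nd2644 i) (nd2645 i) (Nat.ble 78848 i))) (Nat.ble 74752 i))
noncomputable def nd2647 (i : Nat) : Nat := (Bool.rec (motive := fun _ => Nat) ((Bool.rec (motive := fun _ => Nat) (nl6345 i) (nl6346 i) (Nat.ble 83968 i))) ((Bool.rec (motive := fun _ => Nat) (nl6347 i) (nl6348 i) (Nat.ble 86016 i))) (Nat.ble 84992 i))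
noncomputable def nd2648 (i : Nat) : Nat := (Bool.rec (motive := fun _ => Nat) ((Bool.rec (motive := fun _ => Nat) (nl6349 i) (nl6350 i) (Nat.ble 88064 i))) ((Bool.rec (motive := fun _ => Nat) (nl6351 i) (nl6352 i) (Nat.ble 90112 i))) (Nat.ble 89088 i))
noncomputable def nd2649 (i : Nat) : Nat := (Bool.rec (motive := fun _ => Nat) ((Bool.rec (motive := fun _ => Nat) (nl6353 i) (nl6354 i) (Nat.ble 92160 i))) ((Bool.rec (motive := fun _ => Nat) (nl6355 i) (nl6356 i) (Nat.ble 94208 i))) (Nat.ble 93184 i))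
noncomputable def nd2650 (i : Nat) : Nat := (Bool.rec (motive := fun _ => Nat) ((Bool.rec (motive := fun _ => Nat) (nl6357 i) (nl6358 i) (Nat.ble 96256 i))) ((Bool.rec (motive := fun _ => Nat) (nl6359 i) (nl6360 i) (Nat.ble 98304 i))) (Nat.ble 97280 i))
noncomputable def nd2646 (i : Nat) : Nat := (Bool.rec (motive := fun _ => Nat) ((Bool.rec (motive := fun _ => Nat) (nd2647 i) (nd2648 i) (Nat.ble 87040 i))) ((Bool.rec (motive := fun _ => Nat) (nd2649 i) (nd2650 i) (Nat.ble 95232 i))) (Nat.ble 91136 i))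
noncomputable def nd2652 (i : Nat) : Nat := (Bool.rec (motive := fun _ => Nat) ((Bool.rec (motive := fun _ => Nat) (nl6361 i) (nl6362 i) (Nat.ble 100352 i))) ((Bool.rec (motive := fun _ => Nat) (nl6363 i) (nl6364 i) (Nat.ble 102400 i))) (Nat.ble 101376 i))
noncomputable def nd2653 (i : Nat) : Nat := (Bool.rec (motive := fun _ => Nat) ((Bool.rec (motive := fun _ => Nat) (nl6365 i) (nl6366 i) (Nat.ble 104448 i))) ((Bool.rec (motive := fun _ => Nat) (nl6367 i) (nl6368 i) (Nat.ble 106496 i))) (Nat.ble 105472 i))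
noncomputable def nd2654 (i : Nat) : Nat := (Bool.rec (motive := fun _ => Nat) ((Bool.rec (motive := fun _ => Nat) (nl6369 i) (nl6370 i) (Nat.ble 108544 i))) ((Bool.rec (motive := fun _ => Nat) (nl6371 i) (nl6372 i) (Nat.ble 110592 i))) (Nat.ble 109568 i))
noncomputable def nd2655 (i : Nat) : Nat := (Bool.rec (motive := fun _ => Nat) ((Bool.rec (motive := fun _ => Nat) (nl6373 i) (nl6374 i) (Nat.ble 112640 i))) ((Bool.rec (motive := fun _ => Nat) (nl6375 i) (nl6376 i) (Nat.ble 114688 i))) (Nat.ble 113664 i))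
noncomputable def nd2651 (i : Nat) : Nat := (Bool.rec (motive := fun _ => Nat) ((Bool.rec (motive := fun _ => Nat) (nd2652 i) (nd2653 i) (Nat.ble 103424 i))) ((Bool.rec (motive := fun _ => Nat) (nd2654 i) (nd2655 i) (Nat.ble 111616 i))) (Nat.ble 107520 i))
noncomputable def nd2657 (i : Nat) : Nat := (Bool.rec (motive := fun _ => Nat) ((Bool.rec (motive := fun _ => Nat) (nl6377 i) (nl6378 i) (Nat.ble 116736 i))) ((Bool.rec (motive := fun _ => Nat) (nl6379 i) (nl6380 i) (Nat.ble 118784 i))) (Nat.ble 117760 i))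
noncomputable def nd2658 (i : Nat) : Nat := (Bool.rec (motive := fun _ => Nat) ((Bool.rec (motive := fun _ => Nat) (nl6381 i) (nl6382 i) (Nat.ble 120832 i))) ((Bool.rec (motive := fun _ => Nat) (nl6383 i) (nl6384 i) (Nat.ble 122880 i))) (Nat.ble 121856 i))
noncomputable def nd2659 (i : Nat) : Nat := (Bool.rec (motive := fun _ => Nat) ((Bool.rec (motive := fun _ => Nat) (nl6385 i) (nl6386 i) (Nat.ble 124928 i))) ((Bool.rec (motive := fun _ => Nat) (nl6387 i) (nl6388 i) (Nat.ble 126976 i))) (Nat.ble 125952 i))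
noncomputable def nd2661 (i : Nat) : Nat := (Bool.rec (motive := fun _ => Nat) (nl6392 i) (nl6393 i) (Nat.ble 132096 i))
noncomputable def nd2660 (i : Nat) : Nat := (Bool.rec (motive := fun _ => Nat) ((Bool.rec (motive := fun _ => Nat) (nl6389 i) (nl6390 i) (Nat.ble 129024 i))) ((Bool.rec (motive := fun _ => Nat) (nl6391 i) (nd2661 i) (Nat.ble 131072 i))) (Nat.ble 130048 i))
noncomputable def nd2656 (i : Nat) : Nat := (Bool.rec (motive := fun _ => Nat) ((Bool.rec (motive := fun _ => Nat) (nd2657 i) (nd2658 i) (Nat.ble 119808 i))) ((Bool.rec (motive := fun _ => Nat) (nd2659 i) (nd2660 i) (Nat.ble 128000 i))) (Nat.ble 123904 i))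
noncomputable def nd2640 (i : Nat) : Nat := (Bool.rec (motive := fun _ => Nat) ((Bool.rec (motive := fun _ => Nat) (nd2641 i) (nd2646 i) (Nat.ble 82944 i))) ((Bool.rec (motive := fun _ => Nat) (nd2651 i) (nd2656 i) (Nat.ble 115712 i))) (Nat.ble 99328 i))
noncomputable def nd2664 (i : Nat) : Nat := (Bool.rec (motive := fun _ => Nat) ((Bool.rec (motive := fun _ => Nat) (nl6394 i) (nl6395 i) (Nat.ble 134144 i))) ((Bool.rec (motive := fun _ => Nat) (nl6396 i) (nl6397 i) (Nat.ble 136192 i))) (Nat.ble 135168 i))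
noncomputable def nd2665 (i : Nat) : Nat := (Bool.rec (motive := fun _ => Nat) ((Bool.rec (motive := fun _ => Nat) (nl6398 i) (nl6399 i) (Nat.ble 138240 i))) ((Bool.rec (motive := fun _ => Nat) (nl6400 i) (nl6401 i) (Nat.ble 140288 i))) (Nat.ble 139264 i))
noncomputable def nd2666 (i : Nat) : Nat := (Bool.rec (motive := fun _ => Nat) ((Bool.rec (motive := fun _ => Nat) (nl6402 i) (nl6403 i) (Nat.ble 142336 i))) ((Bool.rec (motive := fun _ => Nat) (nl6404 i) (nl6405 i) (Nat.ble 144384 i))) (Nat.ble 143360 i))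
noncomputable def nd2667 (i : Nat) : Nat := (Bool.rec (motive := fun _ => Nat) ((Bool.rec (motive := fun _ => Nat) (nl6406 i) (nl6407 i) (Nat.ble 146432 i))) ((Bool.rec (motive := fun _ => Nat) (nl6408 i) (nl6409 i) (Nat.ble 148480 i))) (Nat.ble 147456 i))
noncomputable def nd2663 (i : Nat) : Nat := (Bool.rec (motive := fun _ => Nat) ((Bool.rec (motive := fun _ => Nat) (nd2664 i) (nd2665 i) (Nat.ble 137216 i))) ((Bool.rec (motive := fun _ => Nat) (nd2666 i) (nd2667 i) (Nat.ble 145408 i))) (Nat.ble 141312 i))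
noncomputable def nd2669 (i : Nat) : Nat := (Bool.rec (motive := fun _ => Nat) ((Bool.rec (motive := fun _ => Nat) (nl6410 i) (nl6411 i) (Nat.ble 150528 i))) ((Bool.rec (motive := fun _ => Nat) (nl6412 i) (nl6413 i) (Nat.ble 152576 i))) (Nat.ble 151552 i))
noncomputable def nd2670 (i : Nat) : Nat := (Bool.rec (motive := fun _ => Nat) ((Bool.rec (motive := fun _ => Nat) (nl6414 i) (nl6415 i) (Nat.ble 154624 i))) ((Bool.rec (motive := fun _ => Nat) (nl6416 i) (nl6417 i) (Nat.ble 156672 i))) (Nat.ble 155648 i))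
noncomputable def nd2671 (i : Nat) : Nat := (Bool.rec (motive := fun _ => Nat) ((Bool.rec (motive := fun _ => Nat) (nl6418 i) (nl6419 i) (Nat.ble 158720 i))) ((Bool.rec (motive := fun _ => Nat) (nl6420 i) (nl6421 i) (Nat.ble 160768 i))) (Nat.ble 159744 i))
noncomputable def nd2672 (i : Nat) : Nat := (Bool.rec (motive := fun _ => Nat) ((Bool.rec (motive := fun _ => Nat) (nl6422 i) (nl6423 i) (Nat.ble 162816 i))) ((Bool.rec (motive := fun _ => Nat) (nl6424 i) (nl6425 i) (Nat.ble 164864 i))) (Nat.ble 163840 i))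
noncomputable def nd2668 (i : Nat) : Nat := (Bool.rec (motive := fun _ => Nat) ((Bool.rec (motive := fun _ => Nat) (nd2669 i) (nd2670 i) (Nat.ble 153600 i))) ((Bool.rec (motive := fun _ => Nat) (nd2671 i) (nd2672 i) (Nat.ble 161792 i))) (Nat.ble 157696 i))
noncomputable def nd2674 (i : Nat) : Nat := (Bool.rec (motive := fun _ => Nat) ((Bool.rec (motive := fun _ => Nat) (nl6426 i) (nl6427 i) (Nat.ble 166912 i))) ((Bool.rec (motive := fun _ => Nat) (nl6428 i) (nl6429 i) (Nat.ble 168960 i))) (Nat.ble 167936 i))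
noncomputable def nd2675 (i : Nat) : Nat := (Bool.rec (motive := fun _ => Nat) ((Bool.rec (motive := fun _ => Nat) (nl6430 i) (nl6431 i) (Nat.ble 171008 i))) ((Bool.rec (motive := fun _ => Nat) (nl6432 i) (nl6433 i) (Nat.ble 173056 i))) (Nat.ble 172032 i))
noncomputable def nd2676 (i : Nat) : Nat := (Bool.rec (motive := fun _ => Nat) ((Bool.rec (motive := fun _ => Nat) (nl6434 i) (nl6435 i) (Nat.ble 175104 i))) ((Bool.rec (motive := fun _ => Nat) (nl6436 i) (nl6437 i) (Nat.ble 177152 i))) (Nat.ble 176128 i))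
noncomputable def nd2677 (i : Nat) : Nat := (Bool.rec (motive := fun _ => Nat) ((Bool.rec (motive := fun _ => Nat) (nl6438 i) (nl6439 i) (Nat.ble 179200 i))) ((Bool.rec (motive := fun _ => Nat) (nl6440 i) (nl6441 i) (Nat.ble 181248 i))) (Nat.ble 180224 i))
noncomputable def nd2673 (i : Nat) : Nat := (Bool.rec (motive := fun _ => Nat) ((Bool.rec (motive := fun _ => Nat) (nd2674 i) (nd2675 i) (Nat.ble 169984 i))) ((Bool.rec (motive := fun _ => Nat) (nd2676 i) (nd2677 i) (Nat.ble 178176 i))) (Nat.ble 174080 i))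
noncomputable def nd2679 (i : Nat) : Nat := (Bool.rec (motive := fun _ => Nat) ((Bool.rec (motive := fun _ => Nat) (nl6442 i) (nl6443 i) (Nat.ble 183296 i))) ((Bool.rec (motive := fun _ => Nat) (nl6444 i) (nl6445 i) (Nat.ble 185344 i))) (Nat.ble 184320 i))
noncomputable def nd2680 (i : Nat) : Nat := (Bool.rec (motive := fun _ => Nat) ((Bool.rec (motive := fun _ => Nat) (nl6446 i) (nl6447 i) (Nat.ble 187392 i))) ((Bool.rec (motive := fun _ => Nat) (nl6448 i) (nl6449 i) (Nat.ble 189440 i))) (Nat.ble 188416 i))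
noncomputable def nd2681 (i : Nat) : Nat := (Bool.rec (motive := fun _ => Nat) ((Bool.rec (motive := fun _ => Nat) (nl6450 i) (nl6451 i) (Nat.ble 191488 i))) ((Bool.rec (motive := fun _ => Nat) (nl6452 i) (nl6453 i) (Nat.ble 193536 i))) (Nat.ble 192512 i))
noncomputable def nd2683 (i : Nat) : Nat := (Bool.rec (motive := fun _ => Nat) (nl6457 i) (nl6458 i) (Nat.ble 198656 i))
noncomputable def nd2682 (i : Nat) : Nat := (Bool.rec (motive := fun _ => Nat) ((Bool.rec (motive := fun _ => Nat) (nl6454 i) (nl6455 i) (Nat.ble 195584 i))) ((Bool.rec (motive := fun _ => Nat) (nl6456 i) (nd2683 i) (Nat.ble 197632 i))) (Nat.ble 196608 i))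
noncomputable def nd2678 (i : Nat) : Nat := (Bool.rec (motive := fun _ => Nat) ((Bool.rec (motive := fun _ => Nat) (nd2679 i) (nd2680 i) (Nat.ble 186368 i))) ((Bool.rec (motive := fun _ => Nat) (nd2681 i) (nd2682 i) (Nat.ble 194560 i))) (Nat.ble 190464 i))
noncomputable def nd2662 (i : Nat) : Nat := (Bool.rec (motive := fun _ => Nat) ((Bool.rec (motive := fun _ => Nat) (nd2663 i) (nd2668 i) (Nat.ble 149504 i))) ((Bool.rec (motive := fun _ => Nat) (nd2673 i) (nd2678 i) (Nat.ble 182272 i))) (Nat.ble 165888 i))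
noncomputable def nd2686 (i : Nat) : Nat := (Bool.rec (motive := fun _ => Nat) ((Bool.rec (motive := fun _ => Nat) (nl6459 i) (nl6460 i) (Nat.ble 200704 i))) ((Bool.rec (motive := fun _ => Nat) (nl6461 i) (nl6462 i) (Nat.ble 202752 i))) (Nat.ble 201728 i))
noncomputable def nd2687 (i : Nat) : Nat := (Bool.rec (motive := fun _ => Nat) ((Bool.rec (motive := fun _ => Nat) (nl6463 i) (nl6464 i) (Nat.ble 204800 i))) ((Bool.rec (motive := fun _ => Nat) (nl6465 i) (nl6466 i) (Nat.ble 206848 i))) (Nat.ble 205824 i))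
noncomputable def nd2688 (i : Nat) : Nat := (Bool.rec (motive := fun _ => Nat) ((Bool.rec (motive := fun _ => Nat) (nl6467 i) (nl6468 i) (Nat.ble 208896 i))) ((Bool.rec (motive := fun _ => Nat) (nl6469 i) (nl6470 i) (Nat.ble 210944 i))) (Nat.ble 209920 i))
noncomputable def nd2689 (i : Nat) : Nat := (Bool.rec (motive := fun _ => Nat) ((Bool.rec (motive := fun _ => Nat) (nl6471 i) (nl6472 i) (Nat.ble 212992 i))) ((Bool.rec (motive := fun _ => Nat) (nl6473 i) (nl6474 i) (Nat.ble 215040 i))) (Nat.ble 214016 i))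
noncomputable def nd2685 (i : Nat) : Nat := (Bool.rec (motive := fun _ => Nat) ((Bool.rec (motive := fun _ => Nat) (nd2686 i) (nd2687 i) (Nat.ble 203776 i))) ((Bool.rec (motive := fun _ => Nat) (nd2688 i) (nd2689 i) (Nat.ble 211968 i))) (Nat.ble 207872 i))
noncomputable def nd2691 (i : Nat) : Nat := (Bool.rec (motive := fun _ => Nat) ((Bool.rec (motive := fun _ => Nat) (nl6475 i) (nl6476 i) (Nat.ble 217088 i))) ((Bool.rec (motive := fun _ => Nat) (nl6477 i) (nl6478 i) (Nat.ble 219136 i))) (Nat.ble 218112 i))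
noncomputable def nd2692 (i : Nat) : Nat := (Bool.rec (motive := fun _ => Nat) ((Bool.rec (motive := fun _ => Nat) (nl6479 i) (nl6480 i) (Nat.ble 221184 i))) ((Bool.rec (motive := fun _ => Nat) (nl6481 i) (nl6482 i) (Nat.ble 223232 i))) (Nat.ble 222208 i))
noncomputable def nd2693 (i : Nat) : Nat := (Bool.rec (motive := fun _ => Nat) ((Bool.rec (motive := fun _ => Nat) (nl6483 i) (nl6484 i) (Nat.ble 225280 i))) ((Bool.rec (motive := fun _ => Nat) (nl6485 i) (nl6486 i) (Nat.ble 227328 i))) (Nat.ble 226304 i))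
noncomputable def nd2695 (i : Nat) : Nat := (Bool.rec (motive := fun _ => Nat) (nl6490 i) (nl6491 i) (Nat.ble 232448 i))
noncomputable def nd2694 (i : Nat) : Nat := (Bool.rec (motive := fun _ => Nat) ((Bool.rec (motive := fun _ => Nat) (nl6487 i) (nl6488 i) (Nat.ble 229376 i))) ((Bool.rec (motive := fun _ => Nat) (nl6489 i) (nd2695 i) (Nat.ble 231424 i))) (Nat.ble 230400 i))
noncomputable def nd2690 (i : Nat) : Nat := (Bool.rec (motive := fun _ => Nat) ((Bool.rec (motive := fun _ => Nat) (nd2691 i) (nd2692 i) (Nat.ble 220160 i))) ((Bool.rec (motive := fun _ => Nat) (nd2693 i) (nd2694 i) (Nat.ble 228352 i))) (Nat.ble 224256 i))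
noncomputable def nd2697 (i : Nat) : Nat := (Bool.rec (motive := fun _ => Nat) ((Bool.rec (motive := fun _ => Nat) (nl6492 i) (nl6493 i) (Nat.ble 234496 i))) ((Bool.rec (motive := fun _ => Nat) (nl6494 i) (nl6495 i) (Nat.ble 236544 i))) (Nat.ble 235520 i))
noncomputable def nd2698 (i : Nat) : Nat := (Bool.rec (motive := fun _ => Nat) ((Bool.rec (motive := fun _ => Nat) (nl6496 i) (nl6497 i) (Nat.ble 238592 i))) ((Bool.rec (motive := fun _ => Nat) (nl6498 i) (nl6499 i) (Nat.ble 240640 i))) (Nat.ble 239616 i))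
noncomputable def nd2699 (i : Nat) : Nat := (Bool.rec (motive := fun _ => Nat) ((Bool.rec (motive := fun _ => Nat) (nl6500 i) (nl6501 i) (Nat.ble 242688 i))) ((Bool.rec (motive := fun _ => Nat) (nl6502 i) (nl6503 i) (Nat.ble 244736 i))) (Nat.ble 243712 i))
noncomputable def nd2700 (i : Nat) : Nat := (Bool.rec (motive := fun _ => Nat) ((Bool.rec (motive := fun _ => Nat) (nl6504 i) (nl6505 i) (Nat.ble 246784 i))) ((Bool.rec (motive := fun _ => Nat) (nl6506 i) (nl6507 i) (Nat.ble 248832 i))) (Nat.ble 247808 i))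
noncomputable def nd2696 (i : Nat) : Nat := (Bool.rec (motive := fun _ => Nat) ((Bool.rec (motive := fun _ => Nat) (nd2697 i) (nd2698 i) (Nat.ble 237568 i))) ((Bool.rec (motive := fun _ => Nat) (nd2699 i) (nd2700 i) (Nat.ble 245760 i))) (Nat.ble 241664 i))
noncomputable def nd2702 (i : Nat) : Nat := (Bool.rec (motive := fun _ => Nat) ((Bool.rec (motive := fun _ => Nat) (nl6508 i) (nl6509 i) (Nat.ble 250880 i))) ((Bool.rec (motive := fun _ => Nat) (nl6510 i) (nl6511 i) (Nat.ble 252928 i))) (Nat.ble 251904 i))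
noncomputable def nd2703 (i : Nat) : Nat := (Bool.rec (motive := fun _ => Nat) ((Bool.rec (motive := fun _ => Nat) (nl6512 i) (nl6513 i) (Nat.ble 254976 i))) ((Bool.rec (motive := fun _ => Nat) (nl6514 i) (nl6515 i) (Nat.ble 257024 i))) (Nat.ble 256000 i))
noncomputable def nd2704 (i : Nat) : Nat := (Bool.rec (motive := fun _ => Nat) ((Bool.rec (motive := fun _ => Nat) (nl6516 i) (nl6517 i) (Nat.ble 259072 i))) ((Bool.rec (motive := fun _ => Nat) (nl6518 i) (nl6519 i) (Nat.ble 261120 i))) (Nat.ble 260096 i))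
noncomputable def nd2706 (i : Nat) : Nat := (Bool.rec (motive := fun _ => Nat) (nl6523 i) (nl6524 i) (Nat.ble 266240 i))
noncomputable def nd2705 (i : Nat) : Nat := (Bool.rec (motive := fun _ => Nat) ((Bool.rec (motive := fun _ => Nat) (nl6520 i) (nl6521 i) (Nat.ble 263168 i))) ((Bool.rec (motive := fun _ => Nat) (nl6522 i) (nd2706 i) (Nat.ble 265216 i))) (Nat.ble 264192 i))
noncomputable def nd2701 (i : Nat) : Nat := (Bool.rec (motive := fun _ => Nat) ((Bool.rec (motive := fun _ => Nat) (nd2702 i) (nd2703 i) (Nat.ble 253952 i))) ((Bool.rec (motive := fun _ => Nat) (nd2704 i) (nd2705 i) (Nat.ble 262144 i))) (Nat.ble 258048 i))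
noncomputable def nd2684 (i : Nat) : Nat := (Bool.rec (motive := fun _ => Nat) ((Bool.rec (motive := fun _ => Nat) (nd2685 i) (nd2690 i) (Nat.ble 216064 i))) ((Bool.rec (motive := fun _ => Nat) (nd2696 i) (nd2701 i) (Nat.ble 249856 i))) (Nat.ble 233472 i))
noncomputable def nd2617 (i : Nat) : Nat := (Bool.rec (motive := fun _ => Nat) ((Bool.rec (motive := fun _ => Nat) (nd2618 i) (nd2640 i) (Nat.ble 66560 i))) ((Bool.rec (motive := fun _ => Nat) (nd2662 i) (nd2684 i) (Nat.ble 199680 i))) (Nat.ble 133120 i))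
noncomputable def nd2710 (i : Nat) : Nat := (Bool.rec (motive := fun _ => Nat) ((Bool.rec (motive := fun _ => Nat) (nl6525 i) (nl6526 i) (Nat.ble 1024 i))) ((Bool.rec (motive := fun _ => Nat) (nl6527 i) (nl6528 i) (Nat.ble 3072 i))) (Nat.ble 2048 i))
noncomputable def nd2711 (i : Nat) : Nat := (Bool.rec (motive := fun _ => Nat) ((Bool.rec (motive := fun _ => Nat) (nl6529 i) (nl6530 i) (Nat.ble 5120 i))) ((Bool.rec (motive := fun _ => Nat) (nl6531 i) (nl6532 i) (Nat.ble 7168 i))) (Nat.ble 6144 i))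
noncomputable def nd2712 (i : Nat) : Nat := (Bool.rec (motive := fun _ => Nat) ((Bool.rec (motive := fun _ => Nat) (nl6533 i) (nl6534 i) (Nat.ble 9216 i))) ((Bool.rec (motive := fun _ => Nat) (nl6535 i) (nl6536 i) (Nat.ble 11264 i))) (Nat.ble 10240 i))
noncomputable def nd2713 (i : Nat) : Nat := (Bool.rec (motive := fun _ => Nat) ((Bool.rec (motive := fun _ => Nat) (nl6537 i) (nl6538 i) (Nat.ble 13312 i))) ((Bool.rec (motive := fun _ => Nat) (nl6539 i) (nl6540 i) (Nat.ble 15360 i))) (Nat.ble 14336 i))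
noncomputable def nd2709 (i : Nat) : Nat := (Bool.rec (motive := fun _ => Nat) ((Bool.rec (motive := fun _ => Nat) (nd2710 i) (nd2711 i) (Nat.ble 4096 i))) ((Bool.rec (motive := fun _ => Nat) (nd2712 i) (nd2713 i) (Nat.ble 12288 i))) (Nat.ble 8192 i))
noncomputable def nd2715 (i : Nat) : Nat := (Bool.rec (motive := fun _ => Nat) ((Bool.rec (motive := fun _ => Nat) (nl6541 i) (nl6542 i) (Nat.ble 17408 i))) ((Bool.rec (motive := fun _ => Nat) (nl6543 i) (nl6544 i) (Nat.ble 19456 i))) (Nat.ble 18432 i))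
noncomputable def nd2716 (i : Nat) : Nat := (Bool.rec (motive := fun _ => Nat) ((Bool.rec (motive := fun _ => Nat) (nl6545 i) (nl6546 i) (Nat.ble 21504 i))) ((Bool.rec (motive := fun _ => Nat) (nl6547 i) (nl6548 i) (Nat.ble 23552 i))) (Nat.ble 22528 i))
noncomputable def nd2717 (i : Nat) : Nat := (Bool.rec (motive := fun _ => Nat) ((Bool.rec (motive := fun _ => Nat) (nl6549 i) (nl6550 i) (Nat.ble 25600 i))) ((Bool.rec (motive := fun _ => Nat) (nl6551 i) (nl6552 i) (Nat.ble 27648 i))) (Nat.ble 26624 i))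
noncomputable def nd2718 (i : Nat) : Nat := (Bool.rec (motive := fun _ => Nat) ((Bool.rec (motive := fun _ => Nat) (nl6553 i) (nl6554 i) (Nat.ble 29696 i))) ((Bool.rec (motive := fun _ => Nat) (nl6555 i) (nl6556 i) (Nat.ble 31744 i))) (Nat.ble 30720 i))
noncomputable def nd2714 (i : Nat) : Nat := (Bool.rec (motive := fun _ => Nat) ((Bool.rec (motive := fun _ => Nat) (nd2715 i) (nd2716 i) (Nat.ble 20480 i))) ((Bool.rec (motive := fun _ => Nat) (nd2717 i) (nd2718 i) (Nat.ble 28672 i))) (Nat.ble 24576 i))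
noncomputable def nd2720 (i : Nat) : Nat := (Bool.rec (motive := fun _ => Nat) ((Bool.rec (motive := fun _ => Nat) (nl6557 i) (nl6558 i) (Nat.ble 33792 i))) ((Bool.rec (motive := fun _ => Nat) (nl6559 i) (nl6560 i) (Nat.ble 35840 i))) (Nat.ble 34816 i))
noncomputable def nd2721 (i : Nat) : Nat := (Bool.rec (motive := fun _ => Nat) ((Bool.rec (motive := fun _ => Nat) (nl6561 i) (nl6562 i) (Nat.ble 37888 i))) ((Bool.rec (motive := fun _ => Nat) (nl6563 i) (nl6564 i) (Nat.ble 39936 i))) (Nat.ble 38912 i))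
noncomputable def nd2722 (i : Nat) : Nat := (Bool.rec (motive := fun _ => Nat) ((Bool.rec (motive := fun _ => Nat) (nl6565 i) (nl6566 i) (Nat.ble 41984 i))) ((Bool.rec (motive := fun _ => Nat) (nl6567 i) (nl6568 i) (Nat.ble 44032 i))) (Nat.ble 43008 i))
noncomputable def nd2723 (i : Nat) : Nat := (Bool.rec (motive := fun _ => Nat) ((Bool.rec (motive := fun _ => Nat) (nl6569 i) (nl6570 i) (Nat.ble 46080 i))) ((Bool.rec (motive := fun _ => Nat) (nl6571 i) (nl6572 i) (Nat.ble 48128 i))) (Nat.ble 47104 i))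
noncomputable def nd2719 (i : Nat) : Nat := (Bool.rec (motive := fun _ => Nat) ((Bool.rec (motive := fun _ => Nat) (nd2720 i) (nd2721 i) (Nat.ble 36864 i))) ((Bool.rec (motive := fun _ => Nat) (nd2722 i) (nd2723 i) (Nat.ble 45056 i))) (Nat.ble 40960 i))
noncomputable def nd2725 (i : Nat) : Nat := (Bool.rec (motive := fun _ => Nat) ((Bool.rec (motive := fun _ => Nat) (nl6573 i) (nl6574 i) (Nat.ble 50176 i))) ((Bool.rec (motive := fun _ => Nat) (nl6575 i) (nl6576 i) (Nat.ble 52224 i))) (Nat.ble 51200 i))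
noncomputable def nd2726 (i : Nat) : Nat := (Bool.rec (motive := fun _ => Nat) ((Bool.rec (motive := fun _ => Nat) (nl6577 i) (nl6578 i) (Nat.ble 54272 i))) ((Bool.rec (motive := fun _ => Nat) (nl6579 i) (nl6580 i) (Nat.ble 56320 i))) (Nat.ble 55296 i))
noncomputable def nd2727 (i : Nat) : Nat := (Bool.rec (motive := fun _ => Nat) ((Bool.rec (motive := fun _ => Nat) (nl6581 i) (nl6582 i) (Nat.ble 58368 i))) ((Bool.rec (motive := fun _ => Nat) (nl6583 i) (nl6584 i) (Nat.ble 60416 i))) (Nat.ble 59392 i))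
noncomputable def nd2729 (i : Nat) : Nat := (Bool.rec (motive := fun _ => Nat) (nl6588 i) (nl6589 i) (Nat.ble 65536 i))
noncomputable def nd2728 (i : Nat) : Nat := (Bool.rec (motive := fun _ => Nat) ((Bool.rec (motive := fun _ => Nat) (nl6585 i) (nl6586 i) (Nat.ble 62464 i))) ((Bool.rec (motive := fun _ => Nat) (nl6587 i) (nd2729 i) (Nat.ble 64512 i))) (Nat.ble 63488 i))
noncomputable def nd2724 (i : Nat) : Nat := (Bool.rec (motive := fun _ => Nat) ((Bool.rec (motive := fun _ => Nat) (nd2725 i) (nd2726 i) (Nat.ble 53248 i))) ((Bool.rec (motive := fun _ => Nat) (nd2727 i) (nd2728 i) (Nat.ble 61440 i))) (Nat.ble 57344 i))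
noncomputable def nd2708 (i : Nat) : Nat := (Bool.rec (motive := fun _ => Nat) ((Bool.rec (motive := fun _ => Nat) (nd2709 i) (nd2714 i) (Nat.ble 16384 i))) ((Bool.rec (motive := fun _ => Nat) (nd2719 i) (nd2724 i) (Nat.ble 49152 i))) (Nat.ble 32768 i))
noncomputable def nd2732 (i : Nat) : Nat := (Bool.rec (motive := fun _ => Nat) ((Bool.rec (motive := fun _ => Nat) (nl6590 i) (nl6591 i) (Nat.ble 67584 i))) ((Bool.rec (motive := fun _ => Nat) (nl6592 i) (nl6593 i) (Nat.ble 69632 i))) (Nat.ble 68608 i))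
noncomputable def nd2733 (i : Nat) : Nat := (Bool.rec (motive := fun _ => Nat) ((Bool.rec (motive := fun _ => Nat) (nl6594 i) (nl6595 i) (Nat.ble 71680 i))) ((Bool.rec (motive := fun _ => Nat) (nl6596 i) (nl6597 i) (Nat.ble 73728 i))) (Nat.ble 72704 i))
noncomputable def nd2734 (i : Nat) : Nat := (Bool.rec (motive := fun _ => Nat) ((Bool.rec (motive := fun _ => Nat) (nl6598 i) (nl6599 i) (Nat.ble 75776 i))) ((Bool.rec (motive := fun _ => Nat) (nl6600 i) (nl6601 i) (Nat.ble 77824 i))) (Nat.ble 76800 i))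
noncomputable def nd2735 (i : Nat) : Nat := (Bool.rec (motive := fun _ => Nat) ((Bool.rec (motive := fun _ => Nat) (nl6602 i) (nl6603 i) (Nat.ble 79872 i))) ((Bool.rec (motive := fun _ => Nat) (nl6604 i) (nl6605 i) (Nat.ble 81920 i))) (Nat.ble 80896 i))
noncomputable def nd2731 (i : Nat) : Nat := (Bool.rec (motive := fun _ => Nat) ((Bool.rec (motive := fun _ => Nat) (nd2732 i) (nd2733 i) (Nat.ble 70656 i))) ((Bool.rec (motive := fun _ => Nat) (nd2734 i) (nd2735 i) (Nat.ble 78848 i))) (Nat.ble 74752 i))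
noncomputable def nd2737 (i : Nat) : Nat := (Bool.rec (motive := fun _ => Nat) ((Bool.rec (motive := fun _ => Nat) (nl6606 i) (nl6607 i) (Nat.ble 83968 i))) ((Bool.rec (motive := fun _ => Nat) (nl6608 i) (nl6609 i) (Nat.ble 86016 i))) (Nat.ble 84992 i))
noncomputable def nd2738 (i : Nat) : Nat := (Bool.rec (motive := fun _ => Nat) ((Bool.rec (motive := fun _ => Nat) (nl6610 i) (nl6611 i) (Nat.ble 88064 i))) ((Bool.rec (motive := fun _ => Nat) (nl6612 i) (nl6613 i) (Nat.ble 90112 i))) (Nat.ble 89088 i))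
noncomputable def nd2739 (i : Nat) : Nat := (Bool.rec (motive := fun _ => Nat) ((Bool.rec (motive := fun _ => Nat) (nl6614 i) (nl6615 i) (Nat.ble 92160 i))) ((Bool.rec (motive := fun _ => Nat) (nl6616 i) (nl6617 i) (Nat.ble 94208 i))) (Nat.ble 93184 i))
noncomputable def nd2740 (i : Nat) : Nat := (Bool.rec (motive := fun _ => Nat) ((Bool.rec (motive := fun _ => Nat) (nl6618 i) (nl6619 i) (Nat.ble 96256 i))) ((Bool.rec (motive := fun _ => Nat) (nl6620 i) (nl6621 i) (Nat.ble 98304 i))) (Nat.ble 97280 i))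
noncomputable def nd2736 (i : Nat) : Nat := (Bool.rec (motive := fun _ => Nat) ((Bool.rec (motive := fun _ => Nat) (nd2737 i) (nd2738 i) (Nat.ble 87040 i))) ((Bool.rec (motive := fun _ => Nat) (nd2739 i) (nd2740 i) (Nat.ble 95232 i))) (Nat.ble 91136 i))
noncomputable def nd2742 (i : Nat) : Nat := (Bool.rec (motive := fun _ => Nat) ((Bool.rec (motive := fun _ => Nat) (nl6622 i) (nl6623 i) (Nat.ble 100352 i))) ((Bool.rec (motive := fun _ => Nat) (nl6624 i) (nl6625 i) (Nat.ble 102400 i))) (Nat.ble 101376 i))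
noncomputable def nd2743 (i : Nat) : Nat := (Bool.rec (motive := fun _ => Nat) ((Bool.rec (motive := fun _ => Nat) (nl6626 i) (nl6627 i) (Nat.ble 104448 i))) ((Bool.rec (motive := fun _ => Nat) (nl6628 i) (nl6629 i) (Nat.ble 106496 i))) (Nat.ble 105472 i))
noncomputable def nd2744 (i : Nat) : Nat := (Bool.rec (motive := fun _ => Nat) ((Bool.rec (motive := fun _ => Nat) (nl6630 i) (nl6631 i) (Nat.ble 108544 i))) ((Bool.rec (motive := fun _ => Nat) (nl6632 i) (nl6633 i) (Nat.ble 110592 i))) (Nat.ble 109568 i))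
noncomputable def nd2745 (i : Nat) : Nat := (Bool.rec (motive := fun _ => Nat) ((Bool.rec (motive := fun _ => Nat) (nl6634 i) (nl6635 i) (Nat.ble 112640 i))) ((Bool.rec (motive := fun _ => Nat) (nl6636 i) (nl6637 i) (Nat.ble 114688 i))) (Nat.ble 113664 i))
noncomputable def nd2741 (i : Nat) : Nat := (Bool.rec (motive := fun _ => Nat) ((Bool.rec (motive := fun _ => Nat) (nd2742 i) (nd2743 i) (Nat.ble 103424 i))) ((Bool.rec (motive := fun _ => Nat) (nd2744 i) (nd2745 i) (Nat.ble 111616 i))) (Nat.ble 107520 i))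
noncomputable def nd2747 (i : Nat) : Nat := (Bool.rec (motive := fun _ => Nat) ((Bool.rec (motive := fun _ => Nat) (nl6638 i) (nl6639 i) (Nat.ble 116736 i))) ((Bool.rec (motive := fun _ => Nat) (nl6640 i) (nl6641 i) (Nat.ble 118784 i))) (Nat.ble 117760 i))
noncomputable def nd2748 (i : Nat) : Nat := (Bool.rec (motive := fun _ => Nat) ((Bool.rec (motive := fun _ => Nat) (nl6642 i) (nl6643 i) (Nat.ble 120832 i))) ((Bool.rec (motive := fun _ => Nat) (nl6644 i) (nl6645 i) (Nat.ble 122880 i))) (Nat.ble 121856 i))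
noncomputable def nd2749 (i : Nat) : Nat := (Bool.rec (motive := fun _ => Nat) ((Bool.rec (motive := fun _ => Nat) (nl6646 i) (nl6647 i) (Nat.ble 124928 i))) ((Bool.rec (motive := fun _ => Nat) (nl6648 i) (nl6649 i) (Nat.ble 126976 i))) (Nat.ble 125952 i))
noncomputable def nd2751 (i : Nat) : Nat := (Bool.rec (motive := fun _ => Nat) (nl6653 i) (nl6654 i) (Nat.ble 132096 i))
noncomputable def nd2750 (i : Nat) : Nat := (Bool.rec (motive := fun _ => Nat) ((Bool.rec (motive := fun _ => Nat) (nl6650 i) (nl6651 i) (Nat.ble 129024 i))) ((Bool.rec (motive := fun _ => Nat) (nl6652 i) (nd2751 i) (Nat.ble 131072 i))) (Nat.ble 130048 i))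
noncomputable def nd2746 (i : Nat) : Nat := (Bool.rec (motive := fun _ => Nat) ((Bool.rec (motive := fun _ => Nat) (nd2747 i) (nd2748 i) (Nat.ble 119808 i))) ((Bool.rec (motive := fun _ => Nat) (nd2749 i) (nd2750 i) (Nat.ble 128000 i))) (Nat.ble 123904 i))
noncomputable def nd2730 (i : Nat) : Nat := (Bool.rec (motive := fun _ => Nat) ((Bool.rec (motive := fun _ => Nat) (nd2731 i) (nd2736 i) (Nat.ble 82944 i))) ((Bool.rec (motive := fun _ => Nat) (nd2741 i) (nd2746 i) (Nat.ble 115712 i))) (Nat.ble 99328 i))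
noncomputable def nd2754 (i : Nat) : Nat := (Bool.rec (motive := fun _ => Nat) ((Bool.rec (motive := fun _ => Nat) (nl6655 i) (nl6656 i) (Nat.ble 134144 i))) ((Bool.rec (motive := fun _ => Nat) (nl6657 i) (nl6658 i) (Nat.ble 136192 i))) (Nat.ble 135168 i))
noncomputable def nd2755 (i : Nat) : Nat := (Bool.rec (motive := fun _ => Nat) ((Bool.rec (motive := fun _ => Nat) (nl6659 i) (nl6660 i) (Nat.ble 138240 i))) ((Bool.rec (motive := fun _ => Nat) (nl6661 i) (nl6662 i) (Nat.ble 140288 i))) (Nat.ble 139264 i))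
noncomputable def nd2756 (i : Nat) : Nat := (Bool.rec (motive := fun _ => Nat) ((Bool.rec (motive := fun _ => Nat) (nl6663 i) (nl6664 i) (Nat.ble 142336 i))) ((Bool.rec (motive := fun _ => Nat) (nl6665 i) (nl6666 i) (Nat.ble 144384 i))) (Nat.ble 143360 i))
noncomputable def nd2757 (i : Nat) : Nat := (Bool.rec (motive := fun _ => Nat) ((Bool.rec (motive := fun _ => Nat) (nl6667 i) (nl6668 i) (Nat.ble 146432 i))) ((Bool.rec (motive := fun _ => Nat) (nl6669 i) (nl6670 i) (Nat.ble 148480 i))) (Nat.ble 147456 i))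
noncomputable def nd2753 (i : Nat) : Nat := (Bool.rec (motive := fun _ => Nat) ((Bool.rec (motive := fun _ => Nat) (nd2754 i) (nd2755 i) (Nat.ble 137216 i))) ((Bool.rec (motive := fun _ => Nat) (nd2756 i) (nd2757 i) (Nat.ble 145408 i))) (Nat.ble 141312 i))
noncomputable def nd2759 (i : Nat) : Nat := (Bool.rec (motive := fun _ => Nat) ((Bool.rec (motive := fun _ => Nat) (nl6671 i) (nl6672 i) (Nat.ble 150528 i))) ((Bool.rec (motive := fun _ => Nat) (nl6673 i) (nl6674 i) (Nat.ble 152576 i))) (Nat.ble 151552 i))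
noncomputable def nd2760 (i : Nat) : Nat := (Bool.rec (motive := fun _ => Nat) ((Bool.rec (motive := fun _ => Nat) (nl6675 i) (nl6676 i) (Nat.ble 154624 i))) ((Bool.rec (motive := fun _ => Nat) (nl6677 i) (nl6678 i) (Nat.ble 156672 i))) (Nat.ble 155648 i))
noncomputable def nd2761 (i : Nat) : Nat := (Bool.rec (motive := fun _ => Nat) ((Bool.rec (motive := fun _ => Nat) (nl6679 i) (nl6680 i) (Nat.ble 158720 i))) ((Bool.rec (motive := fun _ => Nat) (nl6681 i) (nl6682 i) (Nat.ble 160768 i))) (Nat.ble 159744 i))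
noncomputable def nd2762 (i : Nat) : Nat := (Bool.rec (motive := fun _ => Nat) ((Bool.rec (motive := fun _ => Nat) (nl6683 i) (nl6684 i) (Nat.ble 162816 i))) ((Bool.rec (motive := fun _ => Nat) (nl6685 i) (nl6686 i) (Nat.ble 164864 i))) (Nat.ble 163840 i))
noncomputable def nd2758 (i : Nat) : Nat := (Bool.rec (motive := fun _ => Nat) ((Bool.rec (motive := fun _ => Nat) (nd2759 i) (nd2760 i) (Nat.ble 153600 i))) ((Bool.rec (motive := fun _ => Nat) (nd2761 i) (nd2762 i) (Nat.ble 161792 i))) (Nat.ble 157696 i))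
noncomputable def nd2764 (i : Nat) : Nat := (Bool.rec (motive := fun _ => Nat) ((Bool.rec (motive := fun _ => Nat) (nl6687 i) (nl6688 i) (Nat.ble 166912 i))) ((Bool.rec (motive := fun _ => Nat) (nl6689 i) (nl6690 i) (Nat.ble 168960 i))) (Nat.ble 167936 i))
noncomputable def nd2765 (i : Nat) : Nat := (Bool.rec (motive := fun _ => Nat) ((Bool.rec (motive := fun _ => Nat) (nl6691 i) (nl6692 i) (Nat.ble 171008 i))) ((Bool.rec (motive := fun _ => Nat) (nl6693 i) (nl6694 i) (Nat.ble 173056 i))) (Nat.ble 172032 i))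
noncomputable def nd2766 (i : Nat) : Nat := (Bool.rec (motive := fun _ => Nat) ((Bool.rec (motive := fun _ => Nat) (nl6695 i) (nl6696 i) (Nat.ble 175104 i))) ((Bool.rec (motive := fun _ => Nat) (nl6697 i) (nl6698 i) (Nat.ble 177152 i))) (Nat.ble 176128 i))
noncomputable def nd2767 (i : Nat) : Nat := (Bool.rec (motive := fun _ => Nat) ((Bool.rec (motive := fun _ => Nat) (nl6699 i) (nl6700 i) (Nat.ble 179200 i))) ((Bool.rec (motive := fun _ => Nat) (nl6701 i) (nl6702 i) (Nat.ble 181248 i))) (Nat.ble 180224 i))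
noncomputable def nd2763 (i : Nat) : Nat := (Bool.rec (motive := fun _ => Nat) ((Bool.rec (motive := fun _ => Nat) (nd2764 i) (nd2765 i) (Nat.ble 169984 i))) ((Bool.rec (motive := fun _ => Nat) (nd2766 i) (nd2767 i) (Nat.ble 178176 i))) (Nat.ble 174080 i))
noncomputable def nd2769 (i : Nat) : Nat := (Bool.rec (motive := fun _ => Nat) ((Bool.rec (motive := fun _ => Nat) (nl6703 i) (nl6704 i) (Nat.ble 183296 i))) ((Bool.rec (motive := fun _ => Nat) (nl6705 i) (nl6706 i) (Nat.ble 185344 i))) (Nat.ble 184320 i))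
noncomputable def nd2770 (i : Nat) : Nat := (Bool.rec (motive := fun _ => Nat) ((Bool.rec (motive := fun _ => Nat) (nl6707 i) (nl6708 i) (Nat.ble 187392 i))) ((Bool.rec (motive := fun _ => Nat) (nl6709 i) (nl6710 i) (Nat.ble 189440 i))) (Nat.ble 188416 i))
noncomputable def nd2771 (i : Nat) : Nat := (Bool.rec (motive := fun _ => Nat) ((Bool.rec (motive := fun _ => Nat) (nl6711 i) (nl6712 i) (Nat.ble 191488 i))) ((Bool.rec (motive := fun _ => Nat) (nl6713 i) (nl6714 i) (Nat.ble 193536 i))) (Nat.ble 192512 i))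
noncomputable def nd2773 (i : Nat) : Nat := (Bool.rec (motive := fun _ => Nat) (nl6718 i) (nl6719 i) (Nat.ble 198656 i))
noncomputable def nd2772 (i : Nat) : Nat := (Bool.rec (motive := fun _ => Nat) ((Bool.rec (motive := fun _ => Nat) (nl6715 i) (nl6716 i) (Nat.ble 195584 i))) ((Bool.rec (motive := fun _ => Nat) (nl6717 i) (nd2773 i) (Nat.ble 197632 i))) (Nat.ble 196608 i))
noncomputable def nd2768 (i : Nat) : Nat := (Bool.rec (motive := fun _ => Nat) ((Bool.rec (motive := fun _ => Nat) (nd2769 i) (nd2770 i) (Nat.ble 186368 i))) ((Bool.rec (motive := fun _ => Nat) (nd2771 i) (nd2772 i) (Nat.ble 194560 i))) (Nat.ble 190464 i))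
noncomputable def nd2752 (i : Nat) : Nat := (Bool.rec (motive := fun _ => Nat) ((Bool.rec (motive := fun _ => Nat) (nd2753 i) (nd2758 i) (Nat.ble 149504 i))) ((Bool.rec (motive := fun _ => Nat) (nd2763 i) (nd2768 i) (Nat.ble 182272 i))) (Nat.ble 165888 i))
noncomputable def nd2776 (i : Nat) : Nat := (Bool.rec (motive := fun _ => Nat) ((Bool.rec (motive := fun _ => Nat) (nl6720 i) (nl6721 i) (Nat.ble 200704 i))) ((Bool.rec (motive := fun _ => Nat) (nl6722 i) (nl6723 i) (Nat.ble 202752 i))) (Nat.ble 201728 i))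
noncomputable def nd2777 (i : Nat) : Nat := (Bool.rec (motive := fun _ => Nat) ((Bool.rec (motive := fun _ => Nat) (nl6724 i) (nl6725 i) (Nat.ble 204800 i))) ((Bool.rec (motive := fun _ => Nat) (nl6726 i) (nl6727 i) (Nat.ble 206848 i))) (Nat.ble 205824 i))
noncomputable def nd2778 (i : Nat) : Nat := (Bool.rec (motive := fun _ => Nat) ((Bool.rec (motive := fun _ => Nat) (nl6728 i) (nl6729 i) (Nat.ble 208896 i))) ((Bool.rec (motive := fun _ => Nat) (nl6730 i) (nl6731 i) (Nat.ble 210944 i))) (Nat.ble 209920 i))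
noncomputable def nd2779 (i : Nat) : Nat := (Bool.rec (motive := fun _ => Nat) ((Bool.rec (motive := fun _ => Nat) (nl6732 i) (nl6733 i) (Nat.ble 212992 i))) ((Bool.rec (motive := fun _ => Nat) (nl6734 i) (nl6735 i) (Nat.ble 215040 i))) (Nat.ble 214016 i))
noncomputable def nd2775 (i : Nat) : Nat := (Bool.rec (motive := fun _ => Nat) ((Bool.rec (motive := fun _ => Nat) (nd2776 i) (nd2777 i) (Nat.ble 203776 i))) ((Bool.rec (motive := fun _ => Nat) (nd2778 i) (nd2779 i) (Nat.ble 211968 i))) (Nat.ble 207872 i))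
noncomputable def nd2781 (i : Nat) : Nat := (Bool.rec (motive := fun _ => Nat) ((Bool.rec (motive := fun _ => Nat) (nl6736 i) (nl6737 i) (Nat.ble 217088 i))) ((Bool.rec (motive := fun _ => Nat) (nl6738 i) (nl6739 i) (Nat.ble 219136 i))) (Nat.ble 218112 i))
noncomputable def nd2782 (i : Nat) : Nat := (Bool.rec (motive := fun _ => Nat) ((Bool.rec (motive := fun _ => Nat) (nl6740 i) (nl6741 i) (Nat.ble 221184 i))) ((Bool.rec (motive := fun _ => Nat) (nl6742 i) (nl6743 i) (Nat.ble 223232 i))) (Nat.ble 222208 i))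
noncomputable def nd2783 (i : Nat) : Nat := (Bool.rec (motive := fun _ => Nat) ((Bool.rec (motive := fun _ => Nat) (nl6744 i) (nl6745 i) (Nat.ble 225280 i))) ((Bool.rec (motive := fun _ => Nat) (nl6746 i) (nl6747 i) (Nat.ble 227328 i))) (Nat.ble 226304 i))
noncomputable def nd2785 (i : Nat) : Nat := (Bool.rec (motive := fun _ => Nat) (nl6751 i) (nl6752 i) (Nat.ble 232448 i))
noncomputable def nd2784 (i : Nat) : Nat := (Bool.rec (motive := fun _ => Nat) ((Bool.rec (motive := fun _ => Nat) (nl6748 i) (nl6749 i) (Nat.ble 229376 i))) ((Bool.rec (motive := fun _ => Nat) (nl6750 i) (nd2785 i) (Nat.ble 231424 i))) (Nat.ble 230400 i))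
noncomputable def nd2780 (i : Nat) : Nat := (Bool.rec (motive := fun _ => Nat) ((Bool.rec (motive := fun _ => Nat) (nd2781 i) (nd2782 i) (Nat.ble 220160 i))) ((Bool.rec (motive := fun _ => Nat) (nd2783 i) (nd2784 i) (Nat.ble 228352 i))) (Nat.ble 224256 i))
noncomputable def nd2787 (i : Nat) : Nat := (Bool.rec (motive := fun _ => Nat) ((Bool.rec (motive := fun _ => Nat) (nl6753 i) (nl6754 i) (Nat.ble 234496 i))) ((Bool.rec (motive := fun _ => Nat) (nl6755 i) (nl6756 i) (Nat.ble 236544 i))) (Nat.ble 235520 i))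
noncomputable def nd2788 (i : Nat) : Nat := (Bool.rec (motive := fun _ => Nat) ((Bool.rec (motive := fun _ => Nat) (nl6757 i) (nl6758 i) (Nat.ble 238592 i))) ((Bool.rec (motive := fun _ => Nat) (nl6759 i) (nl6760 i) (Nat.ble 240640 i))) (Nat.ble 239616 i))
noncomputable def nd2789 (i : Nat) : Nat := (Bool.rec (motive := fun _ => Nat) ((Bool.rec (motive := fun _ => Nat) (nl6761 i) (nl6762 i) (Nat.ble 242688 i))) ((Bool.rec (motive := fun _ => Nat) (nl6763 i) (nl6764 i) (Nat.ble 244736 i))) (Nat.ble 243712 i))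
noncomputable def nd2790 (i : Nat) : Nat := (Bool.rec (motive := fun _ => Nat) ((Bool.rec (motive := fun _ => Nat) (nl6765 i) (nl6766 i) (Nat.ble 246784 i))) ((Bool.rec (motive := fun _ => Nat) (nl6767 i) (nl6768 i) (Nat.ble 248832 i))) (Nat.ble 247808 i))
noncomputable def nd2786 (i : Nat) : Nat := (Bool.rec (motive := fun _ => Nat) ((Bool.rec (motive := fun _ => Nat) (nd2787 i) (nd2788 i) (Nat.ble 237568 i))) ((Bool.rec (motive := fun _ => Nat) (nd2789 i) (nd2790 i) (Nat.ble 245760 i))) (Nat.ble 241664 i))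
noncomputable def nd2792 (i : Nat) : Nat := (Bool.rec (motive := fun _ => Nat) ((Bool.rec (motive := fun _ => Nat) (nl6769 i) (nl6770 i) (Nat.ble 250880 i))) ((Bool.rec (motive := fun _ => Nat) (nl6771 i) (nl6772 i) (Nat.ble 252928 i))) (Nat.ble 251904 i))
noncomputable def nd2793 (i : Nat) : Nat := (Bool.rec (motive := fun _ => Nat) ((Bool.rec (motive := fun _ => Nat) (nl6773 i) (nl6774 i) (Nat.ble 254976 i))) ((Bool.rec (motive := fun _ => Nat) (nl6775 i) (nl6776 i) (Nat.ble 257024 i))) (Nat.ble 256000 i))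
noncomputable def nd2794 (i : Nat) : Nat := (Bool.rec (motive := fun _ => Nat) ((Bool.rec (motive := fun _ => Nat) (nl6777 i) (nl6778 i) (Nat.ble 259072 i))) ((Bool.rec (motive := fun _ => Nat) (nl6779 i) (nl6780 i) (Nat.ble 261120 i))) (Nat.ble 260096 i))
noncomputable def nd2796 (i : Nat) : Nat := (Bool.rec (motive := fun _ => Nat) (nl6784 i) (nl6785 i) (Nat.ble 266240 i))
noncomputable def nd2795 (i : Nat) : Nat := (Bool.rec (motive := fun _ => Nat) ((Bool.rec (motive := fun _ => Nat) (nl6781 i) (nl6782 i) (Nat.ble 263168 i))) ((Bool.rec (motive := fun _ => Nat) (nl6783 i) (nd2796 i) (Nat.ble 265216 i))) (Nat.ble 264192 i))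
noncomputable def nd2791 (i : Nat) : Nat := (Bool.rec (motive := fun _ => Nat) ((Bool.rec (motive := fun _ => Nat) (nd2792 i) (nd2793 i) (Nat.ble 253952 i))) ((Bool.rec (motive := fun _ => Nat) (nd2794 i) (nd2795 i) (Nat.ble 262144 i))) (Nat.ble 258048 i))
noncomputable def nd2774 (i : Nat) : Nat := (Bool.rec (motive := fun _ => Nat) ((Bool.rec (motive := fun _ => Nat) (nd2775 i) (nd2780 i) (Nat.ble 216064 i))) ((Bool.rec (motive := fun _ => Nat) (nd2786 i) (nd2791 i) (Nat.ble 249856 i))) (Nat.ble 233472 i))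
noncomputable def nd2707 (i : Nat) : Nat := (Bool.rec (motive := fun _ => Nat) ((Bool.rec (motive := fun _ => Nat) (nd2708 i) (nd2730 i) (Nat.ble 66560 i))) ((Bool.rec (motive := fun _ => Nat) (nd2752 i) (nd2774 i) (Nat.ble 199680 i))) (Nat.ble 133120 i))
noncomputable def nd2800 (i : Nat) : Nat := (Bool.rec (motive := fun _ => Nat) ((Bool.rec (motive := fun _ => Nat) (nl6786 i) (nl6787 i) (Nat.ble 1024 i))) ((Bool.rec (motive := fun _ => Nat) (nl6788 i) (nl6789 i) (Nat.ble 3072 i))) (Nat.ble 2048 i))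
noncomputable def nd2801 (i : Nat) : Nat := (Bool.rec (motive := fun _ => Nat) ((Bool.rec (motive := fun _ => Nat) (nl6790 i) (nl6791 i) (Nat.ble 5120 i))) ((Bool.rec (motive := fun _ => Nat) (nl6792 i) (nl6793 i) (Nat.ble 7168 i))) (Nat.ble 6144 i))
noncomputable def nd2802 (i : Nat) : Nat := (Bool.rec (motive := fun _ => Nat) ((Bool.rec (motive := fun _ => Nat) (nl6794 i) (nl6795 i) (Nat.ble 9216 i))) ((Bool.rec (motive := fun _ => Nat) (nl6796 i) (nl6797 i) (Nat.ble 11264 i))) (Nat.ble 10240 i))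
noncomputable def nd2803 (i : Nat) : Nat := (Bool.rec (motive := fun _ => Nat) ((Bool.rec (motive := fun _ => Nat) (nl6798 i) (nl6799 i) (Nat.ble 13312 i))) ((Bool.rec (motive := fun _ => Nat) (nl6800 i) (nl6801 i) (Nat.ble 15360 i))) (Nat.ble 14336 i))
noncomputable def nd2799 (i : Nat) : Nat := (Bool.rec (motive := fun _ => Nat) ((Bool.rec (motive := fun _ => Nat) (nd2800 i) (nd2801 i) (Nat.ble 4096 i))) ((Bool.rec (motive := fun _ => Nat) (nd2802 i) (nd2803 i) (Nat.ble 12288 i))) (Nat.ble 8192 i))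
noncomputable def nd2805 (i : Nat) : Nat := (Bool.rec (motive := fun _ => Nat) ((Bool.rec (motive := fun _ => Nat) (nl6802 i) (nl6803 i) (Nat.ble 17408 i))) ((Bool.rec (motive := fun _ => Nat) (nl6804 i) (nl6805 i) (Nat.ble 19456 i))) (Nat.ble 18432 i))
noncomputable def nd2806 (i : Nat) : Nat := (Bool.rec (motive := fun _ => Nat) ((Bool.rec (motive := fun _ => Nat) (nl6806 i) (nl6807 i) (Nat.ble 21504 i))) ((Bool.rec (motive := fun _ => Nat) (nl6808 i) (nl6809 i) (Nat.ble 23552 i))) (Nat.ble 22528 i))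
noncomputable def nd2807 (i : Nat) : Nat := (Bool.rec (motive := fun _ => Nat) ((Bool.rec (motive := fun _ => Nat) (nl6810 i) (nl6811 i) (Nat.ble 25600 i))) ((Bool.rec (motive := fun _ => Nat) (nl6812 i) (nl6813 i) (Nat.ble 27648 i))) (Nat.ble 26624 i))
noncomputable def nd2808 (i : Nat) : Nat := (Bool.rec (motive := fun _ => Nat) ((Bool.rec (motive := fun _ => Nat) (nl6814 i) (nl6815 i) (Nat.ble 29696 i))) ((Bool.rec (motive := fun _ => Nat) (nl6816 i) (nl6817 i) (Nat.ble 31744 i))) (Nat.ble 30720 i))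
noncomputable def nd2804 (i : Nat) : Nat := (Bool.rec (motive := fun _ => Nat) ((Bool.rec (motive := fun _ => Nat) (nd2805 i) (nd2806 i) (Nat.ble 20480 i))) ((Bool.rec (motive := fun _ => Nat) (nd2807 i) (nd2808 i) (Nat.ble 28672 i))) (Nat.ble 24576 i))
noncomputable def nd2810 (i : Nat) : Nat := (Bool.rec (motive := fun _ => Nat) ((Bool.rec (motive := fun _ => Nat) (nl6818 i) (nl6819 i) (Nat.ble 33792 i))) ((Bool.rec (motive := fun _ => Nat) (nl6820 i) (nl6821 i) (Nat.ble 35840 i))) (Nat.ble 34816 i))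
noncomputable def nd2811 (i : Nat) : Nat := (Bool.rec (motive := fun _ => Nat) ((Bool.rec (motive := fun _ => Nat) (nl6822 i) (nl6823 i) (Nat.ble 37888 i))) ((Bool.rec (motive := fun _ => Nat) (nl6824 i) (nl6825 i) (Nat.ble 39936 i))) (Nat.ble 38912 i))
noncomputable def nd2812 (i : Nat) : Nat := (Bool.rec (motive := fun _ => Nat) ((Bool.rec (motive := fun _ => Nat) (nl6826 i) (nl6827 i) (Nat.ble 41984 i))) ((Bool.rec (motive := fun _ => Nat) (nl6828 i) (nl6829 i) (Nat.ble 44032 i))) (Nat.ble 43008 i))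
noncomputable def nd2813 (i : Nat) : Nat := (Bool.rec (motive := fun _ => Nat) ((Bool.rec (motive := fun _ => Nat) (nl6830 i) (nl6831 i) (Nat.ble 46080 i))) ((Bool.rec (motive := fun _ => Nat) (nl6832 i) (nl6833 i) (Nat.ble 48128 i))) (Nat.ble 47104 i))
noncomputable def nd2809 (i : Nat) : Nat := (Bool.rec (motive := fun _ => Nat) ((Bool.rec (motive := fun _ => Nat) (nd2810 i) (nd2811 i) (Nat.ble 36864 i))) ((Bool.rec (motive := fun _ => Nat) (nd2812 i) (nd2813 i) (Nat.ble 45056 i))) (Nat.ble 40960 i))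
noncomputable def nd2815 (i : Nat) : Nat := (Bool.rec (motive := fun _ => Nat) ((Bool.rec (motive := fun _ => Nat) (nl6834 i) (nl6835 i) (Nat.ble 50176 i))) ((Bool.rec (motive := fun _ => Nat) (nl6836 i) (nl6837 i) (Nat.ble 52224 i))) (Nat.ble 51200 i))
noncomputable def nd2816 (i : Nat) : Nat := (Bool.rec (motive := fun _ => Nat) ((Bool.rec (motive := fun _ => Nat) (nl6838 i) (nl6839 i) (Nat.ble 54272 i))) ((Bool.rec (motive := fun _ => Nat) (nl6840 i) (nl6841 i) (Nat.ble 56320 i))) (Nat.ble 55296 i))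
noncomputable def nd2817 (i : Nat) : Nat := (Bool.rec (motive := fun _ => Nat) ((Bool.rec (motive := fun _ => Nat) (nl6842 i) (nl6843 i) (Nat.ble 58368 i))) ((Bool.rec (motive := fun _ => Nat) (nl6844 i) (nl6845 i) (Nat.ble 60416 i))) (Nat.ble 59392 i))
noncomputable def nd2819 (i : Nat) : Nat := (Bool.rec (motive := fun _ => Nat) (nl6849 i) (nl6850 i) (Nat.ble 65536 i))
noncomputable def nd2818 (i : Nat) : Nat := (Bool.rec (motive := fun _ => Nat) ((Bool.rec (motive := fun _ => Nat) (nl6846 i) (nl6847 i) (Nat.ble 62464 i))) ((Bool.rec (motive := fun _ => Nat) (nl6848 i) (nd2819 i) (Nat.ble 64512 i))) (Nat.ble 63488 i))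
noncomputable def nd2814 (i : Nat) : Nat := (Bool.rec (motive := fun _ => Nat) ((Bool.rec (motive := fun _ => Nat) (nd2815 i) (nd2816 i) (Nat.ble 53248 i))) ((Bool.rec (motive := fun _ => Nat) (nd2817 i) (nd2818 i) (Nat.ble 61440 i))) (Nat.ble 57344 i))
noncomputable def nd2798 (i : Nat) : Nat := (Bool.rec (motive := fun _ => Nat) ((Bool.rec (motive := fun _ => Nat) (nd2799 i) (nd2804 i) (Nat.ble 16384 i))) ((Bool.rec (motive := fun _ => Nat) (nd2809 i) (nd2814 i) (Nat.ble 49152 i))) (Nat.ble 32768 i))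
noncomputable def nd2822 (i : Nat) : Nat := (Bool.rec (motive := fun _ => Nat) ((Bool.rec (motive := fun _ => Nat) (nl6851 i) (nl6852 i) (Nat.ble 67584 i))) ((Bool.rec (motive := fun _ => Nat) (nl6853 i) (nl6854 i) (Nat.ble 69632 i))) (Nat.ble 68608 i))
noncomputable def nd2823 (i : Nat) : Nat := (Bool.rec (motive := fun _ => Nat) ((Bool.rec (motive := fun _ => Nat) (nl6855 i) (nl6856 i) (Nat.ble 71680 i))) ((Bool.rec (motive := fun _ => Nat) (nl6857 i) (nl6858 i) (Nat.ble 73728 i))) (Nat.ble 72704 i))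
noncomputable def nd2824 (i : Nat) : Nat := (Bool.rec (motive := fun _ => Nat) ((Bool.rec (motive := fun _ => Nat) (nl6859 i) (nl6860 i) (Nat.ble 75776 i))) ((Bool.rec (motive := fun _ => Nat) (nl6861 i) (nl6862 i) (Nat.ble 77824 i))) (Nat.ble 76800 i))
noncomputable def nd2825 (i : Nat) : Nat := (Bool.rec (motive := fun _ => Nat) ((Bool.rec (motive := fun _ => Nat) (nl6863 i) (nl6864 i) (Nat.ble 79872 i))) ((Bool.rec (motive := fun _ => Nat) (nl6865 i) (nl6866 i) (Nat.ble 81920 i))) (Nat.ble 80896 i))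
noncomputable def nd2821 (i : Nat) : Nat := (Bool.rec (motive := fun _ => Nat) ((Bool.rec (motive := fun _ => Nat) (nd2822 i) (nd2823 i) (Nat.ble 70656 i))) ((Bool.rec (motive := fun _ => Nat) (nd2824 i) (nd2825 i) (Nat.ble 78848 i))) (Nat.ble 74752 i))
noncomputable def nd2827 (i : Nat) : Nat := (Bool.rec (motive := fun _ => Nat) ((Bool.rec (motive := fun _ => Nat) (nl6867 i) (nl6868 i) (Nat.ble 83968 i))) ((Bool.rec (motive := fun _ => Nat) (nl6869 i) (nl6870 i) (Nat.ble 86016 i))) (Nat.ble 84992 i))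
noncomputable def nd2828 (i : Nat) : Nat := (Bool.rec (motive := fun _ => Nat) ((Bool.rec (motive := fun _ => Nat) (nl6871 i) (nl6872 i) (Nat.ble 88064 i))) ((Bool.rec (motive := fun _ => Nat) (nl6873 i) (nl6874 i) (Nat.ble 90112 i))) (Nat.ble 89088 i))
noncomputable def nd2829 (i : Nat) : Nat := (Bool.rec (motive := fun _ => Nat) ((Bool.rec (motive := fun _ => Nat) (nl6875 i) (nl6876 i) (Nat.ble 92160 i))) ((Bool.rec (motive := fun _ => Nat) (nl6877 i) (nl6878 i) (Nat.ble 94208 i))) (Nat.ble 93184 i))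
noncomputable def nd2830 (i : Nat) : Nat := (Bool.rec (motive := fun _ => Nat) ((Bool.rec (motive := fun _ => Nat) (nl6879 i) (nl6880 i) (Nat.ble 96256 i))) ((Bool.rec (motive := fun _ => Nat) (nl6881 i) (nl6882 i) (Nat.ble 98304 i))) (Nat.ble 97280 i))
noncomputable def nd2826 (i : Nat) : Nat := (Bool.rec (motive := fun _ => Nat) ((Bool.rec (motive := fun _ => Nat) (nd2827 i) (nd2828 i) (Nat.ble 87040 i))) ((Bool.rec (motive := fun _ => Nat) (nd2829 i) (nd2830 i) (Nat.ble 95232 i))) (Nat.ble 91136 i))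
noncomputable def nd2832 (i : Nat) : Nat := (Bool.rec (motive := fun _ => Nat) ((Bool.rec (motive := fun _ => Nat) (nl6883 i) (nl6884 i) (Nat.ble 100352 i))) ((Bool.rec (motive := fun _ => Nat) (nl6885 i) (nl6886 i) (Nat.ble 102400 i))) (Nat.ble 101376 i))
noncomputable def nd2833 (i : Nat) : Nat := (Bool.rec (motive := fun _ => Nat) ((Bool.rec (motive := fun _ => Nat) (nl6887 i) (nl6888 i) (Nat.ble 104448 i))) ((Bool.rec (motive := fun _ => Nat) (nl6889 i) (nl6890 i) (Nat.ble 106496 i))) (Nat.ble 105472 i))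
noncomputable def nd2834 (i : Nat) : Nat := (Bool.rec (motive := fun _ => Nat) ((Bool.rec (motive := fun _ => Nat) (nl6891 i) (nl6892 i) (Nat.ble 108544 i))) ((Bool.rec (motive := fun _ => Nat) (nl6893 i) (nl6894 i) (Nat.ble 110592 i))) (Nat.ble 109568 i))
noncomputable def nd2835 (i : Nat) : Nat := (Bool.rec (motive := fun _ => Nat) ((Bool.rec (motive := fun _ => Nat) (nl6895 i) (nl6896 i) (Nat.ble 112640 i))) ((Bool.rec (motive := fun _ => Nat) (nl6897 i) (nl6898 i) (Nat.ble 114688 i))) (Nat.ble 113664 i))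
noncomputable def nd2831 (i : Nat) : Nat := (Bool.rec (motive := fun _ => Nat) ((Bool.rec (motive := fun _ => Nat) (nd2832 i) (nd2833 i) (Nat.ble 103424 i))) ((Bool.rec (motive := fun _ => Nat) (nd2834 i) (nd2835 i) (Nat.ble 111616 i))) (Nat.ble 107520 i))
noncomputable def nd2837 (i : Nat) : Nat := (Bool.rec (motive := fun _ => Nat) ((Bool.rec (motive := fun _ => Nat) (nl6899 i) (nl6900 i) (Nat.ble 116736 i))) ((Bool.rec (motive := fun _ => Nat) (nl6901 i) (nl6902 i) (Nat.ble 118784 i))) (Nat.ble 117760 i))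
noncomputable def nd2838 (i : Nat) : Nat := (Bool.rec (motive := fun _ => Nat) ((Bool.rec (motive := fun _ => Nat) (nl6903 i) (nl6904 i) (Nat.ble 120832 i))) ((Bool.rec (motive := fun _ => Nat) (nl6905 i) (nl6906 i) (Nat.ble 122880 i))) (Nat.ble 121856 i))
noncomputable def nd2839 (i : Nat) : Nat := (Bool.rec (motive := fun _ => Nat) ((Bool.rec (motive := fun _ => Nat) (nl6907 i) (nl6908 i) (Nat.ble 124928 i))) ((Bool.rec (motive := fun _ => Nat) (nl6909 i) (nl6910 i) (Nat.ble 126976 i))) (Nat.ble 125952 i))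
noncomputable def nd2841 (i : Nat) : Nat := (Bool.rec (motive := fun _ => Nat) (nl6914 i) (nl6915 i) (Nat.ble 132096 i))
noncomputable def nd2840 (i : Nat) : Nat := (Bool.rec (motive := fun _ => Nat) ((Bool.rec (motive := fun _ => Nat) (nl6911 i) (nl6912 i) (Nat.ble 129024 i))) ((Bool.rec (motive := fun _ => Nat) (nl6913 i) (nd2841 i) (Nat.ble 131072 i))) (Nat.ble 130048 i))
noncomputable def nd2836 (i : Nat) : Nat := (Bool.rec (motive := fun _ => Nat) ((Bool.rec (motive := fun _ => Nat) (nd2837 i) (nd2838 i) (Nat.ble 119808 i))) ((Bool.rec (motive := fun _ => Nat) (nd2839 i) (nd2840 i) (Nat.ble 128000 i))) (Nat.ble 123904 i))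
noncomputable def nd2820 (i : Nat) : Nat := (Bool.rec (motive := fun _ => Nat) ((Bool.rec (motive := fun _ => Nat) (nd2821 i) (nd2826 i) (Nat.ble 82944 i))) ((Bool.rec (motive := fun _ => Nat) (nd2831 i) (nd2836 i) (Nat.ble 115712 i))) (Nat.ble 99328 i))
noncomputable def nd2844 (i : Nat) : Nat := (Bool.rec (motive := fun _ => Nat) ((Bool.rec (motive := fun _ => Nat) (nl6916 i) (nl6917 i) (Nat.ble 134144 i))) ((Bool.rec (motive := fun _ => Nat) (nl6918 i) (nl6919 i) (Nat.ble 136192 i))) (Nat.ble 135168 i))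
noncomputable def nd2845 (i : Nat) : Nat := (Bool.rec (motive := fun _ => Nat) ((Bool.rec (motive := fun _ => Nat) (nl6920 i) (nl6921 i) (Nat.ble 138240 i))) ((Bool.rec (motive := fun _ => Nat) (nl6922 i) (nl6923 i) (Nat.ble 140288 i))) (Nat.ble 139264 i))
noncomputable def nd2846 (i : Nat) : Nat := (Bool.rec (motive := fun _ => Nat) ((Bool.rec (motive := fun _ => Nat) (nl6924 i) (nl6925 i) (Nat.ble 142336 i))) ((Bool.rec (motive := fun _ => Nat) (nl6926 i) (nl6927 i) (Nat.ble 144384 i))) (Nat.ble 143360 i))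
noncomputable def nd2847 (i : Nat) : Nat := (Bool.rec (motive := fun _ => Nat) ((Bool.rec (motive := fun _ => Nat) (nl6928 i) (nl6929 i) (Nat.ble 146432 i))) ((Bool.rec (motive := fun _ => Nat) (nl6930 i) (nl6931 i) (Nat.ble 148480 i))) (Nat.ble 147456 i))
noncomputable def nd2843 (i : Nat) : Nat := (Bool.rec (motive := fun _ => Nat) ((Bool.rec (motive := fun _ => Nat) (nd2844 i) (nd2845 i) (Nat.ble 137216 i))) ((Bool.rec (motive := fun _ => Nat) (nd2846 i) (nd2847 i) (Nat.ble 145408 i))) (Nat.ble 141312 i))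
noncomputable def nd2849 (i : Nat) : Nat := (Bool.rec (motive := fun _ => Nat) ((Bool.rec (motive := fun _ => Nat) (nl6932 i) (nl6933 i) (Nat.ble 150528 i))) ((Bool.rec (motive := fun _ => Nat) (nl6934 i) (nl6935 i) (Nat.ble 152576 i))) (Nat.ble 151552 i))
noncomputable def nd2850 (i : Nat) : Nat := (Bool.rec (motive := fun _ => Nat) ((Bool.rec (motive := fun _ => Nat) (nl6936 i) (nl6937 i) (Nat.ble 154624 i))) ((Bool.rec (motive := fun _ => Nat) (nl6938 i) (nl6939 i) (Nat.ble 156672 i))) (Nat.ble 155648 i))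
noncomputable def nd2851 (i : Nat) : Nat := (Bool.rec (motive := fun _ => Nat) ((Bool.rec (motive := fun _ => Nat) (nl6940 i) (nl6941 i) (Nat.ble 158720 i))) ((Bool.rec (motive := fun _ => Nat) (nl6942 i) (nl6943 i) (Nat.ble 160768 i))) (Nat.ble 159744 i))
noncomputable def nd2852 (i : Nat) : Nat := (Bool.rec (motive := fun _ => Nat) ((Bool.rec (motive := fun _ => Nat) (nl6944 i) (nl6945 i) (Nat.ble 162816 i))) ((Bool.rec (motive := fun _ => Nat) (nl6946 i) (nl6947 i) (Nat.ble 164864 i))) (Nat.ble 163840 i))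
noncomputable def nd2848 (i : Nat) : Nat := (Bool.rec (motive := fun _ => Nat) ((Bool.rec (motive := fun _ => Nat) (nd2849 i) (nd2850 i) (Nat.ble 153600 i))) ((Bool.rec (motive := fun _ => Nat) (nd2851 i) (nd2852 i) (Nat.ble 161792 i))) (Nat.ble 157696 i))
noncomputable def nd2854 (i : Nat) : Nat := (Bool.rec (motive := fun _ => Nat) ((Bool.rec (motive := fun _ => Nat) (nl6948 i) (nl6949 i) (Nat.ble 166912 i))) ((Bool.rec (motive := fun _ => Nat) (nl6950 i) (nl6951 i) (Nat.ble 168960 i))) (Nat.ble 167936 i))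
noncomputable def nd2855 (i : Nat) : Nat := (Bool.rec (motive := fun _ => Nat) ((Bool.rec (motive := fun _ => Nat) (nl6952 i) (nl6953 i) (Nat.ble 171008 i))) ((Bool.rec (motive := fun _ => Nat) (nl6954 i) (nl6955 i) (Nat.ble 173056 i))) (Nat.ble 172032 i))
noncomputable def nd2856 (i : Nat) : Nat := (Bool.rec (motive := fun _ => Nat) ((Bool.rec (motive := fun _ => Nat) (nl6956 i) (nl6957 i) (Nat.ble 175104 i))) ((Bool.rec (motive := fun _ => Nat) (nl6958 i) (nl6959 i) (Nat.ble 177152 i))) (Nat.ble 176128 i))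
noncomputable def nd2857 (i : Nat) : Nat := (Bool.rec (motive := fun _ => Nat) ((Bool.rec (motive := fun _ => Nat) (nl6960 i) (nl6961 i) (Nat.ble 179200 i))) ((Bool.rec (motive := fun _ => Nat) (nl6962 i) (nl6963 i) (Nat.ble 181248 i))) (Nat.ble 180224 i))
noncomputable def nd2853 (i : Nat) : Nat := (Bool.rec (motive := fun _ => Nat) ((Bool.rec (motive := fun _ => Nat) (nd2854 i) (nd2855 i) (Nat.ble 169984 i))) ((Bool.rec (motive := fun _ => Nat) (nd2856 i) (nd2857 i) (Nat.ble 178176 i))) (Nat.ble 174080 i))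
noncomputable def nd2859 (i : Nat) : Nat := (Bool.rec (motive := fun _ => Nat) ((Bool.rec (motive := fun _ => Nat) (nl6964 i) (nl6965 i) (Nat.ble 183296 i))) ((Bool.rec (motive := fun _ => Nat) (nl6966 i) (nl6967 i) (Nat.ble 185344 i))) (Nat.ble 184320 i))
noncomputable def nd2860 (i : Nat) : Nat := (Bool.rec (motive := fun _ => Nat) ((Bool.rec (motive := fun _ => Nat) (nl6968 i) (nl6969 i) (Nat.ble 187392 i))) ((Bool.rec (motive := fun _ => Nat) (nl6970 i) (nl6971 i) (Nat.ble 189440 i))) (Nat.ble 188416 i))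
noncomputable def nd2861 (i : Nat) : Nat := (Bool.rec (motive := fun _ => Nat) ((Bool.rec (motive := fun _ => Nat) (nl6972 i) (nl6973 i) (Nat.ble 191488 i))) ((Bool.rec (motive := fun _ => Nat) (nl6974 i) (nl6975 i) (Nat.ble 193536 i))) (Nat.ble 192512 i))
noncomputable def nd2863 (i : Nat) : Nat := (Bool.rec (motive := fun _ => Nat) (nl6979 i) (nl6980 i) (Nat.ble 198656 i))
noncomputable def nd2862 (i : Nat) : Nat := (Bool.rec (motive := fun _ => Nat) ((Bool.rec (motive := fun _ => Nat) (nl6976 i) (nl6977 i) (Nat.ble 195584 i))) ((Bool.rec (motive := fun _ => Nat) (nl6978 i) (nd2863 i) (Nat.ble 197632 i))) (Nat.ble 196608 i))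
noncomputable def nd2858 (i : Nat) : Nat := (Bool.rec (motive := fun _ => Nat) ((Bool.rec (motive := fun _ => Nat) (nd2859 i) (nd2860 i) (Nat.ble 186368 i))) ((Bool.rec (motive := fun _ => Nat) (nd2861 i) (nd2862 i) (Nat.ble 194560 i))) (Nat.ble 190464 i))
noncomputable def nd2842 (i : Nat) : Nat := (Bool.rec (motive := fun _ => Nat) ((Bool.rec (motive := fun _ => Nat) (nd2843 i) (nd2848 i) (Nat.ble 149504 i))) ((Bool.rec (motive := fun _ => Nat) (nd2853 i) (nd2858 i) (Nat.ble 182272 i))) (Nat.ble 165888 i))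
noncomputable def nd2866 (i : Nat) : Nat := (Bool.rec (motive := fun _ => Nat) ((Bool.rec (motive := fun _ => Nat) (nl6981 i) (nl6982 i) (Nat.ble 200704 i))) ((Bool.rec (motive := fun _ => Nat) (nl6983 i) (nl6984 i) (Nat.ble 202752 i))) (Nat.ble 201728 i))
noncomputable def nd2867 (i : Nat) : Nat := (Bool.rec (motive := fun _ => Nat) ((Bool.rec (motive := fun _ => Nat) (nl6985 i) (nl6986 i) (Nat.ble 204800 i))) ((Bool.rec (motive := fun _ => Nat) (nl6987 i) (nl6988 i) (Nat.ble 206848 i))) (Nat.ble 205824 i))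
noncomputable def nd2868 (i : Nat) : Nat := (Bool.rec (motive := fun _ => Nat) ((Bool.rec (motive := fun _ => Nat) (nl6989 i) (nl6990 i) (Nat.ble 208896 i))) ((Bool.rec (motive := fun _ => Nat) (nl6991 i) (nl6992 i) (Nat.ble 210944 i))) (Nat.ble 209920 i))
noncomputable def nd2869 (i : Nat) : Nat := (Bool.rec (motive := fun _ => Nat) ((Bool.rec (motive := fun _ => Nat) (nl6993 i) (nl6994 i) (Nat.ble 212992 i))) ((Bool.rec (motive := fun _ => Nat) (nl6995 i) (nl6996 i) (Nat.ble 215040 i))) (Nat.ble 214016 i))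
noncomputable def nd2865 (i : Nat) : Nat := (Bool.rec (motive := fun _ => Nat) ((Bool.rec (motive := fun _ => Nat) (nd2866 i) (nd2867 i) (Nat.ble 203776 i))) ((Bool.rec (motive := fun _ => Nat) (nd2868 i) (nd2869 i) (Nat.ble 211968 i))) (Nat.ble 207872 i))
noncomputable def nd2871 (i : Nat) : Nat := (Bool.rec (motive := fun _ => Nat) ((Bool.rec (motive := fun _ => Nat) (nl6997 i) (nl6998 i) (Nat.ble 217088 i))) ((Bool.rec (motive := fun _ => Nat) (nl6999 i) (nl7000 i) (Nat.ble 219136 i))) (Nat.ble 218112 i))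
noncomputable def nd2872 (i : Nat) : Nat := (Bool.rec (motive := fun _ => Nat) ((Bool.rec (motive := fun _ => Nat) (nl7001 i) (nl7002 i) (Nat.ble 221184 i))) ((Bool.rec (motive := fun _ => Nat) (nl7003 i) (nl7004 i) (Nat.ble 223232 i))) (Nat.ble 222208 i))
noncomputable def nd2873 (i : Nat) : Nat := (Bool.rec (motive := fun _ => Nat) ((Bool.rec (motive := fun _ => Nat) (nl7005 i) (nl7006 i) (Nat.ble 225280 i))) ((Bool.rec (motive := fun _ => Nat) (nl7007 i) (nl7008 i) (Nat.ble 227328 i))) (Nat.ble 226304 i))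
noncomputable def nd2875 (i : Nat) : Nat := (Bool.rec (motive := fun _ => Nat) (nl7012 i) (nl7013 i) (Nat.ble 232448 i))
noncomputable def nd2874 (i : Nat) : Nat := (Bool.rec (motive := fun _ => Nat) ((Bool.rec (motive := fun _ => Nat) (nl7009 i) (nl7010 i) (Nat.ble 229376 i))) ((Bool.rec (motive := fun _ => Nat) (nl7011 i) (nd2875 i) (Nat.ble 231424 i))) (Nat.ble 230400 i))
noncomputable def nd2870 (i : Nat) : Nat := (Bool.rec (motive := fun _ => Nat) ((Bool.rec (motive := fun _ => Nat) (nd2871 i) (nd2872 i) (Nat.ble 220160 i))) ((Bool.rec (motive := fun _ => Nat) (nd2873 i) (nd2874 i) (Nat.ble 228352 i))) (Nat.ble 224256 i))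
noncomputable def nd2877 (i : Nat) : Nat := (Bool.rec (motive := fun _ => Nat) ((Bool.rec (motive := fun _ => Nat) (nl7014 i) (nl7015 i) (Nat.ble 234496 i))) ((Bool.rec (motive := fun _ => Nat) (nl7016 i) (nl7017 i) (Nat.ble 236544 i))) (Nat.ble 235520 i))
noncomputable def nd2878 (i : Nat) : Nat := (Bool.rec (motive := fun _ => Nat) ((Bool.rec (motive := fun _ => Nat) (nl7018 i) (nl7019 i) (Nat.ble 238592 i))) ((Bool.rec (motive := fun _ => Nat) (nl7020 i) (nl7021 i) (Nat.ble 240640 i))) (Nat.ble 239616 i))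
noncomputable def nd2879 (i : Nat) : Nat := (Bool.rec (motive := fun _ => Nat) ((Bool.rec (motive := fun _ => Nat) (nl7022 i) (nl7023 i) (Nat.ble 242688 i))) ((Bool.rec (motive := fun _ => Nat) (nl7024 i) (nl7025 i) (Nat.ble 244736 i))) (Nat.ble 243712 i))
noncomputable def nd2880 (i : Nat) : Nat := (Bool.rec (motive := fun _ => Nat) ((Bool.rec (motive := fun _ => Nat) (nl7026 i) (nl7027 i) (Nat.ble 246784 i))) ((Bool.rec (motive := fun _ => Nat) (nl7028 i) (nl7029 i) (Nat.ble 248832 i))) (Nat.ble 247808 i))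
noncomputable def nd2876 (i : Nat) : Nat := (Bool.rec (motive := fun _ => Nat) ((Bool.rec (motive := fun _ => Nat) (nd2877 i) (nd2878 i) (Nat.ble 237568 i))) ((Bool.rec (motive := fun _ => Nat) (nd2879 i) (nd2880 i) (Nat.ble 245760 i))) (Nat.ble 241664 i))
noncomputable def nd2882 (i : Nat) : Nat := (Bool.rec (motive := fun _ => Nat) ((Bool.rec (motive := fun _ => Nat) (nl7030 i) (nl7031 i) (Nat.ble 250880 i))) ((Bool.rec (motive := fun _ => Nat) (nl7032 i) (nl7033 i) (Nat.ble 252928 i))) (Nat.ble 251904 i))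
noncomputable def nd2883 (i : Nat) : Nat := (Bool.rec (motive := fun _ => Nat) ((Bool.rec (motive := fun _ => Nat) (nl7034 i) (nl7035 i) (Nat.ble 254976 i))) ((Bool.rec (motive := fun _ => Nat) (nl7036 i) (nl7037 i) (Nat.ble 257024 i))) (Nat.ble 256000 i))
noncomputable def nd2884 (i : Nat) : Nat := (Bool.rec (motive := fun _ => Nat) ((Bool.rec (motive := fun _ => Nat) (nl7038 i) (nl7039 i) (Nat.ble 259072 i))) ((Bool.rec (motive := fun _ => Nat) (nl7040 i) (nl7041 i) (Nat.ble 261120 i))) (Nat.ble 260096 i))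
noncomputable def nd2886 (i : Nat) : Nat := (Bool.rec (motive := fun _ => Nat) (nl7045 i) (nl7046 i) (Nat.ble 266240 i))
noncomputable def nd2885 (i : Nat) : Nat := (Bool.rec (motive := fun _ => Nat) ((Bool.rec (motive := fun _ => Nat) (nl7042 i) (nl7043 i) (Nat.ble 263168 i))) ((Bool.rec (motive := fun _ => Nat) (nl7044 i) (nd2886 i) (Nat.ble 265216 i))) (Nat.ble 264192 i))
noncomputable def nd2881 (i : Nat) : Nat := (Bool.rec (motive := fun _ => Nat) ((Bool.rec (motive := fun _ => Nat) (nd2882 i) (nd2883 i) (Nat.ble 253952 i))) ((Bool.rec (motive := fun _ => Nat) (nd2884 i) (nd2885 i) (Nat.ble 262144 i))) (Nat.ble 258048 i))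
noncomputable def nd2864 (i : Nat) : Nat := (Bool.rec (motive := fun _ => Nat) ((Bool.rec (motive := fun _ => Nat) (nd2865 i) (nd2870 i) (Nat.ble 216064 i))) ((Bool.rec (motive := fun _ => Nat) (nd2876 i) (nd2881 i) (Nat.ble 249856 i))) (Nat.ble 233472 i))
noncomputable def nd2797 (i : Nat) : Nat := (Bool.rec (motive := fun _ => Nat) ((Bool.rec (motive := fun _ => Nat) (nd2798 i) (nd2820 i) (Nat.ble 66560 i))) ((Bool.rec (motive := fun _ => Nat) (nd2842 i) (nd2864 i) (Nat.ble 199680 i))) (Nat.ble 133120 i))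
noncomputable def nd2890 (i : Nat) : Nat := (Bool.rec (motive := fun _ => Nat) ((Bool.rec (motive := fun _ => Nat) (nl7047 i) (nl7048 i) (Nat.ble 1024 i))) ((Bool.rec (motive := fun _ => Nat) (nl7049 i) (nl7050 i) (Nat.ble 3072 i))) (Nat.ble 2048 i))
noncomputable def nd2891 (i : Nat) : Nat := (Bool.rec (motive := fun _ => Nat) ((Bool.rec (motive := fun _ => Nat) (nl7051 i) (nl7052 i) (Nat.ble 5120 i))) ((Bool.rec (motive := fun _ => Nat) (nl7053 i) (nl7054 i) (Nat.ble 7168 i))) (Nat.ble 6144 i))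
noncomputable def nd2892 (i : Nat) : Nat := (Bool.rec (motive := fun _ => Nat) ((Bool.rec (motive := fun _ => Nat) (nl7055 i) (nl7056 i) (Nat.ble 9216 i))) ((Bool.rec (motive := fun _ => Nat) (nl7057 i) (nl7058 i) (Nat.ble 11264 i))) (Nat.ble 10240 i))
noncomputable def nd2893 (i : Nat) : Nat := (Bool.rec (motive := fun _ => Nat) ((Bool.rec (motive := fun _ => Nat) (nl7059 i) (nl7060 i) (Nat.ble 13312 i))) ((Bool.rec (motive := fun _ => Nat) (nl7061 i) (nl7062 i) (Nat.ble 15360 i))) (Nat.ble 14336 i))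
noncomputable def nd2889 (i : Nat) : Nat := (Bool.rec (motive := fun _ => Nat) ((Bool.rec (motive := fun _ => Nat) (nd2890 i) (nd2891 i) (Nat.ble 4096 i))) ((Bool.rec (motive := fun _ => Nat) (nd2892 i) (nd2893 i) (Nat.ble 12288 i))) (Nat.ble 8192 i))
noncomputable def nd2895 (i : Nat) : Nat := (Bool.rec (motive := fun _ => Nat) ((Bool.rec (motive := fun _ => Nat) (nl7063 i) (nl7064 i) (Nat.ble 17408 i))) ((Bool.rec (motive := fun _ => Nat) (nl7065 i) (nl7066 i) (Nat.ble 19456 i))) (Nat.ble 18432 i))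
noncomputable def nd2896 (i : Nat) : Nat := (Bool.rec (motive := fun _ => Nat) ((Bool.rec (motive := fun _ => Nat) (nl7067 i) (nl7068 i) (Nat.ble 21504 i))) ((Bool.rec (motive := fun _ => Nat) (nl7069 i) (nl7070 i) (Nat.ble 23552 i))) (Nat.ble 22528 i))
noncomputable def nd2897 (i : Nat) : Nat := (Bool.rec (motive := fun _ => Nat) ((Bool.rec (motive := fun _ => Nat) (nl7071 i) (nl7072 i) (Nat.ble 25600 i))) ((Bool.rec (motive := fun _ => Nat) (nl7073 i) (nl7074 i) (Nat.ble 27648 i))) (Nat.ble 26624 i))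
noncomputable def nd2898 (i : Nat) : Nat := (Bool.rec (motive := fun _ => Nat) ((Bool.rec (motive := fun _ => Nat) (nl7075 i) (nl7076 i) (Nat.ble 29696 i))) ((Bool.rec (motive := fun _ => Nat) (nl7077 i) (nl7078 i) (Nat.ble 31744 i))) (Nat.ble 30720 i))
noncomputable def nd2894 (i : Nat) : Nat := (Bool.rec (motive := fun _ => Nat) ((Bool.rec (motive := fun _ => Nat) (nd2895 i) (nd2896 i) (Nat.ble 20480 i))) ((Bool.rec (motive := fun _ => Nat) (nd2897 i) (nd2898 i) (Nat.ble 28672 i))) (Nat.ble 24576 i))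
noncomputable def nd2900 (i : Nat) : Nat := (Bool.rec (motive := fun _ => Nat) ((Bool.rec (motive := fun _ => Nat) (nl7079 i) (nl7080 i) (Nat.ble 33792 i))) ((Bool.rec (motive := fun _ => Nat) (nl7081 i) (nl7082 i) (Nat.ble 35840 i))) (Nat.ble 34816 i))
noncomputable def nd2901 (i : Nat) : Nat := (Bool.rec (motive := fun _ => Nat) ((Bool.rec (motive := fun _ => Nat) (nl7083 i) (nl7084 i) (Nat.ble 37888 i))) ((Bool.rec (motive := fun _ => Nat) (nl7085 i) (nl7086 i) (Nat.ble 39936 i))) (Nat.ble 38912 i))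
noncomputable def nd2902 (i : Nat) : Nat := (Bool.rec (motive := fun _ => Nat) ((Bool.rec (motive := fun _ => Nat) (nl7087 i) (nl7088 i) (Nat.ble 41984 i))) ((Bool.rec (motive := fun _ => Nat) (nl7089 i) (nl7090 i) (Nat.ble 44032 i))) (Nat.ble 43008 i))
noncomputable def nd2903 (i : Nat) : Nat := (Bool.rec (motive := fun _ => Nat) ((Bool.rec (motive := fun _ => Nat) (nl7091 i) (nl7092 i) (Nat.ble 46080 i))) ((Bool.rec (motive := fun _ => Nat) (nl7093 i) (nl7094 i) (Nat.ble 48128 i))) (Nat.ble 47104 i))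
noncomputable def nd2899 (i : Nat) : Nat := (Bool.rec (motive := fun _ => Nat) ((Bool.rec (motive := fun _ => Nat) (nd2900 i) (nd2901 i) (Nat.ble 36864 i))) ((Bool.rec (motive := fun _ => Nat) (nd2902 i) (nd2903 i) (Nat.ble 45056 i))) (Nat.ble 40960 i))
noncomputable def nd2905 (i : Nat) : Nat := (Bool.rec (motive := fun _ => Nat) ((Bool.rec (motive := fun _ => Nat) (nl7095 i) (nl7096 i) (Nat.ble 50176 i))) ((Bool.rec (motive := fun _ => Nat) (nl7097 i) (nl7098 i) (Nat.ble 52224 i))) (Nat.ble 51200 i))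
noncomputable def nd2906 (i : Nat) : Nat := (Bool.rec (motive := fun _ => Nat) ((Bool.rec (motive := fun _ => Nat) (nl7099 i) (nl7100 i) (Nat.ble 54272 i))) ((Bool.rec (motive := fun _ => Nat) (nl7101 i) (nl7102 i) (Nat.ble 56320 i))) (Nat.ble 55296 i))
noncomputable def nd2907 (i : Nat) : Nat := (Bool.rec (motive := fun _ => Nat) ((Bool.rec (motive := fun _ => Nat) (nl7103 i) (nl7104 i) (Nat.ble 58368 i))) ((Bool.rec (motive := fun _ => Nat) (nl7105 i) (nl7106 i) (Nat.ble 60416 i))) (Nat.ble 59392 i))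
noncomputable def nd2909 (i : Nat) : Nat := (Bool.rec (motive := fun _ => Nat) (nl7110 i) (nl7111 i) (Nat.ble 65536 i))
noncomputable def nd2908 (i : Nat) : Nat := (Bool.rec (motive := fun _ => Nat) ((Bool.rec (motive := fun _ => Nat) (nl7107 i) (nl7108 i) (Nat.ble 62464 i))) ((Bool.rec (motive := fun _ => Nat) (nl7109 i) (nd2909 i) (Nat.ble 64512 i))) (Nat.ble 63488 i))
noncomputable def nd2904 (i : Nat) : Nat := (Bool.rec (motive := fun _ => Nat) ((Bool.rec (motive := fun _ => Nat) (nd2905 i) (nd2906 i) (Nat.ble 53248 i))) ((Bool.rec (motive := fun _ => Nat) (nd2907 i) (nd2908 i) (Nat.ble 61440 i))) (Nat.ble 57344 i))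
noncomputable def nd2888 (i : Nat) : Nat := (Bool.rec (motive := fun _ => Nat) ((Bool.rec (motive := fun _ => Nat) (nd2889 i) (nd2894 i) (Nat.ble 16384 i))) ((Bool.rec (motive := fun _ => Nat) (nd2899 i) (nd2904 i) (Nat.ble 49152 i))) (Nat.ble 32768 i))
noncomputable def nd2912 (i : Nat) : Nat := (Bool.rec (motive := fun _ => Nat) ((Bool.rec (motive := fun _ => Nat) (nl7112 i) (nl7113 i) (Nat.ble 67584 i))) ((Bool.rec (motive := fun _ => Nat) (nl7114 i) (nl7115 i) (Nat.ble 69632 i))) (Nat.ble 68608 i))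
noncomputable def nd2913 (i : Nat) : Nat := (Bool.rec (motive := fun _ => Nat) ((Bool.rec (motive := fun _ => Nat) (nl7116 i) (nl7117 i) (Nat.ble 71680 i))) ((Bool.rec (motive := fun _ => Nat) (nl7118 i) (nl7119 i) (Nat.ble 73728 i))) (Nat.ble 72704 i))
noncomputable def nd2914 (i : Nat) : Nat := (Bool.rec (motive := fun _ => Nat) ((Bool.rec (motive := fun _ => Nat) (nl7120 i) (nl7121 i) (Nat.ble 75776 i))) ((Bool.rec (motive := fun _ => Nat) (nl7122 i) (nl7123 i) (Nat.ble 77824 i))) (Nat.ble 76800 i))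
noncomputable def nd2915 (i : Nat) : Nat := (Bool.rec (motive := fun _ => Nat) ((Bool.rec (motive := fun _ => Nat) (nl7124 i) (nl7125 i) (Nat.ble 79872 i))) ((Bool.rec (motive := fun _ => Nat) (nl7126 i) (nl7127 i) (Nat.ble 81920 i))) (Nat.ble 80896 i))
noncomputable def nd2911 (i : Nat) : Nat := (Bool.rec (motive := fun _ => Nat) ((Bool.rec (motive := fun _ => Nat) (nd2912 i) (nd2913 i) (Nat.ble 70656 i))) ((Bool.rec (motive := fun _ => Nat) (nd2914 i) (nd2915 i) (Nat.ble 78848 i))) (Nat.ble 74752 i))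
noncomputable def nd2917 (i : Nat) : Nat := (Bool.rec (motive := fun _ => Nat) ((Bool.rec (motive := fun _ => Nat) (nl7128 i) (nl7129 i) (Nat.ble 83968 i))) ((Bool.rec (motive := fun _ => Nat) (nl7130 i) (nl7131 i) (Nat.ble 86016 i))) (Nat.ble 84992 i))
noncomputable def nd2918 (i : Nat) : Nat := (Bool.rec (motive := fun _ => Nat) ((Bool.rec (motive := fun _ => Nat) (nl7132 i) (nl7133 i) (Nat.ble 88064 i))) ((Bool.rec (motive := fun _ => Nat) (nl7134 i) (nl7135 i) (Nat.ble 90112 i))) (Nat.ble 89088 i))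
noncomputable def nd2919 (i : Nat) : Nat := (Bool.rec (motive := fun _ => Nat) ((Bool.rec (motive := fun _ => Nat) (nl7136 i) (nl7137 i) (Nat.ble 92160 i))) ((Bool.rec (motive := fun _ => Nat) (nl7138 i) (nl7139 i) (Nat.ble 94208 i))) (Nat.ble 93184 i))
noncomputable def nd2920 (i : Nat) : Nat := (Bool.rec (motive := fun _ => Nat) ((Bool.rec (motive := fun _ => Nat) (nl7140 i) (nl7141 i) (Nat.ble 96256 i))) ((Bool.rec (motive := fun _ => Nat) (nl7142 i) (nl7143 i) (Nat.ble 98304 i))) (Nat.ble 97280 i))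
noncomputable def nd2916 (i : Nat) : Nat := (Bool.rec (motive := fun _ => Nat) ((Bool.rec (motive := fun _ => Nat) (nd2917 i) (nd2918 i) (Nat.ble 87040 i))) ((Bool.rec (motive := fun _ => Nat) (nd2919 i) (nd2920 i) (Nat.ble 95232 i))) (Nat.ble 91136 i))
noncomputable def nd2922 (i : Nat) : Nat := (Bool.rec (motive := fun _ => Nat) ((Bool.rec (motive := fun _ => Nat) (nl7144 i) (nl7145 i) (Nat.ble 100352 i))) ((Bool.rec (motive := fun _ => Nat) (nl7146 i) (nl7147 i) (Nat.ble 102400 i))) (Nat.ble 101376 i))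
noncomputable def nd2923 (i : Nat) : Nat := (Bool.rec (motive := fun _ => Nat) ((Bool.rec (motive := fun _ => Nat) (nl7148 i) (nl7149 i) (Nat.ble 104448 i))) ((Bool.rec (motive := fun _ => Nat) (nl7150 i) (nl7151 i) (Nat.ble 106496 i))) (Nat.ble 105472 i))
noncomputable def nd2924 (i : Nat) : Nat := (Bool.rec (motive := fun _ => Nat) ((Bool.rec (motive := fun _ => Nat) (nl7152 i) (nl7153 i) (Nat.ble 108544 i))) ((Bool.rec (motive := fun _ => Nat) (nl7154 i) (nl7155 i) (Nat.ble 110592 i))) (Nat.ble 109568 i))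
noncomputable def nd2925 (i : Nat) : Nat := (Bool.rec (motive := fun _ => Nat) ((Bool.rec (motive := fun _ => Nat) (nl7156 i) (nl7157 i) (Nat.ble 112640 i))) ((Bool.rec (motive := fun _ => Nat) (nl7158 i) (nl7159 i) (Nat.ble 114688 i))) (Nat.ble 113664 i))
noncomputable def nd2921 (i : Nat) : Nat := (Bool.rec (motive := fun _ => Nat) ((Bool.rec (motive := fun _ => Nat) (nd2922 i) (nd2923 i) (Nat.ble 103424 i))) ((Bool.rec (motive := fun _ => Nat) (nd2924 i) (nd2925 i) (Nat.ble 111616 i))) (Nat.ble 107520 i))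
noncomputable def nd2927 (i : Nat) : Nat := (Bool.rec (motive := fun _ => Nat) ((Bool.rec (motive := fun _ => Nat) (nl7160 i) (nl7161 i) (Nat.ble 116736 i))) ((Bool.rec (motive := fun _ => Nat) (nl7162 i) (nl7163 i) (Nat.ble 118784 i))) (Nat.ble 117760 i))
noncomputable def nd2928 (i : Nat) : Nat := (Bool.rec (motive := fun _ => Nat) ((Bool.rec (motive := fun _ => Nat) (nl7164 i) (nl7165 i) (Nat.ble 120832 i))) ((Bool.rec (motive := fun _ => Nat) (nl7166 i) (nl7167 i) (Nat.ble 122880 i))) (Nat.ble 121856 i))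
noncomputable def nd2929 (i : Nat) : Nat := (Bool.rec (motive := fun _ => Nat) ((Bool.rec (motive := fun _ => Nat) (nl7168 i) (nl7169 i) (Nat.ble 124928 i))) ((Bool.rec (motive := fun _ => Nat) (nl7170 i) (nl7171 i) (Nat.ble 126976 i))) (Nat.ble 125952 i))
noncomputable def nd2931 (i : Nat) : Nat := (Bool.rec (motive := fun _ => Nat) (nl7175 i) (nl7176 i) (Nat.ble 132096 i))
noncomputable def nd2930 (i : Nat) : Nat := (Bool.rec (motive := fun _ => Nat) ((Bool.rec (motive := fun _ => Nat) (nl7172 i) (nl7173 i) (Nat.ble 129024 i))) ((Bool.rec (motive := fun _ => Nat) (nl7174 i) (nd2931 i) (Nat.ble 131072 i))) (Nat.ble 130048 i))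
noncomputable def nd2926 (i : Nat) : Nat := (Bool.rec (motive := fun _ => Nat) ((Bool.rec (motive := fun _ => Nat) (nd2927 i) (nd2928 i) (Nat.ble 119808 i))) ((Bool.rec (motive := fun _ => Nat) (nd2929 i) (nd2930 i) (Nat.ble 128000 i))) (Nat.ble 123904 i))
noncomputable def nd2910 (i : Nat) : Nat := (Bool.rec (motive := fun _ => Nat) ((Bool.rec (motive := fun _ => Nat) (nd2911 i) (nd2916 i) (Nat.ble 82944 i))) ((Bool.rec (motive := fun _ => Nat) (nd2921 i) (nd2926 i) (Nat.ble 115712 i))) (Nat.ble 99328 i))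
noncomputable def nd2934 (i : Nat) : Nat := (Bool.rec (motive := fun _ => Nat) ((Bool.rec (motive := fun _ => Nat) (nl7177 i) (nl7178 i) (Nat.ble 134144 i))) ((Bool.rec (motive := fun _ => Nat) (nl7179 i) (nl7180 i) (Nat.ble 136192 i))) (Nat.ble 135168 i))
noncomputable def nd2935 (i : Nat) : Nat := (Bool.rec (motive := fun _ => Nat) ((Bool.rec (motive := fun _ => Nat) (nl7181 i) (nl7182 i) (Nat.ble 138240 i))) ((Bool.rec (motive := fun _ => Nat) (nl7183 i) (nl7184 i) (Nat.ble 140288 i))) (Nat.ble 139264 i))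
noncomputable def nd2936 (i : Nat) : Nat := (Bool.rec (motive := fun _ => Nat) ((Bool.rec (motive := fun _ => Nat) (nl7185 i) (nl7186 i) (Nat.ble 142336 i))) ((Bool.rec (motive := fun _ => Nat) (nl7187 i) (nl7188 i) (Nat.ble 144384 i))) (Nat.ble 143360 i))
noncomputable def nd2937 (i : Nat) : Nat := (Bool.rec (motive := fun _ => Nat) ((Bool.rec (motive := fun _ => Nat) (nl7189 i) (nl7190 i) (Nat.ble 146432 i))) ((Bool.rec (motive := fun _ => Nat) (nl7191 i) (nl7192 i) (Nat.ble 148480 i))) (Nat.ble 147456 i))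
noncomputable def nd2933 (i : Nat) : Nat := (Bool.rec (motive := fun _ => Nat) ((Bool.rec (motive := fun _ => Nat) (nd2934 i) (nd2935 i) (Nat.ble 137216 i))) ((Bool.rec (motive := fun _ => Nat) (nd2936 i) (nd2937 i) (Nat.ble 145408 i))) (Nat.ble 141312 i))
noncomputable def nd2939 (i : Nat) : Nat := (Bool.rec (motive := fun _ => Nat) ((Bool.rec (motive := fun _ => Nat) (nl7193 i) (nl7194 i) (Nat.ble 150528 i))) ((Bool.rec (motive := fun _ => Nat) (nl7195 i) (nl7196 i) (Nat.ble 152576 i))) (Nat.ble 151552 i))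
noncomputable def nd2940 (i : Nat) : Nat := (Bool.rec (motive := fun _ => Nat) ((Bool.rec (motive := fun _ => Nat) (nl7197 i) (nl7198 i) (Nat.ble 154624 i))) ((Bool.rec (motive := fun _ => Nat) (nl7199 i) (nl7200 i) (Nat.ble 156672 i))) (Nat.ble 155648 i))
noncomputable def nd2941 (i : Nat) : Nat := (Bool.rec (motive := fun _ => Nat) ((Bool.rec (motive := fun _ => Nat) (nl7201 i) (nl7202 i) (Nat.ble 158720 i))) ((Bool.rec (motive := fun _ => Nat) (nl7203 i) (nl7204 i) (Nat.ble 160768 i))) (Nat.ble 159744 i))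
noncomputable def nd2942 (i : Nat) : Nat := (Bool.rec (motive := fun _ => Nat) ((Bool.rec (motive := fun _ => Nat) (nl7205 i) (nl7206 i) (Nat.ble 162816 i))) ((Bool.rec (motive := fun _ => Nat) (nl7207 i) (nl7208 i) (Nat.ble 164864 i))) (Nat.ble 163840 i))
noncomputable def nd2938 (i : Nat) : Nat := (Bool.rec (motive := fun _ => Nat) ((Bool.rec (motive := fun _ => Nat) (nd2939 i) (nd2940 i) (Nat.ble 153600 i))) ((Bool.rec (motive := fun _ => Nat) (nd2941 i) (nd2942 i) (Nat.ble 161792 i))) (Nat.ble 157696 i))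
noncomputable def nd2944 (i : Nat) : Nat := (Bool.rec (motive := fun _ => Nat) ((Bool.rec (motive := fun _ => Nat) (nl7209 i) (nl7210 i) (Nat.ble 166912 i))) ((Bool.rec (motive := fun _ => Nat) (nl7211 i) (nl7212 i) (Nat.ble 168960 i))) (Nat.ble 167936 i))
noncomputable def nd2945 (i : Nat) : Nat := (Bool.rec (motive := fun _ => Nat) ((Bool.rec (motive := fun _ => Nat) (nl7213 i) (nl7214 i) (Nat.ble 171008 i))) ((Bool.rec (motive := fun _ => Nat) (nl7215 i) (nl7216 i) (Nat.ble 173056 i))) (Nat.ble 172032 i))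
noncomputable def nd2946 (i : Nat) : Nat := (Bool.rec (motive := fun _ => Nat) ((Bool.rec (motive := fun _ => Nat) (nl7217 i) (nl7218 i) (Nat.ble 175104 i))) ((Bool.rec (motive := fun _ => Nat) (nl7219 i) (nl7220 i) (Nat.ble 177152 i))) (Nat.ble 176128 i))
noncomputable def nd2947 (i : Nat) : Nat := (Bool.rec (motive := fun _ => Nat) ((Bool.rec (motive := fun _ => Nat) (nl7221 i) (nl7222 i) (Nat.ble 179200 i))) ((Bool.rec (motive := fun _ => Nat) (nl7223 i) (nl7224 i) (Nat.ble 181248 i))) (Nat.ble 180224 i))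
noncomputable def nd2943 (i : Nat) : Nat := (Bool.rec (motive := fun _ => Nat) ((Bool.rec (motive := fun _ => Nat) (nd2944 i) (nd2945 i) (Nat.ble 169984 i))) ((Bool.rec (motive := fun _ => Nat) (nd2946 i) (nd2947 i) (Nat.ble 178176 i))) (Nat.ble 174080 i))
noncomputable def nd2949 (i : Nat) : Nat := (Bool.rec (motive := fun _ => Nat) ((Bool.rec (motive := fun _ => Nat) (nl7225 i) (nl7226 i) (Nat.ble 183296 i))) ((Bool.rec (motive := fun _ => Nat) (nl7227 i) (nl7228 i) (Nat.ble 185344 i))) (Nat.ble 184320 i))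
noncomputable def nd2950 (i : Nat) : Nat := (Bool.rec (motive := fun _ => Nat) ((Bool.rec (motive := fun _ => Nat) (nl7229 i) (nl7230 i) (Nat.ble 187392 i))) ((Bool.rec (motive := fun _ => Nat) (nl7231 i) (nl7232 i) (Nat.ble 189440 i))) (Nat.ble 188416 i))
noncomputable def nd2951 (i : Nat) : Nat := (Bool.rec (motive := fun _ => Nat) ((Bool.rec (motive := fun _ => Nat) (nl7233 i) (nl7234 i) (Nat.ble 191488 i))) ((Bool.rec (motive := fun _ => Nat) (nl7235 i) (nl7236 i) (Nat.ble 193536 i))) (Nat.ble 192512 i))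
noncomputable def nd2953 (i : Nat) : Nat := (Bool.rec (motive := fun _ => Nat) (nl7240 i) (nl7241 i) (Nat.ble 198656 i))
noncomputable def nd2952 (i : Nat) : Nat := (Bool.rec (motive := fun _ => Nat) ((Bool.rec (motive := fun _ => Nat) (nl7237 i) (nl7238 i) (Nat.ble 195584 i))) ((Bool.rec (motive := fun _ => Nat) (nl7239 i) (nd2953 i) (Nat.ble 197632 i))) (Nat.ble 196608 i))
noncomputable def nd2948 (i : Nat) : Nat := (Bool.rec (motive := fun _ => Nat) ((Bool.rec (motive := fun _ => Nat) (nd2949 i) (nd2950 i) (Nat.ble 186368 i))) ((Bool.rec (motive := fun _ => Nat) (nd2951 i) (nd2952 i) (Nat.ble 194560 i))) (Nat.ble 190464 i))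
noncomputable def nd2932 (i : Nat) : Nat := (Bool.rec (motive := fun _ => Nat) ((Bool.rec (motive := fun _ => Nat) (nd2933 i) (nd2938 i) (Nat.ble 149504 i))) ((Bool.rec (motive := fun _ => Nat) (nd2943 i) (nd2948 i) (Nat.ble 182272 i))) (Nat.ble 165888 i))
noncomputable def nd2956 (i : Nat) : Nat := (Bool.rec (motive := fun _ => Nat) ((Bool.rec (motive := fun _ => Nat) (nl7242 i) (nl7243 i) (Nat.ble 200704 i))) ((Bool.rec (motive := fun _ => Nat) (nl7244 i) (nl7245 i) (Nat.ble 202752 i))) (Nat.ble 201728 i))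
noncomputable def nd2957 (i : Nat) : Nat := (Bool.rec (motive := fun _ => Nat) ((Bool.rec (motive := fun _ => Nat) (nl7246 i) (nl7247 i) (Nat.ble 204800 i))) ((Bool.rec (motive := fun _ => Nat) (nl7248 i) (nl7249 i) (Nat.ble 206848 i))) (Nat.ble 205824 i))
noncomputable def nd2958 (i : Nat) : Nat := (Bool.rec (motive := fun _ => Nat) ((Bool.rec (motive := fun _ => Nat) (nl7250 i) (nl7251 i) (Nat.ble 208896 i))) ((Bool.rec (motive := fun _ => Nat) (nl7252 i) (nl7253 i) (Nat.ble 210944 i))) (Nat.ble 209920 i))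
noncomputable def nd2959 (i : Nat) : Nat := (Bool.rec (motive := fun _ => Nat) ((Bool.rec (motive := fun _ => Nat) (nl7254 i) (nl7255 i) (Nat.ble 212992 i))) ((Bool.rec (motive := fun _ => Nat) (nl7256 i) (nl7257 i) (Nat.ble 215040 i))) (Nat.ble 214016 i))
noncomputable def nd2955 (i : Nat) : Nat := (Bool.rec (motive := fun _ => Nat) ((Bool.rec (motive := fun _ => Nat) (nd2956 i) (nd2957 i) (Nat.ble 203776 i))) ((Bool.rec (motive := fun _ => Nat) (nd2958 i) (nd2959 i) (Nat.ble 211968 i))) (Nat.ble 207872 i))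
noncomputable def nd2961 (i : Nat) : Nat := (Bool.rec (motive := fun _ => Nat) ((Bool.rec (motive := fun _ => Nat) (nl7258 i) (nl7259 i) (Nat.ble 217088 i))) ((Bool.rec (motive := fun _ => Nat) (nl7260 i) (nl7261 i) (Nat.ble 219136 i))) (Nat.ble 218112 i))
noncomputable def nd2962 (i : Nat) : Nat := (Bool.rec (motive := fun _ => Nat) ((Bool.rec (motive := fun _ => Nat) (nl7262 i) (nl7263 i) (Nat.ble 221184 i))) ((Bool.rec (motive := fun _ => Nat) (nl7264 i) (nl7265 i) (Nat.ble 223232 i))) (Nat.ble 222208 i))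
noncomputable def nd2963 (i : Nat) : Nat := (Bool.rec (motive := fun _ => Nat) ((Bool.rec (motive := fun _ => Nat) (nl7266 i) (nl7267 i) (Nat.ble 225280 i))) ((Bool.rec (motive := fun _ => Nat) (nl7268 i) (nl7269 i) (Nat.ble 227328 i))) (Nat.ble 226304 i))
noncomputable def nd2965 (i : Nat) : Nat := (Bool.rec (motive := fun _ => Nat) (nl7273 i) (nl7274 i) (Nat.ble 232448 i))
noncomputable def nd2964 (i : Nat) : Nat := (Bool.rec (motive := fun _ => Nat) ((Bool.rec (motive := fun _ => Nat) (nl7270 i) (nl7271 i) (Nat.ble 229376 i))) ((Bool.rec (motive := fun _ => Nat) (nl7272 i) (nd2965 i) (Nat.ble 231424 i))) (Nat.ble 230400 i))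
noncomputable def nd2960 (i : Nat) : Nat := (Bool.rec (motive := fun _ => Nat) ((Bool.rec (motive := fun _ => Nat) (nd2961 i) (nd2962 i) (Nat.ble 220160 i))) ((Bool.rec (motive := fun _ => Nat) (nd2963 i) (nd2964 i) (Nat.ble 228352 i))) (Nat.ble 224256 i))
noncomputable def nd2967 (i : Nat) : Nat := (Bool.rec (motive := fun _ => Nat) ((Bool.rec (motive := fun _ => Nat) (nl7275 i) (nl7276 i) (Nat.ble 234496 i))) ((Bool.rec (motive := fun _ => Nat) (nl7277 i) (nl7278 i) (Nat.ble 236544 i))) (Nat.ble 235520 i))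
noncomputable def nd2968 (i : Nat) : Nat := (Bool.rec (motive := fun _ => Nat) ((Bool.rec (motive := fun _ => Nat) (nl7279 i) (nl7280 i) (Nat.ble 238592 i))) ((Bool.rec (motive := fun _ => Nat) (nl7281 i) (nl7282 i) (Nat.ble 240640 i))) (Nat.ble 239616 i))
noncomputable def nd2969 (i : Nat) : Nat := (Bool.rec (motive := fun _ => Nat) ((Bool.rec (motive := fun _ => Nat) (nl7283 i) (nl7284 i) (Nat.ble 242688 i))) ((Bool.rec (motive := fun _ => Nat) (nl7285 i) (nl7286 i) (Nat.ble 244736 i))) (Nat.ble 243712 i))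
noncomputable def nd2970 (i : Nat) : Nat := (Bool.rec (motive := fun _ => Nat) ((Bool.rec (motive := fun _ => Nat) (nl7287 i) (nl7288 i) (Nat.ble 246784 i))) ((Bool.rec (motive := fun _ => Nat) (nl7289 i) (nl7290 i) (Nat.ble 248832 i))) (Nat.ble 247808 i))
noncomputable def nd2966 (i : Nat) : Nat := (Bool.rec (motive := fun _ => Nat) ((Bool.rec (motive := fun _ => Nat) (nd2967 i) (nd2968 i) (Nat.ble 237568 i))) ((Bool.rec (motive := fun _ => Nat) (nd2969 i) (nd2970 i) (Nat.ble 245760 i))) (Nat.ble 241664 i))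
noncomputable def nd2972 (i : Nat) : Nat := (Bool.rec (motive := fun _ => Nat) ((Bool.rec (motive := fun _ => Nat) (nl7291 i) (nl7292 i) (Nat.ble 250880 i))) ((Bool.rec (motive := fun _ => Nat) (nl7293 i) (nl7294 i) (Nat.ble 252928 i))) (Nat.ble 251904 i))
noncomputable def nd2973 (i : Nat) : Nat := (Bool.rec (motive := fun _ => Nat) ((Bool.rec (motive := fun _ => Nat) (nl7295 i) (nl7296 i) (Nat.ble 254976 i))) ((Bool.rec (motive := fun _ => Nat) (nl7297 i) (nl7298 i) (Nat.ble 257024 i))) (Nat.ble 256000 i))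
noncomputable def nd2974 (i : Nat) : Nat := (Bool.rec (motive := fun _ => Nat) ((Bool.rec (motive := fun _ => Nat) (nl7299 i) (nl7300 i) (Nat.ble 259072 i))) ((Bool.rec (motive := fun _ => Nat) (nl7301 i) (nl7302 i) (Nat.ble 261120 i))) (Nat.ble 260096 i))
noncomputable def nd2976 (i : Nat) : Nat := (Bool.rec (motive := fun _ => Nat) (nl7306 i) (nl7307 i) (Nat.ble 266240 i))
noncomputable def nd2975 (i : Nat) : Nat := (Bool.rec (motive := fun _ => Nat) ((Bool.rec (motive := fun _ => Nat) (nl7303 i) (nl7304 i) (Nat.ble 263168 i))) ((Bool.rec (motive := fun _ => Nat) (nl7305 i) (nd2976 i) (Nat.ble 265216 i))) (Nat.ble 264192 i))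
noncomputable def nd2971 (i : Nat) : Nat := (Bool.rec (motive := fun _ => Nat) ((Bool.rec (motive := fun _ => Nat) (nd2972 i) (nd2973 i) (Nat.ble 253952 i))) ((Bool.rec (motive := fun _ => Nat) (nd2974 i) (nd2975 i) (Nat.ble 262144 i))) (Nat.ble 258048 i))
noncomputable def nd2954 (i : Nat) : Nat := (Bool.rec (motive := fun _ => Nat) ((Bool.rec (motive := fun _ => Nat) (nd2955 i) (nd2960 i) (Nat.ble 216064 i))) ((Bool.rec (motive := fun _ => Nat) (nd2966 i) (nd2971 i) (Nat.ble 249856 i))) (Nat.ble 233472 i))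
noncomputable def nd2887 (i : Nat) : Nat := (Bool.rec (motive := fun _ => Nat) ((Bool.rec (motive := fun _ => Nat) (nd2888 i) (nd2910 i) (Nat.ble 66560 i))) ((Bool.rec (motive := fun _ => Nat) (nd2932 i) (nd2954 i) (Nat.ble 199680 i))) (Nat.ble 133120 i))
noncomputable def nd2980 (i : Nat) : Nat := (Bool.rec (motive := fun _ => Nat) ((Bool.rec (motive := fun _ => Nat) (nl7308 i) (nl7309 i) (Nat.ble 1024 i))) ((Bool.rec (motive := fun _ => Nat) (nl7310 i) (nl7311 i) (Nat.ble 3072 i))) (Nat.ble 2048 i))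
noncomputable def nd2981 (i : Nat) : Nat := (Bool.rec (motive := fun _ => Nat) ((Bool.rec (motive := fun _ => Nat) (nl7312 i) (nl7313 i) (Nat.ble 5120 i))) ((Bool.rec (motive := fun _ => Nat) (nl7314 i) (nl7315 i) (Nat.ble 7168 i))) (Nat.ble 6144 i))
noncomputable def nd2982 (i : Nat) : Nat := (Bool.rec (motive := fun _ => Nat) ((Bool.rec (motive := fun _ => Nat) (nl7316 i) (nl7317 i) (Nat.ble 9216 i))) ((Bool.rec (motive := fun _ => Nat) (nl7318 i) (nl7319 i) (Nat.ble 11264 i))) (Nat.ble 10240 i))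
noncomputable def nd2983 (i : Nat) : Nat := (Bool.rec (motive := fun _ => Nat) ((Bool.rec (motive := fun _ => Nat) (nl7320 i) (nl7321 i) (Nat.ble 13312 i))) ((Bool.rec (motive := fun _ => Nat) (nl7322 i) (nl7323 i) (Nat.ble 15360 i))) (Nat.ble 14336 i))
noncomputable def nd2979 (i : Nat) : Nat := (Bool.rec (motive := fun _ => Nat) ((Bool.rec (motive := fun _ => Nat) (nd2980 i) (nd2981 i) (Nat.ble 4096 i))) ((Bool.rec (motive := fun _ => Nat) (nd2982 i) (nd2983 i) (Nat.ble 12288 i))) (Nat.ble 8192 i))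
noncomputable def nd2985 (i : Nat) : Nat := (Bool.rec (motive := fun _ => Nat) ((Bool.rec (motive := fun _ => Nat) (nl7324 i) (nl7325 i) (Nat.ble 17408 i))) ((Bool.rec (motive := fun _ => Nat) (nl7326 i) (nl7327 i) (Nat.ble 19456 i))) (Nat.ble 18432 i))
noncomputable def nd2986 (i : Nat) : Nat := (Bool.rec (motive := fun _ => Nat) ((Bool.rec (motive := fun _ => Nat) (nl7328 i) (nl7329 i) (Nat.ble 21504 i))) ((Bool.rec (motive := fun _ => Nat) (nl7330 i) (nl7331 i) (Nat.ble 23552 i))) (Nat.ble 22528 i))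
noncomputable def nd2987 (i : Nat) : Nat := (Bool.rec (motive := fun _ => Nat) ((Bool.rec (motive := fun _ => Nat) (nl7332 i) (nl7333 i) (Nat.ble 25600 i))) ((Bool.rec (motive := fun _ => Nat) (nl7334 i) (nl7335 i) (Nat.ble 27648 i))) (Nat.ble 26624 i))
noncomputable def nd2988 (i : Nat) : Nat := (Bool.rec (motive := fun _ => Nat) ((Bool.rec (motive := fun _ => Nat) (nl7336 i) (nl7337 i) (Nat.ble 29696 i))) ((Bool.rec (motive := fun _ => Nat) (nl7338 i) (nl7339 i) (Nat.ble 31744 i))) (Nat.ble 30720 i))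
noncomputable def nd2984 (i : Nat) : Nat := (Bool.rec (motive := fun _ => Nat) ((Bool.rec (motive := fun _ => Nat) (nd2985 i) (nd2986 i) (Nat.ble 20480 i))) ((Bool.rec (motive := fun _ => Nat) (nd2987 i) (nd2988 i) (Nat.ble 28672 i))) (Nat.ble 24576 i))
noncomputable def nd2990 (i : Nat) : Nat := (Bool.rec (motive := fun _ => Nat) ((Bool.rec (motive := fun _ => Nat) (nl7340 i) (nl7341 i) (Nat.ble 33792 i))) ((Bool.rec (motive := fun _ => Nat) (nl7342 i) (nl7343 i) (Nat.ble 35840 i))) (Nat.ble 34816 i))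
noncomputable def nd2991 (i : Nat) : Nat := (Bool.rec (motive := fun _ => Nat) ((Bool.rec (motive := fun _ => Nat) (nl7344 i) (nl7345 i) (Nat.ble 37888 i))) ((Bool.rec (motive := fun _ => Nat) (nl7346 i) (nl7347 i) (Nat.ble 39936 i))) (Nat.ble 38912 i))
noncomputable def nd2992 (i : Nat) : Nat := (Bool.rec (motive := fun _ => Nat) ((Bool.rec (motive := fun _ => Nat) (nl7348 i) (nl7349 i) (Nat.ble 41984 i))) ((Bool.rec (motive := fun _ => Nat) (nl7350 i) (nl7351 i) (Nat.ble 44032 i))) (Nat.ble 43008 i))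
noncomputable def nd2993 (i : Nat) : Nat := (Bool.rec (motive := fun _ => Nat) ((Bool.rec (motive := fun _ => Nat) (nl7352 i) (nl7353 i) (Nat.ble 46080 i))) ((Bool.rec (motive := fun _ => Nat) (nl7354 i) (nl7355 i) (Nat.ble 48128 i))) (Nat.ble 47104 i))
noncomputable def nd2989 (i : Nat) : Nat := (Bool.rec (motive := fun _ => Nat) ((Bool.rec (motive := fun _ => Nat) (nd2990 i) (nd2991 i) (Nat.ble 36864 i))) ((Bool.rec (motive := fun _ => Nat) (nd2992 i) (nd2993 i) (Nat.ble 45056 i))) (Nat.ble 40960 i))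
noncomputable def nd2995 (i : Nat) : Nat := (Bool.rec (motive := fun _ => Nat) ((Bool.rec (motive := fun _ => Nat) (nl7356 i) (nl7357 i) (Nat.ble 50176 i))) ((Bool.rec (motive := fun _ => Nat) (nl7358 i) (nl7359 i) (Nat.ble 52224 i))) (Nat.ble 51200 i))
noncomputable def nd2996 (i : Nat) : Nat := (Bool.rec (motive := fun _ => Nat) ((Bool.rec (motive := fun _ => Nat) (nl7360 i) (nl7361 i) (Nat.ble 54272 i))) ((Bool.rec (motive := fun _ => Nat) (nl7362 i) (nl7363 i) (Nat.ble 56320 i))) (Nat.ble 55296 i))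
noncomputable def nd2997 (i : Nat) : Nat := (Bool.rec (motive := fun _ => Nat) ((Bool.rec (motive := fun _ => Nat) (nl7364 i) (nl7365 i) (Nat.ble 58368 i))) ((Bool.rec (motive := fun _ => Nat) (nl7366 i) (nl7367 i) (Nat.ble 60416 i))) (Nat.ble 59392 i))
noncomputable def nd2999 (i : Nat) : Nat := (Bool.rec (motive := fun _ => Nat) (nl7371 i) (nl7372 i) (Nat.ble 65536 i))
noncomputable def nd2998 (i : Nat) : Nat := (Bool.rec (motive := fun _ => Nat) ((Bool.rec (motive := fun _ => Nat) (nl7368 i) (nl7369 i) (Nat.ble 62464 i))) ((Bool.rec (motive := fun _ => Nat) (nl7370 i) (nd2999 i) (Nat.ble 64512 i))) (Nat.ble 63488 i))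
noncomputable def nd2994 (i : Nat) : Nat := (Bool.rec (motive := fun _ => Nat) ((Bool.rec (motive := fun _ => Nat) (nd2995 i) (nd2996 i) (Nat.ble 53248 i))) ((Bool.rec (motive := fun _ => Nat) (nd2997 i) (nd2998 i) (Nat.ble 61440 i))) (Nat.ble 57344 i))
noncomputable def nd2978 (i : Nat) : Nat := (Bool.rec (motive := fun _ => Nat) ((Bool.rec (motive := fun _ => Nat) (nd2979 i) (nd2984 i) (Nat.ble 16384 i))) ((Bool.rec (motive := fun _ => Nat) (nd2989 i) (nd2994 i) (Nat.ble 49152 i))) (Nat.ble 32768 i))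
noncomputable def nd3002 (i : Nat) : Nat := (Bool.rec (motive := fun _ => Nat) ((Bool.rec (motive := fun _ => Nat) (nl7373 i) (nl7374 i) (Nat.ble 67584 i))) ((Bool.rec (motive := fun _ => Nat) (nl7375 i) (nl7376 i) (Nat.ble 69632 i))) (Nat.ble 68608 i))
noncomputable def nd3003 (i : Nat) : Nat := (Bool.rec (motive := fun _ => Nat) ((Bool.rec (motive := fun _ => Nat) (nl7377 i) (nl7378 i) (Nat.ble 71680 i))) ((Bool.rec (motive := fun _ => Nat) (nl7379 i) (nl7380 i) (Nat.ble 73728 i))) (Nat.ble 72704 i))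
noncomputable def nd3004 (i : Nat) : Nat := (Bool.rec (motive := fun _ => Nat) ((Bool.rec (motive := fun _ => Nat) (nl7381 i) (nl7382 i) (Nat.ble 75776 i))) ((Bool.rec (motive := fun _ => Nat) (nl7383 i) (nl7384 i) (Nat.ble 77824 i))) (Nat.ble 76800 i))
noncomputable def nd3005 (i : Nat) : Nat := (Bool.rec (motive := fun _ => Nat) ((Bool.rec (motive := fun _ => Nat) (nl7385 i) (nl7386 i) (Nat.ble 79872 i))) ((Bool.rec (motive := fun _ => Nat) (nl7387 i) (nl7388 i) (Nat.ble 81920 i))) (Nat.ble 80896 i))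
noncomputable def nd3001 (i : Nat) : Nat := (Bool.rec (motive := fun _ => Nat) ((Bool.rec (motive := fun _ => Nat) (nd3002 i) (nd3003 i) (Nat.ble 70656 i))) ((Bool.rec (motive := fun _ => Nat) (nd3004 i) (nd3005 i) (Nat.ble 78848 i))) (Nat.ble 74752 i))
noncomputable def nd3007 (i : Nat) : Nat := (Bool.rec (motive := fun _ => Nat) ((Bool.rec (motive := fun _ => Nat) (nl7389 i) (nl7390 i) (Nat.ble 83968 i))) ((Bool.rec (motive := fun _ => Nat) (nl7391 i) (nl7392 i) (Nat.ble 86016 i))) (Nat.ble 84992 i))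
noncomputable def nd3008 (i : Nat) : Nat := (Bool.rec (motive := fun _ => Nat) ((Bool.rec (motive := fun _ => Nat) (nl7393 i) (nl7394 i) (Nat.ble 88064 i))) ((Bool.rec (motive := fun _ => Nat) (nl7395 i) (nl7396 i) (Nat.ble 90112 i))) (Nat.ble 89088 i))
noncomputable def nd3009 (i : Nat) : Nat := (Bool.rec (motive := fun _ => Nat) ((Bool.rec (motive := fun _ => Nat) (nl7397 i) (nl7398 i) (Nat.ble 92160 i))) ((Bool.rec (motive := fun _ => Nat) (nl7399 i) (nl7400 i) (Nat.ble 94208 i))) (Nat.ble 93184 i))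
noncomputable def nd3010 (i : Nat) : Nat := (Bool.rec (motive := fun _ => Nat) ((Bool.rec (motive := fun _ => Nat) (nl7401 i) (nl7402 i) (Nat.ble 96256 i))) ((Bool.rec (motive := fun _ => Nat) (nl7403 i) (nl7404 i) (Nat.ble 98304 i))) (Nat.ble 97280 i))
noncomputable def nd3006 (i : Nat) : Nat := (Bool.rec (motive := fun _ => Nat) ((Bool.rec (motive := fun _ => Nat) (nd3007 i) (nd3008 i) (Nat.ble 87040 i))) ((Bool.rec (motive := fun _ => Nat) (nd3009 i) (nd3010 i) (Nat.ble 95232 i))) (Nat.ble 91136 i))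
noncomputable def nd3012 (i : Nat) : Nat := (Bool.rec (motive := fun _ => Nat) ((Bool.rec (motive := fun _ => Nat) (nl7405 i) (nl7406 i) (Nat.ble 100352 i))) ((Bool.rec (motive := fun _ => Nat) (nl7407 i) (nl7408 i) (Nat.ble 102400 i))) (Nat.ble 101376 i))
noncomputable def nd3013 (i : Nat) : Nat := (Bool.rec (motive := fun _ => Nat) ((Bool.rec (motive := fun _ => Nat) (nl7409 i) (nl7410 i) (Nat.ble 104448 i))) ((Bool.rec (motive := fun _ => Nat) (nl7411 i) (nl7412 i) (Nat.ble 106496 i))) (Nat.ble 105472 i))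
noncomputable def nd3014 (i : Nat) : Nat := (Bool.rec (motive := fun _ => Nat) ((Bool.rec (motive := fun _ => Nat) (nl7413 i) (nl7414 i) (Nat.ble 108544 i))) ((Bool.rec (motive := fun _ => Nat) (nl7415 i) (nl7416 i) (Nat.ble 110592 i))) (Nat.ble 109568 i))
noncomputable def nd3015 (i : Nat) : Nat := (Bool.rec (motive := fun _ => Nat) ((Bool.rec (motive := fun _ => Nat) (nl7417 i) (nl7418 i) (Nat.ble 112640 i))) ((Bool.rec (motive := fun _ => Nat) (nl7419 i) (nl7420 i) (Nat.ble 114688 i))) (Nat.ble 113664 i))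
noncomputable def nd3011 (i : Nat) : Nat := (Bool.rec (motive := fun _ => Nat) ((Bool.rec (motive := fun _ => Nat) (nd3012 i) (nd3013 i) (Nat.ble 103424 i))) ((Bool.rec (motive := fun _ => Nat) (nd3014 i) (nd3015 i) (Nat.ble 111616 i))) (Nat.ble 107520 i))
noncomputable def nd3017 (i : Nat) : Nat := (Bool.rec (motive := fun _ => Nat) ((Bool.rec (motive := fun _ => Nat) (nl7421 i) (nl7422 i) (Nat.ble 116736 i))) ((Bool.rec (motive := fun _ => Nat) (nl7423 i) (nl7424 i) (Nat.ble 118784 i))) (Nat.ble 117760 i))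
noncomputable def nd3018 (i : Nat) : Nat := (Bool.rec (motive := fun _ => Nat) ((Bool.rec (motive := fun _ => Nat) (nl7425 i) (nl7426 i) (Nat.ble 120832 i))) ((Bool.rec (motive := fun _ => Nat) (nl7427 i) (nl7428 i) (Nat.ble 122880 i))) (Nat.ble 121856 i))
noncomputable def nd3019 (i : Nat) : Nat := (Bool.rec (motive := fun _ => Nat) ((Bool.rec (motive := fun _ => Nat) (nl7429 i) (nl7430 i) (Nat.ble 124928 i))) ((Bool.rec (motive := fun _ => Nat) (nl7431 i) (nl7432 i) (Nat.ble 126976 i))) (Nat.ble 125952 i))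
noncomputable def nd3021 (i : Nat) : Nat := (Bool.rec (motive := fun _ => Nat) (nl7436 i) (nl7437 i) (Nat.ble 132096 i))
noncomputable def nd3020 (i : Nat) : Nat := (Bool.rec (motive := fun _ => Nat) ((Bool.rec (motive := fun _ => Nat) (nl7433 i) (nl7434 i) (Nat.ble 129024 i))) ((Bool.rec (motive := fun _ => Nat) (nl7435 i) (nd3021 i) (Nat.ble 131072 i))) (Nat.ble 130048 i))
noncomputable def nd3016 (i : Nat) : Nat := (Bool.rec (motive := fun _ => Nat) ((Bool.rec (motive := fun _ => Nat) (nd3017 i) (nd3018 i) (Nat.ble 119808 i))) ((Bool.rec (motive := fun _ => Nat) (nd3019 i) (nd3020 i) (Nat.ble 128000 i))) (Nat.ble 123904 i))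
noncomputable def nd3000 (i : Nat) : Nat := (Bool.rec (motive := fun _ => Nat) ((Bool.rec (motive := fun _ => Nat) (nd3001 i) (nd3006 i) (Nat.ble 82944 i))) ((Bool.rec (motive := fun _ => Nat) (nd3011 i) (nd3016 i) (Nat.ble 115712 i))) (Nat.ble 99328 i))
noncomputable def nd3024 (i : Nat) : Nat := (Bool.rec (motive := fun _ => Nat) ((Bool.rec (motive := fun _ => Nat) (nl7438 i) (nl7439 i) (Nat.ble 134144 i))) ((Bool.rec (motive := fun _ => Nat) (nl7440 i) (nl7441 i) (Nat.ble 136192 i))) (Nat.ble 135168 i))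
noncomputable def nd3025 (i : Nat) : Nat := (Bool.rec (motive := fun _ => Nat) ((Bool.rec (motive := fun _ => Nat) (nl7442 i) (nl7443 i) (Nat.ble 138240 i))) ((Bool.rec (motive := fun _ => Nat) (nl7444 i) (nl7445 i) (Nat.ble 140288 i))) (Nat.ble 139264 i))
noncomputable def nd3026 (i : Nat) : Nat := (Bool.rec (motive := fun _ => Nat) ((Bool.rec (motive := fun _ => Nat) (nl7446 i) (nl7447 i) (Nat.ble 142336 i))) ((Bool.rec (motive := fun _ => Nat) (nl7448 i) (nl7449 i) (Nat.ble 144384 i))) (Nat.ble 143360 i))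
noncomputable def nd3027 (i : Nat) : Nat := (Bool.rec (motive := fun _ => Nat) ((Bool.rec (motive := fun _ => Nat) (nl7450 i) (nl7451 i) (Nat.ble 146432 i))) ((Bool.rec (motive := fun _ => Nat) (nl7452 i) (nl7453 i) (Nat.ble 148480 i))) (Nat.ble 147456 i))
noncomputable def nd3023 (i : Nat) : Nat := (Bool.rec (motive := fun _ => Nat) ((Bool.rec (motive := fun _ => Nat) (nd3024 i) (nd3025 i) (Nat.ble 137216 i))) ((Bool.rec (motive := fun _ => Nat) (nd3026 i) (nd3027 i) (Nat.ble 145408 i))) (Nat.ble 141312 i))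
noncomputable def nd3029 (i : Nat) : Nat := (Bool.rec (motive := fun _ => Nat) ((Bool.rec (motive := fun _ => Nat) (nl7454 i) (nl7455 i) (Nat.ble 150528 i))) ((Bool.rec (motive := fun _ => Nat) (nl7456 i) (nl7457 i) (Nat.ble 152576 i))) (Nat.ble 151552 i))
noncomputable def nd3030 (i : Nat) : Nat := (Bool.rec (motive := fun _ => Nat) ((Bool.rec (motive := fun _ => Nat) (nl7458 i) (nl7459 i) (Nat.ble 154624 i))) ((Bool.rec (motive := fun _ => Nat) (nl7460 i) (nl7461 i) (Nat.ble 156672 i))) (Nat.ble 155648 i))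
noncomputable def nd3031 (i : Nat) : Nat := (Bool.rec (motive := fun _ => Nat) ((Bool.rec (motive := fun _ => Nat) (nl7462 i) (nl7463 i) (Nat.ble 158720 i))) ((Bool.rec (motive := fun _ => Nat) (nl7464 i) (nl7465 i) (Nat.ble 160768 i))) (Nat.ble 159744 i))
noncomputable def nd3032 (i : Nat) : Nat := (Bool.rec (motive := fun _ => Nat) ((Bool.rec (motive := fun _ => Nat) (nl7466 i) (nl7467 i) (Nat.ble 162816 i))) ((Bool.rec (motive := fun _ => Nat) (nl7468 i) (nl7469 i) (Nat.ble 164864 i))) (Nat.ble 163840 i))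
noncomputable def nd3028 (i : Nat) : Nat := (Bool.rec (motive := fun _ => Nat) ((Bool.rec (motive := fun _ => Nat) (nd3029 i) (nd3030 i) (Nat.ble 153600 i))) ((Bool.rec (motive := fun _ => Nat) (nd3031 i) (nd3032 i) (Nat.ble 161792 i))) (Nat.ble 157696 i))
noncomputable def nd3034 (i : Nat) : Nat := (Bool.rec (motive := fun _ => Nat) ((Bool.rec (motive := fun _ => Nat) (nl7470 i) (nl7471 i) (Nat.ble 166912 i))) ((Bool.rec (motive := fun _ => Nat) (nl7472 i) (nl7473 i) (Nat.ble 168960 i))) (Nat.ble 167936 i))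
noncomputable def nd3035 (i : Nat) : Nat := (Bool.rec (motive := fun _ => Nat) ((Bool.rec (motive := fun _ => Nat) (nl7474 i) (nl7475 i) (Nat.ble 171008 i))) ((Bool.rec (motive := fun _ => Nat) (nl7476 i) (nl7477 i) (Nat.ble 173056 i))) (Nat.ble 172032 i))
noncomputable def nd3036 (i : Nat) : Nat := (Bool.rec (motive := fun _ => Nat) ((Bool.rec (motive := fun _ => Nat) (nl7478 i) (nl7479 i) (Nat.ble 175104 i))) ((Bool.rec (motive := fun _ => Nat) (nl7480 i) (nl7481 i) (Nat.ble 177152 i))) (Nat.ble 176128 i))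
noncomputable def nd3037 (i : Nat) : Nat := (Bool.rec (motive := fun _ => Nat) ((Bool.rec (motive := fun _ => Nat) (nl7482 i) (nl7483 i) (Nat.ble 179200 i))) ((Bool.rec (motive := fun _ => Nat) (nl7484 i) (nl7485 i) (Nat.ble 181248 i))) (Nat.ble 180224 i))
noncomputable def nd3033 (i : Nat) : Nat := (Bool.rec (motive := fun _ => Nat) ((Bool.rec (motive := fun _ => Nat) (nd3034 i) (nd3035 i) (Nat.ble 169984 i))) ((Bool.rec (motive := fun _ => Nat) (nd3036 i) (nd3037 i) (Nat.ble 178176 i))) (Nat.ble 174080 i))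
noncomputable def nd3039 (i : Nat) : Nat := (Bool.rec (motive := fun _ => Nat) ((Bool.rec (motive := fun _ => Nat) (nl7486 i) (nl7487 i) (Nat.ble 183296 i))) ((Bool.rec (motive := fun _ => Nat) (nl7488 i) (nl7489 i) (Nat.ble 185344 i))) (Nat.ble 184320 i))
noncomputable def nd3040 (i : Nat) : Nat := (Bool.rec (motive := fun _ => Nat) ((Bool.rec (motive := fun _ => Nat) (nl7490 i) (nl7491 i) (Nat.ble 187392 i))) ((Bool.rec (motive := fun _ => Nat) (nl7492 i) (nl7493 i) (Nat.ble 189440 i))) (Nat.ble 188416 i))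
noncomputable def nd3041 (i : Nat) : Nat := (Bool.rec (motive := fun _ => Nat) ((Bool.rec (motive := fun _ => Nat) (nl7494 i) (nl7495 i) (Nat.ble 191488 i))) ((Bool.rec (motive := fun _ => Nat) (nl7496 i) (nl7497 i) (Nat.ble 193536 i))) (Nat.ble 192512 i))
noncomputable def nd3043 (i : Nat) : Nat := (Bool.rec (motive := fun _ => Nat) (nl7501 i) (nl7502 i) (Nat.ble 198656 i))
noncomputable def nd3042 (i : Nat) : Nat := (Bool.rec (motive := fun _ => Nat) ((Bool.rec (motive := fun _ => Nat) (nl7498 i) (nl7499 i) (Nat.ble 195584 i))) ((Bool.rec (motive := fun _ => Nat) (nl7500 i) (nd3043 i) (Nat.ble 197632 i))) (Nat.ble 196608 i))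
noncomputable def nd3038 (i : Nat) : Nat := (Bool.rec (motive := fun _ => Nat) ((Bool.rec (motive := fun _ => Nat) (nd3039 i) (nd3040 i) (Nat.ble 186368 i))) ((Bool.rec (motive := fun _ => Nat) (nd3041 i) (nd3042 i) (Nat.ble 194560 i))) (Nat.ble 190464 i))
noncomputable def nd3022 (i : Nat) : Nat := (Bool.rec (motive := fun _ => Nat) ((Bool.rec (motive := fun _ => Nat) (nd3023 i) (nd3028 i) (Nat.ble 149504 i))) ((Bool.rec (motive := fun _ => Nat) (nd3033 i) (nd3038 i) (Nat.ble 182272 i))) (Nat.ble 165888 i))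
noncomputable def nd3046 (i : Nat) : Nat := (Bool.rec (motive := fun _ => Nat) ((Bool.rec (motive := fun _ => Nat) (nl7503 i) (nl7504 i) (Nat.ble 200704 i))) ((Bool.rec (motive := fun _ => Nat) (nl7505 i) (nl7506 i) (Nat.ble 202752 i))) (Nat.ble 201728 i))
noncomputable def nd3047 (i : Nat) : Nat := (Bool.rec (motive := fun _ => Nat) ((Bool.rec (motive := fun _ => Nat) (nl7507 i) (nl7508 i) (Nat.ble 204800 i))) ((Bool.rec (motive := fun _ => Nat) (nl7509 i) (nl7510 i) (Nat.ble 206848 i))) (Nat.ble 205824 i))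
noncomputable def nd3048 (i : Nat) : Nat := (Bool.rec (motive := fun _ => Nat) ((Bool.rec (motive := fun _ => Nat) (nl7511 i) (nl7512 i) (Nat.ble 208896 i))) ((Bool.rec (motive := fun _ => Nat) (nl7513 i) (nl7514 i) (Nat.ble 210944 i))) (Nat.ble 209920 i))
noncomputable def nd3049 (i : Nat) : Nat := (Bool.rec (motive := fun _ => Nat) ((Bool.rec (motive := fun _ => Nat) (nl7515 i) (nl7516 i) (Nat.ble 212992 i))) ((Bool.rec (motive := fun _ => Nat) (nl7517 i) (nl7518 i) (Nat.ble 215040 i))) (Nat.ble 214016 i))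
noncomputable def nd3045 (i : Nat) : Nat := (Bool.rec (motive := fun _ => Nat) ((Bool.rec (motive := fun _ => Nat) (nd3046 i) (nd3047 i) (Nat.ble 203776 i))) ((Bool.rec (motive := fun _ => Nat) (nd3048 i) (nd3049 i) (Nat.ble 211968 i))) (Nat.ble 207872 i))
noncomputable def nd3051 (i : Nat) : Nat := (Bool.rec (motive := fun _ => Nat) ((Bool.rec (motive := fun _ => Nat) (nl7519 i) (nl7520 i) (Nat.ble 217088 i))) ((Bool.rec (motive := fun _ => Nat) (nl7521 i) (nl7522 i) (Nat.ble 219136 i))) (Nat.ble 218112 i))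
noncomputable def nd3052 (i : Nat) : Nat := (Bool.rec (motive := fun _ => Nat) ((Bool.rec (motive := fun _ => Nat) (nl7523 i) (nl7524 i) (Nat.ble 221184 i))) ((Bool.rec (motive := fun _ => Nat) (nl7525 i) (nl7526 i) (Nat.ble 223232 i))) (Nat.ble 222208 i))
noncomputable def nd3053 (i : Nat) : Nat := (Bool.rec (motive := fun _ => Nat) ((Bool.rec (motive := fun _ => Nat) (nl7527 i) (nl7528 i) (Nat.ble 225280 i))) ((Bool.rec (motive := fun _ => Nat) (nl7529 i) (nl7530 i) (Nat.ble 227328 i))) (Nat.ble 226304 i))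
noncomputable def nd3055 (i : Nat) : Nat := (Bool.rec (motive := fun _ => Nat) (nl7534 i) (nl7535 i) (Nat.ble 232448 i))
noncomputable def nd3054 (i : Nat) : Nat := (Bool.rec (motive := fun _ => Nat) ((Bool.rec (motive := fun _ => Nat) (nl7531 i) (nl7532 i) (Nat.ble 229376 i))) ((Bool.rec (motive := fun _ => Nat) (nl7533 i) (nd3055 i) (Nat.ble 231424 i))) (Nat.ble 230400 i))
noncomputable def nd3050 (i : Nat) : Nat := (Bool.rec (motive := fun _ => Nat) ((Bool.rec (motive := fun _ => Nat) (nd3051 i) (nd3052 i) (Nat.ble 220160 i))) ((Bool.rec (motive := fun _ => Nat) (nd3053 i) (nd3054 i) (Nat.ble 228352 i))) (Nat.ble 224256 i))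
noncomputable def nd3057 (i : Nat) : Nat := (Bool.rec (motive := fun _ => Nat) ((Bool.rec (motive := fun _ => Nat) (nl7536 i) (nl7537 i) (Nat.ble 234496 i))) ((Bool.rec (motive := fun _ => Nat) (nl7538 i) (nl7539 i) (Nat.ble 236544 i))) (Nat.ble 235520 i))
noncomputable def nd3058 (i : Nat) : Nat := (Bool.rec (motive := fun _ => Nat) ((Bool.rec (motive := fun _ => Nat) (nl7540 i) (nl7541 i) (Nat.ble 238592 i))) ((Bool.rec (motive := fun _ => Nat) (nl7542 i) (nl7543 i) (Nat.ble 240640 i))) (Nat.ble 239616 i))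
noncomputable def nd3059 (i : Nat) : Nat := (Bool.rec (motive := fun _ => Nat) ((Bool.rec (motive := fun _ => Nat) (nl7544 i) (nl7545 i) (Nat.ble 242688 i))) ((Bool.rec (motive := fun _ => Nat) (nl7546 i) (nl7547 i) (Nat.ble 244736 i))) (Nat.ble 243712 i))
noncomputable def nd3060 (i : Nat) : Nat := (Bool.rec (motive := fun _ => Nat) ((Bool.rec (motive := fun _ => Nat) (nl7548 i) (nl7549 i) (Nat.ble 246784 i))) ((Bool.rec (motive := fun _ => Nat) (nl7550 i) (nl7551 i) (Nat.ble 248832 i))) (Nat.ble 247808 i))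
noncomputable def nd3056 (i : Nat) : Nat := (Bool.rec (motive := fun _ => Nat) ((Bool.rec (motive := fun _ => Nat) (nd3057 i) (nd3058 i) (Nat.ble 237568 i))) ((Bool.rec (motive := fun _ => Nat) (nd3059 i) (nd3060 i) (Nat.ble 245760 i))) (Nat.ble 241664 i))
noncomputable def nd3062 (i : Nat) : Nat := (Bool.rec (motive := fun _ => Nat) ((Bool.rec (motive := fun _ => Nat) (nl7552 i) (nl7553 i) (Nat.ble 250880 i))) ((Bool.rec (motive := fun _ => Nat) (nl7554 i) (nl7555 i) (Nat.ble 252928 i))) (Nat.ble 251904 i))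
noncomputable def nd3063 (i : Nat) : Nat := (Bool.rec (motive := fun _ => Nat) ((Bool.rec (motive := fun _ => Nat) (nl7556 i) (nl7557 i) (Nat.ble 254976 i))) ((Bool.rec (motive := fun _ => Nat) (nl7558 i) (nl7559 i) (Nat.ble 257024 i))) (Nat.ble 256000 i))
noncomputable def nd3064 (i : Nat) : Nat := (Bool.rec (motive := fun _ => Nat) ((Bool.rec (motive := fun _ => Nat) (nl7560 i) (nl7561 i) (Nat.ble 259072 i))) ((Bool.rec (motive := fun _ => Nat) (nl7562 i) (nl7563 i) (Nat.ble 261120 i))) (Nat.ble 260096 i))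
noncomputable def nd3066 (i : Nat) : Nat := (Bool.rec (motive := fun _ => Nat) (nl7567 i) (nl7568 i) (Nat.ble 266240 i))
noncomputable def nd3065 (i : Nat) : Nat := (Bool.rec (motive := fun _ => Nat) ((Bool.rec (motive := fun _ => Nat) (nl7564 i) (nl7565 i) (Nat.ble 263168 i))) ((Bool.rec (motive := fun _ => Nat) (nl7566 i) (nd3066 i) (Nat.ble 265216 i))) (Nat.ble 264192 i))
noncomputable def nd3061 (i : Nat) : Nat := (Bool.rec (motive := fun _ => Nat) ((Bool.rec (motive := fun _ => Nat) (nd3062 i) (nd3063 i) (Nat.ble 253952 i))) ((Bool.rec (motive := fun _ => Nat) (nd3064 i) (nd3065 i) (Nat.ble 262144 i))) (Nat.ble 258048 i))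
noncomputable def nd3044 (i : Nat) : Nat := (Bool.rec (motive := fun _ => Nat) ((Bool.rec (motive := fun _ => Nat) (nd3045 i) (nd3050 i) (Nat.ble 216064 i))) ((Bool.rec (motive := fun _ => Nat) (nd3056 i) (nd3061 i) (Nat.ble 249856 i))) (Nat.ble 233472 i))
noncomputable def nd2977 (i : Nat) : Nat := (Bool.rec (motive := fun _ => Nat) ((Bool.rec (motive := fun _ => Nat) (nd2978 i) (nd3000 i) (Nat.ble 66560 i))) ((Bool.rec (motive := fun _ => Nat) (nd3022 i) (nd3044 i) (Nat.ble 199680 i))) (Nat.ble 133120 i))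
noncomputable def nd3070 (i : Nat) : Nat := (Bool.rec (motive := fun _ => Nat) ((Bool.rec (motive := fun _ => Nat) (nl7569 i) (nl7570 i) (Nat.ble 1024 i))) ((Bool.rec (motive := fun _ => Nat) (nl7571 i) (nl7572 i) (Nat.ble 3072 i))) (Nat.ble 2048 i))
noncomputable def nd3071 (i : Nat) : Nat := (Bool.rec (motive := fun _ => Nat) ((Bool.rec (motive := fun _ => Nat) (nl7573 i) (nl7574 i) (Nat.ble 5120 i))) ((Bool.rec (motive := fun _ => Nat) (nl7575 i) (nl7576 i) (Nat.ble 7168 i))) (Nat.ble 6144 i))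
noncomputable def nd3072 (i : Nat) : Nat := (Bool.rec (motive := fun _ => Nat) ((Bool.rec (motive := fun _ => Nat) (nl7577 i) (nl7578 i) (Nat.ble 9216 i))) ((Bool.rec (motive := fun _ => Nat) (nl7579 i) (nl7580 i) (Nat.ble 11264 i))) (Nat.ble 10240 i))
noncomputable def nd3073 (i : Nat) : Nat := (Bool.rec (motive := fun _ => Nat) ((Bool.rec (motive := fun _ => Nat) (nl7581 i) (nl7582 i) (Nat.ble 13312 i))) ((Bool.rec (motive := fun _ => Nat) (nl7583 i) (nl7584 i) (Nat.ble 15360 i))) (Nat.ble 14336 i))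
noncomputable def nd3069 (i : Nat) : Nat := (Bool.rec (motive := fun _ => Nat) ((Bool.rec (motive := fun _ => Nat) (nd3070 i) (nd3071 i) (Nat.ble 4096 i))) ((Bool.rec (motive := fun _ => Nat) (nd3072 i) (nd3073 i) (Nat.ble 12288 i))) (Nat.ble 8192 i))
noncomputable def nd3075 (i : Nat) : Nat := (Bool.rec (motive := fun _ => Nat) ((Bool.rec (motive := fun _ => Nat) (nl7585 i) (nl7586 i) (Nat.ble 17408 i))) ((Bool.rec (motive := fun _ => Nat) (nl7587 i) (nl7588 i) (Nat.ble 19456 i))) (Nat.ble 18432 i))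
noncomputable def nd3076 (i : Nat) : Nat := (Bool.rec (motive := fun _ => Nat) ((Bool.rec (motive := fun _ => Nat) (nl7589 i) (nl7590 i) (Nat.ble 21504 i))) ((Bool.rec (motive := fun _ => Nat) (nl7591 i) (nl7592 i) (Nat.ble 23552 i))) (Nat.ble 22528 i))
noncomputable def nd3077 (i : Nat) : Nat := (Bool.rec (motive := fun _ => Nat) ((Bool.rec (motive := fun _ => Nat) (nl7593 i) (nl7594 i) (Nat.ble 25600 i))) ((Bool.rec (motive := fun _ => Nat) (nl7595 i) (nl7596 i) (Nat.ble 27648 i))) (Nat.ble 26624 i))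
noncomputable def nd3078 (i : Nat) : Nat := (Bool.rec (motive := fun _ => Nat) ((Bool.rec (motive := fun _ => Nat) (nl7597 i) (nl7598 i) (Nat.ble 29696 i))) ((Bool.rec (motive := fun _ => Nat) (nl7599 i) (nl7600 i) (Nat.ble 31744 i))) (Nat.ble 30720 i))
noncomputable def nd3074 (i : Nat) : Nat := (Bool.rec (motive := fun _ => Nat) ((Bool.rec (motive := fun _ => Nat) (nd3075 i) (nd3076 i) (Nat.ble 20480 i))) ((Bool.rec (motive := fun _ => Nat) (nd3077 i) (nd3078 i) (Nat.ble 28672 i))) (Nat.ble 24576 i))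
noncomputable def nd3080 (i : Nat) : Nat := (Bool.rec (motive := fun _ => Nat) ((Bool.rec (motive := fun _ => Nat) (nl7601 i) (nl7602 i) (Nat.ble 33792 i))) ((Bool.rec (motive := fun _ => Nat) (nl7603 i) (nl7604 i) (Nat.ble 35840 i))) (Nat.ble 34816 i))
noncomputable def nd3081 (i : Nat) : Nat := (Bool.rec (motive := fun _ => Nat) ((Bool.rec (motive := fun _ => Nat) (nl7605 i) (nl7606 i) (Nat.ble 37888 i))) ((Bool.rec (motive := fun _ => Nat) (nl7607 i) (nl7608 i) (Nat.ble 39936 i))) (Nat.ble 38912 i))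
noncomputable def nd3082 (i : Nat) : Nat := (Bool.rec (motive := fun _ => Nat) ((Bool.rec (motive := fun _ => Nat) (nl7609 i) (nl7610 i) (Nat.ble 41984 i))) ((Bool.rec (motive := fun _ => Nat) (nl7611 i) (nl7612 i) (Nat.ble 44032 i))) (Nat.ble 43008 i))
noncomputable def nd3083 (i : Nat) : Nat := (Bool.rec (motive := fun _ => Nat) ((Bool.rec (motive := fun _ => Nat) (nl7613 i) (nl7614 i) (Nat.ble 46080 i))) ((Bool.rec (motive := fun _ => Nat) (nl7615 i) (nl7616 i) (Nat.ble 48128 i))) (Nat.ble 47104 i))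
noncomputable def nd3079 (i : Nat) : Nat := (Bool.rec (motive := fun _ => Nat) ((Bool.rec (motive := fun _ => Nat) (nd3080 i) (nd3081 i) (Nat.ble 36864 i))) ((Bool.rec (motive := fun _ => Nat) (nd3082 i) (nd3083 i) (Nat.ble 45056 i))) (Nat.ble 40960 i))
noncomputable def nd3085 (i : Nat) : Nat := (Bool.rec (motive := fun _ => Nat) ((Bool.rec (motive := fun _ => Nat) (nl7617 i) (nl7618 i) (Nat.ble 50176 i))) ((Bool.rec (motive := fun _ => Nat) (nl7619 i) (nl7620 i) (Nat.ble 52224 i))) (Nat.ble 51200 i))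
noncomputable def nd3086 (i : Nat) : Nat := (Bool.rec (motive := fun _ => Nat) ((Bool.rec (motive := fun _ => Nat) (nl7621 i) (nl7622 i) (Nat.ble 54272 i))) ((Bool.rec (motive := fun _ => Nat) (nl7623 i) (nl7624 i) (Nat.ble 56320 i))) (Nat.ble 55296 i))
noncomputable def nd3087 (i : Nat) : Nat := (Bool.rec (motive := fun _ => Nat) ((Bool.rec (motive := fun _ => Nat) (nl7625 i) (nl7626 i) (Nat.ble 58368 i))) ((Bool.rec (motive := fun _ => Nat) (nl7627 i) (nl7628 i) (Nat.ble 60416 i))) (Nat.ble 59392 i))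
noncomputable def nd3089 (i : Nat) : Nat := (Bool.rec (motive := fun _ => Nat) (nl7632 i) (nl7633 i) (Nat.ble 65536 i))
noncomputable def nd3088 (i : Nat) : Nat := (Bool.rec (motive := fun _ => Nat) ((Bool.rec (motive := fun _ => Nat) (nl7629 i) (nl7630 i) (Nat.ble 62464 i))) ((Bool.rec (motive := fun _ => Nat) (nl7631 i) (nd3089 i) (Nat.ble 64512 i))) (Nat.ble 63488 i))
noncomputable def nd3084 (i : Nat) : Nat := (Bool.rec (motive := fun _ => Nat) ((Bool.rec (motive := fun _ => Nat) (nd3085 i) (nd3086 i) (Nat.ble 53248 i))) ((Bool.rec (motive := fun _ => Nat) (nd3087 i) (nd3088 i) (Nat.ble 61440 i))) (Nat.ble 57344 i))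
noncomputable def nd3068 (i : Nat) : Nat := (Bool.rec (motive := fun _ => Nat) ((Bool.rec (motive := fun _ => Nat) (nd3069 i) (nd3074 i) (Nat.ble 16384 i))) ((Bool.rec (motive := fun _ => Nat) (nd3079 i) (nd3084 i) (Nat.ble 49152 i))) (Nat.ble 32768 i))
noncomputable def nd3092 (i : Nat) : Nat := (Bool.rec (motive := fun _ => Nat) ((Bool.rec (motive := fun _ => Nat) (nl7634 i) (nl7635 i) (Nat.ble 67584 i))) ((Bool.rec (motive := fun _ => Nat) (nl7636 i) (nl7637 i) (Nat.ble 69632 i))) (Nat.ble 68608 i))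
noncomputable def nd3093 (i : Nat) : Nat := (Bool.rec (motive := fun _ => Nat) ((Bool.rec (motive := fun _ => Nat) (nl7638 i) (nl7639 i) (Nat.ble 71680 i))) ((Bool.rec (motive := fun _ => Nat) (nl7640 i) (nl7641 i) (Nat.ble 73728 i))) (Nat.ble 72704 i))
noncomputable def nd3094 (i : Nat) : Nat := (Bool.rec (motive := fun _ => Nat) ((Bool.rec (motive := fun _ => Nat) (nl7642 i) (nl7643 i) (Nat.ble 75776 i))) ((Bool.rec (motive := fun _ => Nat) (nl7644 i) (nl7645 i) (Nat.ble 77824 i))) (Nat.ble 76800 i))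
noncomputable def nd3095 (i : Nat) : Nat := (Bool.rec (motive := fun _ => Nat) ((Bool.rec (motive := fun _ => Nat) (nl7646 i) (nl7647 i) (Nat.ble 79872 i))) ((Bool.rec (motive := fun _ => Nat) (nl7648 i) (nl7649 i) (Nat.ble 81920 i))) (Nat.ble 80896 i))
noncomputable def nd3091 (i : Nat) : Nat := (Bool.rec (motive := fun _ => Nat) ((Bool.rec (motive := fun _ => Nat) (nd3092 i) (nd3093 i) (Nat.ble 70656 i))) ((Bool.rec (motive := fun _ => Nat) (nd3094 i) (nd3095 i) (Nat.ble 78848 i))) (Nat.ble 74752 i))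
noncomputable def nd3097 (i : Nat) : Nat := (Bool.rec (motive := fun _ => Nat) ((Bool.rec (motive := fun _ => Nat) (nl7650 i) (nl7651 i) (Nat.ble 83968 i))) ((Bool.rec (motive := fun _ => Nat) (nl7652 i) (nl7653 i) (Nat.ble 86016 i))) (Nat.ble 84992 i))
noncomputable def nd3098 (i : Nat) : Nat := (Bool.rec (motive := fun _ => Nat) ((Bool.rec (motive := fun _ => Nat) (nl7654 i) (nl7655 i) (Nat.ble 88064 i))) ((Bool.rec (motive := fun _ => Nat) (nl7656 i) (nl7657 i) (Nat.ble 90112 i))) (Nat.ble 89088 i))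
noncomputable def nd3099 (i : Nat) : Nat := (Bool.rec (motive := fun _ => Nat) ((Bool.rec (motive := fun _ => Nat) (nl7658 i) (nl7659 i) (Nat.ble 92160 i))) ((Bool.rec (motive := fun _ => Nat) (nl7660 i) (nl7661 i) (Nat.ble 94208 i))) (Nat.ble 93184 i))
noncomputable def nd3100 (i : Nat) : Nat := (Bool.rec (motive := fun _ => Nat) ((Bool.rec (motive := fun _ => Nat) (nl7662 i) (nl7663 i) (Nat.ble 96256 i))) ((Bool.rec (motive := fun _ => Nat) (nl7664 i) (nl7665 i) (Nat.ble 98304 i))) (Nat.ble 97280 i))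
noncomputable def nd3096 (i : Nat) : Nat := (Bool.rec (motive := fun _ => Nat) ((Bool.rec (motive := fun _ => Nat) (nd3097 i) (nd3098 i) (Nat.ble 87040 i))) ((Bool.rec (motive := fun _ => Nat) (nd3099 i) (nd3100 i) (Nat.ble 95232 i))) (Nat.ble 91136 i))
noncomputable def nd3102 (i : Nat) : Nat := (Bool.rec (motive := fun _ => Nat) ((Bool.rec (motive := fun _ => Nat) (nl7666 i) (nl7667 i) (Nat.ble 100352 i))) ((Bool.rec (motive := fun _ => Nat) (nl7668 i) (nl7669 i) (Nat.ble 102400 i))) (Nat.ble 101376 i))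
noncomputable def nd3103 (i : Nat) : Nat := (Bool.rec (motive := fun _ => Nat) ((Bool.rec (motive := fun _ => Nat) (nl7670 i) (nl7671 i) (Nat.ble 104448 i))) ((Bool.rec (motive := fun _ => Nat) (nl7672 i) (nl7673 i) (Nat.ble 106496 i))) (Nat.ble 105472 i))
noncomputable def nd3104 (i : Nat) : Nat := (Bool.rec (motive := fun _ => Nat) ((Bool.rec (motive := fun _ => Nat) (nl7674 i) (nl7675 i) (Nat.ble 108544 i))) ((Bool.rec (motive := fun _ => Nat) (nl7676 i) (nl7677 i) (Nat.ble 110592 i))) (Nat.ble 109568 i))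
noncomputable def nd3105 (i : Nat) : Nat := (Bool.rec (motive := fun _ => Nat) ((Bool.rec (motive := fun _ => Nat) (nl7678 i) (nl7679 i) (Nat.ble 112640 i))) ((Bool.rec (motive := fun _ => Nat) (nl7680 i) (nl7681 i) (Nat.ble 114688 i))) (Nat.ble 113664 i))
noncomputable def nd3101 (i : Nat) : Nat := (Bool.rec (motive := fun _ => Nat) ((Bool.rec (motive := fun _ => Nat) (nd3102 i) (nd3103 i) (Nat.ble 103424 i))) ((Bool.rec (motive := fun _ => Nat) (nd3104 i) (nd3105 i) (Nat.ble 111616 i))) (Nat.ble 107520 i))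
noncomputable def nd3107 (i : Nat) : Nat := (Bool.rec (motive := fun _ => Nat) ((Bool.rec (motive := fun _ => Nat) (nl7682 i) (nl7683 i) (Nat.ble 116736 i))) ((Bool.rec (motive := fun _ => Nat) (nl7684 i) (nl7685 i) (Nat.ble 118784 i))) (Nat.ble 117760 i))
noncomputable def nd3108 (i : Nat) : Nat := (Bool.rec (motive := fun _ => Nat) ((Bool.rec (motive := fun _ => Nat) (nl7686 i) (nl7687 i) (Nat.ble 120832 i))) ((Bool.rec (motive := fun _ => Nat) (nl7688 i) (nl7689 i) (Nat.ble 122880 i))) (Nat.ble 121856 i))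
noncomputable def nd3109 (i : Nat) : Nat := (Bool.rec (motive := fun _ => Nat) ((Bool.rec (motive := fun _ => Nat) (nl7690 i) (nl7691 i) (Nat.ble 124928 i))) ((Bool.rec (motive := fun _ => Nat) (nl7692 i) (nl7693 i) (Nat.ble 126976 i))) (Nat.ble 125952 i))
noncomputable def nd3111 (i : Nat) : Nat := (Bool.rec (motive := fun _ => Nat) (nl7697 i) (nl7698 i) (Nat.ble 132096 i))
noncomputable def nd3110 (i : Nat) : Nat := (Bool.rec (motive := fun _ => Nat) ((Bool.rec (motive := fun _ => Nat) (nl7694 i) (nl7695 i) (Nat.ble 129024 i))) ((Bool.rec (motive := fun _ => Nat) (nl7696 i) (nd3111 i) (Nat.ble 131072 i))) (Nat.ble 130048 i))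
noncomputable def nd3106 (i : Nat) : Nat := (Bool.rec (motive := fun _ => Nat) ((Bool.rec (motive := fun _ => Nat) (nd3107 i) (nd3108 i) (Nat.ble 119808 i))) ((Bool.rec (motive := fun _ => Nat) (nd3109 i) (nd3110 i) (Nat.ble 128000 i))) (Nat.ble 123904 i))
noncomputable def nd3090 (i : Nat) : Nat := (Bool.rec (motive := fun _ => Nat) ((Bool.rec (motive := fun _ => Nat) (nd3091 i) (nd3096 i) (Nat.ble 82944 i))) ((Bool.rec (motive := fun _ => Nat) (nd3101 i) (nd3106 i) (Nat.ble 115712 i))) (Nat.ble 99328 i))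
noncomputable def nd3114 (i : Nat) : Nat := (Bool.rec (motive := fun _ => Nat) ((Bool.rec (motive := fun _ => Nat) (nl7699 i) (nl7700 i) (Nat.ble 134144 i))) ((Bool.rec (motive := fun _ => Nat) (nl7701 i) (nl7702 i) (Nat.ble 136192 i))) (Nat.ble 135168 i))
noncomputable def nd3115 (i : Nat) : Nat := (Bool.rec (motive := fun _ => Nat) ((Bool.rec (motive := fun _ => Nat) (nl7703 i) (nl7704 i) (Nat.ble 138240 i))) ((Bool.rec (motive := fun _ => Nat) (nl7705 i) (nl7706 i) (Nat.ble 140288 i))) (Nat.ble 139264 i))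
noncomputable def nd3116 (i : Nat) : Nat := (Bool.rec (motive := fun _ => Nat) ((Bool.rec (motive := fun _ => Nat) (nl7707 i) (nl7708 i) (Nat.ble 142336 i))) ((Bool.rec (motive := fun _ => Nat) (nl7709 i) (nl7710 i) (Nat.ble 144384 i))) (Nat.ble 143360 i))
noncomputable def nd3117 (i : Nat) : Nat := (Bool.rec (motive := fun _ => Nat) ((Bool.rec (motive := fun _ => Nat) (nl7711 i) (nl7712 i) (Nat.ble 146432 i))) ((Bool.rec (motive := fun _ => Nat) (nl7713 i) (nl7714 i) (Nat.ble 148480 i))) (Nat.ble 147456 i))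
noncomputable def nd3113 (i : Nat) : Nat := (Bool.rec (motive := fun _ => Nat) ((Bool.rec (motive := fun _ => Nat) (nd3114 i) (nd3115 i) (Nat.ble 137216 i))) ((Bool.rec (motive := fun _ => Nat) (nd3116 i) (nd3117 i) (Nat.ble 145408 i))) (Nat.ble 141312 i))
noncomputable def nd3119 (i : Nat) : Nat := (Bool.rec (motive := fun _ => Nat) ((Bool.rec (motive := fun _ => Nat) (nl7715 i) (nl7716 i) (Nat.ble 150528 i))) ((Bool.rec (motive := fun _ => Nat) (nl7717 i) (nl7718 i) (Nat.ble 152576 i))) (Nat.ble 151552 i))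
noncomputable def nd3120 (i : Nat) : Nat := (Bool.rec (motive := fun _ => Nat) ((Bool.rec (motive := fun _ => Nat) (nl7719 i) (nl7720 i) (Nat.ble 154624 i))) ((Bool.rec (motive := fun _ => Nat) (nl7721 i) (nl7722 i) (Nat.ble 156672 i))) (Nat.ble 155648 i))
noncomputable def nd3121 (i : Nat) : Nat := (Bool.rec (motive := fun _ => Nat) ((Bool.rec (motive := fun _ => Nat) (nl7723 i) (nl7724 i) (Nat.ble 158720 i))) ((Bool.rec (motive := fun _ => Nat) (nl7725 i) (nl7726 i) (Nat.ble 160768 i))) (Nat.ble 159744 i))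
noncomputable def nd3122 (i : Nat) : Nat := (Bool.rec (motive := fun _ => Nat) ((Bool.rec (motive := fun _ => Nat) (nl7727 i) (nl7728 i) (Nat.ble 162816 i))) ((Bool.rec (motive := fun _ => Nat) (nl7729 i) (nl7730 i) (Nat.ble 164864 i))) (Nat.ble 163840 i))
noncomputable def nd3118 (i : Nat) : Nat := (Bool.rec (motive := fun _ => Nat) ((Bool.rec (motive := fun _ => Nat) (nd3119 i) (nd3120 i) (Nat.ble 153600 i))) ((Bool.rec (motive := fun _ => Nat) (nd3121 i) (nd3122 i) (Nat.ble 161792 i))) (Nat.ble 157696 i))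
noncomputable def nd3124 (i : Nat) : Nat := (Bool.rec (motive := fun _ => Nat) ((Bool.rec (motive := fun _ => Nat) (nl7731 i) (nl7732 i) (Nat.ble 166912 i))) ((Bool.rec (motive := fun _ => Nat) (nl7733 i) (nl7734 i) (Nat.ble 168960 i))) (Nat.ble 167936 i))
noncomputable def nd3125 (i : Nat) : Nat := (Bool.rec (motive := fun _ => Nat) ((Bool.rec (motive := fun _ => Nat) (nl7735 i) (nl7736 i) (Nat.ble 171008 i))) ((Bool.rec (motive := fun _ => Nat) (nl7737 i) (nl7738 i) (Nat.ble 173056 i))) (Nat.ble 172032 i))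
noncomputable def nd3126 (i : Nat) : Nat := (Bool.rec (motive := fun _ => Nat) ((Bool.rec (motive := fun _ => Nat) (nl7739 i) (nl7740 i) (Nat.ble 175104 i))) ((Bool.rec (motive := fun _ => Nat) (nl7741 i) (nl7742 i) (Nat.ble 177152 i))) (Nat.ble 176128 i))
noncomputable def nd3127 (i : Nat) : Nat := (Bool.rec (motive := fun _ => Nat) ((Bool.rec (motive := fun _ => Nat) (nl7743 i) (nl7744 i) (Nat.ble 179200 i))) ((Bool.rec (motive := fun _ => Nat) (nl7745 i) (nl7746 i) (Nat.ble 181248 i))) (Nat.ble 180224 i))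
noncomputable def nd3123 (i : Nat) : Nat := (Bool.rec (motive := fun _ => Nat) ((Bool.rec (motive := fun _ => Nat) (nd3124 i) (nd3125 i) (Nat.ble 169984 i))) ((Bool.rec (motive := fun _ => Nat) (nd3126 i) (nd3127 i) (Nat.ble 178176 i))) (Nat.ble 174080 i))
noncomputable def nd3129 (i : Nat) : Nat := (Bool.rec (motive := fun _ => Nat) ((Bool.rec (motive := fun _ => Nat) (nl7747 i) (nl7748 i) (Nat.ble 183296 i))) ((Bool.rec (motive := fun _ => Nat) (nl7749 i) (nl7750 i) (Nat.ble 185344 i))) (Nat.ble 184320 i))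
noncomputable def nd3130 (i : Nat) : Nat := (Bool.rec (motive := fun _ => Nat) ((Bool.rec (motive := fun _ => Nat) (nl7751 i) (nl7752 i) (Nat.ble 187392 i))) ((Bool.rec (motive := fun _ => Nat) (nl7753 i) (nl7754 i) (Nat.ble 189440 i))) (Nat.ble 188416 i))
noncomputable def nd3131 (i : Nat) : Nat := (Bool.rec (motive := fun _ => Nat) ((Bool.rec (motive := fun _ => Nat) (nl7755 i) (nl7756 i) (Nat.ble 191488 i))) ((Bool.rec (motive := fun _ => Nat) (nl7757 i) (nl7758 i) (Nat.ble 193536 i))) (Nat.ble 192512 i))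
noncomputable def nd3133 (i : Nat) : Nat := (Bool.rec (motive := fun _ => Nat) (nl7762 i) (nl7763 i) (Nat.ble 198656 i))
noncomputable def nd3132 (i : Nat) : Nat := (Bool.rec (motive := fun _ => Nat) ((Bool.rec (motive := fun _ => Nat) (nl7759 i) (nl7760 i) (Nat.ble 195584 i))) ((Bool.rec (motive := fun _ => Nat) (nl7761 i) (nd3133 i) (Nat.ble 197632 i))) (Nat.ble 196608 i))
noncomputable def nd3128 (i : Nat) : Nat := (Bool.rec (motive := fun _ => Nat) ((Bool.rec (motive := fun _ => Nat) (nd3129 i) (nd3130 i) (Nat.ble 186368 i))) ((Bool.rec (motive := fun _ => Nat) (nd3131 i) (nd3132 i) (Nat.ble 194560 i))) (Nat.ble 190464 i))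
noncomputable def nd3112 (i : Nat) : Nat := (Bool.rec (motive := fun _ => Nat) ((Bool.rec (motive := fun _ => Nat) (nd3113 i) (nd3118 i) (Nat.ble 149504 i))) ((Bool.rec (motive := fun _ => Nat) (nd3123 i) (nd3128 i) (Nat.ble 182272 i))) (Nat.ble 165888 i))
noncomputable def nd3136 (i : Nat) : Nat := (Bool.rec (motive := fun _ => Nat) ((Bool.rec (motive := fun _ => Nat) (nl7764 i) (nl7765 i) (Nat.ble 200704 i))) ((Bool.rec (motive := fun _ => Nat) (nl7766 i) (nl7767 i) (Nat.ble 202752 i))) (Nat.ble 201728 i))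
noncomputable def nd3137 (i : Nat) : Nat := (Bool.rec (motive := fun _ => Nat) ((Bool.rec (motive := fun _ => Nat) (nl7768 i) (nl7769 i) (Nat.ble 204800 i))) ((Bool.rec (motive := fun _ => Nat) (nl7770 i) (nl7771 i) (Nat.ble 206848 i))) (Nat.ble 205824 i))
noncomputable def nd3138 (i : Nat) : Nat := (Bool.rec (motive := fun _ => Nat) ((Bool.rec (motive := fun _ => Nat) (nl7772 i) (nl7773 i) (Nat.ble 208896 i))) ((Bool.rec (motive := fun _ => Nat) (nl7774 i) (nl7775 i) (Nat.ble 210944 i))) (Nat.ble 209920 i))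
noncomputable def nd3139 (i : Nat) : Nat := (Bool.rec (motive := fun _ => Nat) ((Bool.rec (motive := fun _ => Nat) (nl7776 i) (nl7777 i) (Nat.ble 212992 i))) ((Bool.rec (motive := fun _ => Nat) (nl7778 i) (nl7779 i) (Nat.ble 215040 i))) (Nat.ble 214016 i))
noncomputable def nd3135 (i : Nat) : Nat := (Bool.rec (motive := fun _ => Nat) ((Bool.rec (motive := fun _ => Nat) (nd3136 i) (nd3137 i) (Nat.ble 203776 i))) ((Bool.rec (motive := fun _ => Nat) (nd3138 i) (nd3139 i) (Nat.ble 211968 i))) (Nat.ble 207872 i))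
noncomputable def nd3141 (i : Nat) : Nat := (Bool.rec (motive := fun _ => Nat) ((Bool.rec (motive := fun _ => Nat) (nl7780 i) (nl7781 i) (Nat.ble 217088 i))) ((Bool.rec (motive := fun _ => Nat) (nl7782 i) (nl7783 i) (Nat.ble 219136 i))) (Nat.ble 218112 i))
noncomputable def nd3142 (i : Nat) : Nat := (Bool.rec (motive := fun _ => Nat) ((Bool.rec (motive := fun _ => Nat) (nl7784 i) (nl7785 i) (Nat.ble 221184 i))) ((Bool.rec (motive := fun _ => Nat) (nl7786 i) (nl7787 i) (Nat.ble 223232 i))) (Nat.ble 222208 i))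
noncomputable def nd3143 (i : Nat) : Nat := (Bool.rec (motive := fun _ => Nat) ((Bool.rec (motive := fun _ => Nat) (nl7788 i) (nl7789 i) (Nat.ble 225280 i))) ((Bool.rec (motive := fun _ => Nat) (nl7790 i) (nl7791 i) (Nat.ble 227328 i))) (Nat.ble 226304 i))
noncomputable def nd3145 (i : Nat) : Nat := (Bool.rec (motive := fun _ => Nat) (nl7795 i) (nl7796 i) (Nat.ble 232448 i))
noncomputable def nd3144 (i : Nat) : Nat := (Bool.rec (motive := fun _ => Nat) ((Bool.rec (motive := fun _ => Nat) (nl7792 i) (nl7793 i) (Nat.ble 229376 i))) ((Bool.rec (motive := fun _ => Nat) (nl7794 i) (nd3145 i) (Nat.ble 231424 i))) (Nat.ble 230400 i))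
noncomputable def nd3140 (i : Nat) : Nat := (Bool.rec (motive := fun _ => Nat) ((Bool.rec (motive := fun _ => Nat) (nd3141 i) (nd3142 i) (Nat.ble 220160 i))) ((Bool.rec (motive := fun _ => Nat) (nd3143 i) (nd3144 i) (Nat.ble 228352 i))) (Nat.ble 224256 i))
noncomputable def nd3147 (i : Nat) : Nat := (Bool.rec (motive := fun _ => Nat) ((Bool.rec (motive := fun _ => Nat) (nl7797 i) (nl7798 i) (Nat.ble 234496 i))) ((Bool.rec (motive := fun _ => Nat) (nl7799 i) (nl7800 i) (Nat.ble 236544 i))) (Nat.ble 235520 i))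
noncomputable def nd3148 (i : Nat) : Nat := (Bool.rec (motive := fun _ => Nat) ((Bool.rec (motive := fun _ => Nat) (nl7801 i) (nl7802 i) (Nat.ble 238592 i))) ((Bool.rec (motive := fun _ => Nat) (nl7803 i) (nl7804 i) (Nat.ble 240640 i))) (Nat.ble 239616 i))
noncomputable def nd3149 (i : Nat) : Nat := (Bool.rec (motive := fun _ => Nat) ((Bool.rec (motive := fun _ => Nat) (nl7805 i) (nl7806 i) (Nat.ble 242688 i))) ((Bool.rec (motive := fun _ => Nat) (nl7807 i) (nl7808 i) (Nat.ble 244736 i))) (Nat.ble 243712 i))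
noncomputable def nd3150 (i : Nat) : Nat := (Bool.rec (motive := fun _ => Nat) ((Bool.rec (motive := fun _ => Nat) (nl7809 i) (nl7810 i) (Nat.ble 246784 i))) ((Bool.rec (motive := fun _ => Nat) (nl7811 i) (nl7812 i) (Nat.ble 248832 i))) (Nat.ble 247808 i))
noncomputable def nd3146 (i : Nat) : Nat := (Bool.rec (motive := fun _ => Nat) ((Bool.rec (motive := fun _ => Nat) (nd3147 i) (nd3148 i) (Nat.ble 237568 i))) ((Bool.rec (motive := fun _ => Nat) (nd3149 i) (nd3150 i) (Nat.ble 245760 i))) (Nat.ble 241664 i))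
noncomputable def nd3152 (i : Nat) : Nat := (Bool.rec (motive := fun _ => Nat) ((Bool.rec (motive := fun _ => Nat) (nl7813 i) (nl7814 i) (Nat.ble 250880 i))) ((Bool.rec (motive := fun _ => Nat) (nl7815 i) (nl7816 i) (Nat.ble 252928 i))) (Nat.ble 251904 i))
noncomputable def nd3153 (i : Nat) : Nat := (Bool.rec (motive := fun _ => Nat) ((Bool.rec (motive := fun _ => Nat) (nl7817 i) (nl7818 i) (Nat.ble 254976 i))) ((Bool.rec (motive := fun _ => Nat) (nl7819 i) (nl7820 i) (Nat.ble 257024 i))) (Nat.ble 256000 i))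
noncomputable def nd3154 (i : Nat) : Nat := (Bool.rec (motive := fun _ => Nat) ((Bool.rec (motive := fun _ => Nat) (nl7821 i) (nl7822 i) (Nat.ble 259072 i))) ((Bool.rec (motive := fun _ => Nat) (nl7823 i) (nl7824 i) (Nat.ble 261120 i))) (Nat.ble 260096 i))
noncomputable def nd3156 (i : Nat) : Nat := (Bool.rec (motive := fun _ => Nat) (nl7828 i) (nl7829 i) (Nat.ble 266240 i))
noncomputable def nd3155 (i : Nat) : Nat := (Bool.rec (motive := fun _ => Nat) ((Bool.rec (motive := fun _ => Nat) (nl7825 i) (nl7826 i) (Nat.ble 263168 i))) ((Bool.rec (motive := fun _ => Nat) (nl7827 i) (nd3156 i) (Nat.ble 265216 i))) (Nat.ble 264192 i))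
noncomputable def nd3151 (i : Nat) : Nat := (Bool.rec (motive := fun _ => Nat) ((Bool.rec (motive := fun _ => Nat) (nd3152 i) (nd3153 i) (Nat.ble 253952 i))) ((Bool.rec (motive := fun _ => Nat) (nd3154 i) (nd3155 i) (Nat.ble 262144 i))) (Nat.ble 258048 i))
noncomputable def nd3134 (i : Nat) : Nat := (Bool.rec (motive := fun _ => Nat) ((Bool.rec (motive := fun _ => Nat) (nd3135 i) (nd3140 i) (Nat.ble 216064 i))) ((Bool.rec (motive := fun _ => Nat) (nd3146 i) (nd3151 i) (Nat.ble 249856 i))) (Nat.ble 233472 i))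
noncomputable def nd3067 (i : Nat) : Nat := (Bool.rec (motive := fun _ => Nat) ((Bool.rec (motive := fun _ => Nat) (nd3068 i) (nd3090 i) (Nat.ble 66560 i))) ((Bool.rec (motive := fun _ => Nat) (nd3112 i) (nd3134 i) (Nat.ble 199680 i))) (Nat.ble 133120 i))
noncomputable def nd3160 (i : Nat) : Nat := (Bool.rec (motive := fun _ => Nat) ((Bool.rec (motive := fun _ => Nat) (nl7830 i) (nl7831 i) (Nat.ble 1024 i))) ((Bool.rec (motive := fun _ => Nat) (nl7832 i) (nl7833 i) (Nat.ble 3072 i))) (Nat.ble 2048 i))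
noncomputable def nd3161 (i : Nat) : Nat := (Bool.rec (motive := fun _ => Nat) ((Bool.rec (motive := fun _ => Nat) (nl7834 i) (nl7835 i) (Nat.ble 5120 i))) ((Bool.rec (motive := fun _ => Nat) (nl7836 i) (nl7837 i) (Nat.ble 7168 i))) (Nat.ble 6144 i))
noncomputable def nd3162 (i : Nat) : Nat := (Bool.rec (motive := fun _ => Nat) ((Bool.rec (motive := fun _ => Nat) (nl7838 i) (nl7839 i) (Nat.ble 9216 i))) ((Bool.rec (motive := fun _ => Nat) (nl7840 i) (nl7841 i) (Nat.ble 11264 i))) (Nat.ble 10240 i))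
noncomputable def nd3163 (i : Nat) : Nat := (Bool.rec (motive := fun _ => Nat) ((Bool.rec (motive := fun _ => Nat) (nl7842 i) (nl7843 i) (Nat.ble 13312 i))) ((Bool.rec (motive := fun _ => Nat) (nl7844 i) (nl7845 i) (Nat.ble 15360 i))) (Nat.ble 14336 i))
noncomputable def nd3159 (i : Nat) : Nat := (Bool.rec (motive := fun _ => Nat) ((Bool.rec (motive := fun _ => Nat) (nd3160 i) (nd3161 i) (Nat.ble 4096 i))) ((Bool.rec (motive := fun _ => Nat) (nd3162 i) (nd3163 i) (Nat.ble 12288 i))) (Nat.ble 8192 i))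
noncomputable def nd3165 (i : Nat) : Nat := (Bool.rec (motive := fun _ => Nat) ((Bool.rec (motive := fun _ => Nat) (nl7846 i) (nl7847 i) (Nat.ble 17408 i))) ((Bool.rec (motive := fun _ => Nat) (nl7848 i) (nl7849 i) (Nat.ble 19456 i))) (Nat.ble 18432 i))
noncomputable def nd3166 (i : Nat) : Nat := (Bool.rec (motive := fun _ => Nat) ((Bool.rec (motive := fun _ => Nat) (nl7850 i) (nl7851 i) (Nat.ble 21504 i))) ((Bool.rec (motive := fun _ => Nat) (nl7852 i) (nl7853 i) (Nat.ble 23552 i))) (Nat.ble 22528 i))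
noncomputable def nd3167 (i : Nat) : Nat := (Bool.rec (motive := fun _ => Nat) ((Bool.rec (motive := fun _ => Nat) (nl7854 i) (nl7855 i) (Nat.ble 25600 i))) ((Bool.rec (motive := fun _ => Nat) (nl7856 i) (nl7857 i) (Nat.ble 27648 i))) (Nat.ble 26624 i))
noncomputable def nd3168 (i : Nat) : Nat := (Bool.rec (motive := fun _ => Nat) ((Bool.rec (motive := fun _ => Nat) (nl7858 i) (nl7859 i) (Nat.ble 29696 i))) ((Bool.rec (motive := fun _ => Nat) (nl7860 i) (nl7861 i) (Nat.ble 31744 i))) (Nat.ble 30720 i))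
noncomputable def nd3164 (i : Nat) : Nat := (Bool.rec (motive := fun _ => Nat) ((Bool.rec (motive := fun _ => Nat) (nd3165 i) (nd3166 i) (Nat.ble 20480 i))) ((Bool.rec (motive := fun _ => Nat) (nd3167 i) (nd3168 i) (Nat.ble 28672 i))) (Nat.ble 24576 i))
noncomputable def nd3170 (i : Nat) : Nat := (Bool.rec (motive := fun _ => Nat) ((Bool.rec (motive := fun _ => Nat) (nl7862 i) (nl7863 i) (Nat.ble 33792 i))) ((Bool.rec (motive := fun _ => Nat) (nl7864 i) (nl7865 i) (Nat.ble 35840 i))) (Nat.ble 34816 i))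
noncomputable def nd3171 (i : Nat) : Nat := (Bool.rec (motive := fun _ => Nat) ((Bool.rec (motive := fun _ => Nat) (nl7866 i) (nl7867 i) (Nat.ble 37888 i))) ((Bool.rec (motive := fun _ => Nat) (nl7868 i) (nl7869 i) (Nat.ble 39936 i))) (Nat.ble 38912 i))
noncomputable def nd3172 (i : Nat) : Nat := (Bool.rec (motive := fun _ => Nat) ((Bool.rec (motive := fun _ => Nat) (nl7870 i) (nl7871 i) (Nat.ble 41984 i))) ((Bool.rec (motive := fun _ => Nat) (nl7872 i) (nl7873 i) (Nat.ble 44032 i))) (Nat.ble 43008 i))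
noncomputable def nd3173 (i : Nat) : Nat := (Bool.rec (motive := fun _ => Nat) ((Bool.rec (motive := fun _ => Nat) (nl7874 i) (nl7875 i) (Nat.ble 46080 i))) ((Bool.rec (motive := fun _ => Nat) (nl7876 i) (nl7877 i) (Nat.ble 48128 i))) (Nat.ble 47104 i))
noncomputable def nd3169 (i : Nat) : Nat := (Bool.rec (motive := fun _ => Nat) ((Bool.rec (motive := fun _ => Nat) (nd3170 i) (nd3171 i) (Nat.ble 36864 i))) ((Bool.rec (motive := fun _ => Nat) (nd3172 i) (nd3173 i) (Nat.ble 45056 i))) (Nat.ble 40960 i))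
noncomputable def nd3175 (i : Nat) : Nat := (Bool.rec (motive := fun _ => Nat) ((Bool.rec (motive := fun _ => Nat) (nl7878 i) (nl7879 i) (Nat.ble 50176 i))) ((Bool.rec (motive := fun _ => Nat) (nl7880 i) (nl7881 i) (Nat.ble 52224 i))) (Nat.ble 51200 i))
noncomputable def nd3176 (i : Nat) : Nat := (Bool.rec (motive := fun _ => Nat) ((Bool.rec (motive := fun _ => Nat) (nl7882 i) (nl7883 i) (Nat.ble 54272 i))) ((Bool.rec (motive := fun _ => Nat) (nl7884 i) (nl7885 i) (Nat.ble 56320 i))) (Nat.ble 55296 i))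
noncomputable def nd3177 (i : Nat) : Nat := (Bool.rec (motive := fun _ => Nat) ((Bool.rec (motive := fun _ => Nat) (nl7886 i) (nl7887 i) (Nat.ble 58368 i))) ((Bool.rec (motive := fun _ => Nat) (nl7888 i) (nl7889 i) (Nat.ble 60416 i))) (Nat.ble 59392 i))
noncomputable def nd3179 (i : Nat) : Nat := (Bool.rec (motive := fun _ => Nat) (nl7893 i) (nl7894 i) (Nat.ble 65536 i))
noncomputable def nd3178 (i : Nat) : Nat := (Bool.rec (motive := fun _ => Nat) ((Bool.rec (motive := fun _ => Nat) (nl7890 i) (nl7891 i) (Nat.ble 62464 i))) ((Bool.rec (motive := fun _ => Nat) (nl7892 i) (nd3179 i) (Nat.ble 64512 i))) (Nat.ble 63488 i))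
noncomputable def nd3174 (i : Nat) : Nat := (Bool.rec (motive := fun _ => Nat) ((Bool.rec (motive := fun _ => Nat) (nd3175 i) (nd3176 i) (Nat.ble 53248 i))) ((Bool.rec (motive := fun _ => Nat) (nd3177 i) (nd3178 i) (Nat.ble 61440 i))) (Nat.ble 57344 i))
noncomputable def nd3158 (i : Nat) : Nat := (Bool.rec (motive := fun _ => Nat) ((Bool.rec (motive := fun _ => Nat) (nd3159 i) (nd3164 i) (Nat.ble 16384 i))) ((Bool.rec (motive := fun _ => Nat) (nd3169 i) (nd3174 i) (Nat.ble 49152 i))) (Nat.ble 32768 i))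
noncomputable def nd3182 (i : Nat) : Nat := (Bool.rec (motive := fun _ => Nat) ((Bool.rec (motive := fun _ => Nat) (nl7895 i) (nl7896 i) (Nat.ble 67584 i))) ((Bool.rec (motive := fun _ => Nat) (nl7897 i) (nl7898 i) (Nat.ble 69632 i))) (Nat.ble 68608 i))
noncomputable def nd3183 (i : Nat) : Nat := (Bool.rec (motive := fun _ => Nat) ((Bool.rec (motive := fun _ => Nat) (nl7899 i) (nl7900 i) (Nat.ble 71680 i))) ((Bool.rec (motive := fun _ => Nat) (nl7901 i) (nl7902 i) (Nat.ble 73728 i))) (Nat.ble 72704 i))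
noncomputable def nd3184 (i : Nat) : Nat := (Bool.rec (motive := fun _ => Nat) ((Bool.rec (motive := fun _ => Nat) (nl7903 i) (nl7904 i) (Nat.ble 75776 i))) ((Bool.rec (motive := fun _ => Nat) (nl7905 i) (nl7906 i) (Nat.ble 77824 i))) (Nat.ble 76800 i))
noncomputable def nd3185 (i : Nat) : Nat := (Bool.rec (motive := fun _ => Nat) ((Bool.rec (motive := fun _ => Nat) (nl7907 i) (nl7908 i) (Nat.ble 79872 i))) ((Bool.rec (motive := fun _ => Nat) (nl7909 i) (nl7910 i) (Nat.ble 81920 i))) (Nat.ble 80896 i))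
noncomputable def nd3181 (i : Nat) : Nat := (Bool.rec (motive := fun _ => Nat) ((Bool.rec (motive := fun _ => Nat) (nd3182 i) (nd3183 i) (Nat.ble 70656 i))) ((Bool.rec (motive := fun _ => Nat) (nd3184 i) (nd3185 i) (Nat.ble 78848 i))) (Nat.ble 74752 i))
noncomputable def nd3187 (i : Nat) : Nat := (Bool.rec (motive := fun _ => Nat) ((Bool.rec (motive := fun _ => Nat) (nl7911 i) (nl7912 i) (Nat.ble 83968 i))) ((Bool.rec (motive := fun _ => Nat) (nl7913 i) (nl7914 i) (Nat.ble 86016 i))) (Nat.ble 84992 i))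
noncomputable def nd3188 (i : Nat) : Nat := (Bool.rec (motive := fun _ => Nat) ((Bool.rec (motive := fun _ => Nat) (nl7915 i) (nl7916 i) (Nat.ble 88064 i))) ((Bool.rec (motive := fun _ => Nat) (nl7917 i) (nl7918 i) (Nat.ble 90112 i))) (Nat.ble 89088 i))
noncomputable def nd3189 (i : Nat) : Nat := (Bool.rec (motive := fun _ => Nat) ((Bool.rec (motive := fun _ => Nat) (nl7919 i) (nl7920 i) (Nat.ble 92160 i))) ((Bool.rec (motive := fun _ => Nat) (nl7921 i) (nl7922 i) (Nat.ble 94208 i))) (Nat.ble 93184 i))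
noncomputable def nd3190 (i : Nat) : Nat := (Bool.rec (motive := fun _ => Nat) ((Bool.rec (motive := fun _ => Nat) (nl7923 i) (nl7924 i) (Nat.ble 96256 i))) ((Bool.rec (motive := fun _ => Nat) (nl7925 i) (nl7926 i) (Nat.ble 98304 i))) (Nat.ble 97280 i))
noncomputable def nd3186 (i : Nat) : Nat := (Bool.rec (motive := fun _ => Nat) ((Bool.rec (motive := fun _ => Nat) (nd3187 i) (nd3188 i) (Nat.ble 87040 i))) ((Bool.rec (motive := fun _ => Nat) (nd3189 i) (nd3190 i) (Nat.ble 95232 i))) (Nat.ble 91136 i))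
noncomputable def nd3192 (i : Nat) : Nat := (Bool.rec (motive := fun _ => Nat) ((Bool.rec (motive := fun _ => Nat) (nl7927 i) (nl7928 i) (Nat.ble 100352 i))) ((Bool.rec (motive := fun _ => Nat) (nl7929 i) (nl7930 i) (Nat.ble 102400 i))) (Nat.ble 101376 i))
noncomputable def nd3193 (i : Nat) : Nat := (Bool.rec (motive := fun _ => Nat) ((Bool.rec (motive := fun _ => Nat) (nl7931 i) (nl7932 i) (Nat.ble 104448 i))) ((Bool.rec (motive := fun _ => Nat) (nl7933 i) (nl7934 i) (Nat.ble 106496 i))) (Nat.ble 105472 i))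
noncomputable def nd3194 (i : Nat) : Nat := (Bool.rec (motive := fun _ => Nat) ((Bool.rec (motive := fun _ => Nat) (nl7935 i) (nl7936 i) (Nat.ble 108544 i))) ((Bool.rec (motive := fun _ => Nat) (nl7937 i) (nl7938 i) (Nat.ble 110592 i))) (Nat.ble 109568 i))
noncomputable def nd3195 (i : Nat) : Nat := (Bool.rec (motive := fun _ => Nat) ((Bool.rec (motive := fun _ => Nat) (nl7939 i) (nl7940 i) (Nat.ble 112640 i))) ((Bool.rec (motive := fun _ => Nat) (nl7941 i) (nl7942 i) (Nat.ble 114688 i))) (Nat.ble 113664 i))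
noncomputable def nd3191 (i : Nat) : Nat := (Bool.rec (motive := fun _ => Nat) ((Bool.rec (motive := fun _ => Nat) (nd3192 i) (nd3193 i) (Nat.ble 103424 i))) ((Bool.rec (motive := fun _ => Nat) (nd3194 i) (nd3195 i) (Nat.ble 111616 i))) (Nat.ble 107520 i))
noncomputable def nd3197 (i : Nat) : Nat := (Bool.rec (motive := fun _ => Nat) ((Bool.rec (motive := fun _ => Nat) (nl7943 i) (nl7944 i) (Nat.ble 116736 i))) ((Bool.rec (motive := fun _ => Nat) (nl7945 i) (nl7946 i) (Nat.ble 118784 i))) (Nat.ble 117760 i))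
noncomputable def nd3198 (i : Nat) : Nat := (Bool.rec (motive := fun _ => Nat) ((Bool.rec (motive := fun _ => Nat) (nl7947 i) (nl7948 i) (Nat.ble 120832 i))) ((Bool.rec (motive := fun _ => Nat) (nl7949 i) (nl7950 i) (Nat.ble 122880 i))) (Nat.ble 121856 i))
noncomputable def nd3199 (i : Nat) : Nat := (Bool.rec (motive := fun _ => Nat) ((Bool.rec (motive := fun _ => Nat) (nl7951 i) (nl7952 i) (Nat.ble 124928 i))) ((Bool.rec (motive := fun _ => Nat) (nl7953 i) (nl7954 i) (Nat.ble 126976 i))) (Nat.ble 125952 i))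
noncomputable def nd3201 (i : Nat) : Nat := (Bool.rec (motive := fun _ => Nat) (nl7958 i) (nl7959 i) (Nat.ble 132096 i))
noncomputable def nd3200 (i : Nat) : Nat := (Bool.rec (motive := fun _ => Nat) ((Bool.rec (motive := fun _ => Nat) (nl7955 i) (nl7956 i) (Nat.ble 129024 i))) ((Bool.rec (motive := fun _ => Nat) (nl7957 i) (nd3201 i) (Nat.ble 131072 i))) (Nat.ble 130048 i))
noncomputable def nd3196 (i : Nat) : Nat := (Bool.rec (motive := fun _ => Nat) ((Bool.rec (motive := fun _ => Nat) (nd3197 i) (nd3198 i) (Nat.ble 119808 i))) ((Bool.rec (motive := fun _ => Nat) (nd3199 i) (nd3200 i) (Nat.ble 128000 i))) (Nat.ble 123904 i))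
noncomputable def nd3180 (i : Nat) : Nat := (Bool.rec (motive := fun _ => Nat) ((Bool.rec (motive := fun _ => Nat) (nd3181 i) (nd3186 i) (Nat.ble 82944 i))) ((Bool.rec (motive := fun _ => Nat) (nd3191 i) (nd3196 i) (Nat.ble 115712 i))) (Nat.ble 99328 i))
noncomputable def nd3204 (i : Nat) : Nat := (Bool.rec (motive := fun _ => Nat) ((Bool.rec (motive := fun _ => Nat) (nl7960 i) (nl7961 i) (Nat.ble 134144 i))) ((Bool.rec (motive := fun _ => Nat) (nl7962 i) (nl7963 i) (Nat.ble 136192 i))) (Nat.ble 135168 i))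
noncomputable def nd3205 (i : Nat) : Nat := (Bool.rec (motive := fun _ => Nat) ((Bool.rec (motive := fun _ => Nat) (nl7964 i) (nl7965 i) (Nat.ble 138240 i))) ((Bool.rec (motive := fun _ => Nat) (nl7966 i) (nl7967 i) (Nat.ble 140288 i))) (Nat.ble 139264 i))
noncomputable def nd3206 (i : Nat) : Nat := (Bool.rec (motive := fun _ => Nat) ((Bool.rec (motive := fun _ => Nat) (nl7968 i) (nl7969 i) (Nat.ble 142336 i))) ((Bool.rec (motive := fun _ => Nat) (nl7970 i) (nl7971 i) (Nat.ble 144384 i))) (Nat.ble 143360 i))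
noncomputable def nd3207 (i : Nat) : Nat := (Bool.rec (motive := fun _ => Nat) ((Bool.rec (motive := fun _ => Nat) (nl7972 i) (nl7973 i) (Nat.ble 146432 i))) ((Bool.rec (motive := fun _ => Nat) (nl7974 i) (nl7975 i) (Nat.ble 148480 i))) (Nat.ble 147456 i))
noncomputable def nd3203 (i : Nat) : Nat := (Bool.rec (motive := fun _ => Nat) ((Bool.rec (motive := fun _ => Nat) (nd3204 i) (nd3205 i) (Nat.ble 137216 i))) ((Bool.rec (motive := fun _ => Nat) (nd3206 i) (nd3207 i) (Nat.ble 145408 i))) (Nat.ble 141312 i))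
noncomputable def nd3209 (i : Nat) : Nat := (Bool.rec (motive := fun _ => Nat) ((Bool.rec (motive := fun _ => Nat) (nl7976 i) (nl7977 i) (Nat.ble 150528 i))) ((Bool.rec (motive := fun _ => Nat) (nl7978 i) (nl7979 i) (Nat.ble 152576 i))) (Nat.ble 151552 i))
noncomputable def nd3210 (i : Nat) : Nat := (Bool.rec (motive := fun _ => Nat) ((Bool.rec (motive := fun _ => Nat) (nl7980 i) (nl7981 i) (Nat.ble 154624 i))) ((Bool.rec (motive := fun _ => Nat) (nl7982 i) (nl7983 i) (Nat.ble 156672 i))) (Nat.ble 155648 i))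
noncomputable def nd3211 (i : Nat) : Nat := (Bool.rec (motive := fun _ => Nat) ((Bool.rec (motive := fun _ => Nat) (nl7984 i) (nl7985 i) (Nat.ble 158720 i))) ((Bool.rec (motive := fun _ => Nat) (nl7986 i) (nl7987 i) (Nat.ble 160768 i))) (Nat.ble 159744 i))
noncomputable def nd3212 (i : Nat) : Nat := (Bool.rec (motive := fun _ => Nat) ((Bool.rec (motive := fun _ => Nat) (nl7988 i) (nl7989 i) (Nat.ble 162816 i))) ((Bool.rec (motive := fun _ => Nat) (nl7990 i) (nl7991 i) (Nat.ble 164864 i))) (Nat.ble 163840 i))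
noncomputable def nd3208 (i : Nat) : Nat := (Bool.rec (motive := fun _ => Nat) ((Bool.rec (motive := fun _ => Nat) (nd3209 i) (nd3210 i) (Nat.ble 153600 i))) ((Bool.rec (motive := fun _ => Nat) (nd3211 i) (nd3212 i) (Nat.ble 161792 i))) (Nat.ble 157696 i))
noncomputable def nd3214 (i : Nat) : Nat := (Bool.rec (motive := fun _ => Nat) ((Bool.rec (motive := fun _ => Nat) (nl7992 i) (nl7993 i) (Nat.ble 166912 i))) ((Bool.rec (motive := fun _ => Nat) (nl7994 i) (nl7995 i) (Nat.ble 168960 i))) (Nat.ble 167936 i))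
noncomputable def nd3215 (i : Nat) : Nat := (Bool.rec (motive := fun _ => Nat) ((Bool.rec (motive := fun _ => Nat) (nl7996 i) (nl7997 i) (Nat.ble 171008 i))) ((Bool.rec (motive := fun _ => Nat) (nl7998 i) (nl7999 i) (Nat.ble 173056 i))) (Nat.ble 172032 i))
noncomputable def nd3216 (i : Nat) : Nat := (Bool.rec (motive := fun _ => Nat) ((Bool.rec (motive := fun _ => Nat) (nl8000 i) (nl8001 i) (Nat.ble 175104 i))) ((Bool.rec (motive := fun _ => Nat) (nl8002 i) (nl8003 i) (Nat.ble 177152 i))) (Nat.ble 176128 i))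
noncomputable def nd3217 (i : Nat) : Nat := (Bool.rec (motive := fun _ => Nat) ((Bool.rec (motive := fun _ => Nat) (nl8004 i) (nl8005 i) (Nat.ble 179200 i))) ((Bool.rec (motive := fun _ => Nat) (nl8006 i) (nl8007 i) (Nat.ble 181248 i))) (Nat.ble 180224 i))
noncomputable def nd3213 (i : Nat) : Nat := (Bool.rec (motive := fun _ => Nat) ((Bool.rec (motive := fun _ => Nat) (nd3214 i) (nd3215 i) (Nat.ble 169984 i))) ((Bool.rec (motive := fun _ => Nat) (nd3216 i) (nd3217 i) (Nat.ble 178176 i))) (Nat.ble 174080 i))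
noncomputable def nd3219 (i : Nat) : Nat := (Bool.rec (motive := fun _ => Nat) ((Bool.rec (motive := fun _ => Nat) (nl8008 i) (nl8009 i) (Nat.ble 183296 i))) ((Bool.rec (motive := fun _ => Nat) (nl8010 i) (nl8011 i) (Nat.ble 185344 i))) (Nat.ble 184320 i))
noncomputable def nd3220 (i : Nat) : Nat := (Bool.rec (motive := fun _ => Nat) ((Bool.rec (motive := fun _ => Nat) (nl8012 i) (nl8013 i) (Nat.ble 187392 i))) ((Bool.rec (motive := fun _ => Nat) (nl8014 i) (nl8015 i) (Nat.ble 189440 i))) (Nat.ble 188416 i))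
noncomputable def nd3221 (i : Nat) : Nat := (Bool.rec (motive := fun _ => Nat) ((Bool.rec (motive := fun _ => Nat) (nl8016 i) (nl8017 i) (Nat.ble 191488 i))) ((Bool.rec (motive := fun _ => Nat) (nl8018 i) (nl8019 i) (Nat.ble 193536 i))) (Nat.ble 192512 i))
noncomputable def nd3223 (i : Nat) : Nat := (Bool.rec (motive := fun _ => Nat) (nl8023 i) (nl8024 i) (Nat.ble 198656 i))
noncomputable def nd3222 (i : Nat) : Nat := (Bool.rec (motive := fun _ => Nat) ((Bool.rec (motive := fun _ => Nat) (nl8020 i) (nl8021 i) (Nat.ble 195584 i))) ((Bool.rec (motive := fun _ => Nat) (nl8022 i) (nd3223 i) (Nat.ble 197632 i))) (Nat.ble 196608 i))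
noncomputable def nd3218 (i : Nat) : Nat := (Bool.rec (motive := fun _ => Nat) ((Bool.rec (motive := fun _ => Nat) (nd3219 i) (nd3220 i) (Nat.ble 186368 i))) ((Bool.rec (motive := fun _ => Nat) (nd3221 i) (nd3222 i) (Nat.ble 194560 i))) (Nat.ble 190464 i))
noncomputable def nd3202 (i : Nat) : Nat := (Bool.rec (motive := fun _ => Nat) ((Bool.rec (motive := fun _ => Nat) (nd3203 i) (nd3208 i) (Nat.ble 149504 i))) ((Bool.rec (motive := fun _ => Nat) (nd3213 i) (nd3218 i) (Nat.ble 182272 i))) (Nat.ble 165888 i))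
noncomputable def nd3226 (i : Nat) : Nat := (Bool.rec (motive := fun _ => Nat) ((Bool.rec (motive := fun _ => Nat) (nl8025 i) (nl8026 i) (Nat.ble 200704 i))) ((Bool.rec (motive := fun _ => Nat) (nl8027 i) (nl8028 i) (Nat.ble 202752 i))) (Nat.ble 201728 i))
noncomputable def nd3227 (i : Nat) : Nat := (Bool.rec (motive := fun _ => Nat) ((Bool.rec (motive := fun _ => Nat) (nl8029 i) (nl8030 i) (Nat.ble 204800 i))) ((Bool.rec (motive := fun _ => Nat) (nl8031 i) (nl8032 i) (Nat.ble 206848 i))) (Nat.ble 205824 i))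
noncomputable def nd3228 (i : Nat) : Nat := (Bool.rec (motive := fun _ => Nat) ((Bool.rec (motive := fun _ => Nat) (nl8033 i) (nl8034 i) (Nat.ble 208896 i))) ((Bool.rec (motive := fun _ => Nat) (nl8035 i) (nl8036 i) (Nat.ble 210944 i))) (Nat.ble 209920 i))
noncomputable def nd3229 (i : Nat) : Nat := (Bool.rec (motive := fun _ => Nat) ((Bool.rec (motive := fun _ => Nat) (nl8037 i) (nl8038 i) (Nat.ble 212992 i))) ((Bool.rec (motive := fun _ => Nat) (nl8039 i) (nl8040 i) (Nat.ble 215040 i))) (Nat.ble 214016 i))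
noncomputable def nd3225 (i : Nat) : Nat := (Bool.rec (motive := fun _ => Nat) ((Bool.rec (motive := fun _ => Nat) (nd3226 i) (nd3227 i) (Nat.ble 203776 i))) ((Bool.rec (motive := fun _ => Nat) (nd3228 i) (nd3229 i) (Nat.ble 211968 i))) (Nat.ble 207872 i))
noncomputable def nd3231 (i : Nat) : Nat := (Bool.rec (motive := fun _ => Nat) ((Bool.rec (motive := fun _ => Nat) (nl8041 i) (nl8042 i) (Nat.ble 217088 i))) ((Bool.rec (motive := fun _ => Nat) (nl8043 i) (nl8044 i) (Nat.ble 219136 i))) (Nat.ble 218112 i))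
noncomputable def nd3232 (i : Nat) : Nat := (Bool.rec (motive := fun _ => Nat) ((Bool.rec (motive := fun _ => Nat) (nl8045 i) (nl8046 i) (Nat.ble 221184 i))) ((Bool.rec (motive := fun _ => Nat) (nl8047 i) (nl8048 i) (Nat.ble 223232 i))) (Nat.ble 222208 i))
noncomputable def nd3233 (i : Nat) : Nat := (Bool.rec (motive := fun _ => Nat) ((Bool.rec (motive := fun _ => Nat) (nl8049 i) (nl8050 i) (Nat.ble 225280 i))) ((Bool.rec (motive := fun _ => Nat) (nl8051 i) (nl8052 i) (Nat.ble 227328 i))) (Nat.ble 226304 i))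
noncomputable def nd3235 (i : Nat) : Nat := (Bool.rec (motive := fun _ => Nat) (nl8056 i) (nl8057 i) (Nat.ble 232448 i))
noncomputable def nd3234 (i : Nat) : Nat := (Bool.rec (motive := fun _ => Nat) ((Bool.rec (motive := fun _ => Nat) (nl8053 i) (nl8054 i) (Nat.ble 229376 i))) ((Bool.rec (motive := fun _ => Nat) (nl8055 i) (nd3235 i) (Nat.ble 231424 i))) (Nat.ble 230400 i))
noncomputable def nd3230 (i : Nat) : Nat := (Bool.rec (motive := fun _ => Nat) ((Bool.rec (motive := fun _ => Nat) (nd3231 i) (nd3232 i) (Nat.ble 220160 i))) ((Bool.rec (motive := fun _ => Nat) (nd3233 i) (nd3234 i) (Nat.ble 228352 i))) (Nat.ble 224256 i))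
noncomputable def nd3237 (i : Nat) : Nat := (Bool.rec (motive := fun _ => Nat) ((Bool.rec (motive := fun _ => Nat) (nl8058 i) (nl8059 i) (Nat.ble 234496 i))) ((Bool.rec (motive := fun _ => Nat) (nl8060 i) (nl8061 i) (Nat.ble 236544 i))) (Nat.ble 235520 i))
noncomputable def nd3238 (i : Nat) : Nat := (Bool.rec (motive := fun _ => Nat) ((Bool.rec (motive := fun _ => Nat) (nl8062 i) (nl8063 i) (Nat.ble 238592 i))) ((Bool.rec (motive := fun _ => Nat) (nl8064 i) (nl8065 i) (Nat.ble 240640 i))) (Nat.ble 239616 i))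
noncomputable def nd3239 (i : Nat) : Nat := (Bool.rec (motive := fun _ => Nat) ((Bool.rec (motive := fun _ => Nat) (nl8066 i) (nl8067 i) (Nat.ble 242688 i))) ((Bool.rec (motive := fun _ => Nat) (nl8068 i) (nl8069 i) (Nat.ble 244736 i))) (Nat.ble 243712 i))
noncomputable def nd3240 (i : Nat) : Nat := (Bool.rec (motive := fun _ => Nat) ((Bool.rec (motive := fun _ => Nat) (nl8070 i) (nl8071 i) (Nat.ble 246784 i))) ((Bool.rec (motive := fun _ => Nat) (nl8072 i) (nl8073 i) (Nat.ble 248832 i))) (Nat.ble 247808 i))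
noncomputable def nd3236 (i : Nat) : Nat := (Bool.rec (motive := fun _ => Nat) ((Bool.rec (motive := fun _ => Nat) (nd3237 i) (nd3238 i) (Nat.ble 237568 i))) ((Bool.rec (motive := fun _ => Nat) (nd3239 i) (nd3240 i) (Nat.ble 245760 i))) (Nat.ble 241664 i))
noncomputable def nd3242 (i : Nat) : Nat := (Bool.rec (motive := fun _ => Nat) ((Bool.rec (motive := fun _ => Nat) (nl8074 i) (nl8075 i) (Nat.ble 250880 i))) ((Bool.rec (motive := fun _ => Nat) (nl8076 i) (nl8077 i) (Nat.ble 252928 i))) (Nat.ble 251904 i))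
noncomputable def nd3243 (i : Nat) : Nat := (Bool.rec (motive := fun _ => Nat) ((Bool.rec (motive := fun _ => Nat) (nl8078 i) (nl8079 i) (Nat.ble 254976 i))) ((Bool.rec (motive := fun _ => Nat) (nl8080 i) (nl8081 i) (Nat.ble 257024 i))) (Nat.ble 256000 i))
noncomputable def nd3244 (i : Nat) : Nat := (Bool.rec (motive := fun _ => Nat) ((Bool.rec (motive := fun _ => Nat) (nl8082 i) (nl8083 i) (Nat.ble 259072 i))) ((Bool.rec (motive := fun _ => Nat) (nl8084 i) (nl8085 i) (Nat.ble 261120 i))) (Nat.ble 260096 i))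
noncomputable def nd3246 (i : Nat) : Nat := (Bool.rec (motive := fun _ => Nat) (nl8089 i) (nl8090 i) (Nat.ble 266240 i))
noncomputable def nd3245 (i : Nat) : Nat := (Bool.rec (motive := fun _ => Nat) ((Bool.rec (motive := fun _ => Nat) (nl8086 i) (nl8087 i) (Nat.ble 263168 i))) ((Bool.rec (motive := fun _ => Nat) (nl8088 i) (nd3246 i) (Nat.ble 265216 i))) (Nat.ble 264192 i))
noncomputable def nd3241 (i : Nat) : Nat := (Bool.rec (motive := fun _ => Nat) ((Bool.rec (motive := fun _ => Nat) (nd3242 i) (nd3243 i) (Nat.ble 253952 i))) ((Bool.rec (motive := fun _ => Nat) (nd3244 i) (nd3245 i) (Nat.ble 262144 i))) (Nat.ble 258048 i))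
noncomputable def nd3224 (i : Nat) : Nat := (Bool.rec (motive := fun _ => Nat) ((Bool.rec (motive := fun _ => Nat) (nd3225 i) (nd3230 i) (Nat.ble 216064 i))) ((Bool.rec (motive := fun _ => Nat) (nd3236 i) (nd3241 i) (Nat.ble 249856 i))) (Nat.ble 233472 i))
noncomputable def nd3157 (i : Nat) : Nat := (Bool.rec (motive := fun _ => Nat) ((Bool.rec (motive := fun _ => Nat) (nd3158 i) (nd3180 i) (Nat.ble 66560 i))) ((Bool.rec (motive := fun _ => Nat) (nd3202 i) (nd3224 i) (Nat.ble 199680 i))) (Nat.ble 133120 i))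
noncomputable def nd3250 (i : Nat) : Nat := (Bool.rec (motive := fun _ => Nat) ((Bool.rec (motive := fun _ => Nat) (nl8091 i) (nl8092 i) (Nat.ble 1024 i))) ((Bool.rec (motive := fun _ => Nat) (nl8093 i) (nl8094 i) (Nat.ble 3072 i))) (Nat.ble 2048 i))
noncomputable def nd3251 (i : Nat) : Nat := (Bool.rec (motive := fun _ => Nat) ((Bool.rec (motive := fun _ => Nat) (nl8095 i) (nl8096 i) (Nat.ble 5120 i))) ((Bool.rec (motive := fun _ => Nat) (nl8097 i) (nl8098 i) (Nat.ble 7168 i))) (Nat.ble 6144 i))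
noncomputable def nd3252 (i : Nat) : Nat := (Bool.rec (motive := fun _ => Nat) ((Bool.rec (motive := fun _ => Nat) (nl8099 i) (nl8100 i) (Nat.ble 9216 i))) ((Bool.rec (motive := fun _ => Nat) (nl8101 i) (nl8102 i) (Nat.ble 11264 i))) (Nat.ble 10240 i))
noncomputable def nd3253 (i : Nat) : Nat := (Bool.rec (motive := fun _ => Nat) ((Bool.rec (motive := fun _ => Nat) (nl8103 i) (nl8104 i) (Nat.ble 13312 i))) ((Bool.rec (motive := fun _ => Nat) (nl8105 i) (nl8106 i) (Nat.ble 15360 i))) (Nat.ble 14336 i))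
noncomputable def nd3249 (i : Nat) : Nat := (Bool.rec (motive := fun _ => Nat) ((Bool.rec (motive := fun _ => Nat) (nd3250 i) (nd3251 i) (Nat.ble 4096 i))) ((Bool.rec (motive := fun _ => Nat) (nd3252 i) (nd3253 i) (Nat.ble 12288 i))) (Nat.ble 8192 i))
noncomputable def nd3255 (i : Nat) : Nat := (Bool.rec (motive := fun _ => Nat) ((Bool.rec (motive := fun _ => Nat) (nl8107 i) (nl8108 i) (Nat.ble 17408 i))) ((Bool.rec (motive := fun _ => Nat) (nl8109 i) (nl8110 i) (Nat.ble 19456 i))) (Nat.ble 18432 i))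
noncomputable def nd3256 (i : Nat) : Nat := (Bool.rec (motive := fun _ => Nat) ((Bool.rec (motive := fun _ => Nat) (nl8111 i) (nl8112 i) (Nat.ble 21504 i))) ((Bool.rec (motive := fun _ => Nat) (nl8113 i) (nl8114 i) (Nat.ble 23552 i))) (Nat.ble 22528 i))
noncomputable def nd3257 (i : Nat) : Nat := (Bool.rec (motive := fun _ => Nat) ((Bool.rec (motive := fun _ => Nat) (nl8115 i) (nl8116 i) (Nat.ble 25600 i))) ((Bool.rec (motive := fun _ => Nat) (nl8117 i) (nl8118 i) (Nat.ble 27648 i))) (Nat.ble 26624 i))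
noncomputable def nd3258 (i : Nat) : Nat := (Bool.rec (motive := fun _ => Nat) ((Bool.rec (motive := fun _ => Nat) (nl8119 i) (nl8120 i) (Nat.ble 29696 i))) ((Bool.rec (motive := fun _ => Nat) (nl8121 i) (nl8122 i) (Nat.ble 31744 i))) (Nat.ble 30720 i))
noncomputable def nd3254 (i : Nat) : Nat := (Bool.rec (motive := fun _ => Nat) ((Bool.rec (motive := fun _ => Nat) (nd3255 i) (nd3256 i) (Nat.ble 20480 i))) ((Bool.rec (motive := fun _ => Nat) (nd3257 i) (nd3258 i) (Nat.ble 28672 i))) (Nat.ble 24576 i))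
noncomputable def nd3260 (i : Nat) : Nat := (Bool.rec (motive := fun _ => Nat) ((Bool.rec (motive := fun _ => Nat) (nl8123 i) (nl8124 i) (Nat.ble 33792 i))) ((Bool.rec (motive := fun _ => Nat) (nl8125 i) (nl8126 i) (Nat.ble 35840 i))) (Nat.ble 34816 i))
noncomputable def nd3261 (i : Nat) : Nat := (Bool.rec (motive := fun _ => Nat) ((Bool.rec (motive := fun _ => Nat) (nl8127 i) (nl8128 i) (Nat.ble 37888 i))) ((Bool.rec (motive := fun _ => Nat) (nl8129 i) (nl8130 i) (Nat.ble 39936 i))) (Nat.ble 38912 i))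
noncomputable def nd3262 (i : Nat) : Nat := (Bool.rec (motive := fun _ => Nat) ((Bool.rec (motive := fun _ => Nat) (nl8131 i) (nl8132 i) (Nat.ble 41984 i))) ((Bool.rec (motive := fun _ => Nat) (nl8133 i) (nl8134 i) (Nat.ble 44032 i))) (Nat.ble 43008 i))
noncomputable def nd3263 (i : Nat) : Nat := (Bool.rec (motive := fun _ => Nat) ((Bool.rec (motive := fun _ => Nat) (nl8135 i) (nl8136 i) (Nat.ble 46080 i))) ((Bool.rec (motive := fun _ => Nat) (nl8137 i) (nl8138 i) (Nat.ble 48128 i))) (Nat.ble 47104 i))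
noncomputable def nd3259 (i : Nat) : Nat := (Bool.rec (motive := fun _ => Nat) ((Bool.rec (motive := fun _ => Nat) (nd3260 i) (nd3261 i) (Nat.ble 36864 i))) ((Bool.rec (motive := fun _ => Nat) (nd3262 i) (nd3263 i) (Nat.ble 45056 i))) (Nat.ble 40960 i))
noncomputable def nd3265 (i : Nat) : Nat := (Bool.rec (motive := fun _ => Nat) ((Bool.rec (motive := fun _ => Nat) (nl8139 i) (nl8140 i) (Nat.ble 50176 i))) ((Bool.rec (motive := fun _ => Nat) (nl8141 i) (nl8142 i) (Nat.ble 52224 i))) (Nat.ble 51200 i))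
noncomputable def nd3266 (i : Nat) : Nat := (Bool.rec (motive := fun _ => Nat) ((Bool.rec (motive := fun _ => Nat) (nl8143 i) (nl8144 i) (Nat.ble 54272 i))) ((Bool.rec (motive := fun _ => Nat) (nl8145 i) (nl8146 i) (Nat.ble 56320 i))) (Nat.ble 55296 i))
noncomputable def nd3267 (i : Nat) : Nat := (Bool.rec (motive := fun _ => Nat) ((Bool.rec (motive := fun _ => Nat) (nl8147 i) (nl8148 i) (Nat.ble 58368 i))) ((Bool.rec (motive := fun _ => Nat) (nl8149 i) (nl8150 i) (Nat.ble 60416 i))) (Nat.ble 59392 i))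
noncomputable def nd3269 (i : Nat) : Nat := (Bool.rec (motive := fun _ => Nat) (nl8154 i) (nl8155 i) (Nat.ble 65536 i))
noncomputable def nd3268 (i : Nat) : Nat := (Bool.rec (motive := fun _ => Nat) ((Bool.rec (motive := fun _ => Nat) (nl8151 i) (nl8152 i) (Nat.ble 62464 i))) ((Bool.rec (motive := fun _ => Nat) (nl8153 i) (nd3269 i) (Nat.ble 64512 i))) (Nat.ble 63488 i))
noncomputable def nd3264 (i : Nat) : Nat := (Bool.rec (motive := fun _ => Nat) ((Bool.rec (motive := fun _ => Nat) (nd3265 i) (nd3266 i) (Nat.ble 53248 i))) ((Bool.rec (motive := fun _ => Nat) (nd3267 i) (nd3268 i) (Nat.ble 61440 i))) (Nat.ble 57344 i))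
noncomputable def nd3248 (i : Nat) : Nat := (Bool.rec (motive := fun _ => Nat) ((Bool.rec (motive := fun _ => Nat) (nd3249 i) (nd3254 i) (Nat.ble 16384 i))) ((Bool.rec (motive := fun _ => Nat) (nd3259 i) (nd3264 i) (Nat.ble 49152 i))) (Nat.ble 32768 i))
noncomputable def nd3272 (i : Nat) : Nat := (Bool.rec (motive := fun _ => Nat) ((Bool.rec (motive := fun _ => Nat) (nl8156 i) (nl8157 i) (Nat.ble 67584 i))) ((Bool.rec (motive := fun _ => Nat) (nl8158 i) (nl8159 i) (Nat.ble 69632 i))) (Nat.ble 68608 i))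
noncomputable def nd3273 (i : Nat) : Nat := (Bool.rec (motive := fun _ => Nat) ((Bool.rec (motive := fun _ => Nat) (nl8160 i) (nl8161 i) (Nat.ble 71680 i))) ((Bool.rec (motive := fun _ => Nat) (nl8162 i) (nl8163 i) (Nat.ble 73728 i))) (Nat.ble 72704 i))
noncomputable def nd3274 (i : Nat) : Nat := (Bool.rec (motive := fun _ => Nat) ((Bool.rec (motive := fun _ => Nat) (nl8164 i) (nl8165 i) (Nat.ble 75776 i))) ((Bool.rec (motive := fun _ => Nat) (nl8166 i) (nl8167 i) (Nat.ble 77824 i))) (Nat.ble 76800 i))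
noncomputable def nd3275 (i : Nat) : Nat := (Bool.rec (motive := fun _ => Nat) ((Bool.rec (motive := fun _ => Nat) (nl8168 i) (nl8169 i) (Nat.ble 79872 i))) ((Bool.rec (motive := fun _ => Nat) (nl8170 i) (nl8171 i) (Nat.ble 81920 i))) (Nat.ble 80896 i))
noncomputable def nd3271 (i : Nat) : Nat := (Bool.rec (motive := fun _ => Nat) ((Bool.rec (motive := fun _ => Nat) (nd3272 i) (nd3273 i) (Nat.ble 70656 i))) ((Bool.rec (motive := fun _ => Nat) (nd3274 i) (nd3275 i) (Nat.ble 78848 i))) (Nat.ble 74752 i))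
noncomputable def nd3277 (i : Nat) : Nat := (Bool.rec (motive := fun _ => Nat) ((Bool.rec (motive := fun _ => Nat) (nl8172 i) (nl8173 i) (Nat.ble 83968 i))) ((Bool.rec (motive := fun _ => Nat) (nl8174 i) (nl8175 i) (Nat.ble 86016 i))) (Nat.ble 84992 i))
noncomputable def nd3278 (i : Nat) : Nat := (Bool.rec (motive := fun _ => Nat) ((Bool.rec (motive := fun _ => Nat) (nl8176 i) (nl8177 i) (Nat.ble 88064 i))) ((Bool.rec (motive := fun _ => Nat) (nl8178 i) (nl8179 i) (Nat.ble 90112 i))) (Nat.ble 89088 i))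
noncomputable def nd3279 (i : Nat) : Nat := (Bool.rec (motive := fun _ => Nat) ((Bool.rec (motive := fun _ => Nat) (nl8180 i) (nl8181 i) (Nat.ble 92160 i))) ((Bool.rec (motive := fun _ => Nat) (nl8182 i) (nl8183 i) (Nat.ble 94208 i))) (Nat.ble 93184 i))
noncomputable def nd3280 (i : Nat) : Nat := (Bool.rec (motive := fun _ => Nat) ((Bool.rec (motive := fun _ => Nat) (nl8184 i) (nl8185 i) (Nat.ble 96256 i))) ((Bool.rec (motive := fun _ => Nat) (nl8186 i) (nl8187 i) (Nat.ble 98304 i))) (Nat.ble 97280 i))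
noncomputable def nd3276 (i : Nat) : Nat := (Bool.rec (motive := fun _ => Nat) ((Bool.rec (motive := fun _ => Nat) (nd3277 i) (nd3278 i) (Nat.ble 87040 i))) ((Bool.rec (motive := fun _ => Nat) (nd3279 i) (nd3280 i) (Nat.ble 95232 i))) (Nat.ble 91136 i))
noncomputable def nd3282 (i : Nat) : Nat := (Bool.rec (motive := fun _ => Nat) ((Bool.rec (motive := fun _ => Nat) (nl8188 i) (nl8189 i) (Nat.ble 100352 i))) ((Bool.rec (motive := fun _ => Nat) (nl8190 i) (nl8191 i) (Nat.ble 102400 i))) (Nat.ble 101376 i))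
noncomputable def nd3283 (i : Nat) : Nat := (Bool.rec (motive := fun _ => Nat) ((Bool.rec (motive := fun _ => Nat) (nl8192 i) (nl8193 i) (Nat.ble 104448 i))) ((Bool.rec (motive := fun _ => Nat) (nl8194 i) (nl8195 i) (Nat.ble 106496 i))) (Nat.ble 105472 i))
noncomputable def nd3284 (i : Nat) : Nat := (Bool.rec (motive := fun _ => Nat) ((Bool.rec (motive := fun _ => Nat) (nl8196 i) (nl8197 i) (Nat.ble 108544 i))) ((Bool.rec (motive := fun _ => Nat) (nl8198 i) (nl8199 i) (Nat.ble 110592 i))) (Nat.ble 109568 i))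
noncomputable def nd3285 (i : Nat) : Nat := (Bool.rec (motive := fun _ => Nat) ((Bool.rec (motive := fun _ => Nat) (nl8200 i) (nl8201 i) (Nat.ble 112640 i))) ((Bool.rec (motive := fun _ => Nat) (nl8202 i) (nl8203 i) (Nat.ble 114688 i))) (Nat.ble 113664 i))
noncomputable def nd3281 (i : Nat) : Nat := (Bool.rec (motive := fun _ => Nat) ((Bool.rec (motive := fun _ => Nat) (nd3282 i) (nd3283 i) (Nat.ble 103424 i))) ((Bool.rec (motive := fun _ => Nat) (nd3284 i) (nd3285 i) (Nat.ble 111616 i))) (Nat.ble 107520 i))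
noncomputable def nd3287 (i : Nat) : Nat := (Bool.rec (motive := fun _ => Nat) ((Bool.rec (motive := fun _ => Nat) (nl8204 i) (nl8205 i) (Nat.ble 116736 i))) ((Bool.rec (motive := fun _ => Nat) (nl8206 i) (nl8207 i) (Nat.ble 118784 i))) (Nat.ble 117760 i))
noncomputable def nd3288 (i : Nat) : Nat := (Bool.rec (motive := fun _ => Nat) ((Bool.rec (motive := fun _ => Nat) (nl8208 i) (nl8209 i) (Nat.ble 120832 i))) ((Bool.rec (motive := fun _ => Nat) (nl8210 i) (nl8211 i) (Nat.ble 122880 i))) (Nat.ble 121856 i))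
noncomputable def nd3289 (i : Nat) : Nat := (Bool.rec (motive := fun _ => Nat) ((Bool.rec (motive := fun _ => Nat) (nl8212 i) (nl8213 i) (Nat.ble 124928 i))) ((Bool.rec (motive := fun _ => Nat) (nl8214 i) (nl8215 i) (Nat.ble 126976 i))) (Nat.ble 125952 i))
noncomputable def nd3291 (i : Nat) : Nat := (Bool.rec (motive := fun _ => Nat) (nl8219 i) (nl8220 i) (Nat.ble 132096 i))
noncomputable def nd3290 (i : Nat) : Nat := (Bool.rec (motive := fun _ => Nat) ((Bool.rec (motive := fun _ => Nat) (nl8216 i) (nl8217 i) (Nat.ble 129024 i))) ((Bool.rec (motive := fun _ => Nat) (nl8218 i) (nd3291 i) (Nat.ble 131072 i))) (Nat.ble 130048 i))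
noncomputable def nd3286 (i : Nat) : Nat := (Bool.rec (motive := fun _ => Nat) ((Bool.rec (motive := fun _ => Nat) (nd3287 i) (nd3288 i) (Nat.ble 119808 i))) ((Bool.rec (motive := fun _ => Nat) (nd3289 i) (nd3290 i) (Nat.ble 128000 i))) (Nat.ble 123904 i))
noncomputable def nd3270 (i : Nat) : Nat := (Bool.rec (motive := fun _ => Nat) ((Bool.rec (motive := fun _ => Nat) (nd3271 i) (nd3276 i) (Nat.ble 82944 i))) ((Bool.rec (motive := fun _ => Nat) (nd3281 i) (nd3286 i) (Nat.ble 115712 i))) (Nat.ble 99328 i))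
noncomputable def nd3294 (i : Nat) : Nat := (Bool.rec (motive := fun _ => Nat) ((Bool.rec (motive := fun _ => Nat) (nl8221 i) (nl8222 i) (Nat.ble 134144 i))) ((Bool.rec (motive := fun _ => Nat) (nl8223 i) (nl8224 i) (Nat.ble 136192 i))) (Nat.ble 135168 i))
noncomputable def nd3295 (i : Nat) : Nat := (Bool.rec (motive := fun _ => Nat) ((Bool.rec (motive := fun _ => Nat) (nl8225 i) (nl8226 i) (Nat.ble 138240 i))) ((Bool.rec (motive := fun _ => Nat) (nl8227 i) (nl8228 i) (Nat.ble 140288 i))) (Nat.ble 139264 i))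
noncomputable def nd3296 (i : Nat) : Nat := (Bool.rec (motive := fun _ => Nat) ((Bool.rec (motive := fun _ => Nat) (nl8229 i) (nl8230 i) (Nat.ble 142336 i))) ((Bool.rec (motive := fun _ => Nat) (nl8231 i) (nl8232 i) (Nat.ble 144384 i))) (Nat.ble 143360 i))
noncomputable def nd3297 (i : Nat) : Nat := (Bool.rec (motive := fun _ => Nat) ((Bool.rec (motive := fun _ => Nat) (nl8233 i) (nl8234 i) (Nat.ble 146432 i))) ((Bool.rec (motive := fun _ => Nat) (nl8235 i) (nl8236 i) (Nat.ble 148480 i))) (Nat.ble 147456 i))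
noncomputable def nd3293 (i : Nat) : Nat := (Bool.rec (motive := fun _ => Nat) ((Bool.rec (motive := fun _ => Nat) (nd3294 i) (nd3295 i) (Nat.ble 137216 i))) ((Bool.rec (motive := fun _ => Nat) (nd3296 i) (nd3297 i) (Nat.ble 145408 i))) (Nat.ble 141312 i))
noncomputable def nd3299 (i : Nat) : Nat := (Bool.rec (motive := fun _ => Nat) ((Bool.rec (motive := fun _ => Nat) (nl8237 i) (nl8238 i) (Nat.ble 150528 i))) ((Bool.rec (motive := fun _ => Nat) (nl8239 i) (nl8240 i) (Nat.ble 152576 i))) (Nat.ble 151552 i))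
noncomputable def nd3300 (i : Nat) : Nat := (Bool.rec (motive := fun _ => Nat) ((Bool.rec (motive := fun _ => Nat) (nl8241 i) (nl8242 i) (Nat.ble 154624 i))) ((Bool.rec (motive := fun _ => Nat) (nl8243 i) (nl8244 i) (Nat.ble 156672 i))) (Nat.ble 155648 i))
noncomputable def nd3301 (i : Nat) : Nat := (Bool.rec (motive := fun _ => Nat) ((Bool.rec (motive := fun _ => Nat) (nl8245 i) (nl8246 i) (Nat.ble 158720 i))) ((Bool.rec (motive := fun _ => Nat) (nl8247 i) (nl8248 i) (Nat.ble 160768 i))) (Nat.ble 159744 i))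
noncomputable def nd3302 (i : Nat) : Nat := (Bool.rec (motive := fun _ => Nat) ((Bool.rec (motive := fun _ => Nat) (nl8249 i) (nl8250 i) (Nat.ble 162816 i))) ((Bool.rec (motive := fun _ => Nat) (nl8251 i) (nl8252 i) (Nat.ble 164864 i))) (Nat.ble 163840 i))
noncomputable def nd3298 (i : Nat) : Nat := (Bool.rec (motive := fun _ => Nat) ((Bool.rec (motive := fun _ => Nat) (nd3299 i) (nd3300 i) (Nat.ble 153600 i))) ((Bool.rec (motive := fun _ => Nat) (nd3301 i) (nd3302 i) (Nat.ble 161792 i))) (Nat.ble 157696 i))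
noncomputable def nd3304 (i : Nat) : Nat := (Bool.rec (motive := fun _ => Nat) ((Bool.rec (motive := fun _ => Nat) (nl8253 i) (nl8254 i) (Nat.ble 166912 i))) ((Bool.rec (motive := fun _ => Nat) (nl8255 i) (nl8256 i) (Nat.ble 168960 i))) (Nat.ble 167936 i))
noncomputable def nd3305 (i : Nat) : Nat := (Bool.rec (motive := fun _ => Nat) ((Bool.rec (motive := fun _ => Nat) (nl8257 i) (nl8258 i) (Nat.ble 171008 i))) ((Bool.rec (motive := fun _ => Nat) (nl8259 i) (nl8260 i) (Nat.ble 173056 i))) (Nat.ble 172032 i))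
noncomputable def nd3306 (i : Nat) : Nat := (Bool.rec (motive := fun _ => Nat) ((Bool.rec (motive := fun _ => Nat) (nl8261 i) (nl8262 i) (Nat.ble 175104 i))) ((Bool.rec (motive := fun _ => Nat) (nl8263 i) (nl8264 i) (Nat.ble 177152 i))) (Nat.ble 176128 i))
noncomputable def nd3307 (i : Nat) : Nat := (Bool.rec (motive := fun _ => Nat) ((Bool.rec (motive := fun _ => Nat) (nl8265 i) (nl8266 i) (Nat.ble 179200 i))) ((Bool.rec (motive := fun _ => Nat) (nl8267 i) (nl8268 i) (Nat.ble 181248 i))) (Nat.ble 180224 i))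
noncomputable def nd3303 (i : Nat) : Nat := (Bool.rec (motive := fun _ => Nat) ((Bool.rec (motive := fun _ => Nat) (nd3304 i) (nd3305 i) (Nat.ble 169984 i))) ((Bool.rec (motive := fun _ => Nat) (nd3306 i) (nd3307 i) (Nat.ble 178176 i))) (Nat.ble 174080 i))
noncomputable def nd3309 (i : Nat) : Nat := (Bool.rec (motive := fun _ => Nat) ((Bool.rec (motive := fun _ => Nat) (nl8269 i) (nl8270 i) (Nat.ble 183296 i))) ((Bool.rec (motive := fun _ => Nat) (nl8271 i) (nl8272 i) (Nat.ble 185344 i))) (Nat.ble 184320 i))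
noncomputable def nd3310 (i : Nat) : Nat := (Bool.rec (motive := fun _ => Nat) ((Bool.rec (motive := fun _ => Nat) (nl8273 i) (nl8274 i) (Nat.ble 187392 i))) ((Bool.rec (motive := fun _ => Nat) (nl8275 i) (nl8276 i) (Nat.ble 189440 i))) (Nat.ble 188416 i))
noncomputable def nd3311 (i : Nat) : Nat := (Bool.rec (motive := fun _ => Nat) ((Bool.rec (motive := fun _ => Nat) (nl8277 i) (nl8278 i) (Nat.ble 191488 i))) ((Bool.rec (motive := fun _ => Nat) (nl8279 i) (nl8280 i) (Nat.ble 193536 i))) (Nat.ble 192512 i))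
noncomputable def nd3313 (i : Nat) : Nat := (Bool.rec (motive := fun _ => Nat) (nl8284 i) (nl8285 i) (Nat.ble 198656 i))
noncomputable def nd3312 (i : Nat) : Nat := (Bool.rec (motive := fun _ => Nat) ((Bool.rec (motive := fun _ => Nat) (nl8281 i) (nl8282 i) (Nat.ble 195584 i))) ((Bool.rec (motive := fun _ => Nat) (nl8283 i) (nd3313 i) (Nat.ble 197632 i))) (Nat.ble 196608 i))
noncomputable def nd3308 (i : Nat) : Nat := (Bool.rec (motive := fun _ => Nat) ((Bool.rec (motive := fun _ => Nat) (nd3309 i) (nd3310 i) (Nat.ble 186368 i))) ((Bool.rec (motive := fun _ => Nat) (nd3311 i) (nd3312 i) (Nat.ble 194560 i))) (Nat.ble 190464 i))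
noncomputable def nd3292 (i : Nat) : Nat := (Bool.rec (motive := fun _ => Nat) ((Bool.rec (motive := fun _ => Nat) (nd3293 i) (nd3298 i) (Nat.ble 149504 i))) ((Bool.rec (motive := fun _ => Nat) (nd3303 i) (nd3308 i) (Nat.ble 182272 i))) (Nat.ble 165888 i))
noncomputable def nd3316 (i : Nat) : Nat := (Bool.rec (motive := fun _ => Nat) ((Bool.rec (motive := fun _ => Nat) (nl8286 i) (nl8287 i) (Nat.ble 200704 i))) ((Bool.rec (motive := fun _ => Nat) (nl8288 i) (nl8289 i) (Nat.ble 202752 i))) (Nat.ble 201728 i))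
noncomputable def nd3317 (i : Nat) : Nat := (Bool.rec (motive := fun _ => Nat) ((Bool.rec (motive := fun _ => Nat) (nl8290 i) (nl8291 i) (Nat.ble 204800 i))) ((Bool.rec (motive := fun _ => Nat) (nl8292 i) (nl8293 i) (Nat.ble 206848 i))) (Nat.ble 205824 i))
noncomputable def nd3318 (i : Nat) : Nat := (Bool.rec (motive := fun _ => Nat) ((Bool.rec (motive := fun _ => Nat) (nl8294 i) (nl8295 i) (Nat.ble 208896 i))) ((Bool.rec (motive := fun _ => Nat) (nl8296 i) (nl8297 i) (Nat.ble 210944 i))) (Nat.ble 209920 i))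
noncomputable def nd3319 (i : Nat) : Nat := (Bool.rec (motive := fun _ => Nat) ((Bool.rec (motive := fun _ => Nat) (nl8298 i) (nl8299 i) (Nat.ble 212992 i))) ((Bool.rec (motive := fun _ => Nat) (nl8300 i) (nl8301 i) (Nat.ble 215040 i))) (Nat.ble 214016 i))
noncomputable def nd3315 (i : Nat) : Nat := (Bool.rec (motive := fun _ => Nat) ((Bool.rec (motive := fun _ => Nat) (nd3316 i) (nd3317 i) (Nat.ble 203776 i))) ((Bool.rec (motive := fun _ => Nat) (nd3318 i) (nd3319 i) (Nat.ble 211968 i))) (Nat.ble 207872 i))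
noncomputable def nd3321 (i : Nat) : Nat := (Bool.rec (motive := fun _ => Nat) ((Bool.rec (motive := fun _ => Nat) (nl8302 i) (nl8303 i) (Nat.ble 217088 i))) ((Bool.rec (motive := fun _ => Nat) (nl8304 i) (nl8305 i) (Nat.ble 219136 i))) (Nat.ble 218112 i))
noncomputable def nd3322 (i : Nat) : Nat := (Bool.rec (motive := fun _ => Nat) ((Bool.rec (motive := fun _ => Nat) (nl8306 i) (nl8307 i) (Nat.ble 221184 i))) ((Bool.rec (motive := fun _ => Nat) (nl8308 i) (nl8309 i) (Nat.ble 223232 i))) (Nat.ble 222208 i))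
noncomputable def nd3323 (i : Nat) : Nat := (Bool.rec (motive := fun _ => Nat) ((Bool.rec (motive := fun _ => Nat) (nl8310 i) (nl8311 i) (Nat.ble 225280 i))) ((Bool.rec (motive := fun _ => Nat) (nl8312 i) (nl8313 i) (Nat.ble 227328 i))) (Nat.ble 226304 i))
noncomputable def nd3325 (i : Nat) : Nat := (Bool.rec (motive := fun _ => Nat) (nl8317 i) (nl8318 i) (Nat.ble 232448 i))
noncomputable def nd3324 (i : Nat) : Nat := (Bool.rec (motive := fun _ => Nat) ((Bool.rec (motive := fun _ => Nat) (nl8314 i) (nl8315 i) (Nat.ble 229376 i))) ((Bool.rec (motive := fun _ => Nat) (nl8316 i) (nd3325 i) (Nat.ble 231424 i))) (Nat.ble 230400 i))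
noncomputable def nd3320 (i : Nat) : Nat := (Bool.rec (motive := fun _ => Nat) ((Bool.rec (motive := fun _ => Nat) (nd3321 i) (nd3322 i) (Nat.ble 220160 i))) ((Bool.rec (motive := fun _ => Nat) (nd3323 i) (nd3324 i) (Nat.ble 228352 i))) (Nat.ble 224256 i))
noncomputable def nd3327 (i : Nat) : Nat := (Bool.rec (motive := fun _ => Nat) ((Bool.rec (motive := fun _ => Nat) (nl8319 i) (nl8320 i) (Nat.ble 234496 i))) ((Bool.rec (motive := fun _ => Nat) (nl8321 i) (nl8322 i) (Nat.ble 236544 i))) (Nat.ble 235520 i))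
noncomputable def nd3328 (i : Nat) : Nat := (Bool.rec (motive := fun _ => Nat) ((Bool.rec (motive := fun _ => Nat) (nl8323 i) (nl8324 i) (Nat.ble 238592 i))) ((Bool.rec (motive := fun _ => Nat) (nl8325 i) (nl8326 i) (Nat.ble 240640 i))) (Nat.ble 239616 i))
noncomputable def nd3329 (i : Nat) : Nat := (Bool.rec (motive := fun _ => Nat) ((Bool.rec (motive := fun _ => Nat) (nl8327 i) (nl8328 i) (Nat.ble 242688 i))) ((Bool.rec (motive := fun _ => Nat) (nl8329 i) (nl8330 i) (Nat.ble 244736 i))) (Nat.ble 243712 i))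
noncomputable def nd3330 (i : Nat) : Nat := (Bool.rec (motive := fun _ => Nat) ((Bool.rec (motive := fun _ => Nat) (nl8331 i) (nl8332 i) (Nat.ble 246784 i))) ((Bool.rec (motive := fun _ => Nat) (nl8333 i) (nl8334 i) (Nat.ble 248832 i))) (Nat.ble 247808 i))
noncomputable def nd3326 (i : Nat) : Nat := (Bool.rec (motive := fun _ => Nat) ((Bool.rec (motive := fun _ => Nat) (nd3327 i) (nd3328 i) (Nat.ble 237568 i))) ((Bool.rec (motive := fun _ => Nat) (nd3329 i) (nd3330 i) (Nat.ble 245760 i))) (Nat.ble 241664 i))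
noncomputable def nd3332 (i : Nat) : Nat := (Bool.rec (motive := fun _ => Nat) ((Bool.rec (motive := fun _ => Nat) (nl8335 i) (nl8336 i) (Nat.ble 250880 i))) ((Bool.rec (motive := fun _ => Nat) (nl8337 i) (nl8338 i) (Nat.ble 252928 i))) (Nat.ble 251904 i))
noncomputable def nd3333 (i : Nat) : Nat := (Bool.rec (motive := fun _ => Nat) ((Bool.rec (motive := fun _ => Nat) (nl8339 i) (nl8340 i) (Nat.ble 254976 i))) ((Bool.rec (motive := fun _ => Nat) (nl8341 i) (nl8342 i) (Nat.ble 257024 i))) (Nat.ble 256000 i))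
noncomputable def nd3334 (i : Nat) : Nat := (Bool.rec (motive := fun _ => Nat) ((Bool.rec (motive := fun _ => Nat) (nl8343 i) (nl8344 i) (Nat.ble 259072 i))) ((Bool.rec (motive := fun _ => Nat) (nl8345 i) (nl8346 i) (Nat.ble 261120 i))) (Nat.ble 260096 i))
noncomputable def nd3336 (i : Nat) : Nat := (Bool.rec (motive := fun _ => Nat) (nl8350 i) (nl8351 i) (Nat.ble 266240 i))
noncomputable def nd3335 (i : Nat) : Nat := (Bool.rec (motive := fun _ => Nat) ((Bool.rec (motive := fun _ => Nat) (nl8347 i) (nl8348 i) (Nat.ble 263168 i))) ((Bool.rec (motive := fun _ => Nat) (nl8349 i) (nd3336 i) (Nat.ble 265216 i))) (Nat.ble 264192 i))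
noncomputable def nd3331 (i : Nat) : Nat := (Bool.rec (motive := fun _ => Nat) ((Bool.rec (motive := fun _ => Nat) (nd3332 i) (nd3333 i) (Nat.ble 253952 i))) ((Bool.rec (motive := fun _ => Nat) (nd3334 i) (nd3335 i) (Nat.ble 262144 i))) (Nat.ble 258048 i))
noncomputable def nd3314 (i : Nat) : Nat := (Bool.rec (motive := fun _ => Nat) ((Bool.rec (motive := fun _ => Nat) (nd3315 i) (nd3320 i) (Nat.ble 216064 i))) ((Bool.rec (motive := fun _ => Nat) (nd3326 i) (nd3331 i) (Nat.ble 249856 i))) (Nat.ble 233472 i))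
noncomputable def nd3247 (i : Nat) : Nat := (Bool.rec (motive := fun _ => Nat) ((Bool.rec (motive := fun _ => Nat) (nd3248 i) (nd3270 i) (Nat.ble 66560 i))) ((Bool.rec (motive := fun _ => Nat) (nd3292 i) (nd3314 i) (Nat.ble 199680 i))) (Nat.ble 133120 i))
noncomputable def nd3340 (i : Nat) : Nat := (Bool.rec (motive := fun _ => Nat) ((Bool.rec (motive := fun _ => Nat) (nl8352 i) (nl8353 i) (Nat.ble 1024 i))) ((Bool.rec (motive := fun _ => Nat) (nl8354 i) (nl8355 i) (Nat.ble 3072 i))) (Nat.ble 2048 i))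
noncomputable def nd3341 (i : Nat) : Nat := (Bool.rec (motive := fun _ => Nat) ((Bool.rec (motive := fun _ => Nat) (nl8356 i) (nl8357 i) (Nat.ble 5120 i))) ((Bool.rec (motive := fun _ => Nat) (nl8358 i) (nl8359 i) (Nat.ble 7168 i))) (Nat.ble 6144 i))
noncomputable def nd3342 (i : Nat) : Nat := (Bool.rec (motive := fun _ => Nat) ((Bool.rec (motive := fun _ => Nat) (nl8360 i) (nl8361 i) (Nat.ble 9216 i))) ((Bool.rec (motive := fun _ => Nat) (nl8362 i) (nl8363 i) (Nat.ble 11264 i))) (Nat.ble 10240 i))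
noncomputable def nd3343 (i : Nat) : Nat := (Bool.rec (motive := fun _ => Nat) ((Bool.rec (motive := fun _ => Nat) (nl8364 i) (nl8365 i) (Nat.ble 13312 i))) ((Bool.rec (motive := fun _ => Nat) (nl8366 i) (nl8367 i) (Nat.ble 15360 i))) (Nat.ble 14336 i))
noncomputable def nd3339 (i : Nat) : Nat := (Bool.rec (motive := fun _ => Nat) ((Bool.rec (motive := fun _ => Nat) (nd3340 i) (nd3341 i) (Nat.ble 4096 i))) ((Bool.rec (motive := fun _ => Nat) (nd3342 i) (nd3343 i) (Nat.ble 12288 i))) (Nat.ble 8192 i))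
noncomputable def nd3345 (i : Nat) : Nat := (Bool.rec (motive := fun _ => Nat) ((Bool.rec (motive := fun _ => Nat) (nl8368 i) (nl8369 i) (Nat.ble 17408 i))) ((Bool.rec (motive := fun _ => Nat) (nl8370 i) (nl8371 i) (Nat.ble 19456 i))) (Nat.ble 18432 i))
noncomputable def nd3346 (i : Nat) : Nat := (Bool.rec (motive := fun _ => Nat) ((Bool.rec (motive := fun _ => Nat) (nl8372 i) (nl8373 i) (Nat.ble 21504 i))) ((Bool.rec (motive := fun _ => Nat) (nl8374 i) (nl8375 i) (Nat.ble 23552 i))) (Nat.ble 22528 i))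
noncomputable def nd3347 (i : Nat) : Nat := (Bool.rec (motive := fun _ => Nat) ((Bool.rec (motive := fun _ => Nat) (nl8376 i) (nl8377 i) (Nat.ble 25600 i))) ((Bool.rec (motive := fun _ => Nat) (nl8378 i) (nl8379 i) (Nat.ble 27648 i))) (Nat.ble 26624 i))
noncomputable def nd3348 (i : Nat) : Nat := (Bool.rec (motive := fun _ => Nat) ((Bool.rec (motive := fun _ => Nat) (nl8380 i) (nl8381 i) (Nat.ble 29696 i))) ((Bool.rec (motive := fun _ => Nat) (nl8382 i) (nl8383 i) (Nat.ble 31744 i))) (Nat.ble 30720 i))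
noncomputable def nd3344 (i : Nat) : Nat := (Bool.rec (motive := fun _ => Nat) ((Bool.rec (motive := fun _ => Nat) (nd3345 i) (nd3346 i) (Nat.ble 20480 i))) ((Bool.rec (motive := fun _ => Nat) (nd3347 i) (nd3348 i) (Nat.ble 28672 i))) (Nat.ble 24576 i))
noncomputable def nd3350 (i : Nat) : Nat := (Bool.rec (motive := fun _ => Nat) ((Bool.rec (motive := fun _ => Nat) (nl8384 i) (nl8385 i) (Nat.ble 33792 i))) ((Bool.rec (motive := fun _ => Nat) (nl8386 i) (nl8387 i) (Nat.ble 35840 i))) (Nat.ble 34816 i))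
noncomputable def nd3351 (i : Nat) : Nat := (Bool.rec (motive := fun _ => Nat) ((Bool.rec (motive := fun _ => Nat) (nl8388 i) (nl8389 i) (Nat.ble 37888 i))) ((Bool.rec (motive := fun _ => Nat) (nl8390 i) (nl8391 i) (Nat.ble 39936 i))) (Nat.ble 38912 i))
noncomputable def nd3352 (i : Nat) : Nat := (Bool.rec (motive := fun _ => Nat) ((Bool.rec (motive := fun _ => Nat) (nl8392 i) (nl8393 i) (Nat.ble 41984 i))) ((Bool.rec (motive := fun _ => Nat) (nl8394 i) (nl8395 i) (Nat.ble 44032 i))) (Nat.ble 43008 i))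
noncomputable def nd3353 (i : Nat) : Nat := (Bool.rec (motive := fun _ => Nat) ((Bool.rec (motive := fun _ => Nat) (nl8396 i) (nl8397 i) (Nat.ble 46080 i))) ((Bool.rec (motive := fun _ => Nat) (nl8398 i) (nl8399 i) (Nat.ble 48128 i))) (Nat.ble 47104 i))
noncomputable def nd3349 (i : Nat) : Nat := (Bool.rec (motive := fun _ => Nat) ((Bool.rec (motive := fun _ => Nat) (nd3350 i) (nd3351 i) (Nat.ble 36864 i))) ((Bool.rec (motive := fun _ => Nat) (nd3352 i) (nd3353 i) (Nat.ble 45056 i))) (Nat.ble 40960 i))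
noncomputable def nd3355 (i : Nat) : Nat := (Bool.rec (motive := fun _ => Nat) ((Bool.rec (motive := fun _ => Nat) (nl8400 i) (nl8401 i) (Nat.ble 50176 i))) ((Bool.rec (motive := fun _ => Nat) (nl8402 i) (nl8403 i) (Nat.ble 52224 i))) (Nat.ble 51200 i))
noncomputable def nd3356 (i : Nat) : Nat := (Bool.rec (motive := fun _ => Nat) ((Bool.rec (motive := fun _ => Nat) (nl8404 i) (nl8405 i) (Nat.ble 54272 i))) ((Bool.rec (motive := fun _ => Nat) (nl8406 i) (nl8407 i) (Nat.ble 56320 i))) (Nat.ble 55296 i))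
noncomputable def nd3357 (i : Nat) : Nat := (Bool.rec (motive := fun _ => Nat) ((Bool.rec (motive := fun _ => Nat) (nl8408 i) (nl8409 i) (Nat.ble 58368 i))) ((Bool.rec (motive := fun _ => Nat) (nl8410 i) (nl8411 i) (Nat.ble 60416 i))) (Nat.ble 59392 i))
noncomputable def nd3359 (i : Nat) : Nat := (Bool.rec (motive := fun _ => Nat) (nl8415 i) (nl8416 i) (Nat.ble 65536 i))
noncomputable def nd3358 (i : Nat) : Nat := (Bool.rec (motive := fun _ => Nat) ((Bool.rec (motive := fun _ => Nat) (nl8412 i) (nl8413 i) (Nat.ble 62464 i))) ((Bool.rec (motive := fun _ => Nat) (nl8414 i) (nd3359 i) (Nat.ble 64512 i))) (Nat.ble 63488 i))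
noncomputable def nd3354 (i : Nat) : Nat := (Bool.rec (motive := fun _ => Nat) ((Bool.rec (motive := fun _ => Nat) (nd3355 i) (nd3356 i) (Nat.ble 53248 i))) ((Bool.rec (motive := fun _ => Nat) (nd3357 i) (nd3358 i) (Nat.ble 61440 i))) (Nat.ble 57344 i))
noncomputable def nd3338 (i : Nat) : Nat := (Bool.rec (motive := fun _ => Nat) ((Bool.rec (motive := fun _ => Nat) (nd3339 i) (nd3344 i) (Nat.ble 16384 i))) ((Bool.rec (motive := fun _ => Nat) (nd3349 i) (nd3354 i) (Nat.ble 49152 i))) (Nat.ble 32768 i))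
noncomputable def nd3362 (i : Nat) : Nat := (Bool.rec (motive := fun _ => Nat) ((Bool.rec (motive := fun _ => Nat) (nl8417 i) (nl8418 i) (Nat.ble 67584 i))) ((Bool.rec (motive := fun _ => Nat) (nl8419 i) (nl8420 i) (Nat.ble 69632 i))) (Nat.ble 68608 i))
noncomputable def nd3363 (i : Nat) : Nat := (Bool.rec (motive := fun _ => Nat) ((Bool.rec (motive := fun _ => Nat) (nl8421 i) (nl8422 i) (Nat.ble 71680 i))) ((Bool.rec (motive := fun _ => Nat) (nl8423 i) (nl8424 i) (Nat.ble 73728 i))) (Nat.ble 72704 i))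
noncomputable def nd3364 (i : Nat) : Nat := (Bool.rec (motive := fun _ => Nat) ((Bool.rec (motive := fun _ => Nat) (nl8425 i) (nl8426 i) (Nat.ble 75776 i))) ((Bool.rec (motive := fun _ => Nat) (nl8427 i) (nl8428 i) (Nat.ble 77824 i))) (Nat.ble 76800 i))
noncomputable def nd3365 (i : Nat) : Nat := (Bool.rec (motive := fun _ => Nat) ((Bool.rec (motive := fun _ => Nat) (nl8429 i) (nl8430 i) (Nat.ble 79872 i))) ((Bool.rec (motive := fun _ => Nat) (nl8431 i) (nl8432 i) (Nat.ble 81920 i))) (Nat.ble 80896 i))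
noncomputable def nd3361 (i : Nat) : Nat := (Bool.rec (motive := fun _ => Nat) ((Bool.rec (motive := fun _ => Nat) (nd3362 i) (nd3363 i) (Nat.ble 70656 i))) ((Bool.rec (motive := fun _ => Nat) (nd3364 i) (nd3365 i) (Nat.ble 78848 i))) (Nat.ble 74752 i))
noncomputable def nd3367 (i : Nat) : Nat := (Bool.rec (motive := fun _ => Nat) ((Bool.rec (motive := fun _ => Nat) (nl8433 i) (nl8434 i) (Nat.ble 83968 i))) ((Bool.rec (motive := fun _ => Nat) (nl8435 i) (nl8436 i) (Nat.ble 86016 i))) (Nat.ble 84992 i))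
noncomputable def nd3368 (i : Nat) : Nat := (Bool.rec (motive := fun _ => Nat) ((Bool.rec (motive := fun _ => Nat) (nl8437 i) (nl8438 i) (Nat.ble 88064 i))) ((Bool.rec (motive := fun _ => Nat) (nl8439 i) (nl8440 i) (Nat.ble 90112 i))) (Nat.ble 89088 i))
noncomputable def nd3369 (i : Nat) : Nat := (Bool.rec (motive := fun _ => Nat) ((Bool.rec (motive := fun _ => Nat) (nl8441 i) (nl8442 i) (Nat.ble 92160 i))) ((Bool.rec (motive := fun _ => Nat) (nl8443 i) (nl8444 i) (Nat.ble 94208 i))) (Nat.ble 93184 i))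
noncomputable def nd3370 (i : Nat) : Nat := (Bool.rec (motive := fun _ => Nat) ((Bool.rec (motive := fun _ => Nat) (nl8445 i) (nl8446 i) (Nat.ble 96256 i))) ((Bool.rec (motive := fun _ => Nat) (nl8447 i) (nl8448 i) (Nat.ble 98304 i))) (Nat.ble 97280 i))
noncomputable def nd3366 (i : Nat) : Nat := (Bool.rec (motive := fun _ => Nat) ((Bool.rec (motive := fun _ => Nat) (nd3367 i) (nd3368 i) (Nat.ble 87040 i))) ((Bool.rec (motive := fun _ => Nat) (nd3369 i) (nd3370 i) (Nat.ble 95232 i))) (Nat.ble 91136 i))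
noncomputable def nd3372 (i : Nat) : Nat := (Bool.rec (motive := fun _ => Nat) ((Bool.rec (motive := fun _ => Nat) (nl8449 i) (nl8450 i) (Nat.ble 100352 i))) ((Bool.rec (motive := fun _ => Nat) (nl8451 i) (nl8452 i) (Nat.ble 102400 i))) (Nat.ble 101376 i))
noncomputable def nd3373 (i : Nat) : Nat := (Bool.rec (motive := fun _ => Nat) ((Bool.rec (motive := fun _ => Nat) (nl8453 i) (nl8454 i) (Nat.ble 104448 i))) ((Bool.rec (motive := fun _ => Nat) (nl8455 i) (nl8456 i) (Nat.ble 106496 i))) (Nat.ble 105472 i))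
noncomputable def nd3374 (i : Nat) : Nat := (Bool.rec (motive := fun _ => Nat) ((Bool.rec (motive := fun _ => Nat) (nl8457 i) (nl8458 i) (Nat.ble 108544 i))) ((Bool.rec (motive := fun _ => Nat) (nl8459 i) (nl8460 i) (Nat.ble 110592 i))) (Nat.ble 109568 i))
noncomputable def nd3375 (i : Nat) : Nat := (Bool.rec (motive := fun _ => Nat) ((Bool.rec (motive := fun _ => Nat) (nl8461 i) (nl8462 i) (Nat.ble 112640 i))) ((Bool.rec (motive := fun _ => Nat) (nl8463 i) (nl8464 i) (Nat.ble 114688 i))) (Nat.ble 113664 i))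
noncomputable def nd3371 (i : Nat) : Nat := (Bool.rec (motive := fun _ => Nat) ((Bool.rec (motive := fun _ => Nat) (nd3372 i) (nd3373 i) (Nat.ble 103424 i))) ((Bool.rec (motive := fun _ => Nat) (nd3374 i) (nd3375 i) (Nat.ble 111616 i))) (Nat.ble 107520 i))
noncomputable def nd3377 (i : Nat) : Nat := (Bool.rec (motive := fun _ => Nat) ((Bool.rec (motive := fun _ => Nat) (nl8465 i) (nl8466 i) (Nat.ble 116736 i))) ((Bool.rec (motive := fun _ => Nat) (nl8467 i) (nl8468 i) (Nat.ble 118784 i))) (Nat.ble 117760 i))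
noncomputable def nd3378 (i : Nat) : Nat := (Bool.rec (motive := fun _ => Nat) ((Bool.rec (motive := fun _ => Nat) (nl8469 i) (nl8470 i) (Nat.ble 120832 i))) ((Bool.rec (motive := fun _ => Nat) (nl8471 i) (nl8472 i) (Nat.ble 122880 i))) (Nat.ble 121856 i))
noncomputable def nd3379 (i : Nat) : Nat := (Bool.rec (motive := fun _ => Nat) ((Bool.rec (motive := fun _ => Nat) (nl8473 i) (nl8474 i) (Nat.ble 124928 i))) ((Bool.rec (motive := fun _ => Nat) (nl8475 i) (nl8476 i) (Nat.ble 126976 i))) (Nat.ble 125952 i))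
noncomputable def nd3381 (i : Nat) : Nat := (Bool.rec (motive := fun _ => Nat) (nl8480 i) (nl8481 i) (Nat.ble 132096 i))
noncomputable def nd3380 (i : Nat) : Nat := (Bool.rec (motive := fun _ => Nat) ((Bool.rec (motive := fun _ => Nat) (nl8477 i) (nl8478 i) (Nat.ble 129024 i))) ((Bool.rec (motive := fun _ => Nat) (nl8479 i) (nd3381 i) (Nat.ble 131072 i))) (Nat.ble 130048 i))
noncomputable def nd3376 (i : Nat) : Nat := (Bool.rec (motive := fun _ => Nat) ((Bool.rec (motive := fun _ => Nat) (nd3377 i) (nd3378 i) (Nat.ble 119808 i))) ((Bool.rec (motive := fun _ => Nat) (nd3379 i) (nd3380 i) (Nat.ble 128000 i))) (Nat.ble 123904 i))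
noncomputable def nd3360 (i : Nat) : Nat := (Bool.rec (motive := fun _ => Nat) ((Bool.rec (motive := fun _ => Nat) (nd3361 i) (nd3366 i) (Nat.ble 82944 i))) ((Bool.rec (motive := fun _ => Nat) (nd3371 i) (nd3376 i) (Nat.ble 115712 i))) (Nat.ble 99328 i))
noncomputable def nd3384 (i : Nat) : Nat := (Bool.rec (motive := fun _ => Nat) ((Bool.rec (motive := fun _ => Nat) (nl8482 i) (nl8483 i) (Nat.ble 134144 i))) ((Bool.rec (motive := fun _ => Nat) (nl8484 i) (nl8485 i) (Nat.ble 136192 i))) (Nat.ble 135168 i))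
noncomputable def nd3385 (i : Nat) : Nat := (Bool.rec (motive := fun _ => Nat) ((Bool.rec (motive := fun _ => Nat) (nl8486 i) (nl8487 i) (Nat.ble 138240 i))) ((Bool.rec (motive := fun _ => Nat) (nl8488 i) (nl8489 i) (Nat.ble 140288 i))) (Nat.ble 139264 i))
noncomputable def nd3386 (i : Nat) : Nat := (Bool.rec (motive := fun _ => Nat) ((Bool.rec (motive := fun _ => Nat) (nl8490 i) (nl8491 i) (Nat.ble 142336 i))) ((Bool.rec (motive := fun _ => Nat) (nl8492 i) (nl8493 i) (Nat.ble 144384 i))) (Nat.ble 143360 i))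
noncomputable def nd3387 (i : Nat) : Nat := (Bool.rec (motive := fun _ => Nat) ((Bool.rec (motive := fun _ => Nat) (nl8494 i) (nl8495 i) (Nat.ble 146432 i))) ((Bool.rec (motive := fun _ => Nat) (nl8496 i) (nl8497 i) (Nat.ble 148480 i))) (Nat.ble 147456 i))
noncomputable def nd3383 (i : Nat) : Nat := (Bool.rec (motive := fun _ => Nat) ((Bool.rec (motive := fun _ => Nat) (nd3384 i) (nd3385 i) (Nat.ble 137216 i))) ((Bool.rec (motive := fun _ => Nat) (nd3386 i) (nd3387 i) (Nat.ble 145408 i))) (Nat.ble 141312 i))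
noncomputable def nd3389 (i : Nat) : Nat := (Bool.rec (motive := fun _ => Nat) ((Bool.rec (motive := fun _ => Nat) (nl8498 i) (nl8499 i) (Nat.ble 150528 i))) ((Bool.rec (motive := fun _ => Nat) (nl8500 i) (nl8501 i) (Nat.ble 152576 i))) (Nat.ble 151552 i))
noncomputable def nd3390 (i : Nat) : Nat := (Bool.rec (motive := fun _ => Nat) ((Bool.rec (motive := fun _ => Nat) (nl8502 i) (nl8503 i) (Nat.ble 154624 i))) ((Bool.rec (motive := fun _ => Nat) (nl8504 i) (nl8505 i) (Nat.ble 156672 i))) (Nat.ble 155648 i))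
noncomputable def nd3391 (i : Nat) : Nat := (Bool.rec (motive := fun _ => Nat) ((Bool.rec (motive := fun _ => Nat) (nl8506 i) (nl8507 i) (Nat.ble 158720 i))) ((Bool.rec (motive := fun _ => Nat) (nl8508 i) (nl8509 i) (Nat.ble 160768 i))) (Nat.ble 159744 i))
noncomputable def nd3392 (i : Nat) : Nat := (Bool.rec (motive := fun _ => Nat) ((Bool.rec (motive := fun _ => Nat) (nl8510 i) (nl8511 i) (Nat.ble 162816 i))) ((Bool.rec (motive := fun _ => Nat) (nl8512 i) (nl8513 i) (Nat.ble 164864 i))) (Nat.ble 163840 i))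
noncomputable def nd3388 (i : Nat) : Nat := (Bool.rec (motive := fun _ => Nat) ((Bool.rec (motive := fun _ => Nat) (nd3389 i) (nd3390 i) (Nat.ble 153600 i))) ((Bool.rec (motive := fun _ => Nat) (nd3391 i) (nd3392 i) (Nat.ble 161792 i))) (Nat.ble 157696 i))
noncomputable def nd3394 (i : Nat) : Nat := (Bool.rec (motive := fun _ => Nat) ((Bool.rec (motive := fun _ => Nat) (nl8514 i) (nl8515 i) (Nat.ble 166912 i))) ((Bool.rec (motive := fun _ => Nat) (nl8516 i) (nl8517 i) (Nat.ble 168960 i))) (Nat.ble 167936 i))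
noncomputable def nd3395 (i : Nat) : Nat := (Bool.rec (motive := fun _ => Nat) ((Bool.rec (motive := fun _ => Nat) (nl8518 i) (nl8519 i) (Nat.ble 171008 i))) ((Bool.rec (motive := fun _ => Nat) (nl8520 i) (nl8521 i) (Nat.ble 173056 i))) (Nat.ble 172032 i))
noncomputable def nd3396 (i : Nat) : Nat := (Bool.rec (motive := fun _ => Nat) ((Bool.rec (motive := fun _ => Nat) (nl8522 i) (nl8523 i) (Nat.ble 175104 i))) ((Bool.rec (motive := fun _ => Nat) (nl8524 i) (nl8525 i) (Nat.ble 177152 i))) (Nat.ble 176128 i))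
noncomputable def nd3397 (i : Nat) : Nat := (Bool.rec (motive := fun _ => Nat) ((Bool.rec (motive := fun _ => Nat) (nl8526 i) (nl8527 i) (Nat.ble 179200 i))) ((Bool.rec (motive := fun _ => Nat) (nl8528 i) (nl8529 i) (Nat.ble 181248 i))) (Nat.ble 180224 i))
noncomputable def nd3393 (i : Nat) : Nat := (Bool.rec (motive := fun _ => Nat) ((Bool.rec (motive := fun _ => Nat) (nd3394 i) (nd3395 i) (Nat.ble 169984 i))) ((Bool.rec (motive := fun _ => Nat) (nd3396 i) (nd3397 i) (Nat.ble 178176 i))) (Nat.ble 174080 i))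
noncomputable def nd3399 (i : Nat) : Nat := (Bool.rec (motive := fun _ => Nat) ((Bool.rec (motive := fun _ => Nat) (nl8530 i) (nl8531 i) (Nat.ble 183296 i))) ((Bool.rec (motive := fun _ => Nat) (nl8532 i) (nl8533 i) (Nat.ble 185344 i))) (Nat.ble 184320 i))
noncomputable def nd3400 (i : Nat) : Nat := (Bool.rec (motive := fun _ => Nat) ((Bool.rec (motive := fun _ => Nat) (nl8534 i) (nl8535 i) (Nat.ble 187392 i))) ((Bool.rec (motive := fun _ => Nat) (nl8536 i) (nl8537 i) (Nat.ble 189440 i))) (Nat.ble 188416 i))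
noncomputable def nd3401 (i : Nat) : Nat := (Bool.rec (motive := fun _ => Nat) ((Bool.rec (motive := fun _ => Nat) (nl8538 i) (nl8539 i) (Nat.ble 191488 i))) ((Bool.rec (motive := fun _ => Nat) (nl8540 i) (nl8541 i) (Nat.ble 193536 i))) (Nat.ble 192512 i))
noncomputable def nd3403 (i : Nat) : Nat := (Bool.rec (motive := fun _ => Nat) (nl8545 i) (nl8546 i) (Nat.ble 198656 i))
noncomputable def nd3402 (i : Nat) : Nat := (Bool.rec (motive := fun _ => Nat) ((Bool.rec (motive := fun _ => Nat) (nl8542 i) (nl8543 i) (Nat.ble 195584 i))) ((Bool.rec (motive := fun _ => Nat) (nl8544 i) (nd3403 i) (Nat.ble 197632 i))) (Nat.ble 196608 i))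
noncomputable def nd3398 (i : Nat) : Nat := (Bool.rec (motive := fun _ => Nat) ((Bool.rec (motive := fun _ => Nat) (nd3399 i) (nd3400 i) (Nat.ble 186368 i))) ((Bool.rec (motive := fun _ => Nat) (nd3401 i) (nd3402 i) (Nat.ble 194560 i))) (Nat.ble 190464 i))
noncomputable def nd3382 (i : Nat) : Nat := (Bool.rec (motive := fun _ => Nat) ((Bool.rec (motive := fun _ => Nat) (nd3383 i) (nd3388 i) (Nat.ble 149504 i))) ((Bool.rec (motive := fun _ => Nat) (nd3393 i) (nd3398 i) (Nat.ble 182272 i))) (Nat.ble 165888 i))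
noncomputable def nd3406 (i : Nat) : Nat := (Bool.rec (motive := fun _ => Nat) ((Bool.rec (motive := fun _ => Nat) (nl8547 i) (nl8548 i) (Nat.ble 200704 i))) ((Bool.rec (motive := fun _ => Nat) (nl8549 i) (nl8550 i) (Nat.ble 202752 i))) (Nat.ble 201728 i))
noncomputable def nd3407 (i : Nat) : Nat := (Bool.rec (motive := fun _ => Nat) ((Bool.rec (motive := fun _ => Nat) (nl8551 i) (nl8552 i) (Nat.ble 204800 i))) ((Bool.rec (motive := fun _ => Nat) (nl8553 i) (nl8554 i) (Nat.ble 206848 i))) (Nat.ble 205824 i))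
noncomputable def nd3408 (i : Nat) : Nat := (Bool.rec (motive := fun _ => Nat) ((Bool.rec (motive := fun _ => Nat) (nl8555 i) (nl8556 i) (Nat.ble 208896 i))) ((Bool.rec (motive := fun _ => Nat) (nl8557 i) (nl8558 i) (Nat.ble 210944 i))) (Nat.ble 209920 i))
noncomputable def nd3409 (i : Nat) : Nat := (Bool.rec (motive := fun _ => Nat) ((Bool.rec (motive := fun _ => Nat) (nl8559 i) (nl8560 i) (Nat.ble 212992 i))) ((Bool.rec (motive := fun _ => Nat) (nl8561 i) (nl8562 i) (Nat.ble 215040 i))) (Nat.ble 214016 i))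
noncomputable def nd3405 (i : Nat) : Nat := (Bool.rec (motive := fun _ => Nat) ((Bool.rec (motive := fun _ => Nat) (nd3406 i) (nd3407 i) (Nat.ble 203776 i))) ((Bool.rec (motive := fun _ => Nat) (nd3408 i) (nd3409 i) (Nat.ble 211968 i))) (Nat.ble 207872 i))
noncomputable def nd3411 (i : Nat) : Nat := (Bool.rec (motive := fun _ => Nat) ((Bool.rec (motive := fun _ => Nat) (nl8563 i) (nl8564 i) (Nat.ble 217088 i))) ((Bool.rec (motive := fun _ => Nat) (nl8565 i) (nl8566 i) (Nat.ble 219136 i))) (Nat.ble 218112 i))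
noncomputable def nd3412 (i : Nat) : Nat := (Bool.rec (motive := fun _ => Nat) ((Bool.rec (motive := fun _ => Nat) (nl8567 i) (nl8568 i) (Nat.ble 221184 i))) ((Bool.rec (motive := fun _ => Nat) (nl8569 i) (nl8570 i) (Nat.ble 223232 i))) (Nat.ble 222208 i))
noncomputable def nd3413 (i : Nat) : Nat := (Bool.rec (motive := fun _ => Nat) ((Bool.rec (motive := fun _ => Nat) (nl8571 i) (nl8572 i) (Nat.ble 225280 i))) ((Bool.rec (motive := fun _ => Nat) (nl8573 i) (nl8574 i) (Nat.ble 227328 i))) (Nat.ble 226304 i))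
noncomputable def nd3415 (i : Nat) : Nat := (Bool.rec (motive := fun _ => Nat) (nl8578 i) (nl8579 i) (Nat.ble 232448 i))
noncomputable def nd3414 (i : Nat) : Nat := (Bool.rec (motive := fun _ => Nat) ((Bool.rec (motive := fun _ => Nat) (nl8575 i) (nl8576 i) (Nat.ble 229376 i))) ((Bool.rec (motive := fun _ => Nat) (nl8577 i) (nd3415 i) (Nat.ble 231424 i))) (Nat.ble 230400 i))
noncomputable def nd3410 (i : Nat) : Nat := (Bool.rec (motive := fun _ => Nat) ((Bool.rec (motive := fun _ => Nat) (nd3411 i) (nd3412 i) (Nat.ble 220160 i))) ((Bool.rec (motive := fun _ => Nat) (nd3413 i) (nd3414 i) (Nat.ble 228352 i))) (Nat.ble 224256 i))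
noncomputable def nd3417 (i : Nat) : Nat := (Bool.rec (motive := fun _ => Nat) ((Bool.rec (motive := fun _ => Nat) (nl8580 i) (nl8581 i) (Nat.ble 234496 i))) ((Bool.rec (motive := fun _ => Nat) (nl8582 i) (nl8583 i) (Nat.ble 236544 i))) (Nat.ble 235520 i))
noncomputable def nd3418 (i : Nat) : Nat := (Bool.rec (motive := fun _ => Nat) ((Bool.rec (motive := fun _ => Nat) (nl8584 i) (nl8585 i) (Nat.ble 238592 i))) ((Bool.rec (motive := fun _ => Nat) (nl8586 i) (nl8587 i) (Nat.ble 240640 i))) (Nat.ble 239616 i))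
noncomputable def nd3419 (i : Nat) : Nat := (Bool.rec (motive := fun _ => Nat) ((Bool.rec (motive := fun _ => Nat) (nl8588 i) (nl8589 i) (Nat.ble 242688 i))) ((Bool.rec (motive := fun _ => Nat) (nl8590 i) (nl8591 i) (Nat.ble 244736 i))) (Nat.ble 243712 i))
noncomputable def nd3420 (i : Nat) : Nat := (Bool.rec (motive := fun _ => Nat) ((Bool.rec (motive := fun _ => Nat) (nl8592 i) (nl8593 i) (Nat.ble 246784 i))) ((Bool.rec (motive := fun _ => Nat) (nl8594 i) (nl8595 i) (Nat.ble 248832 i))) (Nat.ble 247808 i))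
noncomputable def nd3416 (i : Nat) : Nat := (Bool.rec (motive := fun _ => Nat) ((Bool.rec (motive := fun _ => Nat) (nd3417 i) (nd3418 i) (Nat.ble 237568 i))) ((Bool.rec (motive := fun _ => Nat) (nd3419 i) (nd3420 i) (Nat.ble 245760 i))) (Nat.ble 241664 i))
noncomputable def nd3422 (i : Nat) : Nat := (Bool.rec (motive := fun _ => Nat) ((Bool.rec (motive := fun _ => Nat) (nl8596 i) (nl8597 i) (Nat.ble 250880 i))) ((Bool.rec (motive := fun _ => Nat) (nl8598 i) (nl8599 i) (Nat.ble 252928 i))) (Nat.ble 251904 i))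
noncomputable def nd3423 (i : Nat) : Nat := (Bool.rec (motive := fun _ => Nat) ((Bool.rec (motive := fun _ => Nat) (nl8600 i) (nl8601 i) (Nat.ble 254976 i))) ((Bool.rec (motive := fun _ => Nat) (nl8602 i) (nl8603 i) (Nat.ble 257024 i))) (Nat.ble 256000 i))
noncomputable def nd3424 (i : Nat) : Nat := (Bool.rec (motive := fun _ => Nat) ((Bool.rec (motive := fun _ => Nat) (nl8604 i) (nl8605 i) (Nat.ble 259072 i))) ((Bool.rec (motive := fun _ => Nat) (nl8606 i) (nl8607 i) (Nat.ble 261120 i))) (Nat.ble 260096 i))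
noncomputable def nd3426 (i : Nat) : Nat := (Bool.rec (motive := fun _ => Nat) (nl8611 i) (nl8612 i) (Nat.ble 266240 i))
noncomputable def nd3425 (i : Nat) : Nat := (Bool.rec (motive := fun _ => Nat) ((Bool.rec (motive := fun _ => Nat) (nl8608 i) (nl8609 i) (Nat.ble 263168 i))) ((Bool.rec (motive := fun _ => Nat) (nl8610 i) (nd3426 i) (Nat.ble 265216 i))) (Nat.ble 264192 i))
noncomputable def nd3421 (i : Nat) : Nat := (Bool.rec (motive := fun _ => Nat) ((Bool.rec (motive := fun _ => Nat) (nd3422 i) (nd3423 i) (Nat.ble 253952 i))) ((Bool.rec (motive := fun _ => Nat) (nd3424 i) (nd3425 i) (Nat.ble 262144 i))) (Nat.ble 258048 i))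
noncomputable def nd3404 (i : Nat) : Nat := (Bool.rec (motive := fun _ => Nat) ((Bool.rec (motive := fun _ => Nat) (nd3405 i) (nd3410 i) (Nat.ble 216064 i))) ((Bool.rec (motive := fun _ => Nat) (nd3416 i) (nd3421 i) (Nat.ble 249856 i))) (Nat.ble 233472 i))
noncomputable def nd3337 (i : Nat) : Nat := (Bool.rec (motive := fun _ => Nat) ((Bool.rec (motive := fun _ => Nat) (nd3338 i) (nd3360 i) (Nat.ble 66560 i))) ((Bool.rec (motive := fun _ => Nat) (nd3382 i) (nd3404 i) (Nat.ble 199680 i))) (Nat.ble 133120 i))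
noncomputable def nd3430 (i : Nat) : Nat := (Bool.rec (motive := fun _ => Nat) ((Bool.rec (motive := fun _ => Nat) (nl8613 i) (nl8614 i) (Nat.ble 1024 i))) ((Bool.rec (motive := fun _ => Nat) (nl8615 i) (nl8616 i) (Nat.ble 3072 i))) (Nat.ble 2048 i))
noncomputable def nd3431 (i : Nat) : Nat := (Bool.rec (motive := fun _ => Nat) ((Bool.rec (motive := fun _ => Nat) (nl8617 i) (nl8618 i) (Nat.ble 5120 i))) ((Bool.rec (motive := fun _ => Nat) (nl8619 i) (nl8620 i) (Nat.ble 7168 i))) (Nat.ble 6144 i))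
noncomputable def nd3432 (i : Nat) : Nat := (Bool.rec (motive := fun _ => Nat) ((Bool.rec (motive := fun _ => Nat) (nl8621 i) (nl8622 i) (Nat.ble 9216 i))) ((Bool.rec (motive := fun _ => Nat) (nl8623 i) (nl8624 i) (Nat.ble 11264 i))) (Nat.ble 10240 i))
noncomputable def nd3433 (i : Nat) : Nat := (Bool.rec (motive := fun _ => Nat) ((Bool.rec (motive := fun _ => Nat) (nl8625 i) (nl8626 i) (Nat.ble 13312 i))) ((Bool.rec (motive := fun _ => Nat) (nl8627 i) (nl8628 i) (Nat.ble 15360 i))) (Nat.ble 14336 i))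
noncomputable def nd3429 (i : Nat) : Nat := (Bool.rec (motive := fun _ => Nat) ((Bool.rec (motive := fun _ => Nat) (nd3430 i) (nd3431 i) (Nat.ble 4096 i))) ((Bool.rec (motive := fun _ => Nat) (nd3432 i) (nd3433 i) (Nat.ble 12288 i))) (Nat.ble 8192 i))
noncomputable def nd3435 (i : Nat) : Nat := (Bool.rec (motive := fun _ => Nat) ((Bool.rec (motive := fun _ => Nat) (nl8629 i) (nl8630 i) (Nat.ble 17408 i))) ((Bool.rec (motive := fun _ => Nat) (nl8631 i) (nl8632 i) (Nat.ble 19456 i))) (Nat.ble 18432 i))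
noncomputable def nd3436 (i : Nat) : Nat := (Bool.rec (motive := fun _ => Nat) ((Bool.rec (motive := fun _ => Nat) (nl8633 i) (nl8634 i) (Nat.ble 21504 i))) ((Bool.rec (motive := fun _ => Nat) (nl8635 i) (nl8636 i) (Nat.ble 23552 i))) (Nat.ble 22528 i))
noncomputable def nd3437 (i : Nat) : Nat := (Bool.rec (motive := fun _ => Nat) ((Bool.rec (motive := fun _ => Nat) (nl8637 i) (nl8638 i) (Nat.ble 25600 i))) ((Bool.rec (motive := fun _ => Nat) (nl8639 i) (nl8640 i) (Nat.ble 27648 i))) (Nat.ble 26624 i))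
noncomputable def nd3438 (i : Nat) : Nat := (Bool.rec (motive := fun _ => Nat) ((Bool.rec (motive := fun _ => Nat) (nl8641 i) (nl8642 i) (Nat.ble 29696 i))) ((Bool.rec (motive := fun _ => Nat) (nl8643 i) (nl8644 i) (Nat.ble 31744 i))) (Nat.ble 30720 i))
noncomputable def nd3434 (i : Nat) : Nat := (Bool.rec (motive := fun _ => Nat) ((Bool.rec (motive := fun _ => Nat) (nd3435 i) (nd3436 i) (Nat.ble 20480 i))) ((Bool.rec (motive := fun _ => Nat) (nd3437 i) (nd3438 i) (Nat.ble 28672 i))) (Nat.ble 24576 i))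
noncomputable def nd3440 (i : Nat) : Nat := (Bool.rec (motive := fun _ => Nat) ((Bool.rec (motive := fun _ => Nat) (nl8645 i) (nl8646 i) (Nat.ble 33792 i))) ((Bool.rec (motive := fun _ => Nat) (nl8647 i) (nl8648 i) (Nat.ble 35840 i))) (Nat.ble 34816 i))
noncomputable def nd3441 (i : Nat) : Nat := (Bool.rec (motive := fun _ => Nat) ((Bool.rec (motive := fun _ => Nat) (nl8649 i) (nl8650 i) (Nat.ble 37888 i))) ((Bool.rec (motive := fun _ => Nat) (nl8651 i) (nl8652 i) (Nat.ble 39936 i))) (Nat.ble 38912 i))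
noncomputable def nd3442 (i : Nat) : Nat := (Bool.rec (motive := fun _ => Nat) ((Bool.rec (motive := fun _ => Nat) (nl8653 i) (nl8654 i) (Nat.ble 41984 i))) ((Bool.rec (motive := fun _ => Nat) (nl8655 i) (nl8656 i) (Nat.ble 44032 i))) (Nat.ble 43008 i))
noncomputable def nd3443 (i : Nat) : Nat := (Bool.rec (motive := fun _ => Nat) ((Bool.rec (motive := fun _ => Nat) (nl8657 i) (nl8658 i) (Nat.ble 46080 i))) ((Bool.rec (motive := fun _ => Nat) (nl8659 i) (nl8660 i) (Nat.ble 48128 i))) (Nat.ble 47104 i))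
noncomputable def nd3439 (i : Nat) : Nat := (Bool.rec (motive := fun _ => Nat) ((Bool.rec (motive := fun _ => Nat) (nd3440 i) (nd3441 i) (Nat.ble 36864 i))) ((Bool.rec (motive := fun _ => Nat) (nd3442 i) (nd3443 i) (Nat.ble 45056 i))) (Nat.ble 40960 i))
noncomputable def nd3445 (i : Nat) : Nat := (Bool.rec (motive := fun _ => Nat) ((Bool.rec (motive := fun _ => Nat) (nl8661 i) (nl8662 i) (Nat.ble 50176 i))) ((Bool.rec (motive := fun _ => Nat) (nl8663 i) (nl8664 i) (Nat.ble 52224 i))) (Nat.ble 51200 i))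
noncomputable def nd3446 (i : Nat) : Nat := (Bool.rec (motive := fun _ => Nat) ((Bool.rec (motive := fun _ => Nat) (nl8665 i) (nl8666 i) (Nat.ble 54272 i))) ((Bool.rec (motive := fun _ => Nat) (nl8667 i) (nl8668 i) (Nat.ble 56320 i))) (Nat.ble 55296 i))
noncomputable def nd3447 (i : Nat) : Nat := (Bool.rec (motive := fun _ => Nat) ((Bool.rec (motive := fun _ => Nat) (nl8669 i) (nl8670 i) (Nat.ble 58368 i))) ((Bool.rec (motive := fun _ => Nat) (nl8671 i) (nl8672 i) (Nat.ble 60416 i))) (Nat.ble 59392 i))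
noncomputable def nd3449 (i : Nat) : Nat := (Bool.rec (motive := fun _ => Nat) (nl8676 i) (nl8677 i) (Nat.ble 65536 i))
noncomputable def nd3448 (i : Nat) : Nat := (Bool.rec (motive := fun _ => Nat) ((Bool.rec (motive := fun _ => Nat) (nl8673 i) (nl8674 i) (Nat.ble 62464 i))) ((Bool.rec (motive := fun _ => Nat) (nl8675 i) (nd3449 i) (Nat.ble 64512 i))) (Nat.ble 63488 i))
noncomputable def nd3444 (i : Nat) : Nat := (Bool.rec (motive := fun _ => Nat) ((Bool.rec (motive := fun _ => Nat) (nd3445 i) (nd3446 i) (Nat.ble 53248 i))) ((Bool.rec (motive := fun _ => Nat) (nd3447 i) (nd3448 i) (Nat.ble 61440 i))) (Nat.ble 57344 i))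
noncomputable def nd3428 (i : Nat) : Nat := (Bool.rec (motive := fun _ => Nat) ((Bool.rec (motive := fun _ => Nat) (nd3429 i) (nd3434 i) (Nat.ble 16384 i))) ((Bool.rec (motive := fun _ => Nat) (nd3439 i) (nd3444 i) (Nat.ble 49152 i))) (Nat.ble 32768 i))
noncomputable def nd3452 (i : Nat) : Nat := (Bool.rec (motive := fun _ => Nat) ((Bool.rec (motive := fun _ => Nat) (nl8678 i) (nl8679 i) (Nat.ble 67584 i))) ((Bool.rec (motive := fun _ => Nat) (nl8680 i) (nl8681 i) (Nat.ble 69632 i))) (Nat.ble 68608 i))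
noncomputable def nd3453 (i : Nat) : Nat := (Bool.rec (motive := fun _ => Nat) ((Bool.rec (motive := fun _ => Nat) (nl8682 i) (nl8683 i) (Nat.ble 71680 i))) ((Bool.rec (motive := fun _ => Nat) (nl8684 i) (nl8685 i) (Nat.ble 73728 i))) (Nat.ble 72704 i))
noncomputable def nd3454 (i : Nat) : Nat := (Bool.rec (motive := fun _ => Nat) ((Bool.rec (motive := fun _ => Nat) (nl8686 i) (nl8687 i) (Nat.ble 75776 i))) ((Bool.rec (motive := fun _ => Nat) (nl8688 i) (nl8689 i) (Nat.ble 77824 i))) (Nat.ble 76800 i))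
noncomputable def nd3455 (i : Nat) : Nat := (Bool.rec (motive := fun _ => Nat) ((Bool.rec (motive := fun _ => Nat) (nl8690 i) (nl8691 i) (Nat.ble 79872 i))) ((Bool.rec (motive := fun _ => Nat) (nl8692 i) (nl8693 i) (Nat.ble 81920 i))) (Nat.ble 80896 i))
noncomputable def nd3451 (i : Nat) : Nat := (Bool.rec (motive := fun _ => Nat) ((Bool.rec (motive := fun _ => Nat) (nd3452 i) (nd3453 i) (Nat.ble 70656 i))) ((Bool.rec (motive := fun _ => Nat) (nd3454 i) (nd3455 i) (Nat.ble 78848 i))) (Nat.ble 74752 i))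
noncomputable def nd3457 (i : Nat) : Nat := (Bool.rec (motive := fun _ => Nat) ((Bool.rec (motive := fun _ => Nat) (nl8694 i) (nl8695 i) (Nat.ble 83968 i))) ((Bool.rec (motive := fun _ => Nat) (nl8696 i) (nl8697 i) (Nat.ble 86016 i))) (Nat.ble 84992 i))
noncomputable def nd3458 (i : Nat) : Nat := (Bool.rec (motive := fun _ => Nat) ((Bool.rec (motive := fun _ => Nat) (nl8698 i) (nl8699 i) (Nat.ble 88064 i))) ((Bool.rec (motive := fun _ => Nat) (nl8700 i) (nl8701 i) (Nat.ble 90112 i))) (Nat.ble 89088 i))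
noncomputable def nd3459 (i : Nat) : Nat := (Bool.rec (motive := fun _ => Nat) ((Bool.rec (motive := fun _ => Nat) (nl8702 i) (nl8703 i) (Nat.ble 92160 i))) ((Bool.rec (motive := fun _ => Nat) (nl8704 i) (nl8705 i) (Nat.ble 94208 i))) (Nat.ble 93184 i))
noncomputable def nd3460 (i : Nat) : Nat := (Bool.rec (motive := fun _ => Nat) ((Bool.rec (motive := fun _ => Nat) (nl8706 i) (nl8707 i) (Nat.ble 96256 i))) ((Bool.rec (motive := fun _ => Nat) (nl8708 i) (nl8709 i) (Nat.ble 98304 i))) (Nat.ble 97280 i))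
noncomputable def nd3456 (i : Nat) : Nat := (Bool.rec (motive := fun _ => Nat) ((Bool.rec (motive := fun _ => Nat) (nd3457 i) (nd3458 i) (Nat.ble 87040 i))) ((Bool.rec (motive := fun _ => Nat) (nd3459 i) (nd3460 i) (Nat.ble 95232 i))) (Nat.ble 91136 i))
noncomputable def nd3462 (i : Nat) : Nat := (Bool.rec (motive := fun _ => Nat) ((Bool.rec (motive := fun _ => Nat) (nl8710 i) (nl8711 i) (Nat.ble 100352 i))) ((Bool.rec (motive := fun _ => Nat) (nl8712 i) (nl8713 i) (Nat.ble 102400 i))) (Nat.ble 101376 i))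
noncomputable def nd3463 (i : Nat) : Nat := (Bool.rec (motive := fun _ => Nat) ((Bool.rec (motive := fun _ => Nat) (nl8714 i) (nl8715 i) (Nat.ble 104448 i))) ((Bool.rec (motive := fun _ => Nat) (nl8716 i) (nl8717 i) (Nat.ble 106496 i))) (Nat.ble 105472 i))
noncomputable def nd3464 (i : Nat) : Nat := (Bool.rec (motive := fun _ => Nat) ((Bool.rec (motive := fun _ => Nat) (nl8718 i) (nl8719 i) (Nat.ble 108544 i))) ((Bool.rec (motive := fun _ => Nat) (nl8720 i) (nl8721 i) (Nat.ble 110592 i))) (Nat.ble 109568 i))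
noncomputable def nd3465 (i : Nat) : Nat := (Bool.rec (motive := fun _ => Nat) ((Bool.rec (motive := fun _ => Nat) (nl8722 i) (nl8723 i) (Nat.ble 112640 i))) ((Bool.rec (motive := fun _ => Nat) (nl8724 i) (nl8725 i) (Nat.ble 114688 i))) (Nat.ble 113664 i))
noncomputable def nd3461 (i : Nat) : Nat := (Bool.rec (motive := fun _ => Nat) ((Bool.rec (motive := fun _ => Nat) (nd3462 i) (nd3463 i) (Nat.ble 103424 i))) ((Bool.rec (motive := fun _ => Nat) (nd3464 i) (nd3465 i) (Nat.ble 111616 i))) (Nat.ble 107520 i))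
noncomputable def nd3467 (i : Nat) : Nat := (Bool.rec (motive := fun _ => Nat) ((Bool.rec (motive := fun _ => Nat) (nl8726 i) (nl8727 i) (Nat.ble 116736 i))) ((Bool.rec (motive := fun _ => Nat) (nl8728 i) (nl8729 i) (Nat.ble 118784 i))) (Nat.ble 117760 i))
noncomputable def nd3468 (i : Nat) : Nat := (Bool.rec (motive := fun _ => Nat) ((Bool.rec (motive := fun _ => Nat) (nl8730 i) (nl8731 i) (Nat.ble 120832 i))) ((Bool.rec (motive := fun _ => Nat) (nl8732 i) (nl8733 i) (Nat.ble 122880 i))) (Nat.ble 121856 i))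
noncomputable def nd3469 (i : Nat) : Nat := (Bool.rec (motive := fun _ => Nat) ((Bool.rec (motive := fun _ => Nat) (nl8734 i) (nl8735 i) (Nat.ble 124928 i))) ((Bool.rec (motive := fun _ => Nat) (nl8736 i) (nl8737 i) (Nat.ble 126976 i))) (Nat.ble 125952 i))
noncomputable def nd3471 (i : Nat) : Nat := (Bool.rec (motive := fun _ => Nat) (nl8741 i) (nl8742 i) (Nat.ble 132096 i))
noncomputable def nd3470 (i : Nat) : Nat := (Bool.rec (motive := fun _ => Nat) ((Bool.rec (motive := fun _ => Nat) (nl8738 i) (nl8739 i) (Nat.ble 129024 i))) ((Bool.rec (motive := fun _ => Nat) (nl8740 i) (nd3471 i) (Nat.ble 131072 i))) (Nat.ble 130048 i))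
noncomputable def nd3466 (i : Nat) : Nat := (Bool.rec (motive := fun _ => Nat) ((Bool.rec (motive := fun _ => Nat) (nd3467 i) (nd3468 i) (Nat.ble 119808 i))) ((Bool.rec (motive := fun _ => Nat) (nd3469 i) (nd3470 i) (Nat.ble 128000 i))) (Nat.ble 123904 i))
noncomputable def nd3450 (i : Nat) : Nat := (Bool.rec (motive := fun _ => Nat) ((Bool.rec (motive := fun _ => Nat) (nd3451 i) (nd3456 i) (Nat.ble 82944 i))) ((Bool.rec (motive := fun _ => Nat) (nd3461 i) (nd3466 i) (Nat.ble 115712 i))) (Nat.ble 99328 i))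
noncomputable def nd3474 (i : Nat) : Nat := (Bool.rec (motive := fun _ => Nat) ((Bool.rec (motive := fun _ => Nat) (nl8743 i) (nl8744 i) (Nat.ble 134144 i))) ((Bool.rec (motive := fun _ => Nat) (nl8745 i) (nl8746 i) (Nat.ble 136192 i))) (Nat.ble 135168 i))
noncomputable def nd3475 (i : Nat) : Nat := (Bool.rec (motive := fun _ => Nat) ((Bool.rec (motive := fun _ => Nat) (nl8747 i) (nl8748 i) (Nat.ble 138240 i))) ((Bool.rec (motive := fun _ => Nat) (nl8749 i) (nl8750 i) (Nat.ble 140288 i))) (Nat.ble 139264 i))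
noncomputable def nd3476 (i : Nat) : Nat := (Bool.rec (motive := fun _ => Nat) ((Bool.rec (motive := fun _ => Nat) (nl8751 i) (nl8752 i) (Nat.ble 142336 i))) ((Bool.rec (motive := fun _ => Nat) (nl8753 i) (nl8754 i) (Nat.ble 144384 i))) (Nat.ble 143360 i))
noncomputable def nd3477 (i : Nat) : Nat := (Bool.rec (motive := fun _ => Nat) ((Bool.rec (motive := fun _ => Nat) (nl8755 i) (nl8756 i) (Nat.ble 146432 i))) ((Bool.rec (motive := fun _ => Nat) (nl8757 i) (nl8758 i) (Nat.ble 148480 i))) (Nat.ble 147456 i))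
noncomputable def nd3473 (i : Nat) : Nat := (Bool.rec (motive := fun _ => Nat) ((Bool.rec (motive := fun _ => Nat) (nd3474 i) (nd3475 i) (Nat.ble 137216 i))) ((Bool.rec (motive := fun _ => Nat) (nd3476 i) (nd3477 i) (Nat.ble 145408 i))) (Nat.ble 141312 i))
noncomputable def nd3479 (i : Nat) : Nat := (Bool.rec (motive := fun _ => Nat) ((Bool.rec (motive := fun _ => Nat) (nl8759 i) (nl8760 i) (Nat.ble 150528 i))) ((Bool.rec (motive := fun _ => Nat) (nl8761 i) (nl8762 i) (Nat.ble 152576 i))) (Nat.ble 151552 i))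
noncomputable def nd3480 (i : Nat) : Nat := (Bool.rec (motive := fun _ => Nat) ((Bool.rec (motive := fun _ => Nat) (nl8763 i) (nl8764 i) (Nat.ble 154624 i))) ((Bool.rec (motive := fun _ => Nat) (nl8765 i) (nl8766 i) (Nat.ble 156672 i))) (Nat.ble 155648 i))
noncomputable def nd3481 (i : Nat) : Nat := (Bool.rec (motive := fun _ => Nat) ((Bool.rec (motive := fun _ => Nat) (nl8767 i) (nl8768 i) (Nat.ble 158720 i))) ((Bool.rec (motive := fun _ => Nat) (nl8769 i) (nl8770 i) (Nat.ble 160768 i))) (Nat.ble 159744 i))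
noncomputable def nd3482 (i : Nat) : Nat := (Bool.rec (motive := fun _ => Nat) ((Bool.rec (motive := fun _ => Nat) (nl8771 i) (nl8772 i) (Nat.ble 162816 i))) ((Bool.rec (motive := fun _ => Nat) (nl8773 i) (nl8774 i) (Nat.ble 164864 i))) (Nat.ble 163840 i))
noncomputable def nd3478 (i : Nat) : Nat := (Bool.rec (motive := fun _ => Nat) ((Bool.rec (motive := fun _ => Nat) (nd3479 i) (nd3480 i) (Nat.ble 153600 i))) ((Bool.rec (motive := fun _ => Nat) (nd3481 i) (nd3482 i) (Nat.ble 161792 i))) (Nat.ble 157696 i))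
noncomputable def nd3484 (i : Nat) : Nat := (Bool.rec (motive := fun _ => Nat) ((Bool.rec (motive := fun _ => Nat) (nl8775 i) (nl8776 i) (Nat.ble 166912 i))) ((Bool.rec (motive := fun _ => Nat) (nl8777 i) (nl8778 i) (Nat.ble 168960 i))) (Nat.ble 167936 i))
noncomputable def nd3485 (i : Nat) : Nat := (Bool.rec (motive := fun _ => Nat) ((Bool.rec (motive := fun _ => Nat) (nl8779 i) (nl8780 i) (Nat.ble 171008 i))) ((Bool.rec (motive := fun _ => Nat) (nl8781 i) (nl8782 i) (Nat.ble 173056 i))) (Nat.ble 172032 i))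
noncomputable def nd3486 (i : Nat) : Nat := (Bool.rec (motive := fun _ => Nat) ((Bool.rec (motive := fun _ => Nat) (nl8783 i) (nl8784 i) (Nat.ble 175104 i))) ((Bool.rec (motive := fun _ => Nat) (nl8785 i) (nl8786 i) (Nat.ble 177152 i))) (Nat.ble 176128 i))
noncomputable def nd3487 (i : Nat) : Nat := (Bool.rec (motive := fun _ => Nat) ((Bool.rec (motive := fun _ => Nat) (nl8787 i) (nl8788 i) (Nat.ble 179200 i))) ((Bool.rec (motive := fun _ => Nat) (nl8789 i) (nl8790 i) (Nat.ble 181248 i))) (Nat.ble 180224 i))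
noncomputable def nd3483 (i : Nat) : Nat := (Bool.rec (motive := fun _ => Nat) ((Bool.rec (motive := fun _ => Nat) (nd3484 i) (nd3485 i) (Nat.ble 169984 i))) ((Bool.rec (motive := fun _ => Nat) (nd3486 i) (nd3487 i) (Nat.ble 178176 i))) (Nat.ble 174080 i))
noncomputable def nd3489 (i : Nat) : Nat := (Bool.rec (motive := fun _ => Nat) ((Bool.rec (motive := fun _ => Nat) (nl8791 i) (nl8792 i) (Nat.ble 183296 i))) ((Bool.rec (motive := fun _ => Nat) (nl8793 i) (nl8794 i) (Nat.ble 185344 i))) (Nat.ble 184320 i))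
noncomputable def nd3490 (i : Nat) : Nat := (Bool.rec (motive := fun _ => Nat) ((Bool.rec (motive := fun _ => Nat) (nl8795 i) (nl8796 i) (Nat.ble 187392 i))) ((Bool.rec (motive := fun _ => Nat) (nl8797 i) (nl8798 i) (Nat.ble 189440 i))) (Nat.ble 188416 i))
noncomputable def nd3491 (i : Nat) : Nat := (Bool.rec (motive := fun _ => Nat) ((Bool.rec (motive := fun _ => Nat) (nl8799 i) (nl8800 i) (Nat.ble 191488 i))) ((Bool.rec (motive := fun _ => Nat) (nl8801 i) (nl8802 i) (Nat.ble 193536 i))) (Nat.ble 192512 i))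
noncomputable def nd3493 (i : Nat) : Nat := (Bool.rec (motive := fun _ => Nat) (nl8806 i) (nl8807 i) (Nat.ble 198656 i))
noncomputable def nd3492 (i : Nat) : Nat := (Bool.rec (motive := fun _ => Nat) ((Bool.rec (motive := fun _ => Nat) (nl8803 i) (nl8804 i) (Nat.ble 195584 i))) ((Bool.rec (motive := fun _ => Nat) (nl8805 i) (nd3493 i) (Nat.ble 197632 i))) (Nat.ble 196608 i))
noncomputable def nd3488 (i : Nat) : Nat := (Bool.rec (motive := fun _ => Nat) ((Bool.rec (motive := fun _ => Nat) (nd3489 i) (nd3490 i) (Nat.ble 186368 i))) ((Bool.rec (motive := fun _ => Nat) (nd3491 i) (nd3492 i) (Nat.ble 194560 i))) (Nat.ble 190464 i))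
noncomputable def nd3472 (i : Nat) : Nat := (Bool.rec (motive := fun _ => Nat) ((Bool.rec (motive := fun _ => Nat) (nd3473 i) (nd3478 i) (Nat.ble 149504 i))) ((Bool.rec (motive := fun _ => Nat) (nd3483 i) (nd3488 i) (Nat.ble 182272 i))) (Nat.ble 165888 i))
noncomputable def nd3496 (i : Nat) : Nat := (Bool.rec (motive := fun _ => Nat) ((Bool.rec (motive := fun _ => Nat) (nl8808 i) (nl8809 i) (Nat.ble 200704 i))) ((Bool.rec (motive := fun _ => Nat) (nl8810 i) (nl8811 i) (Nat.ble 202752 i))) (Nat.ble 201728 i))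
noncomputable def nd3497 (i : Nat) : Nat := (Bool.rec (motive := fun _ => Nat) ((Bool.rec (motive := fun _ => Nat) (nl8812 i) (nl8813 i) (Nat.ble 204800 i))) ((Bool.rec (motive := fun _ => Nat) (nl8814 i) (nl8815 i) (Nat.ble 206848 i))) (Nat.ble 205824 i))
noncomputable def nd3498 (i : Nat) : Nat := (Bool.rec (motive := fun _ => Nat) ((Bool.rec (motive := fun _ => Nat) (nl8816 i) (nl8817 i) (Nat.ble 208896 i))) ((Bool.rec (motive := fun _ => Nat) (nl8818 i) (nl8819 i) (Nat.ble 210944 i))) (Nat.ble 209920 i))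
noncomputable def nd3499 (i : Nat) : Nat := (Bool.rec (motive := fun _ => Nat) ((Bool.rec (motive := fun _ => Nat) (nl8820 i) (nl8821 i) (Nat.ble 212992 i))) ((Bool.rec (motive := fun _ => Nat) (nl8822 i) (nl8823 i) (Nat.ble 215040 i))) (Nat.ble 214016 i))
noncomputable def nd3495 (i : Nat) : Nat := (Bool.rec (motive := fun _ => Nat) ((Bool.rec (motive := fun _ => Nat) (nd3496 i) (nd3497 i) (Nat.ble 203776 i))) ((Bool.rec (motive := fun _ => Nat) (nd3498 i) (nd3499 i) (Nat.ble 211968 i))) (Nat.ble 207872 i))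
noncomputable def nd3501 (i : Nat) : Nat := (Bool.rec (motive := fun _ => Nat) ((Bool.rec (motive := fun _ => Nat) (nl8824 i) (nl8825 i) (Nat.ble 217088 i))) ((Bool.rec (motive := fun _ => Nat) (nl8826 i) (nl8827 i) (Nat.ble 219136 i))) (Nat.ble 218112 i))
noncomputable def nd3502 (i : Nat) : Nat := (Bool.rec (motive := fun _ => Nat) ((Bool.rec (motive := fun _ => Nat) (nl8828 i) (nl8829 i) (Nat.ble 221184 i))) ((Bool.rec (motive := fun _ => Nat) (nl8830 i) (nl8831 i) (Nat.ble 223232 i))) (Nat.ble 222208 i))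
noncomputable def nd3503 (i : Nat) : Nat := (Bool.rec (motive := fun _ => Nat) ((Bool.rec (motive := fun _ => Nat) (nl8832 i) (nl8833 i) (Nat.ble 225280 i))) ((Bool.rec (motive := fun _ => Nat) (nl8834 i) (nl8835 i) (Nat.ble 227328 i))) (Nat.ble 226304 i))
noncomputable def nd3505 (i : Nat) : Nat := (Bool.rec (motive := fun _ => Nat) (nl8839 i) (nl8840 i) (Nat.ble 232448 i))
noncomputable def nd3504 (i : Nat) : Nat := (Bool.rec (motive := fun _ => Nat) ((Bool.rec (motive := fun _ => Nat) (nl8836 i) (nl8837 i) (Nat.ble 229376 i))) ((Bool.rec (motive := fun _ => Nat) (nl8838 i) (nd3505 i) (Nat.ble 231424 i))) (Nat.ble 230400 i))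
noncomputable def nd3500 (i : Nat) : Nat := (Bool.rec (motive := fun _ => Nat) ((Bool.rec (motive := fun _ => Nat) (nd3501 i) (nd3502 i) (Nat.ble 220160 i))) ((Bool.rec (motive := fun _ => Nat) (nd3503 i) (nd3504 i) (Nat.ble 228352 i))) (Nat.ble 224256 i))
noncomputable def nd3507 (i : Nat) : Nat := (Bool.rec (motive := fun _ => Nat) ((Bool.rec (motive := fun _ => Nat) (nl8841 i) (nl8842 i) (Nat.ble 234496 i))) ((Bool.rec (motive := fun _ => Nat) (nl8843 i) (nl8844 i) (Nat.ble 236544 i))) (Nat.ble 235520 i))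
noncomputable def nd3508 (i : Nat) : Nat := (Bool.rec (motive := fun _ => Nat) ((Bool.rec (motive := fun _ => Nat) (nl8845 i) (nl8846 i) (Nat.ble 238592 i))) ((Bool.rec (motive := fun _ => Nat) (nl8847 i) (nl8848 i) (Nat.ble 240640 i))) (Nat.ble 239616 i))
noncomputable def nd3509 (i : Nat) : Nat := (Bool.rec (motive := fun _ => Nat) ((Bool.rec (motive := fun _ => Nat) (nl8849 i) (nl8850 i) (Nat.ble 242688 i))) ((Bool.rec (motive := fun _ => Nat) (nl8851 i) (nl8852 i) (Nat.ble 244736 i))) (Nat.ble 243712 i))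
noncomputable def nd3510 (i : Nat) : Nat := (Bool.rec (motive := fun _ => Nat) ((Bool.rec (motive := fun _ => Nat) (nl8853 i) (nl8854 i) (Nat.ble 246784 i))) ((Bool.rec (motive := fun _ => Nat) (nl8855 i) (nl8856 i) (Nat.ble 248832 i))) (Nat.ble 247808 i))
noncomputable def nd3506 (i : Nat) : Nat := (Bool.rec (motive := fun _ => Nat) ((Bool.rec (motive := fun _ => Nat) (nd3507 i) (nd3508 i) (Nat.ble 237568 i))) ((Bool.rec (motive := fun _ => Nat) (nd3509 i) (nd3510 i) (Nat.ble 245760 i))) (Nat.ble 241664 i))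
noncomputable def nd3512 (i : Nat) : Nat := (Bool.rec (motive := fun _ => Nat) ((Bool.rec (motive := fun _ => Nat) (nl8857 i) (nl8858 i) (Nat.ble 250880 i))) ((Bool.rec (motive := fun _ => Nat) (nl8859 i) (nl8860 i) (Nat.ble 252928 i))) (Nat.ble 251904 i))
noncomputable def nd3513 (i : Nat) : Nat := (Bool.rec (motive := fun _ => Nat) ((Bool.rec (motive := fun _ => Nat) (nl8861 i) (nl8862 i) (Nat.ble 254976 i))) ((Bool.rec (motive := fun _ => Nat) (nl8863 i) (nl8864 i) (Nat.ble 257024 i))) (Nat.ble 256000 i))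
noncomputable def nd3514 (i : Nat) : Nat := (Bool.rec (motive := fun _ => Nat) ((Bool.rec (motive := fun _ => Nat) (nl8865 i) (nl8866 i) (Nat.ble 259072 i))) ((Bool.rec (motive := fun _ => Nat) (nl8867 i) (nl8868 i) (Nat.ble 261120 i))) (Nat.ble 260096 i))
noncomputable def nd3516 (i : Nat) : Nat := (Bool.rec (motive := fun _ => Nat) (nl8872 i) (nl8873 i) (Nat.ble 266240 i))
noncomputable def nd3515 (i : Nat) : Nat := (Bool.rec (motive := fun _ => Nat) ((Bool.rec (motive := fun _ => Nat) (nl8869 i) (nl8870 i) (Nat.ble 263168 i))) ((Bool.rec (motive := fun _ => Nat) (nl8871 i) (nd3516 i) (Nat.ble 265216 i))) (Nat.ble 264192 i))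
noncomputable def nd3511 (i : Nat) : Nat := (Bool.rec (motive := fun _ => Nat) ((Bool.rec (motive := fun _ => Nat) (nd3512 i) (nd3513 i) (Nat.ble 253952 i))) ((Bool.rec (motive := fun _ => Nat) (nd3514 i) (nd3515 i) (Nat.ble 262144 i))) (Nat.ble 258048 i))
noncomputable def nd3494 (i : Nat) : Nat := (Bool.rec (motive := fun _ => Nat) ((Bool.rec (motive := fun _ => Nat) (nd3495 i) (nd3500 i) (Nat.ble 216064 i))) ((Bool.rec (motive := fun _ => Nat) (nd3506 i) (nd3511 i) (Nat.ble 249856 i))) (Nat.ble 233472 i))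
noncomputable def nd3427 (i : Nat) : Nat := (Bool.rec (motive := fun _ => Nat) ((Bool.rec (motive := fun _ => Nat) (nd3428 i) (nd3450 i) (Nat.ble 66560 i))) ((Bool.rec (motive := fun _ => Nat) (nd3472 i) (nd3494 i) (Nat.ble 199680 i))) (Nat.ble 133120 i))
noncomputable def nd3520 (i : Nat) : Nat := (Bool.rec (motive := fun _ => Nat) ((Bool.rec (motive := fun _ => Nat) (nl8874 i) (nl8875 i) (Nat.ble 1024 i))) ((Bool.rec (motive := fun _ => Nat) (nl8876 i) (nl8877 i) (Nat.ble 3072 i))) (Nat.ble 2048 i))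
noncomputable def nd3521 (i : Nat) : Nat := (Bool.rec (motive := fun _ => Nat) ((Bool.rec (motive := fun _ => Nat) (nl8878 i) (nl8879 i) (Nat.ble 5120 i))) ((Bool.rec (motive := fun _ => Nat) (nl8880 i) (nl8881 i) (Nat.ble 7168 i))) (Nat.ble 6144 i))
noncomputable def nd3522 (i : Nat) : Nat := (Bool.rec (motive := fun _ => Nat) ((Bool.rec (motive := fun _ => Nat) (nl8882 i) (nl8883 i) (Nat.ble 9216 i))) ((Bool.rec (motive := fun _ => Nat) (nl8884 i) (nl8885 i) (Nat.ble 11264 i))) (Nat.ble 10240 i))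
noncomputable def nd3523 (i : Nat) : Nat := (Bool.rec (motive := fun _ => Nat) ((Bool.rec (motive := fun _ => Nat) (nl8886 i) (nl8887 i) (Nat.ble 13312 i))) ((Bool.rec (motive := fun _ => Nat) (nl8888 i) (nl8889 i) (Nat.ble 15360 i))) (Nat.ble 14336 i))
noncomputable def nd3519 (i : Nat) : Nat := (Bool.rec (motive := fun _ => Nat) ((Bool.rec (motive := fun _ => Nat) (nd3520 i) (nd3521 i) (Nat.ble 4096 i))) ((Bool.rec (motive := fun _ => Nat) (nd3522 i) (nd3523 i) (Nat.ble 12288 i))) (Nat.ble 8192 i))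
noncomputable def nd3525 (i : Nat) : Nat := (Bool.rec (motive := fun _ => Nat) ((Bool.rec (motive := fun _ => Nat) (nl8890 i) (nl8891 i) (Nat.ble 17408 i))) ((Bool.rec (motive := fun _ => Nat) (nl8892 i) (nl8893 i) (Nat.ble 19456 i))) (Nat.ble 18432 i))
noncomputable def nd3526 (i : Nat) : Nat := (Bool.rec (motive := fun _ => Nat) ((Bool.rec (motive := fun _ => Nat) (nl8894 i) (nl8895 i) (Nat.ble 21504 i))) ((Bool.rec (motive := fun _ => Nat) (nl8896 i) (nl8897 i) (Nat.ble 23552 i))) (Nat.ble 22528 i))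
noncomputable def nd3527 (i : Nat) : Nat := (Bool.rec (motive := fun _ => Nat) ((Bool.rec (motive := fun _ => Nat) (nl8898 i) (nl8899 i) (Nat.ble 25600 i))) ((Bool.rec (motive := fun _ => Nat) (nl8900 i) (nl8901 i) (Nat.ble 27648 i))) (Nat.ble 26624 i))
noncomputable def nd3528 (i : Nat) : Nat := (Bool.rec (motive := fun _ => Nat) ((Bool.rec (motive := fun _ => Nat) (nl8902 i) (nl8903 i) (Nat.ble 29696 i))) ((Bool.rec (motive := fun _ => Nat) (nl8904 i) (nl8905 i) (Nat.ble 31744 i))) (Nat.ble 30720 i))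
noncomputable def nd3524 (i : Nat) : Nat := (Bool.rec (motive := fun _ => Nat) ((Bool.rec (motive := fun _ => Nat) (nd3525 i) (nd3526 i) (Nat.ble 20480 i))) ((Bool.rec (motive := fun _ => Nat) (nd3527 i) (nd3528 i) (Nat.ble 28672 i))) (Nat.ble 24576 i))
noncomputable def nd3530 (i : Nat) : Nat := (Bool.rec (motive := fun _ => Nat) ((Bool.rec (motive := fun _ => Nat) (nl8906 i) (nl8907 i) (Nat.ble 33792 i))) ((Bool.rec (motive := fun _ => Nat) (nl8908 i) (nl8909 i) (Nat.ble 35840 i))) (Nat.ble 34816 i))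
noncomputable def nd3531 (i : Nat) : Nat := (Bool.rec (motive := fun _ => Nat) ((Bool.rec (motive := fun _ => Nat) (nl8910 i) (nl8911 i) (Nat.ble 37888 i))) ((Bool.rec (motive := fun _ => Nat) (nl8912 i) (nl8913 i) (Nat.ble 39936 i))) (Nat.ble 38912 i))
noncomputable def nd3532 (i : Nat) : Nat := (Bool.rec (motive := fun _ => Nat) ((Bool.rec (motive := fun _ => Nat) (nl8914 i) (nl8915 i) (Nat.ble 41984 i))) ((Bool.rec (motive := fun _ => Nat) (nl8916 i) (nl8917 i) (Nat.ble 44032 i))) (Nat.ble 43008 i))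
noncomputable def nd3533 (i : Nat) : Nat := (Bool.rec (motive := fun _ => Nat) ((Bool.rec (motive := fun _ => Nat) (nl8918 i) (nl8919 i) (Nat.ble 46080 i))) ((Bool.rec (motive := fun _ => Nat) (nl8920 i) (nl8921 i) (Nat.ble 48128 i))) (Nat.ble 47104 i))
noncomputable def nd3529 (i : Nat) : Nat := (Bool.rec (motive := fun _ => Nat) ((Bool.rec (motive := fun _ => Nat) (nd3530 i) (nd3531 i) (Nat.ble 36864 i))) ((Bool.rec (motive := fun _ => Nat) (nd3532 i) (nd3533 i) (Nat.ble 45056 i))) (Nat.ble 40960 i))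
noncomputable def nd3535 (i : Nat) : Nat := (Bool.rec (motive := fun _ => Nat) ((Bool.rec (motive := fun _ => Nat) (nl8922 i) (nl8923 i) (Nat.ble 50176 i))) ((Bool.rec (motive := fun _ => Nat) (nl8924 i) (nl8925 i) (Nat.ble 52224 i))) (Nat.ble 51200 i))
noncomputable def nd3536 (i : Nat) : Nat := (Bool.rec (motive := fun _ => Nat) ((Bool.rec (motive := fun _ => Nat) (nl8926 i) (nl8927 i) (Nat.ble 54272 i))) ((Bool.rec (motive := fun _ => Nat) (nl8928 i) (nl8929 i) (Nat.ble 56320 i))) (Nat.ble 55296 i))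
noncomputable def nd3537 (i : Nat) : Nat := (Bool.rec (motive := fun _ => Nat) ((Bool.rec (motive := fun _ => Nat) (nl8930 i) (nl8931 i) (Nat.ble 58368 i))) ((Bool.rec (motive := fun _ => Nat) (nl8932 i) (nl8933 i) (Nat.ble 60416 i))) (Nat.ble 59392 i))
noncomputable def nd3539 (i : Nat) : Nat := (Bool.rec (motive := fun _ => Nat) (nl8937 i) (nl8938 i) (Nat.ble 65536 i))
noncomputable def nd3538 (i : Nat) : Nat := (Bool.rec (motive := fun _ => Nat) ((Bool.rec (motive := fun _ => Nat) (nl8934 i) (nl8935 i) (Nat.ble 62464 i))) ((Bool.rec (motive := fun _ => Nat) (nl8936 i) (nd3539 i) (Nat.ble 64512 i))) (Nat.ble 63488 i))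
noncomputable def nd3534 (i : Nat) : Nat := (Bool.rec (motive := fun _ => Nat) ((Bool.rec (motive := fun _ => Nat) (nd3535 i) (nd3536 i) (Nat.ble 53248 i))) ((Bool.rec (motive := fun _ => Nat) (nd3537 i) (nd3538 i) (Nat.ble 61440 i))) (Nat.ble 57344 i))
noncomputable def nd3518 (i : Nat) : Nat := (Bool.rec (motive := fun _ => Nat) ((Bool.rec (motive := fun _ => Nat) (nd3519 i) (nd3524 i) (Nat.ble 16384 i))) ((Bool.rec (motive := fun _ => Nat) (nd3529 i) (nd3534 i) (Nat.ble 49152 i))) (Nat.ble 32768 i))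
noncomputable def nd3542 (i : Nat) : Nat := (Bool.rec (motive := fun _ => Nat) ((Bool.rec (motive := fun _ => Nat) (nl8939 i) (nl8940 i) (Nat.ble 67584 i))) ((Bool.rec (motive := fun _ => Nat) (nl8941 i) (nl8942 i) (Nat.ble 69632 i))) (Nat.ble 68608 i))
noncomputable def nd3543 (i : Nat) : Nat := (Bool.rec (motive := fun _ => Nat) ((Bool.rec (motive := fun _ => Nat) (nl8943 i) (nl8944 i) (Nat.ble 71680 i))) ((Bool.rec (motive := fun _ => Nat) (nl8945 i) (nl8946 i) (Nat.ble 73728 i))) (Nat.ble 72704 i))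
noncomputable def nd3544 (i : Nat) : Nat := (Bool.rec (motive := fun _ => Nat) ((Bool.rec (motive := fun _ => Nat) (nl8947 i) (nl8948 i) (Nat.ble 75776 i))) ((Bool.rec (motive := fun _ => Nat) (nl8949 i) (nl8950 i) (Nat.ble 77824 i))) (Nat.ble 76800 i))
noncomputable def nd3545 (i : Nat) : Nat := (Bool.rec (motive := fun _ => Nat) ((Bool.rec (motive := fun _ => Nat) (nl8951 i) (nl8952 i) (Nat.ble 79872 i))) ((Bool.rec (motive := fun _ => Nat) (nl8953 i) (nl8954 i) (Nat.ble 81920 i))) (Nat.ble 80896 i))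
noncomputable def nd3541 (i : Nat) : Nat := (Bool.rec (motive := fun _ => Nat) ((Bool.rec (motive := fun _ => Nat) (nd3542 i) (nd3543 i) (Nat.ble 70656 i))) ((Bool.rec (motive := fun _ => Nat) (nd3544 i) (nd3545 i) (Nat.ble 78848 i))) (Nat.ble 74752 i))
noncomputable def nd3547 (i : Nat) : Nat := (Bool.rec (motive := fun _ => Nat) ((Bool.rec (motive := fun _ => Nat) (nl8955 i) (nl8956 i) (Nat.ble 83968 i))) ((Bool.rec (motive := fun _ => Nat) (nl8957 i) (nl8958 i) (Nat.ble 86016 i))) (Nat.ble 84992 i))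
noncomputable def nd3548 (i : Nat) : Nat := (Bool.rec (motive := fun _ => Nat) ((Bool.rec (motive := fun _ => Nat) (nl8959 i) (nl8960 i) (Nat.ble 88064 i))) ((Bool.rec (motive := fun _ => Nat) (nl8961 i) (nl8962 i) (Nat.ble 90112 i))) (Nat.ble 89088 i))
noncomputable def nd3549 (i : Nat) : Nat := (Bool.rec (motive := fun _ => Nat) ((Bool.rec (motive := fun _ => Nat) (nl8963 i) (nl8964 i) (Nat.ble 92160 i))) ((Bool.rec (motive := fun _ => Nat) (nl8965 i) (nl8966 i) (Nat.ble 94208 i))) (Nat.ble 93184 i))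
noncomputable def nd3550 (i : Nat) : Nat := (Bool.rec (motive := fun _ => Nat) ((Bool.rec (motive := fun _ => Nat) (nl8967 i) (nl8968 i) (Nat.ble 96256 i))) ((Bool.rec (motive := fun _ => Nat) (nl8969 i) (nl8970 i) (Nat.ble 98304 i))) (Nat.ble 97280 i))
noncomputable def nd3546 (i : Nat) : Nat := (Bool.rec (motive := fun _ => Nat) ((Bool.rec (motive := fun _ => Nat) (nd3547 i) (nd3548 i) (Nat.ble 87040 i))) ((Bool.rec (motive := fun _ => Nat) (nd3549 i) (nd3550 i) (Nat.ble 95232 i))) (Nat.ble 91136 i))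
noncomputable def nd3552 (i : Nat) : Nat := (Bool.rec (motive := fun _ => Nat) ((Bool.rec (motive := fun _ => Nat) (nl8971 i) (nl8972 i) (Nat.ble 100352 i))) ((Bool.rec (motive := fun _ => Nat) (nl8973 i) (nl8974 i) (Nat.ble 102400 i))) (Nat.ble 101376 i))
noncomputable def nd3553 (i : Nat) : Nat := (Bool.rec (motive := fun _ => Nat) ((Bool.rec (motive := fun _ => Nat) (nl8975 i) (nl8976 i) (Nat.ble 104448 i))) ((Bool.rec (motive := fun _ => Nat) (nl8977 i) (nl8978 i) (Nat.ble 106496 i))) (Nat.ble 105472 i))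
noncomputable def nd3554 (i : Nat) : Nat := (Bool.rec (motive := fun _ => Nat) ((Bool.rec (motive := fun _ => Nat) (nl8979 i) (nl8980 i) (Nat.ble 108544 i))) ((Bool.rec (motive := fun _ => Nat) (nl8981 i) (nl8982 i) (Nat.ble 110592 i))) (Nat.ble 109568 i))
noncomputable def nd3555 (i : Nat) : Nat := (Bool.rec (motive := fun _ => Nat) ((Bool.rec (motive := fun _ => Nat) (nl8983 i) (nl8984 i) (Nat.ble 112640 i))) ((Bool.rec (motive := fun _ => Nat) (nl8985 i) (nl8986 i) (Nat.ble 114688 i))) (Nat.ble 113664 i))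
noncomputable def nd3551 (i : Nat) : Nat := (Bool.rec (motive := fun _ => Nat) ((Bool.rec (motive := fun _ => Nat) (nd3552 i) (nd3553 i) (Nat.ble 103424 i))) ((Bool.rec (motive := fun _ => Nat) (nd3554 i) (nd3555 i) (Nat.ble 111616 i))) (Nat.ble 107520 i))
noncomputable def nd3557 (i : Nat) : Nat := (Bool.rec (motive := fun _ => Nat) ((Bool.rec (motive := fun _ => Nat) (nl8987 i) (nl8988 i) (Nat.ble 116736 i))) ((Bool.rec (motive := fun _ => Nat) (nl8989 i) (nl8990 i) (Nat.ble 118784 i))) (Nat.ble 117760 i))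
noncomputable def nd3558 (i : Nat) : Nat := (Bool.rec (motive := fun _ => Nat) ((Bool.rec (motive := fun _ => Nat) (nl8991 i) (nl8992 i) (Nat.ble 120832 i))) ((Bool.rec (motive := fun _ => Nat) (nl8993 i) (nl8994 i) (Nat.ble 122880 i))) (Nat.ble 121856 i))
noncomputable def nd3559 (i : Nat) : Nat := (Bool.rec (motive := fun _ => Nat) ((Bool.rec (motive := fun _ => Nat) (nl8995 i) (nl8996 i) (Nat.ble 124928 i))) ((Bool.rec (motive := fun _ => Nat) (nl8997 i) (nl8998 i) (Nat.ble 126976 i))) (Nat.ble 125952 i))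
noncomputable def nd3561 (i : Nat) : Nat := (Bool.rec (motive := fun _ => Nat) (nl9002 i) (nl9003 i) (Nat.ble 132096 i))
noncomputable def nd3560 (i : Nat) : Nat := (Bool.rec (motive := fun _ => Nat) ((Bool.rec (motive := fun _ => Nat) (nl8999 i) (nl9000 i) (Nat.ble 129024 i))) ((Bool.rec (motive := fun _ => Nat) (nl9001 i) (nd3561 i) (Nat.ble 131072 i))) (Nat.ble 130048 i))
noncomputable def nd3556 (i : Nat) : Nat := (Bool.rec (motive := fun _ => Nat) ((Bool.rec (motive := fun _ => Nat) (nd3557 i) (nd3558 i) (Nat.ble 119808 i))) ((Bool.rec (motive := fun _ => Nat) (nd3559 i) (nd3560 i) (Nat.ble 128000 i))) (Nat.ble 123904 i))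
noncomputable def nd3540 (i : Nat) : Nat := (Bool.rec (motive := fun _ => Nat) ((Bool.rec (motive := fun _ => Nat) (nd3541 i) (nd3546 i) (Nat.ble 82944 i))) ((Bool.rec (motive := fun _ => Nat) (nd3551 i) (nd3556 i) (Nat.ble 115712 i))) (Nat.ble 99328 i))
noncomputable def nd3564 (i : Nat) : Nat := (Bool.rec (motive := fun _ => Nat) ((Bool.rec (motive := fun _ => Nat) (nl9004 i) (nl9005 i) (Nat.ble 134144 i))) ((Bool.rec (motive := fun _ => Nat) (nl9006 i) (nl9007 i) (Nat.ble 136192 i))) (Nat.ble 135168 i))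
noncomputable def nd3565 (i : Nat) : Nat := (Bool.rec (motive := fun _ => Nat) ((Bool.rec (motive := fun _ => Nat) (nl9008 i) (nl9009 i) (Nat.ble 138240 i))) ((Bool.rec (motive := fun _ => Nat) (nl9010 i) (nl9011 i) (Nat.ble 140288 i))) (Nat.ble 139264 i))
noncomputable def nd3566 (i : Nat) : Nat := (Bool.rec (motive := fun _ => Nat) ((Bool.rec (motive := fun _ => Nat) (nl9012 i) (nl9013 i) (Nat.ble 142336 i))) ((Bool.rec (motive := fun _ => Nat) (nl9014 i) (nl9015 i) (Nat.ble 144384 i))) (Nat.ble 143360 i))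
noncomputable def nd3567 (i : Nat) : Nat := (Bool.rec (motive := fun _ => Nat) ((Bool.rec (motive := fun _ => Nat) (nl9016 i) (nl9017 i) (Nat.ble 146432 i))) ((Bool.rec (motive := fun _ => Nat) (nl9018 i) (nl9019 i) (Nat.ble 148480 i))) (Nat.ble 147456 i))
noncomputable def nd3563 (i : Nat) : Nat := (Bool.rec (motive := fun _ => Nat) ((Bool.rec (motive := fun _ => Nat) (nd3564 i) (nd3565 i) (Nat.ble 137216 i))) ((Bool.rec (motive := fun _ => Nat) (nd3566 i) (nd3567 i) (Nat.ble 145408 i))) (Nat.ble 141312 i))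
noncomputable def nd3569 (i : Nat) : Nat := (Bool.rec (motive := fun _ => Nat) ((Bool.rec (motive := fun _ => Nat) (nl9020 i) (nl9021 i) (Nat.ble 150528 i))) ((Bool.rec (motive := fun _ => Nat) (nl9022 i) (nl9023 i) (Nat.ble 152576 i))) (Nat.ble 151552 i))
noncomputable def nd3570 (i : Nat) : Nat := (Bool.rec (motive := fun _ => Nat) ((Bool.rec (motive := fun _ => Nat) (nl9024 i) (nl9025 i) (Nat.ble 154624 i))) ((Bool.rec (motive := fun _ => Nat) (nl9026 i) (nl9027 i) (Nat.ble 156672 i))) (Nat.ble 155648 i))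
noncomputable def nd3571 (i : Nat) : Nat := (Bool.rec (motive := fun _ => Nat) ((Bool.rec (motive := fun _ => Nat) (nl9028 i) (nl9029 i) (Nat.ble 158720 i))) ((Bool.rec (motive := fun _ => Nat) (nl9030 i) (nl9031 i) (Nat.ble 160768 i))) (Nat.ble 159744 i))
noncomputable def nd3572 (i : Nat) : Nat := (Bool.rec (motive := fun _ => Nat) ((Bool.rec (motive := fun _ => Nat) (nl9032 i) (nl9033 i) (Nat.ble 162816 i))) ((Bool.rec (motive := fun _ => Nat) (nl9034 i) (nl9035 i) (Nat.ble 164864 i))) (Nat.ble 163840 i))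
noncomputable def nd3568 (i : Nat) : Nat := (Bool.rec (motive := fun _ => Nat) ((Bool.rec (motive := fun _ => Nat) (nd3569 i) (nd3570 i) (Nat.ble 153600 i))) ((Bool.rec (motive := fun _ => Nat) (nd3571 i) (nd3572 i) (Nat.ble 161792 i))) (Nat.ble 157696 i))
noncomputable def nd3574 (i : Nat) : Nat := (Bool.rec (motive := fun _ => Nat) ((Bool.rec (motive := fun _ => Nat) (nl9036 i) (nl9037 i) (Nat.ble 166912 i))) ((Bool.rec (motive := fun _ => Nat) (nl9038 i) (nl9039 i) (Nat.ble 168960 i))) (Nat.ble 167936 i))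
noncomputable def nd3575 (i : Nat) : Nat := (Bool.rec (motive := fun _ => Nat) ((Bool.rec (motive := fun _ => Nat) (nl9040 i) (nl9041 i) (Nat.ble 171008 i))) ((Bool.rec (motive := fun _ => Nat) (nl9042 i) (nl9043 i) (Nat.ble 173056 i))) (Nat.ble 172032 i))
noncomputable def nd3576 (i : Nat) : Nat := (Bool.rec (motive := fun _ => Nat) ((Bool.rec (motive := fun _ => Nat) (nl9044 i) (nl9045 i) (Nat.ble 175104 i))) ((Bool.rec (motive := fun _ => Nat) (nl9046 i) (nl9047 i) (Nat.ble 177152 i))) (Nat.ble 176128 i))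
noncomputable def nd3577 (i : Nat) : Nat := (Bool.rec (motive := fun _ => Nat) ((Bool.rec (motive := fun _ => Nat) (nl9048 i) (nl9049 i) (Nat.ble 179200 i))) ((Bool.rec (motive := fun _ => Nat) (nl9050 i) (nl9051 i) (Nat.ble 181248 i))) (Nat.ble 180224 i))
noncomputable def nd3573 (i : Nat) : Nat := (Bool.rec (motive := fun _ => Nat) ((Bool.rec (motive := fun _ => Nat) (nd3574 i) (nd3575 i) (Nat.ble 169984 i))) ((Bool.rec (motive := fun _ => Nat) (nd3576 i) (nd3577 i) (Nat.ble 178176 i))) (Nat.ble 174080 i))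
noncomputable def nd3579 (i : Nat) : Nat := (Bool.rec (motive := fun _ => Nat) ((Bool.rec (motive := fun _ => Nat) (nl9052 i) (nl9053 i) (Nat.ble 183296 i))) ((Bool.rec (motive := fun _ => Nat) (nl9054 i) (nl9055 i) (Nat.ble 185344 i))) (Nat.ble 184320 i))
noncomputable def nd3580 (i : Nat) : Nat := (Bool.rec (motive := fun _ => Nat) ((Bool.rec (motive := fun _ => Nat) (nl9056 i) (nl9057 i) (Nat.ble 187392 i))) ((Bool.rec (motive := fun _ => Nat) (nl9058 i) (nl9059 i) (Nat.ble 189440 i))) (Nat.ble 188416 i))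
noncomputable def nd3581 (i : Nat) : Nat := (Bool.rec (motive := fun _ => Nat) ((Bool.rec (motive := fun _ => Nat) (nl9060 i) (nl9061 i) (Nat.ble 191488 i))) ((Bool.rec (motive := fun _ => Nat) (nl9062 i) (nl9063 i) (Nat.ble 193536 i))) (Nat.ble 192512 i))
noncomputable def nd3583 (i : Nat) : Nat := (Bool.rec (motive := fun _ => Nat) (nl9067 i) (nl9068 i) (Nat.ble 198656 i))
noncomputable def nd3582 (i : Nat) : Nat := (Bool.rec (motive := fun _ => Nat) ((Bool.rec (motive := fun _ => Nat) (nl9064 i) (nl9065 i) (Nat.ble 195584 i))) ((Bool.rec (motive := fun _ => Nat) (nl9066 i) (nd3583 i) (Nat.ble 197632 i))) (Nat.ble 196608 i))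
noncomputable def nd3578 (i : Nat) : Nat := (Bool.rec (motive := fun _ => Nat) ((Bool.rec (motive := fun _ => Nat) (nd3579 i) (nd3580 i) (Nat.ble 186368 i))) ((Bool.rec (motive := fun _ => Nat) (nd3581 i) (nd3582 i) (Nat.ble 194560 i))) (Nat.ble 190464 i))
noncomputable def nd3562 (i : Nat) : Nat := (Bool.rec (motive := fun _ => Nat) ((Bool.rec (motive := fun _ => Nat) (nd3563 i) (nd3568 i) (Nat.ble 149504 i))) ((Bool.rec (motive := fun _ => Nat) (nd3573 i) (nd3578 i) (Nat.ble 182272 i))) (Nat.ble 165888 i))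
noncomputable def nd3586 (i : Nat) : Nat := (Bool.rec (motive := fun _ => Nat) ((Bool.rec (motive := fun _ => Nat) (nl9069 i) (nl9070 i) (Nat.ble 200704 i))) ((Bool.rec (motive := fun _ => Nat) (nl9071 i) (nl9072 i) (Nat.ble 202752 i))) (Nat.ble 201728 i))
noncomputable def nd3587 (i : Nat) : Nat := (Bool.rec (motive := fun _ => Nat) ((Bool.rec (motive := fun _ => Nat) (nl9073 i) (nl9074 i) (Nat.ble 204800 i))) ((Bool.rec (motive := fun _ => Nat) (nl9075 i) (nl9076 i) (Nat.ble 206848 i))) (Nat.ble 205824 i))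
noncomputable def nd3588 (i : Nat) : Nat := (Bool.rec (motive := fun _ => Nat) ((Bool.rec (motive := fun _ => Nat) (nl9077 i) (nl9078 i) (Nat.ble 208896 i))) ((Bool.rec (motive := fun _ => Nat) (nl9079 i) (nl9080 i) (Nat.ble 210944 i))) (Nat.ble 209920 i))
noncomputable def nd3589 (i : Nat) : Nat := (Bool.rec (motive := fun _ => Nat) ((Bool.rec (motive := fun _ => Nat) (nl9081 i) (nl9082 i) (Nat.ble 212992 i))) ((Bool.rec (motive := fun _ => Nat) (nl9083 i) (nl9084 i) (Nat.ble 215040 i))) (Nat.ble 214016 i))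
noncomputable def nd3585 (i : Nat) : Nat := (Bool.rec (motive := fun _ => Nat) ((Bool.rec (motive := fun _ => Nat) (nd3586 i) (nd3587 i) (Nat.ble 203776 i))) ((Bool.rec (motive := fun _ => Nat) (nd3588 i) (nd3589 i) (Nat.ble 211968 i))) (Nat.ble 207872 i))
noncomputable def nd3591 (i : Nat) : Nat := (Bool.rec (motive := fun _ => Nat) ((Bool.rec (motive := fun _ => Nat) (nl9085 i) (nl9086 i) (Nat.ble 217088 i))) ((Bool.rec (motive := fun _ => Nat) (nl9087 i) (nl9088 i) (Nat.ble 219136 i))) (Nat.ble 218112 i))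
noncomputable def nd3592 (i : Nat) : Nat := (Bool.rec (motive := fun _ => Nat) ((Bool.rec (motive := fun _ => Nat) (nl9089 i) (nl9090 i) (Nat.ble 221184 i))) ((Bool.rec (motive := fun _ => Nat) (nl9091 i) (nl9092 i) (Nat.ble 223232 i))) (Nat.ble 222208 i))
noncomputable def nd3593 (i : Nat) : Nat := (Bool.rec (motive := fun _ => Nat) ((Bool.rec (motive := fun _ => Nat) (nl9093 i) (nl9094 i) (Nat.ble 225280 i))) ((Bool.rec (motive := fun _ => Nat) (nl9095 i) (nl9096 i) (Nat.ble 227328 i))) (Nat.ble 226304 i))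
noncomputable def nd3595 (i : Nat) : Nat := (Bool.rec (motive := fun _ => Nat) (nl9100 i) (nl9101 i) (Nat.ble 232448 i))
noncomputable def nd3594 (i : Nat) : Nat := (Bool.rec (motive := fun _ => Nat) ((Bool.rec (motive := fun _ => Nat) (nl9097 i) (nl9098 i) (Nat.ble 229376 i))) ((Bool.rec (motive := fun _ => Nat) (nl9099 i) (nd3595 i) (Nat.ble 231424 i))) (Nat.ble 230400 i))
noncomputable def nd3590 (i : Nat) : Nat := (Bool.rec (motive := fun _ => Nat) ((Bool.rec (motive := fun _ => Nat) (nd3591 i) (nd3592 i) (Nat.ble 220160 i))) ((Bool.rec (motive := fun _ => Nat) (nd3593 i) (nd3594 i) (Nat.ble 228352 i))) (Nat.ble 224256 i))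
noncomputable def nd3597 (i : Nat) : Nat := (Bool.rec (motive := fun _ => Nat) ((Bool.rec (motive := fun _ => Nat) (nl9102 i) (nl9103 i) (Nat.ble 234496 i))) ((Bool.rec (motive := fun _ => Nat) (nl9104 i) (nl9105 i) (Nat.ble 236544 i))) (Nat.ble 235520 i))
noncomputable def nd3598 (i : Nat) : Nat := (Bool.rec (motive := fun _ => Nat) ((Bool.rec (motive := fun _ => Nat) (nl9106 i) (nl9107 i) (Nat.ble 238592 i))) ((Bool.rec (motive := fun _ => Nat) (nl9108 i) (nl9109 i) (Nat.ble 240640 i))) (Nat.ble 239616 i))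
noncomputable def nd3599 (i : Nat) : Nat := (Bool.rec (motive := fun _ => Nat) ((Bool.rec (motive := fun _ => Nat) (nl9110 i) (nl9111 i) (Nat.ble 242688 i))) ((Bool.rec (motive := fun _ => Nat) (nl9112 i) (nl9113 i) (Nat.ble 244736 i))) (Nat.ble 243712 i))
noncomputable def nd3600 (i : Nat) : Nat := (Bool.rec (motive := fun _ => Nat) ((Bool.rec (motive := fun _ => Nat) (nl9114 i) (nl9115 i) (Nat.ble 246784 i))) ((Bool.rec (motive := fun _ => Nat) (nl9116 i) (nl9117 i) (Nat.ble 248832 i))) (Nat.ble 247808 i))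
noncomputable def nd3596 (i : Nat) : Nat := (Bool.rec (motive := fun _ => Nat) ((Bool.rec (motive := fun _ => Nat) (nd3597 i) (nd3598 i) (Nat.ble 237568 i))) ((Bool.rec (motive := fun _ => Nat) (nd3599 i) (nd3600 i) (Nat.ble 245760 i))) (Nat.ble 241664 i))
noncomputable def nd3602 (i : Nat) : Nat := (Bool.rec (motive := fun _ => Nat) ((Bool.rec (motive := fun _ => Nat) (nl9118 i) (nl9119 i) (Nat.ble 250880 i))) ((Bool.rec (motive := fun _ => Nat) (nl9120 i) (nl9121 i) (Nat.ble 252928 i))) (Nat.ble 251904 i))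
noncomputable def nd3603 (i : Nat) : Nat := (Bool.rec (motive := fun _ => Nat) ((Bool.rec (motive := fun _ => Nat) (nl9122 i) (nl9123 i) (Nat.ble 254976 i))) ((Bool.rec (motive := fun _ => Nat) (nl9124 i) (nl9125 i) (Nat.ble 257024 i))) (Nat.ble 256000 i))
noncomputable def nd3604 (i : Nat) : Nat := (Bool.rec (motive := fun _ => Nat) ((Bool.rec (motive := fun _ => Nat) (nl9126 i) (nl9127 i) (Nat.ble 259072 i))) ((Bool.rec (motive := fun _ => Nat) (nl9128 i) (nl9129 i) (Nat.ble 261120 i))) (Nat.ble 260096 i))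
noncomputable def nd3606 (i : Nat) : Nat := (Bool.rec (motive := fun _ => Nat) (nl9133 i) (nl9134 i) (Nat.ble 266240 i))
noncomputable def nd3605 (i : Nat) : Nat := (Bool.rec (motive := fun _ => Nat) ((Bool.rec (motive := fun _ => Nat) (nl9130 i) (nl9131 i) (Nat.ble 263168 i))) ((Bool.rec (motive := fun _ => Nat) (nl9132 i) (nd3606 i) (Nat.ble 265216 i))) (Nat.ble 264192 i))
noncomputable def nd3601 (i : Nat) : Nat := (Bool.rec (motive := fun _ => Nat) ((Bool.rec (motive := fun _ => Nat) (nd3602 i) (nd3603 i) (Nat.ble 253952 i))) ((Bool.rec (motive := fun _ => Nat) (nd3604 i) (nd3605 i) (Nat.ble 262144 i))) (Nat.ble 258048 i))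
noncomputable def nd3584 (i : Nat) : Nat := (Bool.rec (motive := fun _ => Nat) ((Bool.rec (motive := fun _ => Nat) (nd3585 i) (nd3590 i) (Nat.ble 216064 i))) ((Bool.rec (motive := fun _ => Nat) (nd3596 i) (nd3601 i) (Nat.ble 249856 i))) (Nat.ble 233472 i))
noncomputable def nd3517 (i : Nat) : Nat := (Bool.rec (motive := fun _ => Nat) ((Bool.rec (motive := fun _ => Nat) (nd3518 i) (nd3540 i) (Nat.ble 66560 i))) ((Bool.rec (motive := fun _ => Nat) (nd3562 i) (nd3584 i) (Nat.ble 199680 i))) (Nat.ble 133120 i))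
noncomputable def nd3610 (i : Nat) : Nat := (Bool.rec (motive := fun _ => Nat) ((Bool.rec (motive := fun _ => Nat) (nl9135 i) (nl9136 i) (Nat.ble 1024 i))) ((Bool.rec (motive := fun _ => Nat) (nl9137 i) (nl9138 i) (Nat.ble 3072 i))) (Nat.ble 2048 i))
noncomputable def nd3611 (i : Nat) : Nat := (Bool.rec (motive := fun _ => Nat) ((Bool.rec (motive := fun _ => Nat) (nl9139 i) (nl9140 i) (Nat.ble 5120 i))) ((Bool.rec (motive := fun _ => Nat) (nl9141 i) (nl9142 i) (Nat.ble 7168 i))) (Nat.ble 6144 i))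
noncomputable def nd3612 (i : Nat) : Nat := (Bool.rec (motive := fun _ => Nat) ((Bool.rec (motive := fun _ => Nat) (nl9143 i) (nl9144 i) (Nat.ble 9216 i))) ((Bool.rec (motive := fun _ => Nat) (nl9145 i) (nl9146 i) (Nat.ble 11264 i))) (Nat.ble 10240 i))
noncomputable def nd3613 (i : Nat) : Nat := (Bool.rec (motive := fun _ => Nat) ((Bool.rec (motive := fun _ => Nat) (nl9147 i) (nl9148 i) (Nat.ble 13312 i))) ((Bool.rec (motive := fun _ => Nat) (nl9149 i) (nl9150 i) (Nat.ble 15360 i))) (Nat.ble 14336 i))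
noncomputable def nd3609 (i : Nat) : Nat := (Bool.rec (motive := fun _ => Nat) ((Bool.rec (motive := fun _ => Nat) (nd3610 i) (nd3611 i) (Nat.ble 4096 i))) ((Bool.rec (motive := fun _ => Nat) (nd3612 i) (nd3613 i) (Nat.ble 12288 i))) (Nat.ble 8192 i))
noncomputable def nd3615 (i : Nat) : Nat := (Bool.rec (motive := fun _ => Nat) ((Bool.rec (motive := fun _ => Nat) (nl9151 i) (nl9152 i) (Nat.ble 17408 i))) ((Bool.rec (motive := fun _ => Nat) (nl9153 i) (nl9154 i) (Nat.ble 19456 i))) (Nat.ble 18432 i))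
noncomputable def nd3616 (i : Nat) : Nat := (Bool.rec (motive := fun _ => Nat) ((Bool.rec (motive := fun _ => Nat) (nl9155 i) (nl9156 i) (Nat.ble 21504 i))) ((Bool.rec (motive := fun _ => Nat) (nl9157 i) (nl9158 i) (Nat.ble 23552 i))) (Nat.ble 22528 i))
noncomputable def nd3617 (i : Nat) : Nat := (Bool.rec (motive := fun _ => Nat) ((Bool.rec (motive := fun _ => Nat) (nl9159 i) (nl9160 i) (Nat.ble 25600 i))) ((Bool.rec (motive := fun _ => Nat) (nl9161 i) (nl9162 i) (Nat.ble 27648 i))) (Nat.ble 26624 i))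
noncomputable def nd3618 (i : Nat) : Nat := (Bool.rec (motive := fun _ => Nat) ((Bool.rec (motive := fun _ => Nat) (nl9163 i) (nl9164 i) (Nat.ble 29696 i))) ((Bool.rec (motive := fun _ => Nat) (nl9165 i) (nl9166 i) (Nat.ble 31744 i))) (Nat.ble 30720 i))
noncomputable def nd3614 (i : Nat) : Nat := (Bool.rec (motive := fun _ => Nat) ((Bool.rec (motive := fun _ => Nat) (nd3615 i) (nd3616 i) (Nat.ble 20480 i))) ((Bool.rec (motive := fun _ => Nat) (nd3617 i) (nd3618 i) (Nat.ble 28672 i))) (Nat.ble 24576 i))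
noncomputable def nd3620 (i : Nat) : Nat := (Bool.rec (motive := fun _ => Nat) ((Bool.rec (motive := fun _ => Nat) (nl9167 i) (nl9168 i) (Nat.ble 33792 i))) ((Bool.rec (motive := fun _ => Nat) (nl9169 i) (nl9170 i) (Nat.ble 35840 i))) (Nat.ble 34816 i))
noncomputable def nd3621 (i : Nat) : Nat := (Bool.rec (motive := fun _ => Nat) ((Bool.rec (motive := fun _ => Nat) (nl9171 i) (nl9172 i) (Nat.ble 37888 i))) ((Bool.rec (motive := fun _ => Nat) (nl9173 i) (nl9174 i) (Nat.ble 39936 i))) (Nat.ble 38912 i))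
noncomputable def nd3622 (i : Nat) : Nat := (Bool.rec (motive := fun _ => Nat) ((Bool.rec (motive := fun _ => Nat) (nl9175 i) (nl9176 i) (Nat.ble 41984 i))) ((Bool.rec (motive := fun _ => Nat) (nl9177 i) (nl9178 i) (Nat.ble 44032 i))) (Nat.ble 43008 i))
noncomputable def nd3623 (i : Nat) : Nat := (Bool.rec (motive := fun _ => Nat) ((Bool.rec (motive := fun _ => Nat) (nl9179 i) (nl9180 i) (Nat.ble 46080 i))) ((Bool.rec (motive := fun _ => Nat) (nl9181 i) (nl9182 i) (Nat.ble 48128 i))) (Nat.ble 47104 i))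
noncomputable def nd3619 (i : Nat) : Nat := (Bool.rec (motive := fun _ => Nat) ((Bool.rec (motive := fun _ => Nat) (nd3620 i) (nd3621 i) (Nat.ble 36864 i))) ((Bool.rec (motive := fun _ => Nat) (nd3622 i) (nd3623 i) (Nat.ble 45056 i))) (Nat.ble 40960 i))
noncomputable def nd3625 (i : Nat) : Nat := (Bool.rec (motive := fun _ => Nat) ((Bool.rec (motive := fun _ => Nat) (nl9183 i) (nl9184 i) (Nat.ble 50176 i))) ((Bool.rec (motive := fun _ => Nat) (nl9185 i) (nl9186 i) (Nat.ble 52224 i))) (Nat.ble 51200 i))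
noncomputable def nd3626 (i : Nat) : Nat := (Bool.rec (motive := fun _ => Nat) ((Bool.rec (motive := fun _ => Nat) (nl9187 i) (nl9188 i) (Nat.ble 54272 i))) ((Bool.rec (motive := fun _ => Nat) (nl9189 i) (nl9190 i) (Nat.ble 56320 i))) (Nat.ble 55296 i))
noncomputable def nd3627 (i : Nat) : Nat := (Bool.rec (motive := fun _ => Nat) ((Bool.rec (motive := fun _ => Nat) (nl9191 i) (nl9192 i) (Nat.ble 58368 i))) ((Bool.rec (motive := fun _ => Nat) (nl9193 i) (nl9194 i) (Nat.ble 60416 i))) (Nat.ble 59392 i))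
noncomputable def nd3629 (i : Nat) : Nat := (Bool.rec (motive := fun _ => Nat) (nl9198 i) (nl9199 i) (Nat.ble 65536 i))
noncomputable def nd3628 (i : Nat) : Nat := (Bool.rec (motive := fun _ => Nat) ((Bool.rec (motive := fun _ => Nat) (nl9195 i) (nl9196 i) (Nat.ble 62464 i))) ((Bool.rec (motive := fun _ => Nat) (nl9197 i) (nd3629 i) (Nat.ble 64512 i))) (Nat.ble 63488 i))
noncomputable def nd3624 (i : Nat) : Nat := (Bool.rec (motive := fun _ => Nat) ((Bool.rec (motive := fun _ => Nat) (nd3625 i) (nd3626 i) (Nat.ble 53248 i))) ((Bool.rec (motive := fun _ => Nat) (nd3627 i) (nd3628 i) (Nat.ble 61440 i))) (Nat.ble 57344 i))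
noncomputable def nd3608 (i : Nat) : Nat := (Bool.rec (motive := fun _ => Nat) ((Bool.rec (motive := fun _ => Nat) (nd3609 i) (nd3614 i) (Nat.ble 16384 i))) ((Bool.rec (motive := fun _ => Nat) (nd3619 i) (nd3624 i) (Nat.ble 49152 i))) (Nat.ble 32768 i))
noncomputable def nd3632 (i : Nat) : Nat := (Bool.rec (motive := fun _ => Nat) ((Bool.rec (motive := fun _ => Nat) (nl9200 i) (nl9201 i) (Nat.ble 67584 i))) ((Bool.rec (motive := fun _ => Nat) (nl9202 i) (nl9203 i) (Nat.ble 69632 i))) (Nat.ble 68608 i))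
noncomputable def nd3633 (i : Nat) : Nat := (Bool.rec (motive := fun _ => Nat) ((Bool.rec (motive := fun _ => Nat) (nl9204 i) (nl9205 i) (Nat.ble 71680 i))) ((Bool.rec (motive := fun _ => Nat) (nl9206 i) (nl9207 i) (Nat.ble 73728 i))) (Nat.ble 72704 i))
noncomputable def nd3634 (i : Nat) : Nat := (Bool.rec (motive := fun _ => Nat) ((Bool.rec (motive := fun _ => Nat) (nl9208 i) (nl9209 i) (Nat.ble 75776 i))) ((Bool.rec (motive := fun _ => Nat) (nl9210 i) (nl9211 i) (Nat.ble 77824 i))) (Nat.ble 76800 i))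
noncomputable def nd3635 (i : Nat) : Nat := (Bool.rec (motive := fun _ => Nat) ((Bool.rec (motive := fun _ => Nat) (nl9212 i) (nl9213 i) (Nat.ble 79872 i))) ((Bool.rec (motive := fun _ => Nat) (nl9214 i) (nl9215 i) (Nat.ble 81920 i))) (Nat.ble 80896 i))
noncomputable def nd3631 (i : Nat) : Nat := (Bool.rec (motive := fun _ => Nat) ((Bool.rec (motive := fun _ => Nat) (nd3632 i) (nd3633 i) (Nat.ble 70656 i))) ((Bool.rec (motive := fun _ => Nat) (nd3634 i) (nd3635 i) (Nat.ble 78848 i))) (Nat.ble 74752 i))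
noncomputable def nd3637 (i : Nat) : Nat := (Bool.rec (motive := fun _ => Nat) ((Bool.rec (motive := fun _ => Nat) (nl9216 i) (nl9217 i) (Nat.ble 83968 i))) ((Bool.rec (motive := fun _ => Nat) (nl9218 i) (nl9219 i) (Nat.ble 86016 i))) (Nat.ble 84992 i))
noncomputable def nd3638 (i : Nat) : Nat := (Bool.rec (motive := fun _ => Nat) ((Bool.rec (motive := fun _ => Nat) (nl9220 i) (nl9221 i) (Nat.ble 88064 i))) ((Bool.rec (motive := fun _ => Nat) (nl9222 i) (nl9223 i) (Nat.ble 90112 i))) (Nat.ble 89088 i))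
noncomputable def nd3639 (i : Nat) : Nat := (Bool.rec (motive := fun _ => Nat) ((Bool.rec (motive := fun _ => Nat) (nl9224 i) (nl9225 i) (Nat.ble 92160 i))) ((Bool.rec (motive := fun _ => Nat) (nl9226 i) (nl9227 i) (Nat.ble 94208 i))) (Nat.ble 93184 i))
noncomputable def nd3640 (i : Nat) : Nat := (Bool.rec (motive := fun _ => Nat) ((Bool.rec (motive := fun _ => Nat) (nl9228 i) (nl9229 i) (Nat.ble 96256 i))) ((Bool.rec (motive := fun _ => Nat) (nl9230 i) (nl9231 i) (Nat.ble 98304 i))) (Nat.ble 97280 i))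
noncomputable def nd3636 (i : Nat) : Nat := (Bool.rec (motive := fun _ => Nat) ((Bool.rec (motive := fun _ => Nat) (nd3637 i) (nd3638 i) (Nat.ble 87040 i))) ((Bool.rec (motive := fun _ => Nat) (nd3639 i) (nd3640 i) (Nat.ble 95232 i))) (Nat.ble 91136 i))
noncomputable def nd3642 (i : Nat) : Nat := (Bool.rec (motive := fun _ => Nat) ((Bool.rec (motive := fun _ => Nat) (nl9232 i) (nl9233 i) (Nat.ble 100352 i))) ((Bool.rec (motive := fun _ => Nat) (nl9234 i) (nl9235 i) (Nat.ble 102400 i))) (Nat.ble 101376 i))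
noncomputable def nd3643 (i : Nat) : Nat := (Bool.rec (motive := fun _ => Nat) ((Bool.rec (motive := fun _ => Nat) (nl9236 i) (nl9237 i) (Nat.ble 104448 i))) ((Bool.rec (motive := fun _ => Nat) (nl9238 i) (nl9239 i) (Nat.ble 106496 i))) (Nat.ble 105472 i))
noncomputable def nd3644 (i : Nat) : Nat := (Bool.rec (motive := fun _ => Nat) ((Bool.rec (motive := fun _ => Nat) (nl9240 i) (nl9241 i) (Nat.ble 108544 i))) ((Bool.rec (motive := fun _ => Nat) (nl9242 i) (nl9243 i) (Nat.ble 110592 i))) (Nat.ble 109568 i))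
noncomputable def nd3645 (i : Nat) : Nat := (Bool.rec (motive := fun _ => Nat) ((Bool.rec (motive := fun _ => Nat) (nl9244 i) (nl9245 i) (Nat.ble 112640 i))) ((Bool.rec (motive := fun _ => Nat) (nl9246 i) (nl9247 i) (Nat.ble 114688 i))) (Nat.ble 113664 i))
noncomputable def nd3641 (i : Nat) : Nat := (Bool.rec (motive := fun _ => Nat) ((Bool.rec (motive := fun _ => Nat) (nd3642 i) (nd3643 i) (Nat.ble 103424 i))) ((Bool.rec (motive := fun _ => Nat) (nd3644 i) (nd3645 i) (Nat.ble 111616 i))) (Nat.ble 107520 i))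
noncomputable def nd3647 (i : Nat) : Nat := (Bool.rec (motive := fun _ => Nat) ((Bool.rec (motive := fun _ => Nat) (nl9248 i) (nl9249 i) (Nat.ble 116736 i))) ((Bool.rec (motive := fun _ => Nat) (nl9250 i) (nl9251 i) (Nat.ble 118784 i))) (Nat.ble 117760 i))
noncomputable def nd3648 (i : Nat) : Nat := (Bool.rec (motive := fun _ => Nat) ((Bool.rec (motive := fun _ => Nat) (nl9252 i) (nl9253 i) (Nat.ble 120832 i))) ((Bool.rec (motive := fun _ => Nat) (nl9254 i) (nl9255 i) (Nat.ble 122880 i))) (Nat.ble 121856 i))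
noncomputable def nd3649 (i : Nat) : Nat := (Bool.rec (motive := fun _ => Nat) ((Bool.rec (motive := fun _ => Nat) (nl9256 i) (nl9257 i) (Nat.ble 124928 i))) ((Bool.rec (motive := fun _ => Nat) (nl9258 i) (nl9259 i) (Nat.ble 126976 i))) (Nat.ble 125952 i))
noncomputable def nd3651 (i : Nat) : Nat := (Bool.rec (motive := fun _ => Nat) (nl9263 i) (nl9264 i) (Nat.ble 132096 i))
noncomputable def nd3650 (i : Nat) : Nat := (Bool.rec (motive := fun _ => Nat) ((Bool.rec (motive := fun _ => Nat) (nl9260 i) (nl9261 i) (Nat.ble 129024 i))) ((Bool.rec (motive := fun _ => Nat) (nl9262 i) (nd3651 i) (Nat.ble 131072 i))) (Nat.ble 130048 i))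
noncomputable def nd3646 (i : Nat) : Nat := (Bool.rec (motive := fun _ => Nat) ((Bool.rec (motive := fun _ => Nat) (nd3647 i) (nd3648 i) (Nat.ble 119808 i))) ((Bool.rec (motive := fun _ => Nat) (nd3649 i) (nd3650 i) (Nat.ble 128000 i))) (Nat.ble 123904 i))
noncomputable def nd3630 (i : Nat) : Nat := (Bool.rec (motive := fun _ => Nat) ((Bool.rec (motive := fun _ => Nat) (nd3631 i) (nd3636 i) (Nat.ble 82944 i))) ((Bool.rec (motive := fun _ => Nat) (nd3641 i) (nd3646 i) (Nat.ble 115712 i))) (Nat.ble 99328 i))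
noncomputable def nd3654 (i : Nat) : Nat := (Bool.rec (motive := fun _ => Nat) ((Bool.rec (motive := fun _ => Nat) (nl9265 i) (nl9266 i) (Nat.ble 134144 i))) ((Bool.rec (motive := fun _ => Nat) (nl9267 i) (nl9268 i) (Nat.ble 136192 i))) (Nat.ble 135168 i))
noncomputable def nd3655 (i : Nat) : Nat := (Bool.rec (motive := fun _ => Nat) ((Bool.rec (motive := fun _ => Nat) (nl9269 i) (nl9270 i) (Nat.ble 138240 i))) ((Bool.rec (motive := fun _ => Nat) (nl9271 i) (nl9272 i) (Nat.ble 140288 i))) (Nat.ble 139264 i))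
noncomputable def nd3656 (i : Nat) : Nat := (Bool.rec (motive := fun _ => Nat) ((Bool.rec (motive := fun _ => Nat) (nl9273 i) (nl9274 i) (Nat.ble 142336 i))) ((Bool.rec (motive := fun _ => Nat) (nl9275 i) (nl9276 i) (Nat.ble 144384 i))) (Nat.ble 143360 i))
noncomputable def nd3657 (i : Nat) : Nat := (Bool.rec (motive := fun _ => Nat) ((Bool.rec (motive := fun _ => Nat) (nl9277 i) (nl9278 i) (Nat.ble 146432 i))) ((Bool.rec (motive := fun _ => Nat) (nl9279 i) (nl9280 i) (Nat.ble 148480 i))) (Nat.ble 147456 i))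
noncomputable def nd3653 (i : Nat) : Nat := (Bool.rec (motive := fun _ => Nat) ((Bool.rec (motive := fun _ => Nat) (nd3654 i) (nd3655 i) (Nat.ble 137216 i))) ((Bool.rec (motive := fun _ => Nat) (nd3656 i) (nd3657 i) (Nat.ble 145408 i))) (Nat.ble 141312 i))
noncomputable def nd3659 (i : Nat) : Nat := (Bool.rec (motive := fun _ => Nat) ((Bool.rec (motive := fun _ => Nat) (nl9281 i) (nl9282 i) (Nat.ble 150528 i))) ((Bool.rec (motive := fun _ => Nat) (nl9283 i) (nl9284 i) (Nat.ble 152576 i))) (Nat.ble 151552 i))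
noncomputable def nd3660 (i : Nat) : Nat := (Bool.rec (motive := fun _ => Nat) ((Bool.rec (motive := fun _ => Nat) (nl9285 i) (nl9286 i) (Nat.ble 154624 i))) ((Bool.rec (motive := fun _ => Nat) (nl9287 i) (nl9288 i) (Nat.ble 156672 i))) (Nat.ble 155648 i))
noncomputable def nd3661 (i : Nat) : Nat := (Bool.rec (motive := fun _ => Nat) ((Bool.rec (motive := fun _ => Nat) (nl9289 i) (nl9290 i) (Nat.ble 158720 i))) ((Bool.rec (motive := fun _ => Nat) (nl9291 i) (nl9292 i) (Nat.ble 160768 i))) (Nat.ble 159744 i))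
noncomputable def nd3662 (i : Nat) : Nat := (Bool.rec (motive := fun _ => Nat) ((Bool.rec (motive := fun _ => Nat) (nl9293 i) (nl9294 i) (Nat.ble 162816 i))) ((Bool.rec (motive := fun _ => Nat) (nl9295 i) (nl9296 i) (Nat.ble 164864 i))) (Nat.ble 163840 i))
noncomputable def nd3658 (i : Nat) : Nat := (Bool.rec (motive := fun _ => Nat) ((Bool.rec (motive := fun _ => Nat) (nd3659 i) (nd3660 i) (Nat.ble 153600 i))) ((Bool.rec (motive := fun _ => Nat) (nd3661 i) (nd3662 i) (Nat.ble 161792 i))) (Nat.ble 157696 i))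
noncomputable def nd3664 (i : Nat) : Nat := (Bool.rec (motive := fun _ => Nat) ((Bool.rec (motive := fun _ => Nat) (nl9297 i) (nl9298 i) (Nat.ble 166912 i))) ((Bool.rec (motive := fun _ => Nat) (nl9299 i) (nl9300 i) (Nat.ble 168960 i))) (Nat.ble 167936 i))
noncomputable def nd3665 (i : Nat) : Nat := (Bool.rec (motive := fun _ => Nat) ((Bool.rec (motive := fun _ => Nat) (nl9301 i) (nl9302 i) (Nat.ble 171008 i))) ((Bool.rec (motive := fun _ => Nat) (nl9303 i) (nl9304 i) (Nat.ble 173056 i))) (Nat.ble 172032 i))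
noncomputable def nd3666 (i : Nat) : Nat := (Bool.rec (motive := fun _ => Nat) ((Bool.rec (motive := fun _ => Nat) (nl9305 i) (nl9306 i) (Nat.ble 175104 i))) ((Bool.rec (motive := fun _ => Nat) (nl9307 i) (nl9308 i) (Nat.ble 177152 i))) (Nat.ble 176128 i))
noncomputable def nd3667 (i : Nat) : Nat := (Bool.rec (motive := fun _ => Nat) ((Bool.rec (motive := fun _ => Nat) (nl9309 i) (nl9310 i) (Nat.ble 179200 i))) ((Bool.rec (motive := fun _ => Nat) (nl9311 i) (nl9312 i) (Nat.ble 181248 i))) (Nat.ble 180224 i))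
noncomputable def nd3663 (i : Nat) : Nat := (Bool.rec (motive := fun _ => Nat) ((Bool.rec (motive := fun _ => Nat) (nd3664 i) (nd3665 i) (Nat.ble 169984 i))) ((Bool.rec (motive := fun _ => Nat) (nd3666 i) (nd3667 i) (Nat.ble 178176 i))) (Nat.ble 174080 i))
noncomputable def nd3669 (i : Nat) : Nat := (Bool.rec (motive := fun _ => Nat) ((Bool.rec (motive := fun _ => Nat) (nl9313 i) (nl9314 i) (Nat.ble 183296 i))) ((Bool.rec (motive := fun _ => Nat) (nl9315 i) (nl9316 i) (Nat.ble 185344 i))) (Nat.ble 184320 i))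
noncomputable def nd3670 (i : Nat) : Nat := (Bool.rec (motive := fun _ => Nat) ((Bool.rec (motive := fun _ => Nat) (nl9317 i) (nl9318 i) (Nat.ble 187392 i))) ((Bool.rec (motive := fun _ => Nat) (nl9319 i) (nl9320 i) (Nat.ble 189440 i))) (Nat.ble 188416 i))
noncomputable def nd3671 (i : Nat) : Nat := (Bool.rec (motive := fun _ => Nat) ((Bool.rec (motive := fun _ => Nat) (nl9321 i) (nl9322 i) (Nat.ble 191488 i))) ((Bool.rec (motive := fun _ => Nat) (nl9323 i) (nl9324 i) (Nat.ble 193536 i))) (Nat.ble 192512 i))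
noncomputable def nd3673 (i : Nat) : Nat := (Bool.rec (motive := fun _ => Nat) (nl9328 i) (nl9329 i) (Nat.ble 198656 i))
noncomputable def nd3672 (i : Nat) : Nat := (Bool.rec (motive := fun _ => Nat) ((Bool.rec (motive := fun _ => Nat) (nl9325 i) (nl9326 i) (Nat.ble 195584 i))) ((Bool.rec (motive := fun _ => Nat) (nl9327 i) (nd3673 i) (Nat.ble 197632 i))) (Nat.ble 196608 i))
noncomputable def nd3668 (i : Nat) : Nat := (Bool.rec (motive := fun _ => Nat) ((Bool.rec (motive := fun _ => Nat) (nd3669 i) (nd3670 i) (Nat.ble 186368 i))) ((Bool.rec (motive := fun _ => Nat) (nd3671 i) (nd3672 i) (Nat.ble 194560 i))) (Nat.ble 190464 i))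
noncomputable def nd3652 (i : Nat) : Nat := (Bool.rec (motive := fun _ => Nat) ((Bool.rec (motive := fun _ => Nat) (nd3653 i) (nd3658 i) (Nat.ble 149504 i))) ((Bool.rec (motive := fun _ => Nat) (nd3663 i) (nd3668 i) (Nat.ble 182272 i))) (Nat.ble 165888 i))
noncomputable def nd3676 (i : Nat) : Nat := (Bool.rec (motive := fun _ => Nat) ((Bool.rec (motive := fun _ => Nat) (nl9330 i) (nl9331 i) (Nat.ble 200704 i))) ((Bool.rec (motive := fun _ => Nat) (nl9332 i) (nl9333 i) (Nat.ble 202752 i))) (Nat.ble 201728 i))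
noncomputable def nd3677 (i : Nat) : Nat := (Bool.rec (motive := fun _ => Nat) ((Bool.rec (motive := fun _ => Nat) (nl9334 i) (nl9335 i) (Nat.ble 204800 i))) ((Bool.rec (motive := fun _ => Nat) (nl9336 i) (nl9337 i) (Nat.ble 206848 i))) (Nat.ble 205824 i))
noncomputable def nd3678 (i : Nat) : Nat := (Bool.rec (motive := fun _ => Nat) ((Bool.rec (motive := fun _ => Nat) (nl9338 i) (nl9339 i) (Nat.ble 208896 i))) ((Bool.rec (motive := fun _ => Nat) (nl9340 i) (nl9341 i) (Nat.ble 210944 i))) (Nat.ble 209920 i))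
noncomputable def nd3679 (i : Nat) : Nat := (Bool.rec (motive := fun _ => Nat) ((Bool.rec (motive := fun _ => Nat) (nl9342 i) (nl9343 i) (Nat.ble 212992 i))) ((Bool.rec (motive := fun _ => Nat) (nl9344 i) (nl9345 i) (Nat.ble 215040 i))) (Nat.ble 214016 i))
noncomputable def nd3675 (i : Nat) : Nat := (Bool.rec (motive := fun _ => Nat) ((Bool.rec (motive := fun _ => Nat) (nd3676 i) (nd3677 i) (Nat.ble 203776 i))) ((Bool.rec (motive := fun _ => Nat) (nd3678 i) (nd3679 i) (Nat.ble 211968 i))) (Nat.ble 207872 i))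
noncomputable def nd3681 (i : Nat) : Nat := (Bool.rec (motive := fun _ => Nat) ((Bool.rec (motive := fun _ => Nat) (nl9346 i) (nl9347 i) (Nat.ble 217088 i))) ((Bool.rec (motive := fun _ => Nat) (nl9348 i) (nl9349 i) (Nat.ble 219136 i))) (Nat.ble 218112 i))
noncomputable def nd3682 (i : Nat) : Nat := (Bool.rec (motive := fun _ => Nat) ((Bool.rec (motive := fun _ => Nat) (nl9350 i) (nl9351 i) (Nat.ble 221184 i))) ((Bool.rec (motive := fun _ => Nat) (nl9352 i) (nl9353 i) (Nat.ble 223232 i))) (Nat.ble 222208 i))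
noncomputable def nd3683 (i : Nat) : Nat := (Bool.rec (motive := fun _ => Nat) ((Bool.rec (motive := fun _ => Nat) (nl9354 i) (nl9355 i) (Nat.ble 225280 i))) ((Bool.rec (motive := fun _ => Nat) (nl9356 i) (nl9357 i) (Nat.ble 227328 i))) (Nat.ble 226304 i))
noncomputable def nd3685 (i : Nat) : Nat := (Bool.rec (motive := fun _ => Nat) (nl9361 i) (nl9362 i) (Nat.ble 232448 i))
noncomputable def nd3684 (i : Nat) : Nat := (Bool.rec (motive := fun _ => Nat) ((Bool.rec (motive := fun _ => Nat) (nl9358 i) (nl9359 i) (Nat.ble 229376 i))) ((Bool.rec (motive := fun _ => Nat) (nl9360 i) (nd3685 i) (Nat.ble 231424 i))) (Nat.ble 230400 i))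
noncomputable def nd3680 (i : Nat) : Nat := (Bool.rec (motive := fun _ => Nat) ((Bool.rec (motive := fun _ => Nat) (nd3681 i) (nd3682 i) (Nat.ble 220160 i))) ((Bool.rec (motive := fun _ => Nat) (nd3683 i) (nd3684 i) (Nat.ble 228352 i))) (Nat.ble 224256 i))
noncomputable def nd3687 (i : Nat) : Nat := (Bool.rec (motive := fun _ => Nat) ((Bool.rec (motive := fun _ => Nat) (nl9363 i) (nl9364 i) (Nat.ble 234496 i))) ((Bool.rec (motive := fun _ => Nat) (nl9365 i) (nl9366 i) (Nat.ble 236544 i))) (Nat.ble 235520 i))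
noncomputable def nd3688 (i : Nat) : Nat := (Bool.rec (motive := fun _ => Nat) ((Bool.rec (motive := fun _ => Nat) (nl9367 i) (nl9368 i) (Nat.ble 238592 i))) ((Bool.rec (motive := fun _ => Nat) (nl9369 i) (nl9370 i) (Nat.ble 240640 i))) (Nat.ble 239616 i))
noncomputable def nd3689 (i : Nat) : Nat := (Bool.rec (motive := fun _ => Nat) ((Bool.rec (motive := fun _ => Nat) (nl9371 i) (nl9372 i) (Nat.ble 242688 i))) ((Bool.rec (motive := fun _ => Nat) (nl9373 i) (nl9374 i) (Nat.ble 244736 i))) (Nat.ble 243712 i))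
noncomputable def nd3690 (i : Nat) : Nat := (Bool.rec (motive := fun _ => Nat) ((Bool.rec (motive := fun _ => Nat) (nl9375 i) (nl9376 i) (Nat.ble 246784 i))) ((Bool.rec (motive := fun _ => Nat) (nl9377 i) (nl9378 i) (Nat.ble 248832 i))) (Nat.ble 247808 i))
noncomputable def nd3686 (i : Nat) : Nat := (Bool.rec (motive := fun _ => Nat) ((Bool.rec (motive := fun _ => Nat) (nd3687 i) (nd3688 i) (Nat.ble 237568 i))) ((Bool.rec (motive := fun _ => Nat) (nd3689 i) (nd3690 i) (Nat.ble 245760 i))) (Nat.ble 241664 i))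
noncomputable def nd3692 (i : Nat) : Nat := (Bool.rec (motive := fun _ => Nat) ((Bool.rec (motive := fun _ => Nat) (nl9379 i) (nl9380 i) (Nat.ble 250880 i))) ((Bool.rec (motive := fun _ => Nat) (nl9381 i) (nl9382 i) (Nat.ble 252928 i))) (Nat.ble 251904 i))
noncomputable def nd3693 (i : Nat) : Nat := (Bool.rec (motive := fun _ => Nat) ((Bool.rec (motive := fun _ => Nat) (nl9383 i) (nl9384 i) (Nat.ble 254976 i))) ((Bool.rec (motive := fun _ => Nat) (nl9385 i) (nl9386 i) (Nat.ble 257024 i))) (Nat.ble 256000 i))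
noncomputable def nd3694 (i : Nat) : Nat := (Bool.rec (motive := fun _ => Nat) ((Bool.rec (motive := fun _ => Nat) (nl9387 i) (nl9388 i) (Nat.ble 259072 i))) ((Bool.rec (motive := fun _ => Nat) (nl9389 i) (nl9390 i) (Nat.ble 261120 i))) (Nat.ble 260096 i))
noncomputable def nd3696 (i : Nat) : Nat := (Bool.rec (motive := fun _ => Nat) (nl9394 i) (nl9395 i) (Nat.ble 266240 i))
noncomputable def nd3695 (i : Nat) : Nat := (Bool.rec (motive := fun _ => Nat) ((Bool.rec (motive := fun _ => Nat) (nl9391 i) (nl9392 i) (Nat.ble 263168 i))) ((Bool.rec (motive := fun _ => Nat) (nl9393 i) (nd3696 i) (Nat.ble 265216 i))) (Nat.ble 264192 i))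
noncomputable def nd3691 (i : Nat) : Nat := (Bool.rec (motive := fun _ => Nat) ((Bool.rec (motive := fun _ => Nat) (nd3692 i) (nd3693 i) (Nat.ble 253952 i))) ((Bool.rec (motive := fun _ => Nat) (nd3694 i) (nd3695 i) (Nat.ble 262144 i))) (Nat.ble 258048 i))
noncomputable def nd3674 (i : Nat) : Nat := (Bool.rec (motive := fun _ => Nat) ((Bool.rec (motive := fun _ => Nat) (nd3675 i) (nd3680 i) (Nat.ble 216064 i))) ((Bool.rec (motive := fun _ => Nat) (nd3686 i) (nd3691 i) (Nat.ble 249856 i))) (Nat.ble 233472 i))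
noncomputable def nd3607 (i : Nat) : Nat := (Bool.rec (motive := fun _ => Nat) ((Bool.rec (motive := fun _ => Nat) (nd3608 i) (nd3630 i) (Nat.ble 66560 i))) ((Bool.rec (motive := fun _ => Nat) (nd3652 i) (nd3674 i) (Nat.ble 199680 i))) (Nat.ble 133120 i))
noncomputable def nd3700 (i : Nat) : Nat := (Bool.rec (motive := fun _ => Nat) ((Bool.rec (motive := fun _ => Nat) (nl9396 i) (nl9397 i) (Nat.ble 1024 i))) ((Bool.rec (motive := fun _ => Nat) (nl9398 i) (nl9399 i) (Nat.ble 3072 i))) (Nat.ble 2048 i))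
noncomputable def nd3701 (i : Nat) : Nat := (Bool.rec (motive := fun _ => Nat) ((Bool.rec (motive := fun _ => Nat) (nl9400 i) (nl9401 i) (Nat.ble 5120 i))) ((Bool.rec (motive := fun _ => Nat) (nl9402 i) (nl9403 i) (Nat.ble 7168 i))) (Nat.ble 6144 i))
noncomputable def nd3702 (i : Nat) : Nat := (Bool.rec (motive := fun _ => Nat) ((Bool.rec (motive := fun _ => Nat) (nl9404 i) (nl9405 i) (Nat.ble 9216 i))) ((Bool.rec (motive := fun _ => Nat) (nl9406 i) (nl9407 i) (Nat.ble 11264 i))) (Nat.ble 10240 i))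
noncomputable def nd3703 (i : Nat) : Nat := (Bool.rec (motive := fun _ => Nat) ((Bool.rec (motive := fun _ => Nat) (nl9408 i) (nl9409 i) (Nat.ble 13312 i))) ((Bool.rec (motive := fun _ => Nat) (nl9410 i) (nl9411 i) (Nat.ble 15360 i))) (Nat.ble 14336 i))
noncomputable def nd3699 (i : Nat) : Nat := (Bool.rec (motive := fun _ => Nat) ((Bool.rec (motive := fun _ => Nat) (nd3700 i) (nd3701 i) (Nat.ble 4096 i))) ((Bool.rec (motive := fun _ => Nat) (nd3702 i) (nd3703 i) (Nat.ble 12288 i))) (Nat.ble 8192 i))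
noncomputable def nd3705 (i : Nat) : Nat := (Bool.rec (motive := fun _ => Nat) ((Bool.rec (motive := fun _ => Nat) (nl9412 i) (nl9413 i) (Nat.ble 17408 i))) ((Bool.rec (motive := fun _ => Nat) (nl9414 i) (nl9415 i) (Nat.ble 19456 i))) (Nat.ble 18432 i))
noncomputable def nd3706 (i : Nat) : Nat := (Bool.rec (motive := fun _ => Nat) ((Bool.rec (motive := fun _ => Nat) (nl9416 i) (nl9417 i) (Nat.ble 21504 i))) ((Bool.rec (motive := fun _ => Nat) (nl9418 i) (nl9419 i) (Nat.ble 23552 i))) (Nat.ble 22528 i))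
noncomputable def nd3707 (i : Nat) : Nat := (Bool.rec (motive := fun _ => Nat) ((Bool.rec (motive := fun _ => Nat) (nl9420 i) (nl9421 i) (Nat.ble 25600 i))) ((Bool.rec (motive := fun _ => Nat) (nl9422 i) (nl9423 i) (Nat.ble 27648 i))) (Nat.ble 26624 i))
noncomputable def nd3708 (i : Nat) : Nat := (Bool.rec (motive := fun _ => Nat) ((Bool.rec (motive := fun _ => Nat) (nl9424 i) (nl9425 i) (Nat.ble 29696 i))) ((Bool.rec (motive := fun _ => Nat) (nl9426 i) (nl9427 i) (Nat.ble 31744 i))) (Nat.ble 30720 i))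
noncomputable def nd3704 (i : Nat) : Nat := (Bool.rec (motive := fun _ => Nat) ((Bool.rec (motive := fun _ => Nat) (nd3705 i) (nd3706 i) (Nat.ble 20480 i))) ((Bool.rec (motive := fun _ => Nat) (nd3707 i) (nd3708 i) (Nat.ble 28672 i))) (Nat.ble 24576 i))
noncomputable def nd3710 (i : Nat) : Nat := (Bool.rec (motive := fun _ => Nat) ((Bool.rec (motive := fun _ => Nat) (nl9428 i) (nl9429 i) (Nat.ble 33792 i))) ((Bool.rec (motive := fun _ => Nat) (nl9430 i) (nl9431 i) (Nat.ble 35840 i))) (Nat.ble 34816 i))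
noncomputable def nd3711 (i : Nat) : Nat := (Bool.rec (motive := fun _ => Nat) ((Bool.rec (motive := fun _ => Nat) (nl9432 i) (nl9433 i) (Nat.ble 37888 i))) ((Bool.rec (motive := fun _ => Nat) (nl9434 i) (nl9435 i) (Nat.ble 39936 i))) (Nat.ble 38912 i))
noncomputable def nd3712 (i : Nat) : Nat := (Bool.rec (motive := fun _ => Nat) ((Bool.rec (motive := fun _ => Nat) (nl9436 i) (nl9437 i) (Nat.ble 41984 i))) ((Bool.rec (motive := fun _ => Nat) (nl9438 i) (nl9439 i) (Nat.ble 44032 i))) (Nat.ble 43008 i))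
noncomputable def nd3713 (i : Nat) : Nat := (Bool.rec (motive := fun _ => Nat) ((Bool.rec (motive := fun _ => Nat) (nl9440 i) (nl9441 i) (Nat.ble 46080 i))) ((Bool.rec (motive := fun _ => Nat) (nl9442 i) (nl9443 i) (Nat.ble 48128 i))) (Nat.ble 47104 i))
noncomputable def nd3709 (i : Nat) : Nat := (Bool.rec (motive := fun _ => Nat) ((Bool.rec (motive := fun _ => Nat) (nd3710 i) (nd3711 i) (Nat.ble 36864 i))) ((Bool.rec (motive := fun _ => Nat) (nd3712 i) (nd3713 i) (Nat.ble 45056 i))) (Nat.ble 40960 i))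
noncomputable def nd3715 (i : Nat) : Nat := (Bool.rec (motive := fun _ => Nat) ((Bool.rec (motive := fun _ => Nat) (nl9444 i) (nl9445 i) (Nat.ble 50176 i))) ((Bool.rec (motive := fun _ => Nat) (nl9446 i) (nl9447 i) (Nat.ble 52224 i))) (Nat.ble 51200 i))
noncomputable def nd3716 (i : Nat) : Nat := (Bool.rec (motive := fun _ => Nat) ((Bool.rec (motive := fun _ => Nat) (nl9448 i) (nl9449 i) (Nat.ble 54272 i))) ((Bool.rec (motive := fun _ => Nat) (nl9450 i) (nl9451 i) (Nat.ble 56320 i))) (Nat.ble 55296 i))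
noncomputable def nd3717 (i : Nat) : Nat := (Bool.rec (motive := fun _ => Nat) ((Bool.rec (motive := fun _ => Nat) (nl9452 i) (nl9453 i) (Nat.ble 58368 i))) ((Bool.rec (motive := fun _ => Nat) (nl9454 i) (nl9455 i) (Nat.ble 60416 i))) (Nat.ble 59392 i))
noncomputable def nd3719 (i : Nat) : Nat := (Bool.rec (motive := fun _ => Nat) (nl9459 i) (nl9460 i) (Nat.ble 65536 i))
noncomputable def nd3718 (i : Nat) : Nat := (Bool.rec (motive := fun _ => Nat) ((Bool.rec (motive := fun _ => Nat) (nl9456 i) (nl9457 i) (Nat.ble 62464 i))) ((Bool.rec (motive := fun _ => Nat) (nl9458 i) (nd3719 i) (Nat.ble 64512 i))) (Nat.ble 63488 i))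
noncomputable def nd3714 (i : Nat) : Nat := (Bool.rec (motive := fun _ => Nat) ((Bool.rec (motive := fun _ => Nat) (nd3715 i) (nd3716 i) (Nat.ble 53248 i))) ((Bool.rec (motive := fun _ => Nat) (nd3717 i) (nd3718 i) (Nat.ble 61440 i))) (Nat.ble 57344 i))
noncomputable def nd3698 (i : Nat) : Nat := (Bool.rec (motive := fun _ => Nat) ((Bool.rec (motive := fun _ => Nat) (nd3699 i) (nd3704 i) (Nat.ble 16384 i))) ((Bool.rec (motive := fun _ => Nat) (nd3709 i) (nd3714 i) (Nat.ble 49152 i))) (Nat.ble 32768 i))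
noncomputable def nd3722 (i : Nat) : Nat := (Bool.rec (motive := fun _ => Nat) ((Bool.rec (motive := fun _ => Nat) (nl9461 i) (nl9462 i) (Nat.ble 67584 i))) ((Bool.rec (motive := fun _ => Nat) (nl9463 i) (nl9464 i) (Nat.ble 69632 i))) (Nat.ble 68608 i))
noncomputable def nd3723 (i : Nat) : Nat := (Bool.rec (motive := fun _ => Nat) ((Bool.rec (motive := fun _ => Nat) (nl9465 i) (nl9466 i) (Nat.ble 71680 i))) ((Bool.rec (motive := fun _ => Nat) (nl9467 i) (nl9468 i) (Nat.ble 73728 i))) (Nat.ble 72704 i))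
noncomputable def nd3724 (i : Nat) : Nat := (Bool.rec (motive := fun _ => Nat) ((Bool.rec (motive := fun _ => Nat) (nl9469 i) (nl9470 i) (Nat.ble 75776 i))) ((Bool.rec (motive := fun _ => Nat) (nl9471 i) (nl9472 i) (Nat.ble 77824 i))) (Nat.ble 76800 i))
noncomputable def nd3725 (i : Nat) : Nat := (Bool.rec (motive := fun _ => Nat) ((Bool.rec (motive := fun _ => Nat) (nl9473 i) (nl9474 i) (Nat.ble 79872 i))) ((Bool.rec (motive := fun _ => Nat) (nl9475 i) (nl9476 i) (Nat.ble 81920 i))) (Nat.ble 80896 i))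
noncomputable def nd3721 (i : Nat) : Nat := (Bool.rec (motive := fun _ => Nat) ((Bool.rec (motive := fun _ => Nat) (nd3722 i) (nd3723 i) (Nat.ble 70656 i))) ((Bool.rec (motive := fun _ => Nat) (nd3724 i) (nd3725 i) (Nat.ble 78848 i))) (Nat.ble 74752 i))
noncomputable def nd3727 (i : Nat) : Nat := (Bool.rec (motive := fun _ => Nat) ((Bool.rec (motive := fun _ => Nat) (nl9477 i) (nl9478 i) (Nat.ble 83968 i))) ((Bool.rec (motive := fun _ => Nat) (nl9479 i) (nl9480 i) (Nat.ble 86016 i))) (Nat.ble 84992 i))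
noncomputable def nd3728 (i : Nat) : Nat := (Bool.rec (motive := fun _ => Nat) ((Bool.rec (motive := fun _ => Nat) (nl9481 i) (nl9482 i) (Nat.ble 88064 i))) ((Bool.rec (motive := fun _ => Nat) (nl9483 i) (nl9484 i) (Nat.ble 90112 i))) (Nat.ble 89088 i))
noncomputable def nd3729 (i : Nat) : Nat := (Bool.rec (motive := fun _ => Nat) ((Bool.rec (motive := fun _ => Nat) (nl9485 i) (nl9486 i) (Nat.ble 92160 i))) ((Bool.rec (motive := fun _ => Nat) (nl9487 i) (nl9488 i) (Nat.ble 94208 i))) (Nat.ble 93184 i))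
noncomputable def nd3730 (i : Nat) : Nat := (Bool.rec (motive := fun _ => Nat) ((Bool.rec (motive := fun _ => Nat) (nl9489 i) (nl9490 i) (Nat.ble 96256 i))) ((Bool.rec (motive := fun _ => Nat) (nl9491 i) (nl9492 i) (Nat.ble 98304 i))) (Nat.ble 97280 i))
noncomputable def nd3726 (i : Nat) : Nat := (Bool.rec (motive := fun _ => Nat) ((Bool.rec (motive := fun _ => Nat) (nd3727 i) (nd3728 i) (Nat.ble 87040 i))) ((Bool.rec (motive := fun _ => Nat) (nd3729 i) (nd3730 i) (Nat.ble 95232 i))) (Nat.ble 91136 i))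
noncomputable def nd3732 (i : Nat) : Nat := (Bool.rec (motive := fun _ => Nat) ((Bool.rec (motive := fun _ => Nat) (nl9493 i) (nl9494 i) (Nat.ble 100352 i))) ((Bool.rec (motive := fun _ => Nat) (nl9495 i) (nl9496 i) (Nat.ble 102400 i))) (Nat.ble 101376 i))
noncomputable def nd3733 (i : Nat) : Nat := (Bool.rec (motive := fun _ => Nat) ((Bool.rec (motive := fun _ => Nat) (nl9497 i) (nl9498 i) (Nat.ble 104448 i))) ((Bool.rec (motive := fun _ => Nat) (nl9499 i) (nl9500 i) (Nat.ble 106496 i))) (Nat.ble 105472 i))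
noncomputable def nd3734 (i : Nat) : Nat := (Bool.rec (motive := fun _ => Nat) ((Bool.rec (motive := fun _ => Nat) (nl9501 i) (nl9502 i) (Nat.ble 108544 i))) ((Bool.rec (motive := fun _ => Nat) (nl9503 i) (nl9504 i) (Nat.ble 110592 i))) (Nat.ble 109568 i))
noncomputable def nd3735 (i : Nat) : Nat := (Bool.rec (motive := fun _ => Nat) ((Bool.rec (motive := fun _ => Nat) (nl9505 i) (nl9506 i) (Nat.ble 112640 i))) ((Bool.rec (motive := fun _ => Nat) (nl9507 i) (nl9508 i) (Nat.ble 114688 i))) (Nat.ble 113664 i))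
noncomputable def nd3731 (i : Nat) : Nat := (Bool.rec (motive := fun _ => Nat) ((Bool.rec (motive := fun _ => Nat) (nd3732 i) (nd3733 i) (Nat.ble 103424 i))) ((Bool.rec (motive := fun _ => Nat) (nd3734 i) (nd3735 i) (Nat.ble 111616 i))) (Nat.ble 107520 i))
noncomputable def nd3737 (i : Nat) : Nat := (Bool.rec (motive := fun _ => Nat) ((Bool.rec (motive := fun _ => Nat) (nl9509 i) (nl9510 i) (Nat.ble 116736 i))) ((Bool.rec (motive := fun _ => Nat) (nl9511 i) (nl9512 i) (Nat.ble 118784 i))) (Nat.ble 117760 i))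
noncomputable def nd3738 (i : Nat) : Nat := (Bool.rec (motive := fun _ => Nat) ((Bool.rec (motive := fun _ => Nat) (nl9513 i) (nl9514 i) (Nat.ble 120832 i))) ((Bool.rec (motive := fun _ => Nat) (nl9515 i) (nl9516 i) (Nat.ble 122880 i))) (Nat.ble 121856 i))
noncomputable def nd3739 (i : Nat) : Nat := (Bool.rec (motive := fun _ => Nat) ((Bool.rec (motive := fun _ => Nat) (nl9517 i) (nl9518 i) (Nat.ble 124928 i))) ((Bool.rec (motive := fun _ => Nat) (nl9519 i) (nl9520 i) (Nat.ble 126976 i))) (Nat.ble 125952 i))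
noncomputable def nd3741 (i : Nat) : Nat := (Bool.rec (motive := fun _ => Nat) (nl9524 i) (nl9525 i) (Nat.ble 132096 i))
noncomputable def nd3740 (i : Nat) : Nat := (Bool.rec (motive := fun _ => Nat) ((Bool.rec (motive := fun _ => Nat) (nl9521 i) (nl9522 i) (Nat.ble 129024 i))) ((Bool.rec (motive := fun _ => Nat) (nl9523 i) (nd3741 i) (Nat.ble 131072 i))) (Nat.ble 130048 i))
noncomputable def nd3736 (i : Nat) : Nat := (Bool.rec (motive := fun _ => Nat) ((Bool.rec (motive := fun _ => Nat) (nd3737 i) (nd3738 i) (Nat.ble 119808 i))) ((Bool.rec (motive := fun _ => Nat) (nd3739 i) (nd3740 i) (Nat.ble 128000 i))) (Nat.ble 123904 i))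
noncomputable def nd3720 (i : Nat) : Nat := (Bool.rec (motive := fun _ => Nat) ((Bool.rec (motive := fun _ => Nat) (nd3721 i) (nd3726 i) (Nat.ble 82944 i))) ((Bool.rec (motive := fun _ => Nat) (nd3731 i) (nd3736 i) (Nat.ble 115712 i))) (Nat.ble 99328 i))
noncomputable def nd3744 (i : Nat) : Nat := (Bool.rec (motive := fun _ => Nat) ((Bool.rec (motive := fun _ => Nat) (nl9526 i) (nl9527 i) (Nat.ble 134144 i))) ((Bool.rec (motive := fun _ => Nat) (nl9528 i) (nl9529 i) (Nat.ble 136192 i))) (Nat.ble 135168 i))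
noncomputable def nd3745 (i : Nat) : Nat := (Bool.rec (motive := fun _ => Nat) ((Bool.rec (motive := fun _ => Nat) (nl9530 i) (nl9531 i) (Nat.ble 138240 i))) ((Bool.rec (motive := fun _ => Nat) (nl9532 i) (nl9533 i) (Nat.ble 140288 i))) (Nat.ble 139264 i))
noncomputable def nd3746 (i : Nat) : Nat := (Bool.rec (motive := fun _ => Nat) ((Bool.rec (motive := fun _ => Nat) (nl9534 i) (nl9535 i) (Nat.ble 142336 i))) ((Bool.rec (motive := fun _ => Nat) (nl9536 i) (nl9537 i) (Nat.ble 144384 i))) (Nat.ble 143360 i))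
noncomputable def nd3747 (i : Nat) : Nat := (Bool.rec (motive := fun _ => Nat) ((Bool.rec (motive := fun _ => Nat) (nl9538 i) (nl9539 i) (Nat.ble 146432 i))) ((Bool.rec (motive := fun _ => Nat) (nl9540 i) (nl9541 i) (Nat.ble 148480 i))) (Nat.ble 147456 i))
noncomputable def nd3743 (i : Nat) : Nat := (Bool.rec (motive := fun _ => Nat) ((Bool.rec (motive := fun _ => Nat) (nd3744 i) (nd3745 i) (Nat.ble 137216 i))) ((Bool.rec (motive := fun _ => Nat) (nd3746 i) (nd3747 i) (Nat.ble 145408 i))) (Nat.ble 141312 i))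
noncomputable def nd3749 (i : Nat) : Nat := (Bool.rec (motive := fun _ => Nat) ((Bool.rec (motive := fun _ => Nat) (nl9542 i) (nl9543 i) (Nat.ble 150528 i))) ((Bool.rec (motive := fun _ => Nat) (nl9544 i) (nl9545 i) (Nat.ble 152576 i))) (Nat.ble 151552 i))
noncomputable def nd3750 (i : Nat) : Nat := (Bool.rec (motive := fun _ => Nat) ((Bool.rec (motive := fun _ => Nat) (nl9546 i) (nl9547 i) (Nat.ble 154624 i))) ((Bool.rec (motive := fun _ => Nat) (nl9548 i) (nl9549 i) (Nat.ble 156672 i))) (Nat.ble 155648 i))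
noncomputable def nd3751 (i : Nat) : Nat := (Bool.rec (motive := fun _ => Nat) ((Bool.rec (motive := fun _ => Nat) (nl9550 i) (nl9551 i) (Nat.ble 158720 i))) ((Bool.rec (motive := fun _ => Nat) (nl9552 i) (nl9553 i) (Nat.ble 160768 i))) (Nat.ble 159744 i))
noncomputable def nd3752 (i : Nat) : Nat := (Bool.rec (motive := fun _ => Nat) ((Bool.rec (motive := fun _ => Nat) (nl9554 i) (nl9555 i) (Nat.ble 162816 i))) ((Bool.rec (motive := fun _ => Nat) (nl9556 i) (nl9557 i) (Nat.ble 164864 i))) (Nat.ble 163840 i))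
noncomputable def nd3748 (i : Nat) : Nat := (Bool.rec (motive := fun _ => Nat) ((Bool.rec (motive := fun _ => Nat) (nd3749 i) (nd3750 i) (Nat.ble 153600 i))) ((Bool.rec (motive := fun _ => Nat) (nd3751 i) (nd3752 i) (Nat.ble 161792 i))) (Nat.ble 157696 i))
noncomputable def nd3754 (i : Nat) : Nat := (Bool.rec (motive := fun _ => Nat) ((Bool.rec (motive := fun _ => Nat) (nl9558 i) (nl9559 i) (Nat.ble 166912 i))) ((Bool.rec (motive := fun _ => Nat) (nl9560 i) (nl9561 i) (Nat.ble 168960 i))) (Nat.ble 167936 i))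
noncomputable def nd3755 (i : Nat) : Nat := (Bool.rec (motive := fun _ => Nat) ((Bool.rec (motive := fun _ => Nat) (nl9562 i) (nl9563 i) (Nat.ble 171008 i))) ((Bool.rec (motive := fun _ => Nat) (nl9564 i) (nl9565 i) (Nat.ble 173056 i))) (Nat.ble 172032 i))
noncomputable def nd3756 (i : Nat) : Nat := (Bool.rec (motive := fun _ => Nat) ((Bool.rec (motive := fun _ => Nat) (nl9566 i) (nl9567 i) (Nat.ble 175104 i))) ((Bool.rec (motive := fun _ => Nat) (nl9568 i) (nl9569 i) (Nat.ble 177152 i))) (Nat.ble 176128 i))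
noncomputable def nd3757 (i : Nat) : Nat := (Bool.rec (motive := fun _ => Nat) ((Bool.rec (motive := fun _ => Nat) (nl9570 i) (nl9571 i) (Nat.ble 179200 i))) ((Bool.rec (motive := fun _ => Nat) (nl9572 i) (nl9573 i) (Nat.ble 181248 i))) (Nat.ble 180224 i))
noncomputable def nd3753 (i : Nat) : Nat := (Bool.rec (motive := fun _ => Nat) ((Bool.rec (motive := fun _ => Nat) (nd3754 i) (nd3755 i) (Nat.ble 169984 i))) ((Bool.rec (motive := fun _ => Nat) (nd3756 i) (nd3757 i) (Nat.ble 178176 i))) (Nat.ble 174080 i))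
noncomputable def nd3759 (i : Nat) : Nat := (Bool.rec (motive := fun _ => Nat) ((Bool.rec (motive := fun _ => Nat) (nl9574 i) (nl9575 i) (Nat.ble 183296 i))) ((Bool.rec (motive := fun _ => Nat) (nl9576 i) (nl9577 i) (Nat.ble 185344 i))) (Nat.ble 184320 i))
noncomputable def nd3760 (i : Nat) : Nat := (Bool.rec (motive := fun _ => Nat) ((Bool.rec (motive := fun _ => Nat) (nl9578 i) (nl9579 i) (Nat.ble 187392 i))) ((Bool.rec (motive := fun _ => Nat) (nl9580 i) (nl9581 i) (Nat.ble 189440 i))) (Nat.ble 188416 i))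
noncomputable def nd3761 (i : Nat) : Nat := (Bool.rec (motive := fun _ => Nat) ((Bool.rec (motive := fun _ => Nat) (nl9582 i) (nl9583 i) (Nat.ble 191488 i))) ((Bool.rec (motive := fun _ => Nat) (nl9584 i) (nl9585 i) (Nat.ble 193536 i))) (Nat.ble 192512 i))
noncomputable def nd3763 (i : Nat) : Nat := (Bool.rec (motive := fun _ => Nat) (nl9589 i) (nl9590 i) (Nat.ble 198656 i))
noncomputable def nd3762 (i : Nat) : Nat := (Bool.rec (motive := fun _ => Nat) ((Bool.rec (motive := fun _ => Nat) (nl9586 i) (nl9587 i) (Nat.ble 195584 i))) ((Bool.rec (motive := fun _ => Nat) (nl9588 i) (nd3763 i) (Nat.ble 197632 i))) (Nat.ble 196608 i))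
noncomputable def nd3758 (i : Nat) : Nat := (Bool.rec (motive := fun _ => Nat) ((Bool.rec (motive := fun _ => Nat) (nd3759 i) (nd3760 i) (Nat.ble 186368 i))) ((Bool.rec (motive := fun _ => Nat) (nd3761 i) (nd3762 i) (Nat.ble 194560 i))) (Nat.ble 190464 i))
noncomputable def nd3742 (i : Nat) : Nat := (Bool.rec (motive := fun _ => Nat) ((Bool.rec (motive := fun _ => Nat) (nd3743 i) (nd3748 i) (Nat.ble 149504 i))) ((Bool.rec (motive := fun _ => Nat) (nd3753 i) (nd3758 i) (Nat.ble 182272 i))) (Nat.ble 165888 i))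
noncomputable def nd3766 (i : Nat) : Nat := (Bool.rec (motive := fun _ => Nat) ((Bool.rec (motive := fun _ => Nat) (nl9591 i) (nl9592 i) (Nat.ble 200704 i))) ((Bool.rec (motive := fun _ => Nat) (nl9593 i) (nl9594 i) (Nat.ble 202752 i))) (Nat.ble 201728 i))
noncomputable def nd3767 (i : Nat) : Nat := (Bool.rec (motive := fun _ => Nat) ((Bool.rec (motive := fun _ => Nat) (nl9595 i) (nl9596 i) (Nat.ble 204800 i))) ((Bool.rec (motive := fun _ => Nat) (nl9597 i) (nl9598 i) (Nat.ble 206848 i))) (Nat.ble 205824 i))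
noncomputable def nd3768 (i : Nat) : Nat := (Bool.rec (motive := fun _ => Nat) ((Bool.rec (motive := fun _ => Nat) (nl9599 i) (nl9600 i) (Nat.ble 208896 i))) ((Bool.rec (motive := fun _ => Nat) (nl9601 i) (nl9602 i) (Nat.ble 210944 i))) (Nat.ble 209920 i))
noncomputable def nd3769 (i : Nat) : Nat := (Bool.rec (motive := fun _ => Nat) ((Bool.rec (motive := fun _ => Nat) (nl9603 i) (nl9604 i) (Nat.ble 212992 i))) ((Bool.rec (motive := fun _ => Nat) (nl9605 i) (nl9606 i) (Nat.ble 215040 i))) (Nat.ble 214016 i))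
noncomputable def nd3765 (i : Nat) : Nat := (Bool.rec (motive := fun _ => Nat) ((Bool.rec (motive := fun _ => Nat) (nd3766 i) (nd3767 i) (Nat.ble 203776 i))) ((Bool.rec (motive := fun _ => Nat) (nd3768 i) (nd3769 i) (Nat.ble 211968 i))) (Nat.ble 207872 i))
noncomputable def nd3771 (i : Nat) : Nat := (Bool.rec (motive := fun _ => Nat) ((Bool.rec (motive := fun _ => Nat) (nl9607 i) (nl9608 i) (Nat.ble 217088 i))) ((Bool.rec (motive := fun _ => Nat) (nl9609 i) (nl9610 i) (Nat.ble 219136 i))) (Nat.ble 218112 i))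
noncomputable def nd3772 (i : Nat) : Nat := (Bool.rec (motive := fun _ => Nat) ((Bool.rec (motive := fun _ => Nat) (nl9611 i) (nl9612 i) (Nat.ble 221184 i))) ((Bool.rec (motive := fun _ => Nat) (nl9613 i) (nl9614 i) (Nat.ble 223232 i))) (Nat.ble 222208 i))
noncomputable def nd3773 (i : Nat) : Nat := (Bool.rec (motive := fun _ => Nat) ((Bool.rec (motive := fun _ => Nat) (nl9615 i) (nl9616 i) (Nat.ble 225280 i))) ((Bool.rec (motive := fun _ => Nat) (nl9617 i) (nl9618 i) (Nat.ble 227328 i))) (Nat.ble 226304 i))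
noncomputable def nd3775 (i : Nat) : Nat := (Bool.rec (motive := fun _ => Nat) (nl9622 i) (nl9623 i) (Nat.ble 232448 i))
noncomputable def nd3774 (i : Nat) : Nat := (Bool.rec (motive := fun _ => Nat) ((Bool.rec (motive := fun _ => Nat) (nl9619 i) (nl9620 i) (Nat.ble 229376 i))) ((Bool.rec (motive := fun _ => Nat) (nl9621 i) (nd3775 i) (Nat.ble 231424 i))) (Nat.ble 230400 i))
noncomputable def nd3770 (i : Nat) : Nat := (Bool.rec (motive := fun _ => Nat) ((Bool.rec (motive := fun _ => Nat) (nd3771 i) (nd3772 i) (Nat.ble 220160 i))) ((Bool.rec (motive := fun _ => Nat) (nd3773 i) (nd3774 i) (Nat.ble 228352 i))) (Nat.ble 224256 i))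
noncomputable def nd3777 (i : Nat) : Nat := (Bool.rec (motive := fun _ => Nat) ((Bool.rec (motive := fun _ => Nat) (nl9624 i) (nl9625 i) (Nat.ble 234496 i))) ((Bool.rec (motive := fun _ => Nat) (nl9626 i) (nl9627 i) (Nat.ble 236544 i))) (Nat.ble 235520 i))
noncomputable def nd3778 (i : Nat) : Nat := (Bool.rec (motive := fun _ => Nat) ((Bool.rec (motive := fun _ => Nat) (nl9628 i) (nl9629 i) (Nat.ble 238592 i))) ((Bool.rec (motive := fun _ => Nat) (nl9630 i) (nl9631 i) (Nat.ble 240640 i))) (Nat.ble 239616 i))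
noncomputable def nd3779 (i : Nat) : Nat := (Bool.rec (motive := fun _ => Nat) ((Bool.rec (motive := fun _ => Nat) (nl9632 i) (nl9633 i) (Nat.ble 242688 i))) ((Bool.rec (motive := fun _ => Nat) (nl9634 i) (nl9635 i) (Nat.ble 244736 i))) (Nat.ble 243712 i))
noncomputable def nd3780 (i : Nat) : Nat := (Bool.rec (motive := fun _ => Nat) ((Bool.rec (motive := fun _ => Nat) (nl9636 i) (nl9637 i) (Nat.ble 246784 i))) ((Bool.rec (motive := fun _ => Nat) (nl9638 i) (nl9639 i) (Nat.ble 248832 i))) (Nat.ble 247808 i))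
noncomputable def nd3776 (i : Nat) : Nat := (Bool.rec (motive := fun _ => Nat) ((Bool.rec (motive := fun _ => Nat) (nd3777 i) (nd3778 i) (Nat.ble 237568 i))) ((Bool.rec (motive := fun _ => Nat) (nd3779 i) (nd3780 i) (Nat.ble 245760 i))) (Nat.ble 241664 i))
noncomputable def nd3782 (i : Nat) : Nat := (Bool.rec (motive := fun _ => Nat) ((Bool.rec (motive := fun _ => Nat) (nl9640 i) (nl9641 i) (Nat.ble 250880 i))) ((Bool.rec (motive := fun _ => Nat) (nl9642 i) (nl9643 i) (Nat.ble 252928 i))) (Nat.ble 251904 i))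
noncomputable def nd3783 (i : Nat) : Nat := (Bool.rec (motive := fun _ => Nat) ((Bool.rec (motive := fun _ => Nat) (nl9644 i) (nl9645 i) (Nat.ble 254976 i))) ((Bool.rec (motive := fun _ => Nat) (nl9646 i) (nl9647 i) (Nat.ble 257024 i))) (Nat.ble 256000 i))
noncomputable def nd3784 (i : Nat) : Nat := (Bool.rec (motive := fun _ => Nat) ((Bool.rec (motive := fun _ => Nat) (nl9648 i) (nl9649 i) (Nat.ble 259072 i))) ((Bool.rec (motive := fun _ => Nat) (nl9650 i) (nl9651 i) (Nat.ble 261120 i))) (Nat.ble 260096 i))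
noncomputable def nd3786 (i : Nat) : Nat := (Bool.rec (motive := fun _ => Nat) (nl9655 i) (nl9656 i) (Nat.ble 266240 i))
noncomputable def nd3785 (i : Nat) : Nat := (Bool.rec (motive := fun _ => Nat) ((Bool.rec (motive := fun _ => Nat) (nl9652 i) (nl9653 i) (Nat.ble 263168 i))) ((Bool.rec (motive := fun _ => Nat) (nl9654 i) (nd3786 i) (Nat.ble 265216 i))) (Nat.ble 264192 i))
noncomputable def nd3781 (i : Nat) : Nat := (Bool.rec (motive := fun _ => Nat) ((Bool.rec (motive := fun _ => Nat) (nd3782 i) (nd3783 i) (Nat.ble 253952 i))) ((Bool.rec (motive := fun _ => Nat) (nd3784 i) (nd3785 i) (Nat.ble 262144 i))) (Nat.ble 258048 i))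
noncomputable def nd3764 (i : Nat) : Nat := (Bool.rec (motive := fun _ => Nat) ((Bool.rec (motive := fun _ => Nat) (nd3765 i) (nd3770 i) (Nat.ble 216064 i))) ((Bool.rec (motive := fun _ => Nat) (nd3776 i) (nd3781 i) (Nat.ble 249856 i))) (Nat.ble 233472 i))
noncomputable def nd3697 (i : Nat) : Nat := (Bool.rec (motive := fun _ => Nat) ((Bool.rec (motive := fun _ => Nat) (nd3698 i) (nd3720 i) (Nat.ble 66560 i))) ((Bool.rec (motive := fun _ => Nat) (nd3742 i) (nd3764 i) (Nat.ble 199680 i))) (Nat.ble 133120 i))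
noncomputable def nd3790 (i : Nat) : Nat := (Bool.rec (motive := fun _ => Nat) ((Bool.rec (motive := fun _ => Nat) (nl9657 i) (nl9658 i) (Nat.ble 1024 i))) ((Bool.rec (motive := fun _ => Nat) (nl9659 i) (nl9660 i) (Nat.ble 3072 i))) (Nat.ble 2048 i))
noncomputable def nd3791 (i : Nat) : Nat := (Bool.rec (motive := fun _ => Nat) ((Bool.rec (motive := fun _ => Nat) (nl9661 i) (nl9662 i) (Nat.ble 5120 i))) ((Bool.rec (motive := fun _ => Nat) (nl9663 i) (nl9664 i) (Nat.ble 7168 i))) (Nat.ble 6144 i))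
noncomputable def nd3792 (i : Nat) : Nat := (Bool.rec (motive := fun _ => Nat) ((Bool.rec (motive := fun _ => Nat) (nl9665 i) (nl9666 i) (Nat.ble 9216 i))) ((Bool.rec (motive := fun _ => Nat) (nl9667 i) (nl9668 i) (Nat.ble 11264 i))) (Nat.ble 10240 i))
noncomputable def nd3793 (i : Nat) : Nat := (Bool.rec (motive := fun _ => Nat) ((Bool.rec (motive := fun _ => Nat) (nl9669 i) (nl9670 i) (Nat.ble 13312 i))) ((Bool.rec (motive := fun _ => Nat) (nl9671 i) (nl9672 i) (Nat.ble 15360 i))) (Nat.ble 14336 i))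
noncomputable def nd3789 (i : Nat) : Nat := (Bool.rec (motive := fun _ => Nat) ((Bool.rec (motive := fun _ => Nat) (nd3790 i) (nd3791 i) (Nat.ble 4096 i))) ((Bool.rec (motive := fun _ => Nat) (nd3792 i) (nd3793 i) (Nat.ble 12288 i))) (Nat.ble 8192 i))
noncomputable def nd3795 (i : Nat) : Nat := (Bool.rec (motive := fun _ => Nat) ((Bool.rec (motive := fun _ => Nat) (nl9673 i) (nl9674 i) (Nat.ble 17408 i))) ((Bool.rec (motive := fun _ => Nat) (nl9675 i) (nl9676 i) (Nat.ble 19456 i))) (Nat.ble 18432 i))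
noncomputable def nd3796 (i : Nat) : Nat := (Bool.rec (motive := fun _ => Nat) ((Bool.rec (motive := fun _ => Nat) (nl9677 i) (nl9678 i) (Nat.ble 21504 i))) ((Bool.rec (motive := fun _ => Nat) (nl9679 i) (nl9680 i) (Nat.ble 23552 i))) (Nat.ble 22528 i))
noncomputable def nd3797 (i : Nat) : Nat := (Bool.rec (motive := fun _ => Nat) ((Bool.rec (motive := fun _ => Nat) (nl9681 i) (nl9682 i) (Nat.ble 25600 i))) ((Bool.rec (motive := fun _ => Nat) (nl9683 i) (nl9684 i) (Nat.ble 27648 i))) (Nat.ble 26624 i))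
noncomputable def nd3798 (i : Nat) : Nat := (Bool.rec (motive := fun _ => Nat) ((Bool.rec (motive := fun _ => Nat) (nl9685 i) (nl9686 i) (Nat.ble 29696 i))) ((Bool.rec (motive := fun _ => Nat) (nl9687 i) (nl9688 i) (Nat.ble 31744 i))) (Nat.ble 30720 i))
noncomputable def nd3794 (i : Nat) : Nat := (Bool.rec (motive := fun _ => Nat) ((Bool.rec (motive := fun _ => Nat) (nd3795 i) (nd3796 i) (Nat.ble 20480 i))) ((Bool.rec (motive := fun _ => Nat) (nd3797 i) (nd3798 i) (Nat.ble 28672 i))) (Nat.ble 24576 i))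
noncomputable def nd3800 (i : Nat) : Nat := (Bool.rec (motive := fun _ => Nat) ((Bool.rec (motive := fun _ => Nat) (nl9689 i) (nl9690 i) (Nat.ble 33792 i))) ((Bool.rec (motive := fun _ => Nat) (nl9691 i) (nl9692 i) (Nat.ble 35840 i))) (Nat.ble 34816 i))
noncomputable def nd3801 (i : Nat) : Nat := (Bool.rec (motive := fun _ => Nat) ((Bool.rec (motive := fun _ => Nat) (nl9693 i) (nl9694 i) (Nat.ble 37888 i))) ((Bool.rec (motive := fun _ => Nat) (nl9695 i) (nl9696 i) (Nat.ble 39936 i))) (Nat.ble 38912 i))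
noncomputable def nd3802 (i : Nat) : Nat := (Bool.rec (motive := fun _ => Nat) ((Bool.rec (motive := fun _ => Nat) (nl9697 i) (nl9698 i) (Nat.ble 41984 i))) ((Bool.rec (motive := fun _ => Nat) (nl9699 i) (nl9700 i) (Nat.ble 44032 i))) (Nat.ble 43008 i))
noncomputable def nd3803 (i : Nat) : Nat := (Bool.rec (motive := fun _ => Nat) ((Bool.rec (motive := fun _ => Nat) (nl9701 i) (nl9702 i) (Nat.ble 46080 i))) ((Bool.rec (motive := fun _ => Nat) (nl9703 i) (nl9704 i) (Nat.ble 48128 i))) (Nat.ble 47104 i))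
noncomputable def nd3799 (i : Nat) : Nat := (Bool.rec (motive := fun _ => Nat) ((Bool.rec (motive := fun _ => Nat) (nd3800 i) (nd3801 i) (Nat.ble 36864 i))) ((Bool.rec (motive := fun _ => Nat) (nd3802 i) (nd3803 i) (Nat.ble 45056 i))) (Nat.ble 40960 i))
noncomputable def nd3805 (i : Nat) : Nat := (Bool.rec (motive := fun _ => Nat) ((Bool.rec (motive := fun _ => Nat) (nl9705 i) (nl9706 i) (Nat.ble 50176 i))) ((Bool.rec (motive := fun _ => Nat) (nl9707 i) (nl9708 i) (Nat.ble 52224 i))) (Nat.ble 51200 i))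
noncomputable def nd3806 (i : Nat) : Nat := (Bool.rec (motive := fun _ => Nat) ((Bool.rec (motive := fun _ => Nat) (nl9709 i) (nl9710 i) (Nat.ble 54272 i))) ((Bool.rec (motive := fun _ => Nat) (nl9711 i) (nl9712 i) (Nat.ble 56320 i))) (Nat.ble 55296 i))
noncomputable def nd3807 (i : Nat) : Nat := (Bool.rec (motive := fun _ => Nat) ((Bool.rec (motive := fun _ => Nat) (nl9713 i) (nl9714 i) (Nat.ble 58368 i))) ((Bool.rec (motive := fun _ => Nat) (nl9715 i) (nl9716 i) (Nat.ble 60416 i))) (Nat.ble 59392 i))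
noncomputable def nd3809 (i : Nat) : Nat := (Bool.rec (motive := fun _ => Nat) (nl9720 i) (nl9721 i) (Nat.ble 65536 i))
noncomputable def nd3808 (i : Nat) : Nat := (Bool.rec (motive := fun _ => Nat) ((Bool.rec (motive := fun _ => Nat) (nl9717 i) (nl9718 i) (Nat.ble 62464 i))) ((Bool.rec (motive := fun _ => Nat) (nl9719 i) (nd3809 i) (Nat.ble 64512 i))) (Nat.ble 63488 i))
noncomputable def nd3804 (i : Nat) : Nat := (Bool.rec (motive := fun _ => Nat) ((Bool.rec (motive := fun _ => Nat) (nd3805 i) (nd3806 i) (Nat.ble 53248 i))) ((Bool.rec (motive := fun _ => Nat) (nd3807 i) (nd3808 i) (Nat.ble 61440 i))) (Nat.ble 57344 i))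
noncomputable def nd3788 (i : Nat) : Nat := (Bool.rec (motive := fun _ => Nat) ((Bool.rec (motive := fun _ => Nat) (nd3789 i) (nd3794 i) (Nat.ble 16384 i))) ((Bool.rec (motive := fun _ => Nat) (nd3799 i) (nd3804 i) (Nat.ble 49152 i))) (Nat.ble 32768 i))
noncomputable def nd3812 (i : Nat) : Nat := (Bool.rec (motive := fun _ => Nat) ((Bool.rec (motive := fun _ => Nat) (nl9722 i) (nl9723 i) (Nat.ble 67584 i))) ((Bool.rec (motive := fun _ => Nat) (nl9724 i) (nl9725 i) (Nat.ble 69632 i))) (Nat.ble 68608 i))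
noncomputable def nd3813 (i : Nat) : Nat := (Bool.rec (motive := fun _ => Nat) ((Bool.rec (motive := fun _ => Nat) (nl9726 i) (nl9727 i) (Nat.ble 71680 i))) ((Bool.rec (motive := fun _ => Nat) (nl9728 i) (nl9729 i) (Nat.ble 73728 i))) (Nat.ble 72704 i))
noncomputable def nd3814 (i : Nat) : Nat := (Bool.rec (motive := fun _ => Nat) ((Bool.rec (motive := fun _ => Nat) (nl9730 i) (nl9731 i) (Nat.ble 75776 i))) ((Bool.rec (motive := fun _ => Nat) (nl9732 i) (nl9733 i) (Nat.ble 77824 i))) (Nat.ble 76800 i))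
noncomputable def nd3815 (i : Nat) : Nat := (Bool.rec (motive := fun _ => Nat) ((Bool.rec (motive := fun _ => Nat) (nl9734 i) (nl9735 i) (Nat.ble 79872 i))) ((Bool.rec (motive := fun _ => Nat) (nl9736 i) (nl9737 i) (Nat.ble 81920 i))) (Nat.ble 80896 i))
noncomputable def nd3811 (i : Nat) : Nat := (Bool.rec (motive := fun _ => Nat) ((Bool.rec (motive := fun _ => Nat) (nd3812 i) (nd3813 i) (Nat.ble 70656 i))) ((Bool.rec (motive := fun _ => Nat) (nd3814 i) (nd3815 i) (Nat.ble 78848 i))) (Nat.ble 74752 i))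
noncomputable def nd3817 (i : Nat) : Nat := (Bool.rec (motive := fun _ => Nat) ((Bool.rec (motive := fun _ => Nat) (nl9738 i) (nl9739 i) (Nat.ble 83968 i))) ((Bool.rec (motive := fun _ => Nat) (nl9740 i) (nl9741 i) (Nat.ble 86016 i))) (Nat.ble 84992 i))
noncomputable def nd3818 (i : Nat) : Nat := (Bool.rec (motive := fun _ => Nat) ((Bool.rec (motive := fun _ => Nat) (nl9742 i) (nl9743 i) (Nat.ble 88064 i))) ((Bool.rec (motive := fun _ => Nat) (nl9744 i) (nl9745 i) (Nat.ble 90112 i))) (Nat.ble 89088 i))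
noncomputable def nd3819 (i : Nat) : Nat := (Bool.rec (motive := fun _ => Nat) ((Bool.rec (motive := fun _ => Nat) (nl9746 i) (nl9747 i) (Nat.ble 92160 i))) ((Bool.rec (motive := fun _ => Nat) (nl9748 i) (nl9749 i) (Nat.ble 94208 i))) (Nat.ble 93184 i))
noncomputable def nd3820 (i : Nat) : Nat := (Bool.rec (motive := fun _ => Nat) ((Bool.rec (motive := fun _ => Nat) (nl9750 i) (nl9751 i) (Nat.ble 96256 i))) ((Bool.rec (motive := fun _ => Nat) (nl9752 i) (nl9753 i) (Nat.ble 98304 i))) (Nat.ble 97280 i))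
noncomputable def nd3816 (i : Nat) : Nat := (Bool.rec (motive := fun _ => Nat) ((Bool.rec (motive := fun _ => Nat) (nd3817 i) (nd3818 i) (Nat.ble 87040 i))) ((Bool.rec (motive := fun _ => Nat) (nd3819 i) (nd3820 i) (Nat.ble 95232 i))) (Nat.ble 91136 i))
noncomputable def nd3822 (i : Nat) : Nat := (Bool.rec (motive := fun _ => Nat) ((Bool.rec (motive := fun _ => Nat) (nl9754 i) (nl9755 i) (Nat.ble 100352 i))) ((Bool.rec (motive := fun _ => Nat) (nl9756 i) (nl9757 i) (Nat.ble 102400 i))) (Nat.ble 101376 i))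
noncomputable def nd3823 (i : Nat) : Nat := (Bool.rec (motive := fun _ => Nat) ((Bool.rec (motive := fun _ => Nat) (nl9758 i) (nl9759 i) (Nat.ble 104448 i))) ((Bool.rec (motive := fun _ => Nat) (nl9760 i) (nl9761 i) (Nat.ble 106496 i))) (Nat.ble 105472 i))
noncomputable def nd3824 (i : Nat) : Nat := (Bool.rec (motive := fun _ => Nat) ((Bool.rec (motive := fun _ => Nat) (nl9762 i) (nl9763 i) (Nat.ble 108544 i))) ((Bool.rec (motive := fun _ => Nat) (nl9764 i) (nl9765 i) (Nat.ble 110592 i))) (Nat.ble 109568 i))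
noncomputable def nd3825 (i : Nat) : Nat := (Bool.rec (motive := fun _ => Nat) ((Bool.rec (motive := fun _ => Nat) (nl9766 i) (nl9767 i) (Nat.ble 112640 i))) ((Bool.rec (motive := fun _ => Nat) (nl9768 i) (nl9769 i) (Nat.ble 114688 i))) (Nat.ble 113664 i))
noncomputable def nd3821 (i : Nat) : Nat := (Bool.rec (motive := fun _ => Nat) ((Bool.rec (motive := fun _ => Nat) (nd3822 i) (nd3823 i) (Nat.ble 103424 i))) ((Bool.rec (motive := fun _ => Nat) (nd3824 i) (nd3825 i) (Nat.ble 111616 i))) (Nat.ble 107520 i))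
noncomputable def nd3827 (i : Nat) : Nat := (Bool.rec (motive := fun _ => Nat) ((Bool.rec (motive := fun _ => Nat) (nl9770 i) (nl9771 i) (Nat.ble 116736 i))) ((Bool.rec (motive := fun _ => Nat) (nl9772 i) (nl9773 i) (Nat.ble 118784 i))) (Nat.ble 117760 i))
noncomputable def nd3828 (i : Nat) : Nat := (Bool.rec (motive := fun _ => Nat) ((Bool.rec (motive := fun _ => Nat) (nl9774 i) (nl9775 i) (Nat.ble 120832 i))) ((Bool.rec (motive := fun _ => Nat) (nl9776 i) (nl9777 i) (Nat.ble 122880 i))) (Nat.ble 121856 i))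
noncomputable def nd3829 (i : Nat) : Nat := (Bool.rec (motive := fun _ => Nat) ((Bool.rec (motive := fun _ => Nat) (nl9778 i) (nl9779 i) (Nat.ble 124928 i))) ((Bool.rec (motive := fun _ => Nat) (nl9780 i) (nl9781 i) (Nat.ble 126976 i))) (Nat.ble 125952 i))
noncomputable def nd3831 (i : Nat) : Nat := (Bool.rec (motive := fun _ => Nat) (nl9785 i) (nl9786 i) (Nat.ble 132096 i))
noncomputable def nd3830 (i : Nat) : Nat := (Bool.rec (motive := fun _ => Nat) ((Bool.rec (motive := fun _ => Nat) (nl9782 i) (nl9783 i) (Nat.ble 129024 i))) ((Bool.rec (motive := fun _ => Nat) (nl9784 i) (nd3831 i) (Nat.ble 131072 i))) (Nat.ble 130048 i))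
noncomputable def nd3826 (i : Nat) : Nat := (Bool.rec (motive := fun _ => Nat) ((Bool.rec (motive := fun _ => Nat) (nd3827 i) (nd3828 i) (Nat.ble 119808 i))) ((Bool.rec (motive := fun _ => Nat) (nd3829 i) (nd3830 i) (Nat.ble 128000 i))) (Nat.ble 123904 i))
noncomputable def nd3810 (i : Nat) : Nat := (Bool.rec (motive := fun _ => Nat) ((Bool.rec (motive := fun _ => Nat) (nd3811 i) (nd3816 i) (Nat.ble 82944 i))) ((Bool.rec (motive := fun _ => Nat) (nd3821 i) (nd3826 i) (Nat.ble 115712 i))) (Nat.ble 99328 i))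
noncomputable def nd3834 (i : Nat) : Nat := (Bool.rec (motive := fun _ => Nat) ((Bool.rec (motive := fun _ => Nat) (nl9787 i) (nl9788 i) (Nat.ble 134144 i))) ((Bool.rec (motive := fun _ => Nat) (nl9789 i) (nl9790 i) (Nat.ble 136192 i))) (Nat.ble 135168 i))
noncomputable def nd3835 (i : Nat) : Nat := (Bool.rec (motive := fun _ => Nat) ((Bool.rec (motive := fun _ => Nat) (nl9791 i) (nl9792 i) (Nat.ble 138240 i))) ((Bool.rec (motive := fun _ => Nat) (nl9793 i) (nl9794 i) (Nat.ble 140288 i))) (Nat.ble 139264 i))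
noncomputable def nd3836 (i : Nat) : Nat := (Bool.rec (motive := fun _ => Nat) ((Bool.rec (motive := fun _ => Nat) (nl9795 i) (nl9796 i) (Nat.ble 142336 i))) ((Bool.rec (motive := fun _ => Nat) (nl9797 i) (nl9798 i) (Nat.ble 144384 i))) (Nat.ble 143360 i))
noncomputable def nd3837 (i : Nat) : Nat := (Bool.rec (motive := fun _ => Nat) ((Bool.rec (motive := fun _ => Nat) (nl9799 i) (nl9800 i) (Nat.ble 146432 i))) ((Bool.rec (motive := fun _ => Nat) (nl9801 i) (nl9802 i) (Nat.ble 148480 i))) (Nat.ble 147456 i))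
noncomputable def nd3833 (i : Nat) : Nat := (Bool.rec (motive := fun _ => Nat) ((Bool.rec (motive := fun _ => Nat) (nd3834 i) (nd3835 i) (Nat.ble 137216 i))) ((Bool.rec (motive := fun _ => Nat) (nd3836 i) (nd3837 i) (Nat.ble 145408 i))) (Nat.ble 141312 i))
noncomputable def nd3839 (i : Nat) : Nat := (Bool.rec (motive := fun _ => Nat) ((Bool.rec (motive := fun _ => Nat) (nl9803 i) (nl9804 i) (Nat.ble 150528 i))) ((Bool.rec (motive := fun _ => Nat) (nl9805 i) (nl9806 i) (Nat.ble 152576 i))) (Nat.ble 151552 i))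
noncomputable def nd3840 (i : Nat) : Nat := (Bool.rec (motive := fun _ => Nat) ((Bool.rec (motive := fun _ => Nat) (nl9807 i) (nl9808 i) (Nat.ble 154624 i))) ((Bool.rec (motive := fun _ => Nat) (nl9809 i) (nl9810 i) (Nat.ble 156672 i))) (Nat.ble 155648 i))
noncomputable def nd3841 (i : Nat) : Nat := (Bool.rec (motive := fun _ => Nat) ((Bool.rec (motive := fun _ => Nat) (nl9811 i) (nl9812 i) (Nat.ble 158720 i))) ((Bool.rec (motive := fun _ => Nat) (nl9813 i) (nl9814 i) (Nat.ble 160768 i))) (Nat.ble 159744 i))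
noncomputable def nd3842 (i : Nat) : Nat := (Bool.rec (motive := fun _ => Nat) ((Bool.rec (motive := fun _ => Nat) (nl9815 i) (nl9816 i) (Nat.ble 162816 i))) ((Bool.rec (motive := fun _ => Nat) (nl9817 i) (nl9818 i) (Nat.ble 164864 i))) (Nat.ble 163840 i))
noncomputable def nd3838 (i : Nat) : Nat := (Bool.rec (motive := fun _ => Nat) ((Bool.rec (motive := fun _ => Nat) (nd3839 i) (nd3840 i) (Nat.ble 153600 i))) ((Bool.rec (motive := fun _ => Nat) (nd3841 i) (nd3842 i) (Nat.ble 161792 i))) (Nat.ble 157696 i))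
noncomputable def nd3844 (i : Nat) : Nat := (Bool.rec (motive := fun _ => Nat) ((Bool.rec (motive := fun _ => Nat) (nl9819 i) (nl9820 i) (Nat.ble 166912 i))) ((Bool.rec (motive := fun _ => Nat) (nl9821 i) (nl9822 i) (Nat.ble 168960 i))) (Nat.ble 167936 i))
noncomputable def nd3845 (i : Nat) : Nat := (Bool.rec (motive := fun _ => Nat) ((Bool.rec (motive := fun _ => Nat) (nl9823 i) (nl9824 i) (Nat.ble 171008 i))) ((Bool.rec (motive := fun _ => Nat) (nl9825 i) (nl9826 i) (Nat.ble 173056 i))) (Nat.ble 172032 i))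
noncomputable def nd3846 (i : Nat) : Nat := (Bool.rec (motive := fun _ => Nat) ((Bool.rec (motive := fun _ => Nat) (nl9827 i) (nl9828 i) (Nat.ble 175104 i))) ((Bool.rec (motive := fun _ => Nat) (nl9829 i) (nl9830 i) (Nat.ble 177152 i))) (Nat.ble 176128 i))
noncomputable def nd3847 (i : Nat) : Nat := (Bool.rec (motive := fun _ => Nat) ((Bool.rec (motive := fun _ => Nat) (nl9831 i) (nl9832 i) (Nat.ble 179200 i))) ((Bool.rec (motive := fun _ => Nat) (nl9833 i) (nl9834 i) (Nat.ble 181248 i))) (Nat.ble 180224 i))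
noncomputable def nd3843 (i : Nat) : Nat := (Bool.rec (motive := fun _ => Nat) ((Bool.rec (motive := fun _ => Nat) (nd3844 i) (nd3845 i) (Nat.ble 169984 i))) ((Bool.rec (motive := fun _ => Nat) (nd3846 i) (nd3847 i) (Nat.ble 178176 i))) (Nat.ble 174080 i))
noncomputable def nd3849 (i : Nat) : Nat := (Bool.rec (motive := fun _ => Nat) ((Bool.rec (motive := fun _ => Nat) (nl9835 i) (nl9836 i) (Nat.ble 183296 i))) ((Bool.rec (motive := fun _ => Nat) (nl9837 i) (nl9838 i) (Nat.ble 185344 i))) (Nat.ble 184320 i))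
noncomputable def nd3850 (i : Nat) : Nat := (Bool.rec (motive := fun _ => Nat) ((Bool.rec (motive := fun _ => Nat) (nl9839 i) (nl9840 i) (Nat.ble 187392 i))) ((Bool.rec (motive := fun _ => Nat) (nl9841 i) (nl9842 i) (Nat.ble 189440 i))) (Nat.ble 188416 i))
noncomputable def nd3851 (i : Nat) : Nat := (Bool.rec (motive := fun _ => Nat) ((Bool.rec (motive := fun _ => Nat) (nl9843 i) (nl9844 i) (Nat.ble 191488 i))) ((Bool.rec (motive := fun _ => Nat) (nl9845 i) (nl9846 i) (Nat.ble 193536 i))) (Nat.ble 192512 i))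
noncomputable def nd3853 (i : Nat) : Nat := (Bool.rec (motive := fun _ => Nat) (nl9850 i) (nl9851 i) (Nat.ble 198656 i))
noncomputable def nd3852 (i : Nat) : Nat := (Bool.rec (motive := fun _ => Nat) ((Bool.rec (motive := fun _ => Nat) (nl9847 i) (nl9848 i) (Nat.ble 195584 i))) ((Bool.rec (motive := fun _ => Nat) (nl9849 i) (nd3853 i) (Nat.ble 197632 i))) (Nat.ble 196608 i))
noncomputable def nd3848 (i : Nat) : Nat := (Bool.rec (motive := fun _ => Nat) ((Bool.rec (motive := fun _ => Nat) (nd3849 i) (nd3850 i) (Nat.ble 186368 i))) ((Bool.rec (motive := fun _ => Nat) (nd3851 i) (nd3852 i) (Nat.ble 194560 i))) (Nat.ble 190464 i))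
noncomputable def nd3832 (i : Nat) : Nat := (Bool.rec (motive := fun _ => Nat) ((Bool.rec (motive := fun _ => Nat) (nd3833 i) (nd3838 i) (Nat.ble 149504 i))) ((Bool.rec (motive := fun _ => Nat) (nd3843 i) (nd3848 i) (Nat.ble 182272 i))) (Nat.ble 165888 i))
noncomputable def nd3856 (i : Nat) : Nat := (Bool.rec (motive := fun _ => Nat) ((Bool.rec (motive := fun _ => Nat) (nl9852 i) (nl9853 i) (Nat.ble 200704 i))) ((Bool.rec (motive := fun _ => Nat) (nl9854 i) (nl9855 i) (Nat.ble 202752 i))) (Nat.ble 201728 i))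
noncomputable def nd3857 (i : Nat) : Nat := (Bool.rec (motive := fun _ => Nat) ((Bool.rec (motive := fun _ => Nat) (nl9856 i) (nl9857 i) (Nat.ble 204800 i))) ((Bool.rec (motive := fun _ => Nat) (nl9858 i) (nl9859 i) (Nat.ble 206848 i))) (Nat.ble 205824 i))
noncomputable def nd3858 (i : Nat) : Nat := (Bool.rec (motive := fun _ => Nat) ((Bool.rec (motive := fun _ => Nat) (nl9860 i) (nl9861 i) (Nat.ble 208896 i))) ((Bool.rec (motive := fun _ => Nat) (nl9862 i) (nl9863 i) (Nat.ble 210944 i))) (Nat.ble 209920 i))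
noncomputable def nd3859 (i : Nat) : Nat := (Bool.rec (motive := fun _ => Nat) ((Bool.rec (motive := fun _ => Nat) (nl9864 i) (nl9865 i) (Nat.ble 212992 i))) ((Bool.rec (motive := fun _ => Nat) (nl9866 i) (nl9867 i) (Nat.ble 215040 i))) (Nat.ble 214016 i))
noncomputable def nd3855 (i : Nat) : Nat := (Bool.rec (motive := fun _ => Nat) ((Bool.rec (motive := fun _ => Nat) (nd3856 i) (nd3857 i) (Nat.ble 203776 i))) ((Bool.rec (motive := fun _ => Nat) (nd3858 i) (nd3859 i) (Nat.ble 211968 i))) (Nat.ble 207872 i))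
noncomputable def nd3861 (i : Nat) : Nat := (Bool.rec (motive := fun _ => Nat) ((Bool.rec (motive := fun _ => Nat) (nl9868 i) (nl9869 i) (Nat.ble 217088 i))) ((Bool.rec (motive := fun _ => Nat) (nl9870 i) (nl9871 i) (Nat.ble 219136 i))) (Nat.ble 218112 i))
noncomputable def nd3862 (i : Nat) : Nat := (Bool.rec (motive := fun _ => Nat) ((Bool.rec (motive := fun _ => Nat) (nl9872 i) (nl9873 i) (Nat.ble 221184 i))) ((Bool.rec (motive := fun _ => Nat) (nl9874 i) (nl9875 i) (Nat.ble 223232 i))) (Nat.ble 222208 i))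
noncomputable def nd3863 (i : Nat) : Nat := (Bool.rec (motive := fun _ => Nat) ((Bool.rec (motive := fun _ => Nat) (nl9876 i) (nl9877 i) (Nat.ble 225280 i))) ((Bool.rec (motive := fun _ => Nat) (nl9878 i) (nl9879 i) (Nat.ble 227328 i))) (Nat.ble 226304 i))
noncomputable def nd3865 (i : Nat) : Nat := (Bool.rec (motive := fun _ => Nat) (nl9883 i) (nl9884 i) (Nat.ble 232448 i))
noncomputable def nd3864 (i : Nat) : Nat := (Bool.rec (motive := fun _ => Nat) ((Bool.rec (motive := fun _ => Nat) (nl9880 i) (nl9881 i) (Nat.ble 229376 i))) ((Bool.rec (motive := fun _ => Nat) (nl9882 i) (nd3865 i) (Nat.ble 231424 i))) (Nat.ble 230400 i))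
noncomputable def nd3860 (i : Nat) : Nat := (Bool.rec (motive := fun _ => Nat) ((Bool.rec (motive := fun _ => Nat) (nd3861 i) (nd3862 i) (Nat.ble 220160 i))) ((Bool.rec (motive := fun _ => Nat) (nd3863 i) (nd3864 i) (Nat.ble 228352 i))) (Nat.ble 224256 i))
noncomputable def nd3867 (i : Nat) : Nat := (Bool.rec (motive := fun _ => Nat) ((Bool.rec (motive := fun _ => Nat) (nl9885 i) (nl9886 i) (Nat.ble 234496 i))) ((Bool.rec (motive := fun _ => Nat) (nl9887 i) (nl9888 i) (Nat.ble 236544 i))) (Nat.ble 235520 i))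
noncomputable def nd3868 (i : Nat) : Nat := (Bool.rec (motive := fun _ => Nat) ((Bool.rec (motive := fun _ => Nat) (nl9889 i) (nl9890 i) (Nat.ble 238592 i))) ((Bool.rec (motive := fun _ => Nat) (nl9891 i) (nl9892 i) (Nat.ble 240640 i))) (Nat.ble 239616 i))
noncomputable def nd3869 (i : Nat) : Nat := (Bool.rec (motive := fun _ => Nat) ((Bool.rec (motive := fun _ => Nat) (nl9893 i) (nl9894 i) (Nat.ble 242688 i))) ((Bool.rec (motive := fun _ => Nat) (nl9895 i) (nl9896 i) (Nat.ble 244736 i))) (Nat.ble 243712 i))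
noncomputable def nd3870 (i : Nat) : Nat := (Bool.rec (motive := fun _ => Nat) ((Bool.rec (motive := fun _ => Nat) (nl9897 i) (nl9898 i) (Nat.ble 246784 i))) ((Bool.rec (motive := fun _ => Nat) (nl9899 i) (nl9900 i) (Nat.ble 248832 i))) (Nat.ble 247808 i))
noncomputable def nd3866 (i : Nat) : Nat := (Bool.rec (motive := fun _ => Nat) ((Bool.rec (motive := fun _ => Nat) (nd3867 i) (nd3868 i) (Nat.ble 237568 i))) ((Bool.rec (motive := fun _ => Nat) (nd3869 i) (nd3870 i) (Nat.ble 245760 i))) (Nat.ble 241664 i))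
noncomputable def nd3872 (i : Nat) : Nat := (Bool.rec (motive := fun _ => Nat) ((Bool.rec (motive := fun _ => Nat) (nl9901 i) (nl9902 i) (Nat.ble 250880 i))) ((Bool.rec (motive := fun _ => Nat) (nl9903 i) (nl9904 i) (Nat.ble 252928 i))) (Nat.ble 251904 i))
noncomputable def nd3873 (i : Nat) : Nat := (Bool.rec (motive := fun _ => Nat) ((Bool.rec (motive := fun _ => Nat) (nl9905 i) (nl9906 i) (Nat.ble 254976 i))) ((Bool.rec (motive := fun _ => Nat) (nl9907 i) (nl9908 i) (Nat.ble 257024 i))) (Nat.ble 256000 i))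
noncomputable def nd3874 (i : Nat) : Nat := (Bool.rec (motive := fun _ => Nat) ((Bool.rec (motive := fun _ => Nat) (nl9909 i) (nl9910 i) (Nat.ble 259072 i))) ((Bool.rec (motive := fun _ => Nat) (nl9911 i) (nl9912 i) (Nat.ble 261120 i))) (Nat.ble 260096 i))
noncomputable def nd3876 (i : Nat) : Nat := (Bool.rec (motive := fun _ => Nat) (nl9916 i) (nl9917 i) (Nat.ble 266240 i))
noncomputable def nd3875 (i : Nat) : Nat := (Bool.rec (motive := fun _ => Nat) ((Bool.rec (motive := fun _ => Nat) (nl9913 i) (nl9914 i) (Nat.ble 263168 i))) ((Bool.rec (motive := fun _ => Nat) (nl9915 i) (nd3876 i) (Nat.ble 265216 i))) (Nat.ble 264192 i))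
noncomputable def nd3871 (i : Nat) : Nat := (Bool.rec (motive := fun _ => Nat) ((Bool.rec (motive := fun _ => Nat) (nd3872 i) (nd3873 i) (Nat.ble 253952 i))) ((Bool.rec (motive := fun _ => Nat) (nd3874 i) (nd3875 i) (Nat.ble 262144 i))) (Nat.ble 258048 i))
noncomputable def nd3854 (i : Nat) : Nat := (Bool.rec (motive := fun _ => Nat) ((Bool.rec (motive := fun _ => Nat) (nd3855 i) (nd3860 i) (Nat.ble 216064 i))) ((Bool.rec (motive := fun _ => Nat) (nd3866 i) (nd3871 i) (Nat.ble 249856 i))) (Nat.ble 233472 i))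
noncomputable def nd3787 (i : Nat) : Nat := (Bool.rec (motive := fun _ => Nat) ((Bool.rec (motive := fun _ => Nat) (nd3788 i) (nd3810 i) (Nat.ble 66560 i))) ((Bool.rec (motive := fun _ => Nat) (nd3832 i) (nd3854 i) (Nat.ble 199680 i))) (Nat.ble 133120 i))
noncomputable def wd3879 (i : Nat) : List Nat := (Bool.rec (motive := fun _ => List Nat) ((Bool.rec (motive := fun _ => List Nat) ([0]) ([2]) (Nat.ble 1 i))) ((Bool.rec (motive := fun _ => List Nat) ([4]) ([6]) (Nat.ble 3 i))) (Nat.ble 2 i))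
noncomputable def wd3881 (i : Nat) : List Nat := (Bool.rec (motive := fun _ => List Nat) ([0, 4, 0, 4]) ([0, 6, 0, 6]) (Nat.ble 8 i))
noncomputable def wd3880 (i : Nat) : List Nat := (Bool.rec (motive := fun _ => List Nat) ((Bool.rec (motive := fun _ => List Nat) ([8]) ([0, 0]) (Nat.ble 5 i))) ((Bool.rec (motive := fun _ => List Nat) ([0, 2, 0, 2, 0, 2, 0, 2]) (wd3881 i) (Nat.ble 7 i))) (Nat.ble 6 i))
noncomputable def wd3883 (i : Nat) : List Nat := (Bool.rec (motive := fun _ => List Nat) ([2, 0, 2, 0, 2, 0, 2, 0]) ([2, 2]) (Nat.ble 13 i))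
noncomputable def wd3882 (i : Nat) : List Nat := (Bool.rec (motive := fun _ => List Nat) ((Bool.rec (motive := fun _ => List Nat) ([0, 8, 0, 8]) ([0, 10, 0, 10]) (Nat.ble 10 i))) ((Bool.rec (motive := fun _ => List Nat) ([0, 12, 0, 12]) (wd3883 i) (Nat.ble 12 i))) (Nat.ble 11 i))
noncomputable def wd3885 (i : Nat) : List Nat := (Bool.rec (motive := fun _ => List Nat) ([2, 10, 2, 10]) ([2, 12, 2, 12]) (Nat.ble 18 i))
noncomputable def wd3884 (i : Nat) : List Nat := (Bool.rec (motive := fun _ => List Nat) ((Bool.rec (motive := fun _ => List Nat) ([2, 4, 2, 4, 2, 4]) ([2, 6, 2, 6]) (Nat.ble 15 i))) ((Bool.rec (motive := fun _ => List Nat) ([2, 8, 2, 8]) (wd3885 i) (Nat.ble 17 i))) (Nat.ble 16 i))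
noncomputable def wd3878 (i : Nat) : List Nat := (Bool.rec (motive := fun _ => List Nat) ((Bool.rec (motive := fun _ => List Nat) (wd3879 i) (wd3880 i) (Nat.ble 4 i))) ((Bool.rec (motive := fun _ => List Nat) (wd3882 i) (wd3884 i) (Nat.ble 14 i))) (Nat.ble 9 i))
noncomputable def wd3887 (i : Nat) : List Nat := (Bool.rec (motive := fun _ => List Nat) ((Bool.rec (motive := fun _ => List Nat) ([4, 0, 4, 0]) ([4, 2, 4, 2, 4, 2]) (Nat.ble 20 i))) ((Bool.rec (motive := fun _ => List Nat) ([4, 4]) ([4, 6, 4, 6, 4, 6, 4, 6, 4, 6, 4, 6, 4, 6, 4, 6, 4, 6, 4, 6]) (Nat.ble 22 i))) (Nat.ble 21 i))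
noncomputable def wd3889 (i : Nat) : List Nat := (Bool.rec (motive := fun _ => List Nat) ([6, 0, 6, 0]) ([6, 2, 6, 2]) (Nat.ble 27 i))
noncomputable def wd3888 (i : Nat) : List Nat := (Bool.rec (motive := fun _ => List Nat) ((Bool.rec (motive := fun _ => List Nat) ([4, 8, 4, 8]) ([4, 10, 4, 10]) (Nat.ble 24 i))) ((Bool.rec (motive := fun _ => List Nat) ([4, 12, 4, 12]) (wd3889 i) (Nat.ble 26 i))) (Nat.ble 25 i))
noncomputable def wd3891 (i : Nat) : List Nat := (Bool.rec (motive := fun _ => List Nat) ([6, 10, 6, 10, 6, 10]) ([6, 12, 6, 12, 6, 12]) (Nat.ble 32 i))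
noncomputable def wd3890 (i : Nat) : List Nat := (Bool.rec (motive := fun _ => List Nat) ((Bool.rec (motive := fun _ => List Nat) ([6, 4, 6, 4, 6, 4, 6, 4, 6, 4, 6, 4, 6, 4, 6, 4, 6, 4, 6, 4]) ([6, 6]) (Nat.ble 29 i))) ((Bool.rec (motive := fun _ => List Nat) ([6, 8, 6, 8, 6, 8]) (wd3891 i) (Nat.ble 31 i))) (Nat.ble 30 i))
noncomputable def wd3893 (i : Nat) : List Nat := (Bool.rec (motive := fun _ => List Nat) ([8, 6, 8, 6, 8, 6]) ([8, 8]) (Nat.ble 37 i))
noncomputable def wd3892 (i : Nat) : List Nat := (Bool.rec (motive := fun _ => List Nat) ((Bool.rec (motive := fun _ => List Nat) ([8, 0, 8, 0]) ([8, 2, 8, 2]) (Nat.ble 34 i))) ((Bool.rec (motive := fun _ => List Nat) ([8, 4, 8, 4]) (wd3893 i) (Nat.ble 36 i))) (Nat.ble 35 i))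
noncomputable def wd3886 (i : Nat) : List Nat := (Bool.rec (motive := fun _ => List Nat) ((Bool.rec (motive := fun _ => List Nat) (wd3887 i) (wd3888 i) (Nat.ble 23 i))) ((Bool.rec (motive := fun _ => List Nat) (wd3890 i) (wd3892 i) (Nat.ble 33 i))) (Nat.ble 28 i))
noncomputable def wd3895 (i : Nat) : List Nat := (Bool.rec (motive := fun _ => List Nat) ((Bool.rec (motive := fun _ => List Nat) ([8, 10, 8, 10]) ([8, 12, 8, 12]) (Nat.ble 39 i))) ((Bool.rec (motive := fun _ => List Nat) ([10, 0, 10, 0]) ([10, 2, 10, 2]) (Nat.ble 41 i))) (Nat.ble 40 i))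
noncomputable def wd3897 (i : Nat) : List Nat := (Bool.rec (motive := fun _ => List Nat) ([10, 10]) ([10, 12, 10, 12, 10, 12, 10, 12]) (Nat.ble 46 i))
noncomputable def wd3896 (i : Nat) : List Nat := (Bool.rec (motive := fun _ => List Nat) ((Bool.rec (motive := fun _ => List Nat) ([10, 4, 10, 4]) ([10, 6, 10, 6, 10, 6]) (Nat.ble 43 i))) ((Bool.rec (motive := fun _ => List Nat) ([10, 8, 10, 8]) (wd3897 i) (Nat.ble 45 i))) (Nat.ble 44 i))
noncomputable def wd3899 (i : Nat) : List Nat := (Bool.rec (motive := fun _ => List Nat) ([12, 6, 12, 6, 12, 6]) ([12, 8, 12, 8]) (Nat.ble 51 i))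
noncomputable def wd3898 (i : Nat) : List Nat := (Bool.rec (motive := fun _ => List Nat) ((Bool.rec (motive := fun _ => List Nat) ([12, 0, 12, 0]) ([12, 2, 12, 2]) (Nat.ble 48 i))) ((Bool.rec (motive := fun _ => List Nat) ([12, 4, 12, 4]) (wd3899 i) (Nat.ble 50 i))) (Nat.ble 49 i))
noncomputable def wd3901 (i : Nat) : List Nat := (Bool.rec (motive := fun _ => List Nat) ([8, 5, 3, 1, 5, 3, 1, 5, 3, 1]) ([0, 7, 5, 7, 5, 7, 5, 7, 5, 7, 5]) (Nat.ble 56 i))
noncomputable def wd3900 (i : Nat) : List Nat := (Bool.rec (motive := fun _ => List Nat) ((Bool.rec (motive := fun _ => List Nat) ([12, 10, 12, 10, 12, 10, 12, 10]) ([12, 12]) (Nat.ble 53 i))) ((Bool.rec (motive := fun _ => List Nat) ([8, 13, 11, 13, 11]) (wd3901 i) (Nat.ble 55 i))) (Nat.ble 54 i))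
noncomputable def wd3894 (i : Nat) : List Nat := (Bool.rec (motive := fun _ => List Nat) ((Bool.rec (motive := fun _ => List Nat) (wd3895 i) (wd3896 i) (Nat.ble 42 i))) ((Bool.rec (motive := fun _ => List Nat) (wd3898 i) (wd3900 i) (Nat.ble 52 i))) (Nat.ble 47 i))
noncomputable def wd3904 (i : Nat) : List Nat := (Bool.rec (motive := fun _ => List Nat) ([2, 3]) ([3, 2]) (Nat.ble 61 i))
noncomputable def wd3903 (i : Nat) : List Nat := (Bool.rec (motive := fun _ => List Nat) ((Bool.rec (motive := fun _ => List Nat) ([4, 6, 10, 12, 4, 6, 10, 12, 4, 6, 10, 12, 4, 6, 10, 12]) ([0, 1]) (Nat.ble 58 i))) ((Bool.rec (motive := fun _ => List Nat) ([1, 0]) (wd3904 i) (Nat.ble 60 i))) (Nat.ble 59 i))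
noncomputable def wd3906 (i : Nat) : List Nat := (Bool.rec (motive := fun _ => List Nat) ([7, 6]) ([8, 9]) (Nat.ble 66 i))
noncomputable def wd3905 (i : Nat) : List Nat := (Bool.rec (motive := fun _ => List Nat) ((Bool.rec (motive := fun _ => List Nat) ([4, 5]) ([5, 4]) (Nat.ble 63 i))) ((Bool.rec (motive := fun _ => List Nat) ([6, 7]) (wd3906 i) (Nat.ble 65 i))) (Nat.ble 64 i))
noncomputable def wd3908 (i : Nat) : List Nat := (Bool.rec (motive := fun _ => List Nat) ([12, 13]) ([13, 12]) (Nat.ble 71 i))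
noncomputable def wd3907 (i : Nat) : List Nat := (Bool.rec (motive := fun _ => List Nat) ((Bool.rec (motive := fun _ => List Nat) ([9, 8]) ([10, 11]) (Nat.ble 68 i))) ((Bool.rec (motive := fun _ => List Nat) ([11, 10]) (wd3908 i) (Nat.ble 70 i))) (Nat.ble 69 i))
noncomputable def wd3910 (i : Nat) : List Nat := (Bool.rec (motive := fun _ => List Nat) ([4, 6, 10, 12]) ([15, 15, 15, 15]) (Nat.ble 76 i))
noncomputable def wd3909 (i : Nat) : List Nat := (Bool.rec (motive := fun _ => List Nat) ((Bool.rec (motive := fun _ => List Nat) ([]) ([5, 3, 1]) (Nat.ble 73 i))) ((Bool.rec (motive := fun _ => List Nat) ([8, 14, 14, 14]) (wd3910 i) (Nat.ble 75 i))) (Nat.ble 74 i))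
noncomputable def wd3902 (i : Nat) : List Nat := (Bool.rec (motive := fun _ => List Nat) ((Bool.rec (motive := fun _ => List Nat) (wd3903 i) (wd3905 i) (Nat.ble 62 i))) ((Bool.rec (motive := fun _ => List Nat) (wd3907 i) (wd3909 i) (Nat.ble 72 i))) (Nat.ble 67 i))
noncomputable def wd3877 (i : Nat) : List Nat := (Bool.rec (motive := fun _ => List Nat) ((Bool.rec (motive := fun _ => List Nat) (wd3878 i) (wd3886 i) (Nat.ble 19 i))) ((Bool.rec (motive := fun _ => List Nat) (wd3894 i) (wd3902 i) (Nat.ble 57 i))) (Nat.ble 38 i))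
/-- the table of the letter `l` -/
noncomputable def letSel (l : Nat) : Nat → Nat := (Bool.rec (motive := fun _ => Nat → Nat) ((Bool.rec (motive := fun _ => Nat → Nat) ((Bool.rec (motive := fun _ => Nat → Nat) ((Bool.rec (motive := fun _ => Nat → Nat) (nd2437) (nd2527) (Nat.ble 1 l))) ((Bool.rec (motive := fun _ => Nat → Nat) (nd2617) (nd2707) (Nat.ble 3 l))) (Nat.ble 2 l))) ((Bool.rec (motive := fun _ => Nat → Nat) ((Bool.rec (motive := fun _ => Nat → Nat) (nd2797) (nd2887) (Nat.ble 5 l))) ((Bool.rec (motive := fun _ => Nat → Nat) (nd2977) (nd3067) (Nat.ble 7 l))) (Nat.ble 6 l))) (Nat.ble 4 l))) ((Bool.rec (motive := fun _ => Nat → Nat) ((Bool.rec (motive := fun _ => Nat → Nat) ((Bool.rec (motive := fun _ => Nat → Nat) (nd3157) (nd3247) (Nat.ble 9 l))) ((Bool.rec (motive := fun _ => Nat → Nat) (nd3337) (nd3427) (Nat.ble 11 l))) (Nat.ble 10 l))) ((Bool.rec (motive := fun _ => Nat → Nat) ((Bool.rec (motive := fun _ => Nat → Nat) (nd3517) (nd3607) (Nat.ble 13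 l))) ((Bool.rec (motive := fun _ => Nat → Nat) (nd3697) (nd3787) (Nat.ble 15 l))) (Nat.ble 14 l))) (Nat.ble 12 l))) (Nat.ble 8 l))
noncomputable def tabs : Tabs where
  M := 268982
  nsub := 5
  nwords := 73
  word := wd3877
  defn := nd890
  fact := nd0
noncomputable def ptabs : PTabs where
  n := 266560
  L := 14
  perm := fun l i => letSel l i
  fin := fun i l => nd982 (Nat.add (Nat.mul i 14) l)
  par := nd2347
theorem perm_eq : ∀ l i, ptabs.perm l i = letSel l i := fun _ _ => rfl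
end Cfsg.Agent.Helper28.He2
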