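import Cfsg.Agent.Helper28.He2.Data
set_option autoImplicit false
set_option maxRecDepth 1000000
namespace Cfsg.Agent.Helper28.He2
open Cfsg.Agent.Helper28
theorem fin_piece256 : allLtFrom (finRow tabs ptabs 1610022) 182784 714 = true := by decide +kernel
theorem fin_piece257 : allLtFrom (finRow tabs ptabs 1610022) 183498 714 = true := by decide +kernel
theorem fin_piece258 : allLtFrom (finRow tabs ptabs 1610022) 184212 714 = true := by decide +kernel
theorem fin_piece259 : allLtFrom (finRow tabs ptabs 1610022) 184926 714 = true := by decide +kernel
theorem fin_piece260 : allLtFrom (finRow tabs ptabs 1610022) 185640 714 = true := by decide +kernel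
theorem fin_piece261 : allLtFrom (finRow tabs ptabs 1610022) 186354 714 = true := by decide +kernel
theorem fin_piece262 : allLtFrom (finRow tabs ptabs 1610022) 187068 714 = true := by decide +kernel
theorem fin_piece263 : allLtFrom (finRow tabs ptabs 1610022) 187782 714 = true := by decide +kernel
end Cfsg.Agent.Helper28.He2
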