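import Cfsg.Agent.Helper28.He2.Data
set_option autoImplicit false
set_option maxRecDepth 1000000
namespace Cfsg.Agent.Helper28.He2
open Cfsg.Agent.Helper28
theorem fin_piece368 : allLtFrom (finRow tabs ptabs 1610022) 262752 714 = true := by decide +kernel
theorem fin_piece369 : allLtFrom (finRow tabs ptabs 1610022) 263466 714 = true := by decide +kernel
theorem fin_piece370 : allLtFrom (finRow tabs ptabs 1610022) 264180 714 = true := by decide +kernel
theorem fin_piece371 : allLtFrom (finRow tabs ptabs 1610022) 264894 714 = true := by decide +kernel
theorem fin_piece372 : allLtFrom (finRow tabs ptabs 1610022) 265608 714 = true := by decide +kernel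
theorem fin_piece373 : allLtFrom (finRow tabs ptabs 1610022) 266322 238 = true := by decide +kernel
end Cfsg.Agent.Helper28.He2
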