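import Cfsg.Agent.Helper28.He2.Data
set_option autoImplicit false
set_option maxRecDepth 1000000
namespace Cfsg.Agent.Helper28.He2
open Cfsg.Agent.Helper28
theorem macro_piece_15_6 : macroPieceF tabs.word letSel 15 75 106662 17777 = true := by decide +kernel
theorem macro_piece_15_7 : macroPieceF tabs.word letSel 15 75 124439 17777 = true := by decide +kernel
theorem macro_piece_15_8 : macroPieceF tabs.word letSel 15 75 142216 17777 = true := by decide +kernel
theorem macro_piece_15_9 : macroPieceF tabs.word letSel 15 75 159993 17777 = true := by decide +kernel
theorem macro_piece_15_10 : macroPieceF tabs.word letSel 15 75 177770 17777 = true := by decide +kernel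
theorem macro_piece_15_11 : macroPieceF tabs.word letSel 15 75 195547 17777 = true := by decide +kernel
theorem macro_piece_15_12 : macroPieceF tabs.word letSel 15 75 213324 17777 = true := by decide +kernel
theorem macro_piece_15_13 : macroPieceF tabs.word letSel 15 75 231101 17777 = true := by decide +kernel
end Cfsg.Agent.Helper28.He2
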